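import Cfsg.Agent.Lib.helper7.TB_HDa
import Cfsg.Agent.Lib.helper80.TB_HC

/-!
# TB piece HD (`tb_det_sub_one`), exact statement of the S4441 SP-B skeleton.

If `1 + x + ... + x^(p-1) = 0` on a free `ℤ`-module `M` of finite rank, then
`(p - 1) ∣ rank M` and `|det (x - 1)| = p ^ (rank M / (p - 1))`.
-/

set_option autoImplicit false

namespace Cfsg.Agent.Lib.helper74.TB

/-- PIECE HD. -/
theorem tb_det_sub_one (p : ℕ) [Fact p.Prime] {M : Type*} [AddCommGroup M] [Module.Free ℤ M]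
    [Module.Finite ℤ M] (x : M →ₗ[ℤ] M) (hx : ∑ i ∈ Finset.range p, x ^ i = 0) :
    ∃ b : ℕ, (p - 1) * b = Module.finrank ℤ M ∧ (LinearMap.det (x - 1)).natAbs = p ^ b :=
  Cfsg.Agent.Lib.helper7.TBH.tbhd_det_sub_one_of p (tb_cyclotomic_identity p) x hx

end Cfsg.Agent.Lib.helper74.TB
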