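import Mathlib
import Cfsg.Agent.Lib.helper81.S4484Defs

/-!
# S4484 piece SP1 (helper7): the spectral projector `proj M p lam` is idempotent.
-/

set_option autoImplicit false

namespace Cfsg.Agent.Lib.helper7.S4484

open Cfsg.Agent.Lib.helper81.S4484
open scoped Matrix

/-- For a matrix `N` with `N ^ p = 1`, `N * ∑_{l<p} N^l = ∑_{l<p} N^l`. -/
theorem sp_mul_geom {n : ℕ} (N : Matrix (Fin n) (Fin n) ℂ) (p : ℕ) (hN : N ^ p = 1) :
    N * ∑ l ∈ Finset.range p, N ^ l = ∑ l ∈ Finset.range p, N ^ l := by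
  rw [Finset.mul_sum]
  have h1 := Finset.sum_range_succ (fun l => N ^ l) p
  have h2 := Finset.sum_range_succ' (fun l => N ^ l) p
  rw [h1] at h2
  simp only [pow_zero, hN] at h2
  have h3 : ∑ l ∈ Finset.range p, N ^ l = ∑ l ∈ Finset.range p, N ^ (l + 1) :=
    add_right_cancel h2
  rw [h3]
  refine Finset.sum_congr rfl fun l _ => ?_
  rw [pow_succ']

/-- For a matrix `N` with `N ^ p = 1`, `N^j * ∑_{l<p} N^l = ∑_{l<p} N^l`. -/
theorem sp_pow_mul_geom {n : ℕ} (N : Matrix (Fin n) (Fin n) ℂ) (p : ℕ) (hN : N ^ p = 1)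
    (j : ℕ) : N ^ j * ∑ l ∈ Finset.range p, N ^ l = ∑ l ∈ Finset.range p, N ^ l := by
  induction j with
  | zero => simp
  | succ j ih => rw [pow_succ, mul_assoc, sp_mul_geom N p hN, ih]

/-- The sum in `proj` as a geometric sum of `lam⁻¹ • M`. -/
theorem sp_sum_eq {n : ℕ} (M : Matrix (Fin n) (Fin n) ℂ) (p : ℕ) (lam : ℂ) :
    ∑ l ∈ Finset.range p, (lam⁻¹) ^ l • M ^ l = ∑ l ∈ Finset.range p, (lam⁻¹ • M) ^ l := by
  refine Finset.sum_congr rfl fun l _ => ?_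
  rw [smul_pow]

theorem sp_smul_pow_eq_one {n : ℕ} (M : Matrix (Fin n) (Fin n) ℂ) (p : ℕ)
    (hM : M ^ p = 1) (lam : ℂ) (hl : lam ^ p = 1) : (lam⁻¹ • M) ^ p = 1 := by
  rw [smul_pow, hM, inv_pow, hl, inv_one, one_smul]

/-- SP1 -/
theorem proj_mul_self {n : ℕ} (M : Matrix (Fin n) (Fin n) ℂ) (p : ℕ) (hp : 0 < p)
    (hM : M ^ p = 1) (lam : ℂ) (hl : lam ^ p = 1) :
    proj M p lam * proj M p lam = proj M p lam := by
  have hNp := sp_smul_pow_eq_one M p hM lam hl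
  have hp0 : (p : ℂ) ≠ 0 := Nat.cast_ne_zero.mpr hp.ne'
  unfold proj
  rw [sp_sum_eq]
  set S := ∑ l ∈ Finset.range p, (lam⁻¹ • M) ^ l with hS
  have hSS : S * S = (p : ℂ) • S := by
    conv_lhs => rw [hS, Finset.sum_mul]
    rw [Finset.sum_congr rfl fun j _ => sp_pow_mul_geom (lam⁻¹ • M) p hNp j]
    rw [Finset.sum_const, Finset.card_range, ← hS, Nat.cast_smul_eq_nsmul]
  rw [smul_mul_smul_comm, hSS, smul_smul, mul_assoc, inv_mul_cancel₀ hp0, mul_one]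

end Cfsg.Agent.Lib.helper7.S4484
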