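import Mathlib

set_option autoImplicit false

namespace Cfsg.Agent.Lib.helper7

open Matrix Projectivization
open scoped LinearAlgebra.Projectivization

variable {F : Type*} [Field F]

/-- Two vectors of `F^2` with vanishing determinant are proportional. -/
lemma exists_smul_of_det_eq_zero {u v : Fin 2 → F} (hv : v ≠ 0)
    (h : u 0 * v 1 - u 1 * v 0 = 0) : ∃ t : F, t • v = u := by
  by_cases h0 : v 0 = 0
  · have h1 : v 1 ≠ 0 := by
      intro h1
      apply hv
      ext i
      fin_cases i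
      · exact h0
      · exact h1
    have hu0 : u 0 = 0 := by
      rw [h0, mul_zero, sub_zero] at h
      rcases mul_eq_zero.1 h with h | h
      · exact h
      · exact absurd h h1
    refine ⟨u 1 / v 1, ?_⟩
    ext i
    fin_cases i
    · simp [h0, hu0]
    · simp
      field_simp
  · refine ⟨u 0 / v 0, ?_⟩
    ext i
    fin_cases i
    · simp
      field_simp
    · simp
      field_simp
      linear_combination h

/-- Distinct points of the projective line have independent representatives. -/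
lemma det_ne_zero_of_mk_ne {u v : Fin 2 → F} (hu : u ≠ 0) (hv : v ≠ 0)
    (h : mk F u hu ≠ mk F v hv) : u 0 * v 1 - u 1 * v 0 ≠ 0 := by
  intro h0
  apply h
  rw [mk_eq_mk_iff']
  exact exists_smul_of_det_eq_zero hv h0

/-- The first standard basis vector of `F^2`. -/
def e1 : Fin 2 → F := ![1, 0]
/-- The second standard basis vector of `F^2`. -/
def e2 : Fin 2 → F := ![0, 1]
/-- The vector `(1, 1)` of `F^2`. -/
def e12 : Fin 2 → F := ![1, 1]

lemma e1_ne : (e1 : Fin 2 → F) ≠ 0 := fun h => by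
  have := congrFun h 0
  simp [e1] at this

lemma e2_ne : (e2 : Fin 2 → F) ≠ 0 := fun h => by
  have := congrFun h 1
  simp [e2] at this

lemma e12_ne : (e12 : Fin 2 → F) ≠ 0 := fun h => by
  have := congrFun h 0
  simp [e12] at this

/-- The point `[1 : 0]`. -/
def p1 : ℙ F (Fin 2 → F) := mk F e1 e1_ne
/-- The point `[0 : 1]`. -/
def p2 : ℙ F (Fin 2 → F) := mk F e2 e2_ne
/-- The point `[1 : 1]`. -/
def p12 : ℙ F (Fin 2 → F) := mk F e12 e12_ne

lemma mulVec_e1 (M : Matrix (Fin 2) (Fin 2) F) : M *ᵥ e1 = ![M 0 0, M 1 0] := by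
  ext i
  fin_cases i <;> simp [e1, Matrix.mulVec, dotProduct, Fin.sum_univ_two]

lemma mulVec_e2 (M : Matrix (Fin 2) (Fin 2) F) : M *ᵥ e2 = ![M 0 1, M 1 1] := by
  ext i
  fin_cases i <;> simp [e2, Matrix.mulVec, dotProduct, Fin.sum_univ_two]

lemma mulVec_e12 (M : Matrix (Fin 2) (Fin 2) F) :
    M *ᵥ e12 = ![M 0 0 + M 0 1, M 1 0 + M 1 1] := by
  ext i
  fin_cases i <;> simp [e12, Matrix.mulVec, dotProduct, Fin.sum_univ_two]

lemma mk_smul_mk_eq_iff (g : GL (Fin 2) F) (v w : Fin 2 → F) (hv : v ≠ 0) (hw : w ≠ 0) :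
    (Matrix.ProjGenLinGroup.mk g : Matrix.ProjGenLinGroup (Fin 2) F) • mk F v hv = mk F w hw
      ↔ ∃ t : F, t • w = g.val *ᵥ v := by
  rw [PGL.mk_smul_mk, mk_eq_mk_iff']
  rfl

/-- Any three distinct points of the projective line are the image of the standard triple
`[1:0], [0:1], [1:1]` under an element of `GL_2`. -/
lemma exists_gl_smul_std (a b c : ℙ F (Fin 2 → F)) (hab : a ≠ b) (hac : a ≠ c) (hbc : b ≠ c) :
    ∃ g : GL (Fin 2) F,
      (Matrix.ProjGenLinGroup.mk g : Matrix.ProjGenLinGroup (Fin 2) F) • p1 = a ∧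
      (Matrix.ProjGenLinGroup.mk g : Matrix.ProjGenLinGroup (Fin 2) F) • p2 = b ∧
      (Matrix.ProjGenLinGroup.mk g : Matrix.ProjGenLinGroup (Fin 2) F) • p12 = c := by
  induction a using Projectivization.ind with | _ u hu
  induction b using Projectivization.ind with | _ v hv
  induction c using Projectivization.ind with | _ w hw
  have huv := det_ne_zero_of_mk_ne hu hv hab
  have huw := det_ne_zero_of_mk_ne hu hw hac
  have hvw := det_ne_zero_of_mk_ne hv hw hbc
  set al : F := (w 0 * v 1 - w 1 * v 0) / (u 0 * v 1 - u 1 * v 0) with hal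
  set be : F := (u 0 * w 1 - u 1 * w 0) / (u 0 * v 1 - u 1 * v 0) with hbe
  have hal0 : al ≠ 0 := by
    rw [hal]
    apply div_ne_zero _ huv
    intro h
    apply hvw
    linear_combination -h
  have hbe0 : be ≠ 0 := by
    rw [hbe]
    exact div_ne_zero huw huv
  have hdet : (!![al * u 0, be * v 0; al * u 1, be * v 1] : Matrix (Fin 2) (Fin 2) F).det ≠ 0 := by
    rw [det_fin_two_of]
    have : al * u 0 * (be * v 1) - be * v 0 * (al * u 1) = al * be * (u 0 * v 1 - u 1 * v 0) := by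
      ring
    rw [this]
    exact mul_ne_zero (mul_ne_zero hal0 hbe0) huv
  have hw0 : al * u 0 + be * v 0 = w 0 := by
    have : al * u 0 + be * v 0
        = (w 0 * (u 0 * v 1 - u 1 * v 0)) / (u 0 * v 1 - u 1 * v 0) := by
      rw [hal, hbe]; ring
    rw [this, mul_div_assoc, div_self huv, mul_one]
  have hw1 : al * u 1 + be * v 1 = w 1 := by
    have : al * u 1 + be * v 1
        = (w 1 * (u 0 * v 1 - u 1 * v 0)) / (u 0 * v 1 - u 1 * v 0) := by
      rw [hal, hbe]; ring
    rw [this, mul_div_assoc, div_self huv, mul_one]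
  refine ⟨Matrix.GeneralLinearGroup.mkOfDetNeZero _ hdet, ?_, ?_, ?_⟩
  · rw [p1, mk_smul_mk_eq_iff]
    refine ⟨al, ?_⟩
    rw [Matrix.GeneralLinearGroup.val_mkOfDetNeZero, mulVec_e1]
    ext i
    fin_cases i <;> simp
  · rw [p2, mk_smul_mk_eq_iff]
    refine ⟨be, ?_⟩
    rw [Matrix.GeneralLinearGroup.val_mkOfDetNeZero, mulVec_e2]
    ext i
    fin_cases i <;> simp
  · rw [p12, mk_smul_mk_eq_iff]
    refine ⟨1, ?_⟩
    rw [Matrix.GeneralLinearGroup.val_mkOfDetNeZero, mulVec_e12, one_smul]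
    ext i
    fin_cases i
    · exact hw0.symm
    · exact hw1.symm

/-- An element of `GL_2` fixing the standard triple of points is scalar. -/
lemma scalar_of_fix_std (M : GL (Fin 2) F)
    (h1 : (Matrix.ProjGenLinGroup.mk M : Matrix.ProjGenLinGroup (Fin 2) F)
      • (p1 : ℙ F (Fin 2 → F)) = p1)
    (h2 : (Matrix.ProjGenLinGroup.mk M : Matrix.ProjGenLinGroup (Fin 2) F)
      • (p2 : ℙ F (Fin 2 → F)) = p2)
    (h3 : (Matrix.ProjGenLinGroup.mk M : Matrix.ProjGenLinGroup (Fin 2) F)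
      • (p12 : ℙ F (Fin 2 → F)) = p12) :
    M.val = Matrix.scalar (Fin 2) (M.val 0 0) := by
  rw [p1, mk_smul_mk_eq_iff] at h1
  rw [p2, mk_smul_mk_eq_iff] at h2
  rw [p12, mk_smul_mk_eq_iff] at h3
  obtain ⟨t1, ht1⟩ := h1
  obtain ⟨t2, ht2⟩ := h2
  obtain ⟨t3, ht3⟩ := h3
  rw [mulVec_e1] at ht1
  rw [mulVec_e2] at ht2
  rw [mulVec_e12] at ht3
  have a1 := congrFun ht1 0
  have a2 := congrFun ht1 1
  have b1 := congrFun ht2 0
  have b2 := congrFun ht2 1
  have c1 := congrFun ht3 0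
  have c2 := congrFun ht3 1
  simp [e1, e2, e12] at a1 a2 b1 b2 c1 c2
  ext i j
  fin_cases i <;> fin_cases j <;> simp
  · exact b1.symm
  · exact a2.symm
  · rw [← a2, ← b1] at *
    linear_combination c1 - c2

/-- An element of `PGL_2` fixing the standard triple is trivial. -/
lemma eq_one_of_fix_std (g : Matrix.ProjGenLinGroup (Fin 2) F)
    (h1 : g • (p1 : ℙ F (Fin 2 → F)) = p1) (h2 : g • (p2 : ℙ F (Fin 2 → F)) = p2)
    (h3 : g • (p12 : ℙ F (Fin 2 → F)) = p12) : g = 1 := by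
  obtain ⟨M, rfl⟩ := Matrix.ProjGenLinGroup.mk_surjective g
  rw [Matrix.ProjGenLinGroup.mk_eq_one,
    Matrix.GeneralLinearGroup.mem_center_iff_val_mem_range_scalar]
  exact ⟨M.val 0 0, (scalar_of_fix_std M h1 h2 h3).symm⟩

end Cfsg.Agent.Lib.helper7
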