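import Mathlib
import Cfsg.Agent.Lib.helper24.SffDefs
import Cfsg.Agent.Lib.helper63.Elusive1

/-!
# S5965, piece C3A: the fixed-space dimension of a matrix of order `r` over a subfield
-/

set_option autoImplicit false

namespace Cfsg.Agent.Lib.helper24

open Module Matrix

/-- the rank of a square matrix does not change under a field embedding -/
theorem h7_sff_rank_map {K₀ K : Type*} [Field K₀] [Field K] (f : K₀ →+* K) {n : Type*} [Fintype n]
    [DecidableEq n] (A : Matrix n n K₀) : (f.mapMatrix A).rank = A.rank := by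
  classical
  obtain ⟨L, L', D, hA⟩ := Matrix.Pivot.exists_list_transvec_mul_diagonal_mul_list_transvec A
  obtain ⟨P, hP⟩ : ∃ P : Matrix n n K₀,
      P = (L.map Matrix.TransvectionStruct.toMatrix).prod := ⟨_, rfl⟩
  obtain ⟨Q, hQ⟩ : ∃ Q : Matrix n n K₀,
      Q = (L'.map Matrix.TransvectionStruct.toMatrix).prod := ⟨_, rfl⟩
  rw [← hP, ← hQ] at hA
  have hPd : P.det = 1 := by rw [hP]; exact Matrix.TransvectionStruct.det_toMatrix_prod L
  have hQd : Q.det = 1 := by rw [hQ]; exact Matrix.TransvectionStruct.det_toMatrix_prod L'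
  have hPd' : (f.mapMatrix P).det = 1 := by rw [← RingHom.map_det, hPd, map_one]
  have hQd' : (f.mapMatrix Q).det = 1 := by rw [← RingHom.map_det, hQd, map_one]
  have h1 : A.rank = (Matrix.diagonal D).rank := by
    rw [hA, Matrix.rank_mul_eq_left_of_isUnit_det Q _ (by rw [hQd]; exact isUnit_one),
      Matrix.rank_mul_eq_right_of_isUnit_det P _ (by rw [hPd]; exact isUnit_one)]
  have h2 : (f.mapMatrix A).rank = (Matrix.diagonal (fun i => f (D i))).rank := by
    have e : f.mapMatrix (Matrix.diagonal D) = Matrix.diagonal (fun i => f (D i)) := by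
      rw [RingHom.mapMatrix_apply]
      exact Matrix.diagonal_map (map_zero f)
    rw [hA, map_mul, map_mul,
      Matrix.rank_mul_eq_left_of_isUnit_det _ _ (by rw [hQd']; exact isUnit_one),
      Matrix.rank_mul_eq_right_of_isUnit_det _ _ (by rw [hPd']; exact isUnit_one), e]
  rw [h1, h2, Matrix.rank_diagonal, Matrix.rank_diagonal]
  apply Fintype.card_congr
  apply Equiv.subtypeEquivRight
  intro i
  rw [Ne, Ne, map_eq_zero]

/-- the kernel of `A - 1` has dimension `n - rank (A - 1)` -/
theorem h7_sff_finrank_ker {K : Type*} [Field K] {n : ℕ} (A : Matrix (Fin n) (Fin n) K) :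
    finrank K (LinearMap.ker (Matrix.toLin' A - 1)) = n - (A - 1).rank := by
  have h1 : Matrix.toLin' A - 1 = Matrix.toLin' (A - 1) := by
    rw [map_sub, Matrix.toLin'_one]; rfl
  have h2 := LinearMap.finrank_range_add_finrank_ker (Matrix.toLin' (A - 1))
  rw [Module.finrank_fin_fun] at h2
  have h3 : (A - 1).rank = finrank K (LinearMap.range (Matrix.toLin' (A - 1))) := rfl
  rw [h1, h3]
  omega

/-- **C3A**. -/
theorem sff_fix_dvd {F : Type*} [Field F] [Fintype F] (F₀ : Subfield F) {n : ℕ} (r : ℕ)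
    [Fact r.Prime] (hrF : (r : F) ≠ 0)
    (M₀ : Matrix (Fin n) (Fin n) F) (hM₀ : ∀ i j, M₀ i j ∈ F₀) (hM : M₀ ^ r = 1) :
    r ∣ (Nat.card F₀) ^ (n - Module.finrank F (LinearMap.ker (Matrix.toLin' M₀ - 1))) - 1 := by
  classical
  have : Fintype F₀ := Fintype.ofFinite F₀
  have hr : r.Prime := Fact.out
  obtain ⟨M', hM'⟩ : ∃ M' : Matrix (Fin n) (Fin n) F₀, M' = fun i j => ⟨M₀ i j, hM₀ i j⟩ :=
    ⟨_, rfl⟩
  have hmap : F₀.subtype.mapMatrix M' = M₀ := by
    ext i j
    rw [hM']
    rfl
  have hinj : Function.Injective (F₀.subtype.mapMatrix (m := Fin n)) := by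
    intro A B hAB
    ext i j
    have := congrFun (congrFun hAB i) j
    simpa using this
  have hM'r : M' ^ r = 1 := by
    apply hinj
    rw [map_pow, hmap, hM, map_one]
  have hf : (Matrix.toLin' M') ^ r = 1 := by
    have : Matrix.toLin' M' = Matrix.toLinAlgEquiv' M' := rfl
    rw [this, ← map_pow, hM'r, map_one]
  have h1 := Cfsg.Agent.Lib.helper63.Elusive.fix_count (F := F₀) (V := Fin n → F₀) r
    (Matrix.toLin' M') hf
  rw [Module.finrank_fin_fun, h7_sff_finrank_ker] at h1
  have h2 : (M₀ - 1).rank = (M' - 1).rank := by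
    rw [← h7_sff_rank_map F₀.subtype (M' - 1), map_sub, hmap, map_one]
  rw [h7_sff_finrank_ker, h2, Nat.card_eq_fintype_card]
  -- `r` does not divide `|F₀|`
  have hq0 : ((Fintype.card F₀ : ℕ) : ZMod r) ≠ 0 := by
    intro h0
    rw [ZMod.natCast_eq_zero_iff] at h0
    obtain ⟨x, hx⟩ := exists_prime_addOrderOf_dvd_card r h0
    have hx0 : x ≠ 0 := by
      intro hx0
      rw [hx0, addOrderOf_zero] at hx
      exact hr.ne_one hx.symm
    have h3 : (r : F₀) * x = 0 := by
      have := addOrderOf_nsmul_eq_zero x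
      rw [hx, nsmul_eq_mul] at this
      exact this
    have h4 : (r : F₀) = 0 := by
      rcases mul_eq_zero.mp h3 with h | h
      · exact h
      · exact absurd h hx0
    apply hrF
    have := congrArg F₀.subtype h4
    simpa using this
  have hle : n - (M' - 1).rank ≤ n := Nat.sub_le _ _
  have h5 := Cfsg.Agent.Lib.helper63.Elusive.orderOf_dvd_sub (Fintype.card F₀) hq0 hle h1
  rw [orderOf_dvd_iff_pow_eq_one] at h5
  have h6 : n - (n - (M' - 1).rank) = (M' - 1).rank := by
    have := Matrix.rank_le_width (M' - 1)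
    omega
  rw [h6] at h5
  have h7 : (M' - 1).rank ≤ n := Matrix.rank_le_width (M' - 1)
  -- now relate `n - (n - rank)` on the goal side
  have h8 : n - (n - (M' - 1).rank) = (M' - 1).rank := h6
  rw [h8]
  have hpos : 1 ≤ Fintype.card F₀ ^ (M' - 1).rank := Nat.one_le_pow _ _ Fintype.card_pos
  rw [← ZMod.natCast_eq_zero_iff, Nat.cast_sub hpos, Nat.cast_pow, h5]
  simp

end Cfsg.Agent.Lib.helper24
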