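import Cfsg.Agent.Lib.helper95.APDefs

/-!
helper7: S2276 piece GPC, core (`helper7_gpc_core`): the good pair criterion with the three
inputs PORD, NS, PRIM taken as hypotheses (instantiated at `Fin (p ^ e)`).
-/

set_option autoImplicit false

namespace Cfsg.Agent.Lib.helper95.AP

open Equiv

theorem helper7_gpc_core (p : ℕ) (hp : p.Prime) (e : ℕ) (he : 1 ≤ e)
    (b : Perm (Fin (p ^ e)))
    (hPORD : ∀ g : Perm (Fin (p ^ e)), (∃ k : ℕ, orderOf g = p ^ k) → p ∣ g.support.card)
    (hNS : ∀ (H : Subgroup (Perm (Fin (p ^ e)))),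
      MulAction.IsPreprimitive ↥H (Fin (p ^ e)) → Group.IsSolvable ↥H →
      ∀ g ∈ H, (Finset.univ.filter (fun z : Fin (p ^ e) => g z = z)).card = 0 ∨
        (Finset.univ.filter (fun z : Fin (p ^ e) => g z = z)).card ∣ p ^ e)
    (hPRIM : MulAction.IsPreprimitive
      ↥(Subgroup.closure ({finRotate (p ^ e), b} : Set (Perm (Fin (p ^ e))))) (Fin (p ^ e)))
    (f : ℕ)
    (hf : (Finset.univ.filter (fun z : Fin (p ^ e) => (finRotate (p ^ e) * b) z = z)).card = f)
    (hf2 : 2 ≤ f) (hfp : ¬ p ∣ f) : Good p (finRotate (p ^ e)) b := by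
  refine ⟨?_, ?_⟩
  · intro hk
    have h1 := hPORD (finRotate (p ^ e) * b) hk
    have h2 : (finRotate (p ^ e) * b).support.card + f = p ^ e := by
      have h3 := Finset.card_filter_add_card_filter_not
        (s := (Finset.univ : Finset (Fin (p ^ e))))
        (fun z : Fin (p ^ e) => (finRotate (p ^ e) * b) z = z)
      rw [hf] at h3
      have h4 : (finRotate (p ^ e) * b).support
          = Finset.univ.filter (fun z : Fin (p ^ e) => ¬ (finRotate (p ^ e) * b) z = z) := by
        ext z
        simp [Equiv.Perm.mem_support]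
      rw [h4]
      simp only [Finset.card_univ, Fintype.card_fin] at h3
      omega
    have h5 : p ∣ p ^ e := dvd_pow_self p (by omega)
    have h6 : p ∣ f := by
      have h7 : p ∣ (finRotate (p ^ e) * b).support.card + f := by rw [h2]; exact h5
      exact (Nat.dvd_add_right h1).1 h7
    exact hfp h6
  · intro hsol
    have hmem : finRotate (p ^ e) * b
        ∈ Subgroup.closure ({finRotate (p ^ e), b} : Set (Perm (Fin (p ^ e)))) :=
      mul_mem (Subgroup.subset_closure (by simp)) (Subgroup.subset_closure (by simp))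
    have h1 := hNS _ hPRIM hsol _ hmem
    rw [hf] at h1
    rcases h1 with h1 | h1
    · omega
    · obtain ⟨j, hj, rfl⟩ := (Nat.dvd_prime_pow hp).1 h1
      rcases j with _ | j
      · simp at hf2
      · exact hfp (dvd_pow_self p (Nat.succ_ne_zero j))

end Cfsg.Agent.Lib.helper95.AP
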