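import Mathlib
import Cfsg.Prelude.Def_CaseTheorems
import Cfsg.Agent.Lib.helper62.FrobExtract
import Cfsg.Agent.Lib.helper62.LinRegQ8A

/-!
# S3371 piece E (helper7): a `p`-group acting semiregularly on an `F_q`-space (`p ≠ q`) is cyclic
or generalized quaternion.
-/

set_option autoImplicit false

namespace Cfsg.Agent.Lib.helper7

/-- PIECE E -/
theorem ht_semireg {q : ℕ} [Fact q.Prime] {V : Type*} [AddCommGroup V] [Module (ZMod q) V] [Finite V]
    [Nontrivial V] {G : Type*} [Group G] [Finite G] {p : ℕ} [Fact p.Prime] (hG : IsPGroup p G)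
    (hpq : p ≠ q) (ρ : G →* (V ≃ₗ[ZMod q] V))
    (hsemi : ∀ v : V, v ≠ 0 → ∀ g : G, ρ g v = v → g = 1) :
    IsCyclic G ∨ ∃ n : ℕ, Nonempty (G ≃* QuaternionGroup n) := by
  have hq : q.Prime := Fact.out
  have hp : p.Prime := Fact.out
  have hfpf : Cfsg.Agent.Lib.helper62.FrobExtract.HasFpfMod G := by
    refine ⟨q, inferInstance, V, inferInstance, DistribMulAction.compHom V ρ, ?_, inferInstance,
      inferInstance, ?_, ?_⟩
    · intro hdvd
      obtain ⟨k, hk⟩ := IsPGroup.iff_card.mp hG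
      rw [hk] at hdvd
      have h1 : q ∣ p := hq.dvd_of_dvd_pow hdvd
      exact hpq ((Nat.prime_dvd_prime_iff_eq hq hp).mp h1).symm
    · intro x
      rw [← Nat.cast_smul_eq_nsmul (ZMod q) q x, ZMod.natCast_self, zero_smul]
    · intro a ha x hx
      by_contra hx0
      exact ha (hsemi x hx0 a hx)
  rcases Cfsg.Agent.Lib.helper62.LinRegQ8.fpf_pgroup_cyclic_or_quat hfpf p hG with h | ⟨_, n, hn⟩
  · exact Or.inl h
  · exact Or.inr ⟨2 ^ n, hn⟩

end Cfsg.Agent.Lib.helper7
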