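import Mathlib
import Cfsg.Prelude.Def_CaseTheorems

/-!
# S3371 piece F (helper7): in a cyclic or generalized quaternion `p`-group whose nontrivial central
elements act fixed-point-freely, every nontrivial element acts fixed-point-freely.
-/

set_option autoImplicit false

namespace Cfsg.Agent.Lib.helper7

/-- In a quaternion group (`n ≠ 0`), an element with `y ^ 2 = 1` is central. -/
theorem htf_quat_central {n : ℕ} [NeZero n] (y : QuaternionGroup n) (hy : y ^ 2 = 1)
    (w : QuaternionGroup n) : y * w = w * y := by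
  rcases y with i | i
  · have hi : i + i = 0 := by
      have h2 : (QuaternionGroup.a i : QuaternionGroup n) ^ 2 = QuaternionGroup.a (i + i) := by
        rw [sq, QuaternionGroup.a_mul_a]
      rw [h2, QuaternionGroup.one_def] at hy
      exact QuaternionGroup.a.inj hy
    have hneg : -i = i := by
      rw [neg_eq_iff_add_eq_zero]; exact hi
    rcases w with j | j
    · rw [QuaternionGroup.a_mul_a, QuaternionGroup.a_mul_a, add_comm]
    · rw [QuaternionGroup.a_mul_xa, QuaternionGroup.xa_mul_a, sub_eq_add_neg, hneg]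
  · exfalso
    rw [QuaternionGroup.xa_sq, QuaternionGroup.one_def] at hy
    have h0 : ((n : ℕ) : ZMod (2 * n)) = 0 := QuaternionGroup.a.inj hy
    rw [ZMod.natCast_eq_zero_iff] at h0
    have hn : n ≠ 0 := NeZero.ne n
    have := Nat.le_of_dvd (Nat.pos_of_ne_zero hn) h0
    omega

/-- PIECE F -/
theorem ht_cyc_quat {q : ℕ} [Fact q.Prime] {V : Type*} [AddCommGroup V] [Module (ZMod q) V] [Finite V]
    {G : Type*} [Group G] [Finite G] {p : ℕ} [Fact p.Prime] (hG : IsPGroup p G)
    (ρ : G →* (V ≃ₗ[ZMod q] V))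
    (hC : ∀ z ∈ Subgroup.center G, z ≠ 1 → ∀ v : V, ρ z v = v → v = 0)
    (hcq : IsCyclic G ∨ ∃ n : ℕ, Nonempty (G ≃* QuaternionGroup n)) :
    ∀ v : V, v ≠ 0 → ∀ g : G, ρ g v = v → g = 1 := by
  intro v hv g hgv
  by_contra hg1
  have hp : p.Prime := Fact.out
  obtain ⟨k, hk⟩ := hG g
  obtain ⟨j, -, hj⟩ := (Nat.dvd_prime_pow hp).mp (orderOf_dvd_of_pow_eq_one hk)
  have hj0 : j ≠ 0 := by
    rintro rfl
    rw [pow_zero, orderOf_eq_one_iff] at hj
    exact hg1 hj
  have hg'p : (g ^ (p ^ (j - 1))) ^ p = 1 := by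
    rw [← pow_mul, ← pow_succ, Nat.sub_add_cancel (Nat.one_le_iff_ne_zero.mpr hj0), ← hj,
      pow_orderOf_eq_one]
  have hg'1 : g ^ (p ^ (j - 1)) ≠ 1 := by
    intro h
    have h1 := orderOf_dvd_of_pow_eq_one h
    rw [hj] at h1
    have h2 := (Nat.pow_dvd_pow_iff_le_right hp.one_lt).mp h1
    omega
  have hfix : ∀ m : ℕ, ρ (g ^ m) v = v := by
    intro m
    induction m with
    | zero => simp
    | succ m ih =>
      rw [pow_succ, map_mul]
      show ρ (g ^ m) (ρ g v) = v
      rw [hgv, ih]
  have hg'v : ρ (g ^ (p ^ (j - 1))) v = v := hfix _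
  have hcen : g ^ (p ^ (j - 1)) ∈ Subgroup.center G := by
    rw [Subgroup.mem_center_iff]
    intro x
    rcases hcq with hc | ⟨n, ⟨e⟩⟩
    · haveI := hc
      haveI : IsMulCommutative G := IsCyclic.isMulCommutative
      exact mul_comm' x _
    · have hn : n ≠ 0 := by
        rintro rfl
        haveI : Finite (QuaternionGroup 0) := Finite.of_equiv G e.toEquiv
        haveI : Infinite (ZMod (2 * 0)) := inferInstanceAs (Infinite ℤ)
        haveI : Infinite (QuaternionGroup 0) :=
          Infinite.of_injective (QuaternionGroup.a : ZMod (2 * 0) → QuaternionGroup 0)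
            (fun _ _ h => QuaternionGroup.a.inj h)
        exact not_finite (QuaternionGroup 0)
      haveI : NeZero n := ⟨hn⟩
      have hcard : Nat.card G = 4 * n := by
        rw [Nat.card_congr e.toEquiv, Nat.card_eq_fintype_card, QuaternionGroup.card]
      obtain ⟨k', hk'⟩ := IsPGroup.iff_card.mp hG
      have hp2 : p = 2 := by
        have h2 : 2 ∣ p ^ k' := by
          rw [← hk', hcard]
          exact ⟨2 * n, by ring⟩
        have := Nat.prime_two.dvd_of_dvd_pow h2
        exact ((Nat.prime_dvd_prime_iff_eq Nat.prime_two hp).mp this).symm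
      have hsq : (e (g ^ (p ^ (j - 1)))) ^ 2 = 1 := by
        rw [← map_pow, ← hp2, hg'p, map_one]
      have hcomm := htf_quat_central (e (g ^ (p ^ (j - 1)))) hsq (e x)
      apply e.injective
      rw [map_mul, map_mul, hcomm]
  exact hv (hC _ hcen hg'1 v hg'v)

end Cfsg.Agent.Lib.helper7
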