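import Mathlib
import Cfsg.Prelude.Def_CaseTheorems

/-!
# S3371 piece MON2 (helper7): the involutions of a monomial half-transitive 2-group.
-/

set_option autoImplicit false

namespace Cfsg.Agent.Lib.helper7

/-- Among three elements of a type with two elements, two coincide. -/
theorem htm_two {S : Type*} (h : Nat.card S = 2) (a b c : S) : a = b ∨ a = c ∨ b = c := by
  obtain ⟨x, y, -, huniv⟩ := Nat.card_eq_two_iff.mp h
  have ha : a ∈ ({x, y} : Set S) := huniv ▸ Set.mem_univ a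
  have hb : b ∈ ({x, y} : Set S) := huniv ▸ Set.mem_univ b
  have hc : c ∈ ({x, y} : Set S) := huniv ▸ Set.mem_univ c
  simp only [Set.mem_insert_iff, Set.mem_singleton_iff] at ha hb hc
  rcases ha with ha | ha <;> rcases hb with hb | hb <;> rcases hc with hc | hc <;>
    simp [ha, hb, hc]

/-- PIECE MON2 -/
theorem ht_mon_inv {q : ℕ} [Fact q.Prime] {V : Type*} [AddCommGroup V] [Module (ZMod q) V] [Finite V]
    {G : Type*} [Group G] [Finite G] (hq2 : q ≠ 2)
    (ρ : G →* (V ≃ₗ[ZMod q] V)) (hρ : Function.Injective ρ)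
    (z t : G) (hzc : z ∈ Subgroup.center G) (hz : ∀ v : V, ρ z v = -v) (ht2 : t ^ 2 = 1)
    (hconj : ∀ g : G, g * t * g⁻¹ = t ∨ g * t * g⁻¹ = t * z)
    (hnc : ∃ g : G, g * t * g⁻¹ = t * z)
    (hs2 : ∀ v : V, v ≠ 0 → Nat.card {g : G // ρ g v = v} = 2)
    (v₀ : V) (hv₀ : v₀ ≠ 0) (htv : ρ t v₀ = v₀) :
    (∀ t' : G, t' ^ 2 = 1 → t' ≠ 1 → t' ≠ z → (t' = t ∨ t' = t * z ∨ t' * t * t'⁻¹ = t * z)) ∧
      (∀ t' : G, t' ^ 2 = 1 → t' ≠ 1 → t' ≠ z → ∃ u : G, t' * u * t'⁻¹ = u * z) := by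
  have hq : q.Prime := Fact.out
  have hmul : ∀ (a b : G) (v : V), ρ (a * b) v = ρ a (ρ b v) := by
    intro a b v
    rw [map_mul]
    rfl
  have hone : ∀ v : V, ρ (1 : G) v = v := by
    intro v
    rw [map_one]
    rfl
  have h2 : ∀ v : V, v + v = 0 → v = 0 := by
    intro v hv
    have h2ne : (2 : ZMod q) ≠ 0 := by
      intro h
      have h' : ((2 : ℕ) : ZMod q) = 0 := by exact_mod_cast h
      rw [ZMod.natCast_eq_zero_iff] at h'
      exact hq2 ((Nat.prime_dvd_prime_iff_eq hq Nat.prime_two).mp h')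
    have hsm : (2 : ZMod q) • v = 0 := by rw [two_smul]; exact hv
    rcases smul_eq_zero.mp hsm with h | h
    · exact absurd h h2ne
    · exact h
  obtain ⟨g₀, hg₀⟩ := hnc
  have hzcomm : ∀ g : G, g * z = z * g := Subgroup.mem_center_iff.mp hzc
  have hneg : ∀ v : V, v ≠ 0 → -v ≠ v := by
    intro v hv h
    apply hv
    apply h2
    nth_rewrite 1 [← h]
    exact neg_add_cancel v
  have ht1 : t ≠ 1 := by
    rintro rfl
    have hz1 : z = 1 := by simpa using hg₀.symm
    have h := hz v₀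
    rw [hz1, hone] at h
    exact hneg v₀ hv₀ h.symm
  have htz1 : t * z ≠ 1 := by
    intro h
    have h' : ρ (t * z) v₀ = -v₀ := by
      rw [hmul, hz, map_neg, htv]
    rw [h, hone] at h'
    exact hneg v₀ hv₀ h'.symm
  have htt : ∀ v : V, ρ t (ρ t v) = v := by
    intro v
    rw [← hmul, ← sq, ht2, hone]
  have part1 : ∀ t' : G, t' ^ 2 = 1 → t' ≠ 1 → t' ≠ z →
      (t' = t ∨ t' = t * z ∨ t' * t * t'⁻¹ = t * z) := by
    intro t' ht'2 ht'1 ht'z
    rcases hconj t' with hcomm | hanti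
    swap
    · exact Or.inr (Or.inr hanti)
    have hcomm' : t' * t = t * t' := by
      have h := congrArg (· * t') hcomm
      simpa [mul_assoc] using h
    have ht't' : ∀ v : V, ρ t' (ρ t' v) = v := by
      intro v
      rw [← hmul, ← sq, ht'2, hone]
    have hex : ∃ w : V, w ≠ 0 ∧ ρ t' w = w := by
      by_contra hno
      push Not at hno
      apply ht'z
      apply hρ
      ext v
      have hfixed : ρ t' (v + ρ t' v) = v + ρ t' v := by
        rw [map_add, ht't', add_comm]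
      have h0 : v + ρ t' v = 0 := by
        by_contra hne
        exact hno _ hne hfixed
      rw [hz]
      exact eq_neg_of_add_eq_zero_right h0
    obtain ⟨w, hw0, hw⟩ := hex
    have hcommV : ∀ v : V, ρ t' (ρ t v) = ρ t (ρ t' v) := by
      intro v
      rw [← hmul, ← hmul, hcomm']
    by_cases hw0' : w + ρ t w = 0
    · have hw1 : w - ρ t w ≠ 0 := by
        intro h
        have h' : ρ t w = w := (sub_eq_zero.mp h).symm
        rw [h'] at hw0'
        exact hw0 (h2 w hw0')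
      right; left
      have h1 : ρ t' (w - ρ t w) = w - ρ t w := by rw [map_sub, hcommV, hw]
      have h2' : ρ (t * z) (w - ρ t w) = w - ρ t w := by
        rw [hmul, hz, map_neg, map_sub, htt]
        abel
      have h3 : ρ (1 : G) (w - ρ t w) = w - ρ t w := hone _
      have h := htm_two (hs2 _ hw1) ⟨t', h1⟩ ⟨t * z, h2'⟩ ⟨1, h3⟩
      rcases h with h | h | h
      · exact congrArg Subtype.val h
      · exact absurd (congrArg Subtype.val h) ht'1
      · exact absurd (congrArg Subtype.val h) htz1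
    · left
      have h1 : ρ t' (w + ρ t w) = w + ρ t w := by rw [map_add, hcommV, hw]
      have h2' : ρ t (w + ρ t w) = w + ρ t w := by rw [map_add, htt, add_comm]
      have h3 : ρ (1 : G) (w + ρ t w) = w + ρ t w := hone _
      have h := htm_two (hs2 _ hw0') ⟨t', h1⟩ ⟨t, h2'⟩ ⟨1, h3⟩
      rcases h with h | h | h
      · exact congrArg Subtype.val h
      · exact absurd (congrArg Subtype.val h) ht'1
      · exact absurd (congrArg Subtype.val h) ht1
  refine ⟨part1, ?_⟩
  intro t' ht'2 ht'1 ht'z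
  have hkey : t * g₀⁻¹ * t⁻¹ = g₀⁻¹ * z := by
    have h1 : t * g₀⁻¹ = g₀⁻¹ * (t * z) := by
      rw [← hg₀]
      group
    rw [h1, hzcomm t]
    group
  rcases part1 t' ht'2 ht'1 ht'z with rfl | rfl | h
  · exact ⟨g₀⁻¹, hkey⟩
  · refine ⟨g₀⁻¹, ?_⟩
    have h1 : t * z * g₀⁻¹ * (t * z)⁻¹ = t * g₀⁻¹ * t⁻¹ := by
      have hz' : z * g₀⁻¹ = g₀⁻¹ * z := (hzcomm g₀⁻¹).symm
      rw [mul_assoc t z, hz']
      group
    rw [h1, hkey]
  · exact ⟨t, h⟩

end Cfsg.Agent.Lib.helper7
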