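import Mathlib
import Cfsg.Agent.Lib.helper1.RankTwoSix
import Cfsg.Agent.Lib.helper13.FixCount
import Cfsg.Agent.Lib.helper55.Conj
import Cfsg.Agent.Lib.helper75.SylowPrime
import Cfsg.Agent.Lib.helper18.SylData

/-!
Edges of the prime graph (elements of order `p * q`) from commuting elements, coprime action and
Sylow normalizers.  General finite groups.
-/

set_option autoImplicit false

namespace Cfsg.Agent.Lib.helper7.PG7920

open Subgroup

variable {G : Type*} [Group G] [Finite G]

/-- commuting elements of distinct prime orders give an element of order the product -/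
theorem adj_of_commute {p q : ℕ} (hp : p.Prime) (hq : q.Prime) (hpq : p ≠ q) (x y : G)
    (hx : orderOf x = p) (hy : orderOf y = q) (h : x * y = y * x) :
    ∃ g : G, orderOf g = p * q := by
  refine ⟨x * y, ?_⟩
  have hc : Commute x y := h
  rw [hc.orderOf_mul_eq_mul_orderOf_of_coprime
    (by rw [hx, hy]; exact (Nat.coprime_primes hp hq).mpr hpq), hx, hy]

theorem adj_symm {p q : ℕ} (h : ∃ g : G, orderOf g = p * q) : ∃ g : G, orderOf g = q * p := by
  obtain ⟨g, hg⟩ := h
  exact ⟨g, by rw [hg, mul_comm]⟩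

/-- a nontrivial `p`-subgroup has order divisible by `p` -/
theorem dvd_card_of_pgroup {p : ℕ} [Fact p.Prime] {D : Subgroup G} (hD : IsPGroup p D)
    (hne : D ≠ ⊥) : p ∣ Nat.card D := by
  obtain ⟨n, hn⟩ := IsPGroup.iff_card.mp hD
  rw [hn]
  refine dvd_pow_self p ?_
  rintro rfl
  rw [pow_zero] at hn
  exact hne (Subgroup.card_eq_one.mp hn)

/-- an element of prime order `r` normalizing a `q`-group whose order is not `1` modulo `r`
commutes with an element of order `q` -/
theorem adj_of_normalizes {r q : ℕ} [Fact r.Prime] [Fact q.Prime] (hrq : r ≠ q) (x : G)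
    (hx : orderOf x = r) (T : Subgroup G) (hxT : x ∈ normalizer (T : Set G)) (k : ℕ)
    (hT : Nat.card T = q ^ k) (hmod : q ^ k % r ≠ 1) : ∃ g : G, orderOf g = r * q := by
  have hr : r.Prime := Fact.out
  have hq : q.Prime := Fact.out
  have h1 := Cfsg.Agent.Lib.helper1.card_modEq_card_inf_centralizer r x 1
    (by rw [pow_one, ← hx]; exact pow_orderOf_eq_one x) T hxT
  have hdvd : Nat.card (T ⊓ centralizer {x} : Subgroup G) ∣ q ^ k := by
    rw [← hT]
    exact Subgroup.card_dvd_of_le inf_le_left
  obtain ⟨j, -, hj⟩ := (Nat.dvd_prime_pow hq).mp hdvd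
  have hj0 : j ≠ 0 := by
    rintro rfl
    rw [hj, hT, pow_zero] at h1
    apply hmod
    have h2 : q ^ k % r = 1 % r := h1
    rw [h2]
    exact Nat.mod_eq_of_lt hr.one_lt
  have hqd : q ∣ Nat.card (T ⊓ centralizer {x} : Subgroup G) := by
    rw [hj]
    exact dvd_pow_self q hj0
  obtain ⟨y, hy, hyo⟩ := Cfsg.Agent.Lib.helper75.exists_mem_orderOf_prime _ q hqd
  have hyc := (Subgroup.mem_inf.mp hy).2
  have hcomm : x * y = y * x := Subgroup.mem_centralizer_iff.mp hyc x rfl
  exact adj_of_commute hr hq hrq x y hx hyo hcomm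

/-- coprime action: an element of prime order `r` normalizing `N` of order prime to `r`
commutes with an element of order `q` of `N`, if the `q`-part of `|N|` is not `1` mod `r` -/
theorem adj_of_coprime {r q : ℕ} [Fact r.Prime] [Fact q.Prime] (hrq : r ≠ q) (x : G)
    (hx : orderOf x = r) (N : Subgroup G) (hxN : x ∈ normalizer (N : Set G))
    (hcop : ¬ r ∣ Nat.card N) (hq : q ∣ Nat.card N)
    (hmod : ∀ k, 1 ≤ k → q ^ k ∣ Nat.card N → q ^ k % r ≠ 1) :
    ∃ g : G, orderOf g = r * q := by
  have hr : r.Prime := Fact.out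
  have hqp : q.Prime := Fact.out
  obtain ⟨T, -, hT, hxT⟩ := Cfsg.Agent.Lib.helper55.exists_invariant_sylow (p := r) (q := q) N x
    (by rw [← hx]; exact pow_orderOf_eq_one x) hxN
    ((Nat.Prime.coprime_iff_not_dvd hr).mpr hcop).symm
  refine adj_of_normalizes hrq x hx T hxT _ hT (hmod _ ?_ (Nat.ordProj_dvd _ _))
  exact Nat.Prime.factorization_pos_of_dvd hqp Nat.card_pos.ne' hq

/-- a subgroup `Q` acting on a normal subgroup `N` with `|Q|` not dividing `|N| - 1` has a
nonidentity element commuting with a nonidentity element of `N` -/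
theorem exists_commute_of_not_dvd (Q N : Subgroup G) [hN : N.Normal]
    (h : ¬ Nat.card Q ∣ Nat.card N - 1) :
    ∃ x ∈ Q, x ≠ 1 ∧ ∃ y ∈ N, y ≠ 1 ∧ x * y = y * x := by
  by_contra hcon
  push Not at hcon
  apply h
  have hinv : ∀ g ∈ Q, ∀ y ∈ (N : Set G), g * y * g⁻¹ ∈ (N : Set G) :=
    fun g _ y hy => hN.conj_mem y hy g
  letI := Cfsg.Agent.Lib.helper1.conjSetAction Q (N : Set G) hinv
  have key : ∀ (k : ↥Q) (w : ↥(N : Set G)), k ≠ 1 → k • w = w → (w : G) = 1 := by
    intro k w hk hw
    by_contra hw1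
    have h2 : (k : G) * (w : G) * (k : G)⁻¹ = (w : G) := congrArg Subtype.val hw
    have h3 : (k : G) * (w : G) = (w : G) * (k : G) := by
      calc (k : G) * (w : G) = ((k : G) * (w : G) * (k : G)⁻¹) * (k : G) := by group
        _ = (w : G) * (k : G) := by rw [h2]
    exact hcon (k : G) k.2 (fun hk1 => hk (Subtype.ext hk1)) (w : G) w.2 hw1 h3
  have hmod := Cfsg.Agent.Lib.helper13.card_modEq_one_of_fixed_point ↥Q ↥(N : Set G)
    ⟨1, N.one_mem⟩ (fun k => Subtype.ext (by
      change (k : G) * 1 * (k : G)⁻¹ = 1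
      simp))
    (fun k hk y z hy hz => Subtype.ext ((key k y hk hy).trans (key k z hk hz).symm))
  have hc : Nat.card ↥(N : Set G) = Nat.card N := rfl
  rw [hc] at hmod
  exact (Nat.modEq_iff_dvd' Nat.card_pos).mp hmod.symm

/-- a `q`-group `Q` and a normal `r`-group `N` with `|Q|` not dividing `|N| - 1` give an
element of order `q * r` -/
theorem adj_of_not_dvd {q r : ℕ} [Fact q.Prime] [Fact r.Prime] (hqr : q ≠ r)
    (Q N : Subgroup G) [N.Normal] (hQ : IsPGroup q Q) (hN : IsPGroup r N)
    (h : ¬ Nat.card Q ∣ Nat.card N - 1) : ∃ g : G, orderOf g = q * r := by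
  obtain ⟨x, hxQ, hx1, y, hyN, hy1, hxy⟩ := exists_commute_of_not_dvd Q N h
  have hz : IsPGroup q (zpowers x) := hQ.to_le (zpowers_le.mpr hxQ)
  have hzne : zpowers x ≠ ⊥ := by
    rw [Ne, zpowers_eq_bot]
    exact hx1
  obtain ⟨x', hx', hx'o⟩ := Cfsg.Agent.Lib.helper75.exists_mem_orderOf_prime (zpowers x) q
    (dvd_card_of_pgroup hz hzne)
  have hcomm' : x' * y = y * x' := by
    obtain ⟨i, rfl⟩ := mem_zpowers_iff.mp hx'
    have hc : Commute x y := hxy
    exact (hc.zpow_left i).eq
  have hyD : y ∈ N ⊓ centralizer {x'} := by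
    refine mem_inf.mpr ⟨hyN, mem_centralizer_iff.mpr ?_⟩
    intro g hg
    rw [Set.mem_singleton_iff.mp hg]
    exact hcomm'
  have hD : IsPGroup r (N ⊓ centralizer {x'} : Subgroup G) := hN.to_le inf_le_left
  have hDne : (N ⊓ centralizer {x'} : Subgroup G) ≠ ⊥ := by
    intro hb
    rw [hb, mem_bot] at hyD
    exact hy1 hyD
  obtain ⟨y', hy', hy'o⟩ := Cfsg.Agent.Lib.helper75.exists_mem_orderOf_prime _ r
    (dvd_card_of_pgroup hD hDne)
  have hc2 : x' * y' = y' * x' := mem_centralizer_iff.mp (mem_inf.mp hy').2 x' rfl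
  exact adj_of_commute Fact.out Fact.out hqr x' y' hx'o hy'o hc2

/-- a prime dividing the order of the centralizer of a subgroup of prime order -/
theorem adj_of_dvd_centralizer {r q : ℕ} [Fact r.Prime] [Fact q.Prime] (hrq : r ≠ q)
    (P : Subgroup G) (hP : Nat.card P = r) (h : q ∣ Nat.card (centralizer (P : Set G))) :
    ∃ g : G, orderOf g = r * q := by
  obtain ⟨y, hy, hyo⟩ := Cfsg.Agent.Lib.helper75.exists_mem_orderOf_prime
    (centralizer (P : Set G)) q h
  obtain ⟨x, hx, hxo⟩ := Cfsg.Agent.Lib.helper75.exists_mem_orderOf_prime P r (by rw [hP])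
  have hc : x * y = y * x := mem_centralizer_iff.mp hy x hx
  exact adj_of_commute Fact.out Fact.out hrq x y hxo hyo hc

/-- order of a Sylow subgroup from a factorization of the group order -/
theorem sylow_card_of (p k m : ℕ) [Fact p.Prime] (h : Nat.card G = p ^ k * m) (hm : ¬ p ∣ m)
    (P : Sylow p G) : Nat.card P = p ^ k := by
  have hp : p.Prime := Fact.out
  have hm0 : m ≠ 0 := by
    rintro rfl
    exact hm (dvd_zero p)
  rw [Sylow.card_eq_multiplicity P, h, Nat.factorization_mul (pow_ne_zero k hp.ne_zero) hm0,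
    Nat.factorization_pow, Finsupp.add_apply, Finsupp.smul_apply, hp.factorization_self,
    Nat.factorization_eq_zero_of_not_dvd hm]
  simp

/-- normalizer and centralizer of a Sylow subgroup of prime order -/
theorem sylow_nc {r : ℕ} [Fact r.Prime] (P : Sylow r G) (hP : Nat.card P = r) :
    ∃ e : ℕ, e ∣ r - 1 ∧
      Nat.card (centralizer ((P : Subgroup G) : Set G)) * e =
        Nat.card (normalizer ((P : Subgroup G) : Set G)) := by
  refine ⟨_, Cfsg.Agent.Lib.helper75.relIndex_dvd_pred P hP, ?_⟩
  have h := Cfsg.Agent.Lib.helper75.card_centralizer_mul_relIndex P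
  rw [h, Sylow.stabilizer_eq_normalizer]
  rfl

/-- Frattini: the order of the normalizer in `G` of a Sylow subgroup contained in a normal
subgroup `N` -/
theorem frattini_card {r : ℕ} [Fact r.Prime] (N : Subgroup G) [N.Normal] (P' : Sylow r N) :
    Nat.card (normalizer (((P' : Subgroup N).map N.subtype : Subgroup G) : Set G)) =
      Nat.card (N ⊓ normalizer (((P' : Subgroup N).map N.subtype : Subgroup G) : Set G) :
        Subgroup G) * N.index := by
  have h1 := Sylow.normalizer_sup_eq_top P'
  have h2 := relIndex_sup_right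
    (normalizer (((P' : Subgroup N).map N.subtype : Subgroup G) : Set G)) N
  rw [h1, relIndex_top_right] at h2
  have h3 := inf_relIndex_right N
    (normalizer (((P' : Subgroup N).map N.subtype : Subgroup G) : Set G))
  have h4 := Subgroup.card_mul_index
    ((N ⊓ normalizer (((P' : Subgroup N).map N.subtype : Subgroup G) : Set G)).subgroupOf
      (normalizer (((P' : Subgroup N).map N.subtype : Subgroup G) : Set G)))
  have h5 : Nat.card ((N ⊓ normalizer (((P' : Subgroup N).map N.subtype : Subgroup G) :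
      Set G)).subgroupOf (normalizer (((P' : Subgroup N).map N.subtype : Subgroup G) : Set G))) =
      Nat.card (N ⊓ normalizer (((P' : Subgroup N).map N.subtype : Subgroup G) : Set G) :
        Subgroup G) :=
    Nat.card_congr (Subgroup.subgroupOfEquivOfLe inf_le_right).toEquiv
  have h6 : ((N ⊓ normalizer (((P' : Subgroup N).map N.subtype : Subgroup G) :
      Set G)).subgroupOf (normalizer (((P' : Subgroup N).map N.subtype : Subgroup G) :
      Set G))).index = N.index := by
    rw [h2]
    exact h3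
  rw [h5, h6] at h4
  exact h4.symm

end Cfsg.Agent.Lib.helper7.PG7920
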