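import Mathlib
import Cfsg.Agent.Lib.helper7.PG7920a

/-!
Groups of order 7920 with a normal subgroup of prime-power order: the prime graph is connected.
-/

set_option autoImplicit false

namespace Cfsg.Agent.Lib.helper7.PG7920

open Subgroup

instance fact5 : Fact (Nat.Prime 5) := ⟨by norm_num⟩

instance fact11 : Fact (Nat.Prime 11) := ⟨by norm_num⟩

/-- connectivity certificate for the prime graph of a group of order 7920 -/
def Conn (G : Type*) [Group G] : Prop :=
  ∀ A : Set ℕ, (∀ a ∈ A, ∀ b ∉ A, a.Prime → b.Prime → a ∣ 7920 → b ∣ 7920 →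
      ¬ ∃ g : G, orderOf g = a * b) →
    (2 ∈ A ↔ 3 ∈ A) ∧ (2 ∈ A ↔ 5 ∈ A) ∧ (2 ∈ A ↔ 11 ∈ A)

variable {G : Type*} [Group G] [Finite G]

theorem iff_of_adj {A : Set ℕ} (hA : ∀ a ∈ A, ∀ b ∉ A, a.Prime → b.Prime → a ∣ 7920 →
    b ∣ 7920 → ¬ ∃ g : G, orderOf g = a * b) (p q : ℕ) (h : ∃ g : G, orderOf g = p * q)
    (hp : p.Prime := by norm_num) (hq : q.Prime := by norm_num) (hpd : p ∣ 7920 := by norm_num)
    (hqd : q ∣ 7920 := by norm_num) : (p ∈ A ↔ q ∈ A) := by
  constructor
  · intro hpA
    by_contra hqA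
    exact hA p hpA q hqA hp hq hpd hqd h
  · intro hqA
    by_contra hpA
    exact hA q hqA p hpA hq hp hqd hpd (adj_symm h)

theorem pow_two_mod_eleven (k : ℕ) (hk : 1 ≤ k) (h : 2 ^ k ∣ 7920) : 2 ^ k % 11 ≠ 1 := by
  have hk2 : k ≤ 4 := by
    by_contra hh
    push Not at hh
    have h1 : 2 ^ 5 ∣ 2 ^ k := pow_dvd_pow 2 hh
    have h2 := h1.trans h
    norm_num at h2
  interval_cases k <;> norm_num

theorem pow_three_mod_eleven (k : ℕ) (hk : 1 ≤ k) (h : 3 ^ k ∣ 7920) : 3 ^ k % 11 ≠ 1 := by
  have hk2 : k ≤ 2 := by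
    by_contra hh
    push Not at hh
    have h1 : 3 ^ 3 ∣ 3 ^ k := pow_dvd_pow 3 hh
    have h2 := h1.trans h
    norm_num at h2
  interval_cases k <;> norm_num

theorem pow_five_mod_eleven (k : ℕ) (hk : 1 ≤ k) (h : 5 ^ k ∣ 7920) : 5 ^ k % 11 ≠ 1 := by
  have hk2 : k ≤ 1 := by
    by_contra hh
    push Not at hh
    have h1 : 5 ^ 2 ∣ 5 ^ k := pow_dvd_pow 5 hh
    have h2 := h1.trans h
    norm_num at h2
  interval_cases k <;> norm_num

theorem pow_three_mod_five (k : ℕ) (hk : 1 ≤ k) (h : 3 ^ k ∣ 7920) : 3 ^ k % 5 ≠ 1 := by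
  have hk2 : k ≤ 2 := by
    by_contra hh
    push Not at hh
    have h1 : 3 ^ 3 ∣ 3 ^ k := pow_dvd_pow 3 hh
    have h2 := h1.trans h
    norm_num at h2
  interval_cases k <;> norm_num

theorem mem_normalizer_of_normal (N : Subgroup G) [hN : N.Normal] (x : G) :
    x ∈ normalizer (N : Set G) := by
  rw [normalizer_eq_top_iff.mpr hN]
  exact mem_top x

theorem dvd_ten_cases {e : ℕ} (he : e ∣ 10) : e = 1 ∨ e = 2 ∨ e = 5 ∨ e = 10 := by
  have h1 : e ≤ 10 := Nat.le_of_dvd (by norm_num) he
  interval_cases e <;> revert he <;> decide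

theorem dvd_four_cases {e : ℕ} (he : e ∣ 4) : e = 1 ∨ e = 2 ∨ e = 4 := by
  have h1 : e ≤ 4 := Nat.le_of_dvd (by norm_num) he
  interval_cases e <;> revert he <;> decide

/-- a normal subgroup of order 11 -/
theorem conn_of_normal_eleven (hord : Nat.card G = 7920) (N : Subgroup G) [hNn : N.Normal]
    (hN : Nat.card N = 11) : Conn G := by
  obtain ⟨x3, hx3⟩ := exists_prime_orderOf_dvd_card' (G := G) 3 (by rw [hord]; norm_num)
  obtain ⟨x5, hx5⟩ := exists_prime_orderOf_dvd_card' (G := G) 5 (by rw [hord]; norm_num)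
  have hN11 : Nat.card N = 11 ^ 1 := by rw [hN]; norm_num
  have e311 : ∃ g : G, orderOf g = 3 * 11 :=
    adj_of_normalizes (r := 3) (q := 11) (by norm_num) x3 hx3 N (mem_normalizer_of_normal N x3)
      1 hN11 (by norm_num)
  obtain ⟨Q2⟩ : Nonempty (Sylow 2 G) := inferInstance
  have hQ2 : Nat.card Q2 = 2 ^ 4 := sylow_card_of 2 4 495 (by rw [hord]; norm_num) (by norm_num) Q2
  have e211 : ∃ g : G, orderOf g = 2 * 11 :=
    adj_of_not_dvd (q := 2) (r := 11) (by norm_num) Q2 N Q2.isPGroup' (IsPGroup.of_card hN11)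
      (by rw [hQ2, hN]; norm_num)
  by_cases h511 : ∃ g : G, orderOf g = 5 * 11
  · intro A hA
    have i1 := iff_of_adj hA 3 11 e311
    have i2 := iff_of_adj hA 2 11 e211
    have i3 := iff_of_adj hA 5 11 h511
    exact ⟨by tauto, by tauto, by tauto⟩
  · obtain ⟨P, hNP⟩ := (IsPGroup.of_card hN11).exists_le_sylow
    have hPc : Nat.card P = 11 := by
      have h := sylow_card_of 11 1 720 (by rw [hord]; norm_num) (by norm_num) P
      rw [h]
      norm_num
    have hPN : N = (P : Subgroup G) := Subgroup.eq_of_le_of_card_ge hNP (by rw [hPc, hN])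
    obtain ⟨e, he, hce⟩ := sylow_nc P hPc
    rw [← hPN, normalizer_eq_top_iff.mpr hNn, card_top, hord] at hce
    have he10 : e ∣ 10 := he
    have h5c : ¬ 5 ∣ Nat.card (centralizer (N : Set G)) := fun h =>
      h511 (adj_symm (adj_of_dvd_centralizer (r := 11) (q := 5) (by norm_num) N hN h))
    have h3c : 3 ∣ Nat.card (centralizer (N : Set G)) := by
      rcases dvd_ten_cases he10 with rfl | rfl | rfl | rfl <;> omega
    have hcd : Nat.card (centralizer (N : Set G)) ∣ 7920 := by
      rw [← hord]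
      exact Subgroup.card_subgroup_dvd_card _
    have e53 : ∃ g : G, orderOf g = 5 * 3 :=
      adj_of_coprime (r := 5) (q := 3) (by norm_num) x5 hx5 (centralizer (N : Set G))
        (mem_normalizer_of_normal _ x5) h5c h3c
        (fun k hk hdvd => pow_three_mod_five k hk (hdvd.trans hcd))
    intro A hA
    have i1 := iff_of_adj hA 3 11 e311
    have i2 := iff_of_adj hA 2 11 e211
    have i3 := iff_of_adj hA 5 3 e53
    exact ⟨by tauto, by tauto, by tauto⟩

/-- a normal subgroup of order 5 -/
theorem conn_of_normal_five (hord : Nat.card G = 7920) (N : Subgroup G) [hNn : N.Normal]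
    (hN : Nat.card N = 5) : Conn G := by
  obtain ⟨x3, hx3⟩ := exists_prime_orderOf_dvd_card' (G := G) 3 (by rw [hord]; norm_num)
  obtain ⟨x11, hx11⟩ := exists_prime_orderOf_dvd_card' (G := G) 11 (by rw [hord]; norm_num)
  have hN5 : Nat.card N = 5 ^ 1 := by rw [hN]; norm_num
  have e35 : ∃ g : G, orderOf g = 3 * 5 :=
    adj_of_normalizes (r := 3) (q := 5) (by norm_num) x3 hx3 N (mem_normalizer_of_normal N x3)
      1 hN5 (by norm_num)
  have e115 : ∃ g : G, orderOf g = 11 * 5 :=
    adj_of_normalizes (r := 11) (q := 5) (by norm_num) x11 hx11 N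
      (mem_normalizer_of_normal N x11) 1 hN5 (by norm_num)
  obtain ⟨Q2⟩ : Nonempty (Sylow 2 G) := inferInstance
  have hQ2 : Nat.card Q2 = 2 ^ 4 := sylow_card_of 2 4 495 (by rw [hord]; norm_num) (by norm_num) Q2
  have e25 : ∃ g : G, orderOf g = 2 * 5 :=
    adj_of_not_dvd (q := 2) (r := 5) (by norm_num) Q2 N Q2.isPGroup' (IsPGroup.of_card hN5)
      (by rw [hQ2, hN]; norm_num)
  intro A hA
  have i1 := iff_of_adj hA 3 5 e35
  have i2 := iff_of_adj hA 11 5 e115
  have i3 := iff_of_adj hA 2 5 e25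
  exact ⟨by tauto, by tauto, by tauto⟩

/-- a normal `3`-subgroup -/
theorem conn_of_normal_three (hord : Nat.card G = 7920) (N : Subgroup G) [hNn : N.Normal]
    (k : ℕ) (hk : 1 ≤ k) (hN : Nat.card N = 3 ^ k) : Conn G := by
  obtain ⟨x5, hx5⟩ := exists_prime_orderOf_dvd_card' (G := G) 5 (by rw [hord]; norm_num)
  obtain ⟨x11, hx11⟩ := exists_prime_orderOf_dvd_card' (G := G) 11 (by rw [hord]; norm_num)
  have hd : 3 ^ k ∣ 7920 := by
    rw [← hN, ← hord]
    exact Subgroup.card_subgroup_dvd_card _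
  have hk2 : k ≤ 2 := by
    by_contra hh
    push Not at hh
    have h1 : 3 ^ 3 ∣ 3 ^ k := pow_dvd_pow 3 hh
    have h2 := h1.trans hd
    norm_num at h2
  have e53 : ∃ g : G, orderOf g = 5 * 3 :=
    adj_of_normalizes (r := 5) (q := 3) (by norm_num) x5 hx5 N (mem_normalizer_of_normal N x5)
      k hN (pow_three_mod_five k hk hd)
  have e113 : ∃ g : G, orderOf g = 11 * 3 :=
    adj_of_normalizes (r := 11) (q := 3) (by norm_num) x11 hx11 N
      (mem_normalizer_of_normal N x11) k hN (pow_three_mod_eleven k hk hd)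
  obtain ⟨Q2⟩ : Nonempty (Sylow 2 G) := inferInstance
  have hQ2 : Nat.card Q2 = 2 ^ 4 := sylow_card_of 2 4 495 (by rw [hord]; norm_num) (by norm_num) Q2
  have e23 : ∃ g : G, orderOf g = 2 * 3 :=
    adj_of_not_dvd (q := 2) (r := 3) (by norm_num) Q2 N Q2.isPGroup' (IsPGroup.of_card hN)
      (by
        rw [hQ2, hN]
        interval_cases k <;> norm_num)
  intro A hA
  have i1 := iff_of_adj hA 5 3 e53
  have i2 := iff_of_adj hA 11 3 e113
  have i3 := iff_of_adj hA 2 3 e23
  exact ⟨by tauto, by tauto, by tauto⟩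

theorem card_eq_176 {c : ℕ} (hc : c ∣ 7920) (h16 : 16 ∣ c) (h11 : 11 ∣ c) (h3 : ¬ 3 ∣ c)
    (h5 : ¬ 5 ∣ c) : c = 176 := by
  have h176 : 16 * 11 ∣ c := Nat.Coprime.mul_dvd_of_dvd_of_dvd (by norm_num) h16 h11
  obtain ⟨t, rfl⟩ := h176
  have ht : t ∣ 45 := by
    have h1 : 16 * 11 * t ∣ 16 * 11 * 45 := by
      have h2 : (16 * 11 * 45 : ℕ) = 7920 := by norm_num
      rw [h2]
      exact hc
    exact Nat.dvd_of_mul_dvd_mul_left (by norm_num) h1
  have ht45 : t ≤ 45 := Nat.le_of_dvd (by norm_num) ht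
  interval_cases t <;> omega

/-- a normal abelian `2`-subgroup -/
theorem conn_of_normal_two (hord : Nat.card G = 7920) (N : Subgroup G) [hNn : N.Normal]
    (k : ℕ) (hk : 1 ≤ k) (hN : Nat.card N = 2 ^ k) (hab : ∀ a ∈ N, ∀ b ∈ N, a * b = b * a) :
    Conn G := by
  obtain ⟨x5, hx5⟩ := exists_prime_orderOf_dvd_card' (G := G) 5 (by rw [hord]; norm_num)
  obtain ⟨x11, hx11⟩ := exists_prime_orderOf_dvd_card' (G := G) 11 (by rw [hord]; norm_num)
  have hd : 2 ^ k ∣ 7920 := by
    rw [← hN, ← hord]
    exact Subgroup.card_subgroup_dvd_card _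
  have hk4 : k ≤ 4 := by
    by_contra hh
    push Not at hh
    have h1 : 2 ^ 5 ∣ 2 ^ k := pow_dvd_pow 2 hh
    have h2 := h1.trans hd
    norm_num at h2
  have e112 : ∃ g : G, orderOf g = 11 * 2 :=
    adj_of_normalizes (r := 11) (q := 2) (by norm_num) x11 hx11 N
      (mem_normalizer_of_normal N x11) k hN (pow_two_mod_eleven k hk hd)
  obtain ⟨Q3⟩ : Nonempty (Sylow 3 G) := inferInstance
  have hQ3 : Nat.card Q3 = 3 ^ 2 :=
    sylow_card_of 3 2 880 (by rw [hord]; norm_num) (by norm_num) Q3
  have e32 : ∃ g : G, orderOf g = 3 * 2 :=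
    adj_of_not_dvd (q := 3) (r := 2) (by norm_num) Q3 N Q3.isPGroup' (IsPGroup.of_card hN)
      (by
        rw [hQ3, hN]
        interval_cases k <;> norm_num)
  by_cases h52 : ∃ g : G, orderOf g = 5 * 2
  · intro A hA
    have i1 := iff_of_adj hA 11 2 e112
    have i2 := iff_of_adj hA 3 2 e32
    have i3 := iff_of_adj hA 5 2 h52
    exact ⟨by tauto, by tauto, by tauto⟩
  · have hk' : k = 4 := by
      by_contra hne
      apply h52
      refine adj_of_normalizes (r := 5) (q := 2) (by norm_num) x5 hx5 N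
        (mem_normalizer_of_normal N x5) k hN ?_
      interval_cases k <;> simp_all
    subst hk'
    have hNC : N ≤ centralizer (N : Set G) := fun a ha =>
      mem_centralizer_iff.mpr (fun b hb => hab b hb a ha)
    have h16 : 16 ∣ Nat.card (centralizer (N : Set G)) := by
      have h := Subgroup.card_dvd_of_le hNC
      rw [hN] at h
      exact h
    have h5c : ¬ 5 ∣ Nat.card (centralizer (N : Set G)) := by
      intro h
      obtain ⟨y, hy, hyo⟩ := Cfsg.Agent.Lib.helper75.exists_mem_orderOf_prime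
        (centralizer (N : Set G)) 5 h
      obtain ⟨z, hz, hzo⟩ := Cfsg.Agent.Lib.helper75.exists_mem_orderOf_prime N 2
        (by rw [hN]; norm_num)
      exact h52 (adj_of_commute (by norm_num) (by norm_num) (by norm_num) y z hyo hzo
        (mem_centralizer_iff.mp hy z hz).symm)
    have hx11C : x11 ∈ centralizer (N : Set G) := by
      have h1 := Cfsg.Agent.Lib.helper1.card_modEq_card_inf_centralizer 11 x11 1
        (by rw [pow_one, ← hx11]; exact pow_orderOf_eq_one x11) N
        (mem_normalizer_of_normal N x11)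
      have hdvd : Nat.card (N ⊓ centralizer {x11} : Subgroup G) ∣ 2 ^ 4 := by
        rw [← hN]
        exact Subgroup.card_dvd_of_le inf_le_left
      obtain ⟨j, hj4, hj⟩ := (Nat.dvd_prime_pow Nat.prime_two).mp hdvd
      rw [hN, hj] at h1
      have hj' : j = 4 := by
        have h2 : 2 ^ 4 % 11 = 2 ^ j % 11 := h1
        interval_cases j <;> simp_all
      subst hj'
      have heq : N ⊓ centralizer {x11} = N :=
        Subgroup.eq_of_le_of_card_ge inf_le_left (by rw [hj, hN])
      rw [mem_centralizer_iff]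
      intro h hh
      have h3 : h ∈ N ⊓ centralizer ({x11} : Set G) := by
        rw [heq]
        exact hh
      exact (mem_centralizer_iff.mp (mem_inf.mp h3).2 x11 rfl).symm
    have h11 : 11 ∣ Nat.card (centralizer (N : Set G)) := by
      have h := Subgroup.orderOf_dvd_natCard _ hx11C
      rw [hx11] at h
      exact h
    have hcd : Nat.card (centralizer (N : Set G)) ∣ 7920 := by
      rw [← hord]
      exact Subgroup.card_subgroup_dvd_card _
    by_cases h3 : 3 ∣ Nat.card (centralizer (N : Set G))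
    · have e53 : ∃ g : G, orderOf g = 5 * 3 :=
        adj_of_coprime (r := 5) (q := 3) (by norm_num) x5 hx5 (centralizer (N : Set G))
          (mem_normalizer_of_normal _ x5) h5c h3
          (fun k hk hdvd => pow_three_mod_five k hk (hdvd.trans hcd))
      intro A hA
      have i1 := iff_of_adj hA 11 2 e112
      have i2 := iff_of_adj hA 3 2 e32
      have i3 := iff_of_adj hA 5 3 e53
      exact ⟨by tauto, by tauto, by tauto⟩
    · have hc176 : Nat.card (centralizer (N : Set G)) = 176 := card_eq_176 hcd h16 h11 h3 h5c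
      obtain ⟨P'⟩ : Nonempty (Sylow 11 (centralizer (N : Set G))) := inferInstance
      have hP' : Nat.card P' = 11 := by
        have h := sylow_card_of 11 1 16 (by rw [hc176]; norm_num) (by norm_num) P'
        rw [h]
        norm_num
      have hn1 : Nat.card (Sylow 11 (centralizer (N : Set G))) = 1 := by
        have h1 := card_sylow_modEq_one 11 (centralizer (N : Set G))
        have h2 := Sylow.card_dvd_index P'
        have h3 : (P' : Subgroup (centralizer (N : Set G))).index = 16 := by
          have h := Subgroup.card_mul_index (P' : Subgroup (centralizer (N : Set G)))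
          rw [hP', hc176] at h
          omega
        rw [h3] at h2
        have h4 : Nat.card (Sylow 11 (centralizer (N : Set G))) ≤ 16 :=
          Nat.le_of_dvd (by norm_num) h2
        have h5 : Nat.card (Sylow 11 (centralizer (N : Set G))) % 11 = 1 := h1
        generalize Nat.card (Sylow 11 (centralizer (N : Set G))) = n at h2 h4 h5
        interval_cases n <;> omega
      have hnorm : (P' : Subgroup (centralizer (N : Set G))).Normal := by
        have h := Sylow.card_eq_index_normalizer P'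
        rw [hn1] at h
        exact normalizer_eq_top_iff.mp (index_eq_one.mp h.symm)
      haveI := Sylow.characteristic_of_normal P' hnorm
      haveI hNn' : ((P' : Subgroup (centralizer (N : Set G))).map
          (centralizer (N : Set G)).subtype).Normal :=
        ConjAct.normal_of_characteristic_of_normal
      exact conn_of_normal_eleven hord _
        (by rw [card_map_of_injective (subtype_injective _), hP'])

/-- a normal abelian subgroup of prime power order -/
theorem conn_of_normal_pgroup (hord : Nat.card G = 7920) (N : Subgroup G) [hNn : N.Normal]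
    (r k : ℕ) (hr : r.Prime) (hk : 1 ≤ k) (hN : Nat.card N = r ^ k)
    (hab : ∀ a ∈ N, ∀ b ∈ N, a * b = b * a) : Conn G := by
  have hd : r ^ k ∣ 7920 := by
    rw [← hN, ← hord]
    exact Subgroup.card_subgroup_dvd_card _
  have hr' : r ∣ 7920 := (dvd_pow_self r (by omega)).trans hd
  have hrc : r = 2 ∨ r = 3 ∨ r = 5 ∨ r = 11 := by
    have h7920 : (7920 : ℕ) = 2 ^ 4 * 3 ^ 2 * 5 * 11 := by norm_num
    rw [h7920] at hr'
    rcases (Nat.Prime.dvd_mul hr).mp hr' with h | h
    · rcases (Nat.Prime.dvd_mul hr).mp h with h | h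
      · rcases (Nat.Prime.dvd_mul hr).mp h with h | h
        · left
          exact (Nat.prime_dvd_prime_iff_eq hr Nat.prime_two).mp (hr.dvd_of_dvd_pow h)
        · right; left
          exact (Nat.prime_dvd_prime_iff_eq hr Nat.prime_three).mp (hr.dvd_of_dvd_pow h)
      · right; right; left
        exact (Nat.prime_dvd_prime_iff_eq hr (by norm_num)).mp h
    · right; right; right
      exact (Nat.prime_dvd_prime_iff_eq hr (by norm_num)).mp h
  rcases hrc with rfl | rfl | rfl | rfl
  · exact conn_of_normal_two hord N k hk hN hab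
  · exact conn_of_normal_three hord N k hk hN
  · have hk1 : k = 1 := by
      by_contra hne
      have h2 : 2 ≤ k := by omega
      have h1 : 5 ^ 2 ∣ 5 ^ k := pow_dvd_pow 5 h2
      have h3 := h1.trans hd
      norm_num at h3
    subst hk1
    exact conn_of_normal_five hord N (by rw [hN]; norm_num)
  · have hk1 : k = 1 := by
      by_contra hne
      have h2 : 2 ≤ k := by omega
      have h1 : 11 ^ 2 ∣ 11 ^ k := pow_dvd_pow 11 h2
      have h3 := h1.trans hd
      norm_num at h3
    subst hk1
    exact conn_of_normal_eleven hord N (by rw [hN]; norm_num)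

end Cfsg.Agent.Lib.helper7.PG7920
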