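import Mathlib

/-!
# Definitions for S4291 (Frobenius complements: the six quotient types)
-/

set_option autoImplicit false

namespace Cfsg.Agent.Lib.helper7.Six

/-- no Klein four-subgroup: two commuting involutions of `K` are equal (or one is trivial) -/
def NoV4 {Q : Type*} [Group Q] (K : Subgroup Q) : Prop :=
  ∀ a ∈ K, ∀ b ∈ K, a ^ 2 = 1 → b ^ 2 = 1 → a * b = b * a → a = 1 ∨ b = 1 ∨ a = b

/-- the six quotient types of S4291 -/
def SixQ {G : Type*} [Group G] (N : Subgroup G) : Prop :=
  N = ⊤ ∨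
    (∃ f : G →* DihedralGroup 2, Function.Surjective f ∧ f.ker = N) ∨
    (∃ f : G →* alternatingGroup (Fin 4), Function.Surjective f ∧ f.ker = N) ∨
    (∃ f : G →* Equiv.Perm (Fin 4), Function.Surjective f ∧ f.ker = N) ∨
    (∃ f : G →* alternatingGroup (Fin 5), Function.Surjective f ∧ f.ker = N) ∨
    (∃ f : G →* Equiv.Perm (Fin 5), Function.Surjective f ∧ f.ker = N)

/-- all Sylow subgroups cyclic, in the form used by S4291 -/
def ZS {G : Type*} [Group G] (N : Subgroup G) : Prop :=
  ∀ (p : ℕ) [Fact p.Prime] (P : Sylow p N), IsCyclic P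

end Cfsg.Agent.Lib.helper7.Six
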