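/-
helper7: geometry of non-degenerate quadratic spaces containing singular vectors
(hyperbolic pairs, orthogonal complements, existence lemmas used for the simplicity of PΩ).
-/
import Mathlib
import Cfsg.Agent.Lib.helper49.Witt

set_option autoImplicit false

namespace Cfsg.Agent.Lib.helper7.QGeom

open Module Cfsg.Agent.Lib.helper49

section Basic

variable {F V : Type*} [Field F] [AddCommGroup V] [Module F V] (Q : QuadraticForm F V)

local notation "⟪" x ", " y "⟫" => QuadraticMap.polar (DFunLike.coe Q) x y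

theorem polar_self_sing {x : V} (hx : Q x = 0) : ⟪x, x⟫ = 0 := by
  rw [QuadraticMap.polar_self, hx, smul_zero]

/-- The value of `Q` on `x + a e + b f`. -/
theorem Q_add3 (x e f : V) (a b : F) :
    Q (x + a • e + b • f) = Q x + a * a * Q e + b * b * Q f + a * ⟪x, e⟫ + b * ⟪x, f⟫ + a * b * ⟪e, f⟫ := by
  simp only [QuadraticMap.map_add (⇑Q), QuadraticMap.map_smul, QuadraticMap.polar_add_left,
    QuadraticMap.polar_smul_left, QuadraticMap.polar_smul_right, smul_eq_mul]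
  ring

/-- the orthogonal complement of two vectors -/
def perp2 (e f : V) : Submodule F V :=
  LinearMap.ker (QuadraticMap.polarBilin Q e) ⊓ LinearMap.ker (QuadraticMap.polarBilin Q f)

theorem mem_perp2 {e f x : V} : x ∈ perp2 Q e f ↔ ⟪e, x⟫ = 0 ∧ ⟪f, x⟫ = 0 := by
  simp [perp2]

theorem proj_mem_perp2 {e f : V} (he : Q e = 0) (hf : Q f = 0) (hef : ⟪e, f⟫ = 1) (x : V) :
    x - ⟪f, x⟫ • e - ⟪e, x⟫ • f ∈ perp2 Q e f := by
  have hfe : ⟪f, e⟫ = 1 := by rw [QuadraticMap.polar_comm]; exact hef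
  rw [mem_perp2]
  constructor
  · simp only [QuadraticMap.polar_sub_right, QuadraticMap.polar_smul_right, smul_eq_mul,
      polar_self_sing Q he, hef]
    ring
  · simp only [QuadraticMap.polar_sub_right, QuadraticMap.polar_smul_right, smul_eq_mul,
      polar_self_sing Q hf, hfe]
    ring

theorem perp2_nondeg (hQ : (QuadraticMap.polarBilin Q).Nondegenerate) {e f : V} (he : Q e = 0)
    (hf : Q f = 0) (hef : ⟪e, f⟫ = 1) :
    (QuadraticMap.polarBilin (restrictQ Q (perp2 Q e f))).Nondegenerate := by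
  rw [nondegenerate_restrictQ_iff]
  intro w hw hall
  apply hQ.1 w
  intro y
  rw [QuadraticMap.polarBilin_apply_apply]
  have h := hall _ (proj_mem_perp2 Q he hf hef y)
  rw [mem_perp2] at hw
  simp only [QuadraticMap.polar_sub_right, QuadraticMap.polar_smul_right, smul_eq_mul] at h
  rw [QuadraticMap.polar_comm _ w e, QuadraticMap.polar_comm _ w f, hw.1, hw.2] at h
  simpa using h

theorem finrank_perp2 [FiniteDimensional F V] {e f : V} (he : Q e = 0) (hf : Q f = 0)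
    (hef : ⟪e, f⟫ = 1) : finrank F (perp2 Q e f) + 2 = finrank F V := by
  have hfe : ⟪f, e⟫ = 1 := by rw [QuadraticMap.polar_comm]; exact hef
  let φ : V →ₗ[F] F × F := (QuadraticMap.polarBilin Q e).prod (QuadraticMap.polarBilin Q f)
  have hker : LinearMap.ker φ = perp2 Q e f := by
    ext x
    simp [φ, perp2, LinearMap.mem_ker, Prod.ext_iff]
  have hrange : LinearMap.range φ = ⊤ := by
    rw [LinearMap.range_eq_top]
    rintro ⟨a, b⟩
    refine ⟨a • f + b • e, ?_⟩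
    simp [φ, QuadraticMap.polar_add_right, QuadraticMap.polar_smul_right, polar_self_sing Q he,
      polar_self_sing Q hf, hef, hfe]
  have := LinearMap.finrank_range_add_finrank_ker φ
  rw [hker, hrange, finrank_top, finrank_prod, finrank_self] at this
  omega

/-- polar form of a restriction -/
theorem polar_restrictQ (W : Submodule F V) (a b : W) :
    QuadraticMap.polar (⇑(restrictQ Q W)) a b = ⟪(a : V), (b : V)⟫ := by
  simp [QuadraticMap.polar, restrictQ_apply]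

/-- Every non-zero vector is non-orthogonal to some singular vector, as soon as there are singular
vectors. -/
theorem exists_singular_polar_eq_one (hQ : (QuadraticMap.polarBilin Q).Nondegenerate) {e : V}
    (he0 : e ≠ 0) (he : Q e = 0) {x : V} (hx : x ≠ 0) : ∃ z, Q z = 0 ∧ ⟪z, x⟫ = 1 := by
  obtain ⟨f, hf, hef⟩ := exists_hyp_partner Q hQ e he0 he
  suffices h : ∃ z, Q z = 0 ∧ ⟪z, x⟫ ≠ 0 by
    obtain ⟨z, hz, hzx⟩ := h
    refine ⟨(⟪z, x⟫)⁻¹ • z, ?_, ?_⟩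
    · rw [QuadraticMap.map_smul, hz, smul_zero]
    · rw [QuadraticMap.polar_smul_left, smul_eq_mul, inv_mul_cancel₀ hzx]
  by_contra hcon
  push Not at hcon
  apply hx
  apply hQ.1 x
  intro y
  rw [QuadraticMap.polarBilin_apply_apply, QuadraticMap.polar_comm]
  have h1 := hcon e he
  have h2 := hcon f hf
  have hy'm := proj_mem_perp2 Q he hf hef y
  rw [mem_perp2] at hy'm
  obtain ⟨hy1, hy2⟩ := hy'm
  set y' := y - ⟪f, y⟫ • e - ⟪e, y⟫ • f with hy'
  have hy1' : ⟪y', e⟫ = 0 := by rw [QuadraticMap.polar_comm]; exact hy1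
  have hy2' : ⟪y', f⟫ = 0 := by rw [QuadraticMap.polar_comm]; exact hy2
  have h3 : Q (y' + (1 : F) • e + (- Q y') • f) = 0 := by
    rw [Q_add3, he, hf, hy1', hy2', hef]
    ring
  have h4 := hcon _ h3
  simp only [QuadraticMap.polar_add_left, QuadraticMap.polar_smul_left, smul_eq_mul, h1, h2] at h4
  have h5 : y = y' + ⟪f, y⟫ • e + ⟪e, y⟫ • f := by rw [hy']; abel
  rw [h5]
  simp only [QuadraticMap.polar_add_left, QuadraticMap.polar_smul_left, smul_eq_mul, h1, h2]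
  linear_combination h4

/-- Induction principle: every vector is a sum of singular vectors, as soon as there are singular
vectors. -/
theorem sum_singular_induction (hQ : (QuadraticMap.polarBilin Q).Nondegenerate) {e : V}
    (he0 : e ≠ 0) (he : Q e = 0) (P : V → Prop) (h0 : P 0)
    (hstep : ∀ v s, P v → Q s = 0 → P (v + s)) (v : V) : P v := by
  obtain ⟨f, hf, hef⟩ := exists_hyp_partner Q hQ e he0 he
  have hy'm := proj_mem_perp2 Q he hf hef v
  rw [mem_perp2] at hy'm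
  obtain ⟨hy1, hy2⟩ := hy'm
  set y' := v - ⟪f, v⟫ • e - ⟪e, v⟫ • f with hy'
  have hy1' : ⟪y', e⟫ = 0 := by rw [QuadraticMap.polar_comm]; exact hy1
  have hy2' : ⟪y', f⟫ = 0 := by rw [QuadraticMap.polar_comm]; exact hy2
  have h3 : Q (y' + (1 : F) • e + (- Q y') • f) = 0 := by
    rw [Q_add3, he, hf, hy1', hy2', hef]
    ring
  have h5 : v = 0 + (y' + (1 : F) • e + (- Q y') • f) + (⟪f, v⟫ - 1) • e + (⟪e, v⟫ + Q y') • f := by
    rw [hy']
    module
  rw [h5]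
  apply hstep
  · apply hstep
    · exact hstep _ _ h0 h3
    · rw [QuadraticMap.map_smul, he, smul_zero]
  · rw [QuadraticMap.map_smul, hf, smul_zero]

/-- Two orthogonal independent singular vectors have a common hyperbolic partner. -/
theorem exists_common_partner (hQ : (QuadraticMap.polarBilin Q).Nondegenerate) {f f' : V}
    (hf0 : f ≠ 0) (hf : Q f = 0) (hf' : Q f' = 0) (hff' : ⟪f, f'⟫ = 0) (hind : ∀ a : F, f' ≠ a • f) :
    ∃ u, Q u = 0 ∧ ⟪u, f⟫ = 1 ∧ ⟪u, f'⟫ = 1 := by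
  obtain ⟨g, hg, hfg⟩ := exists_hyp_partner Q hQ f hf0 hf
  have hgf : ⟪g, f⟫ = 1 := by rw [QuadraticMap.polar_comm]; exact hfg
  set t := ⟪g, f'⟫ with ht
  have hmem : f' + (-t) • f ∈ perp2 Q f g := by
    rw [mem_perp2]
    constructor
    · rw [QuadraticMap.polar_add_right, QuadraticMap.polar_smul_right, polar_self_sing Q hf, hff']
      simp
    · rw [QuadraticMap.polar_add_right, QuadraticMap.polar_smul_right, hgf, ← ht]
      simp
  have hne : (⟨f' + (-t) • f, hmem⟩ : perp2 Q f g) ≠ 0 := by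
    intro h
    have h1 : f' + (-t) • f = 0 := congrArg Subtype.val h
    apply hind t
    rw [neg_smul] at h1
    exact add_neg_eq_zero.mp h1
  have hsing : restrictQ Q (perp2 Q f g) ⟨f' + (-t) • f, hmem⟩ = 0 := by
    rw [restrictQ_apply]
    show Q (f' + (-t) • f) = 0
    rw [QuadraticMap.map_add (⇑Q), QuadraticMap.map_smul, QuadraticMap.polar_smul_right, hf, hf',
      QuadraticMap.polar_comm, hff']
    simp
  obtain ⟨g'', hg'', hfg''⟩ := exists_hyp_partner (restrictQ Q (perp2 Q f g))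
    (perp2_nondeg Q hQ hf hg hfg) _ hne hsing
  rw [restrictQ_apply] at hg''
  rw [polar_restrictQ] at hfg''
  have hg''m := (mem_perp2 Q).mp g''.2
  obtain ⟨h1, h2⟩ := hg''m
  have h1' : ⟪(g'' : V), f⟫ = 0 := by rw [QuadraticMap.polar_comm]; exact h1
  have h3 : ⟪(g'' : V), f'⟫ = 1 + t * ⟪(g'' : V), f⟫ := by
    have : ⟪(g'' : V), f' + (-t) • f⟫ = 1 := by rw [QuadraticMap.polar_comm]; exact hfg''
    rw [QuadraticMap.polar_add_right, QuadraticMap.polar_smul_right, smul_eq_mul] at this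
    linear_combination this
  refine ⟨g + (1 - t) • (g'' : V), ?_, ?_, ?_⟩
  · rw [QuadraticMap.map_add (⇑Q), QuadraticMap.map_smul, QuadraticMap.polar_smul_right, hg, hg'', h2]
    simp
  · rw [QuadraticMap.polar_add_left, QuadraticMap.polar_smul_left, hgf, h1']
    simp
  · rw [QuadraticMap.polar_add_left, QuadraticMap.polar_smul_left, h3, h1', ← ht, smul_eq_mul]
    ring

/-- Projection of a vector orthogonal to `e` into the complement of the hyperbolic pair `e, f`. -/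
theorem projE_mem_perp2 {e f w : V} (he : Q e = 0) (hef : ⟪e, f⟫ = 1) (hew : ⟪e, w⟫ = 0) :
    w + (-⟪f, w⟫) • e ∈ perp2 Q e f := by
  have hfe : ⟪f, e⟫ = 1 := by rw [QuadraticMap.polar_comm]; exact hef
  rw [mem_perp2]
  constructor
  · rw [QuadraticMap.polar_add_right, QuadraticMap.polar_smul_right, polar_self_sing Q he, hew]
    simp
  · rw [QuadraticMap.polar_add_right, QuadraticMap.polar_smul_right, hfe]
    simp

theorem projE_sing {e w : V} (he : Q e = 0) (hw : Q w = 0) (hew : ⟪e, w⟫ = 0) (t : F) :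
    Q (w + t • e) = 0 := by
  rw [QuadraticMap.map_add (⇑Q), QuadraticMap.map_smul, QuadraticMap.polar_smul_right, he, hw,
    QuadraticMap.polar_comm, hew]
  simp

/-- A singular vector orthogonal to `e` but not on the line of `e` has a hyperbolic partner orthogonal
to `e`. -/
theorem exists_partner_perp (hQ : (QuadraticMap.polarBilin Q).Nondegenerate) {e w : V}
    (he0 : e ≠ 0) (he : Q e = 0) (hw : Q w = 0) (hew : ⟪e, w⟫ = 0) (hind : ∀ a : F, w ≠ a • e) :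
    ∃ v, Q v = 0 ∧ ⟪e, v⟫ = 0 ∧ ⟪v, w⟫ = 1 := by
  obtain ⟨f, hf, hef⟩ := exists_hyp_partner Q hQ e he0 he
  have hmem := projE_mem_perp2 Q (f := f) he hef hew
  have hne : (⟨w + (-⟪f, w⟫) • e, hmem⟩ : perp2 Q e f) ≠ 0 := by
    intro h
    have h1 : w + (-⟪f, w⟫) • e = 0 := congrArg Subtype.val h
    apply hind ⟪f, w⟫
    rw [neg_smul] at h1
    exact add_neg_eq_zero.mp h1
  have hsing : restrictQ Q (perp2 Q e f) ⟨w + (-⟪f, w⟫) • e, hmem⟩ = 0 := projE_sing Q he hw hew _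
  obtain ⟨v, hv, hwv⟩ := exists_hyp_partner (restrictQ Q (perp2 Q e f))
    (perp2_nondeg Q hQ he hf hef) _ hne hsing
  rw [polar_restrictQ] at hwv
  have hev := ((mem_perp2 Q).mp v.2).1
  have hwv' : ⟪w + (-⟪f, w⟫) • e, (v : V)⟫ = 1 := hwv
  refine ⟨v, hv, hev, ?_⟩
  rw [QuadraticMap.polar_add_left, QuadraticMap.polar_smul_left, hev] at hwv'
  rw [QuadraticMap.polar_comm]
  simpa using hwv'

/-- Two orthogonal singular vectors in `e^⊥`, independent modulo `e`, have a common hyperbolic partner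
orthogonal to `e`. -/
theorem exists_common_partner_perp (hQ : (QuadraticMap.polarBilin Q).Nondegenerate) {e w₁ w₂ : V}
    (he0 : e ≠ 0) (he : Q e = 0) (hw₁ : Q w₁ = 0) (hw₂ : Q w₂ = 0) (hew₁ : ⟪e, w₁⟫ = 0)
    (hew₂ : ⟪e, w₂⟫ = 0) (hw : ⟪w₁, w₂⟫ = 0) (hind₁ : ∀ a : F, w₁ ≠ a • e)
    (hind₂ : ∀ a b : F, w₂ ≠ a • w₁ + b • e) :
    ∃ u, Q u = 0 ∧ ⟪e, u⟫ = 0 ∧ ⟪u, w₁⟫ = 1 ∧ ⟪u, w₂⟫ = 1 := by
  obtain ⟨f, hf, hef⟩ := exists_hyp_partner Q hQ e he0 he
  have hmem₁ := projE_mem_perp2 Q (f := f) he hef hew₁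
  have hmem₂ := projE_mem_perp2 Q (f := f) he hef hew₂
  have hne : (⟨w₁ + (-⟪f, w₁⟫) • e, hmem₁⟩ : perp2 Q e f) ≠ 0 := by
    intro h
    have h1 : w₁ + (-⟪f, w₁⟫) • e = 0 := congrArg Subtype.val h
    apply hind₁ ⟪f, w₁⟫
    rw [neg_smul] at h1
    exact add_neg_eq_zero.mp h1
  have hsing₁ : restrictQ Q (perp2 Q e f) ⟨w₁ + (-⟪f, w₁⟫) • e, hmem₁⟩ = 0 :=
    projE_sing Q he hw₁ hew₁ _
  have hsing₂ : restrictQ Q (perp2 Q e f) ⟨w₂ + (-⟪f, w₂⟫) • e, hmem₂⟩ = 0 :=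
    projE_sing Q he hw₂ hew₂ _
  have hw₁e : ⟪w₁, e⟫ = 0 := by rw [QuadraticMap.polar_comm]; exact hew₁
  have horth : QuadraticMap.polar (⇑(restrictQ Q (perp2 Q e f))) ⟨w₁ + (-⟪f, w₁⟫) • e, hmem₁⟩
      ⟨w₂ + (-⟪f, w₂⟫) • e, hmem₂⟩ = 0 := by
    rw [polar_restrictQ]
    show ⟪w₁ + (-⟪f, w₁⟫) • e, w₂ + (-⟪f, w₂⟫) • e⟫ = 0
    simp only [QuadraticMap.polar_add_left, QuadraticMap.polar_add_right, QuadraticMap.polar_smul_left,
      QuadraticMap.polar_smul_right, hw, hw₁e, hew₂, polar_self_sing Q he]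
    simp
  have hind : ∀ a : F, (⟨w₂ + (-⟪f, w₂⟫) • e, hmem₂⟩ : perp2 Q e f) ≠
      a • ⟨w₁ + (-⟪f, w₁⟫) • e, hmem₁⟩ := by
    intro a h
    have h1 : w₂ + (-⟪f, w₂⟫) • e = a • (w₁ + (-⟪f, w₁⟫) • e) := congrArg Subtype.val h
    apply hind₂ a (⟪f, w₂⟫ - a * ⟪f, w₁⟫)
    linear_combination (norm := module) h1
  obtain ⟨u, hu, hu₁, hu₂⟩ := exists_common_partner (restrictQ Q (perp2 Q e f))
    (perp2_nondeg Q hQ he hf hef) hne hsing₁ hsing₂ horth hind
  rw [polar_restrictQ] at hu₁ hu₂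
  have heu := ((mem_perp2 Q).mp u.2).1
  have hue : ⟪(u : V), e⟫ = 0 := by rw [QuadraticMap.polar_comm]; exact heu
  have hu₁' : ⟪(u : V), w₁ + (-⟪f, w₁⟫) • e⟫ = 1 := hu₁
  have hu₂' : ⟪(u : V), w₂ + (-⟪f, w₂⟫) • e⟫ = 1 := hu₂
  refine ⟨u, hu, heu, ?_, ?_⟩
  · rw [QuadraticMap.polar_add_right, QuadraticMap.polar_smul_right, hue] at hu₁'
    simpa using hu₁'
  · rw [QuadraticMap.polar_add_right, QuadraticMap.polar_smul_right, hue] at hu₂'
    simpa using hu₂'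

end Basic

section Finite

variable {F V : Type*} [Field F] [Finite F] [AddCommGroup V] [Module F V] [FiniteDimensional F V]
  (Q : QuadraticForm F V)

local notation "⟪" x ", " y "⟫" => QuadraticMap.polar (DFunLike.coe Q) x y

theorem exists_singular_perp2 (hQ : (QuadraticMap.polarBilin Q).Nondegenerate) {e f : V}
    (he : Q e = 0) (hf : Q f = 0) (hef : ⟪e, f⟫ = 1) (hd : 5 ≤ finrank F V) :
    ∃ z, z ≠ 0 ∧ Q z = 0 ∧ ⟪e, z⟫ = 0 ∧ ⟪f, z⟫ = 0 := by
  have hnd := perp2_nondeg Q hQ he hf hef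
  have hdim := finrank_perp2 Q he hf hef
  obtain ⟨z, hz0, hz⟩ := exists_singular_of_three_le (restrictQ Q (perp2 Q e f)) hnd (by omega)
  refine ⟨z, ?_, hz, ((mem_perp2 Q).mp z.2).1, ((mem_perp2 Q).mp z.2).2⟩
  intro h
  exact hz0 (Subtype.ext h)

/-- Two non-orthogonal singular vectors are both orthogonal to a non-zero singular vector. -/
theorem exists_singular_perp_of_polar_ne (hQ : (QuadraticMap.polarBilin Q).Nondegenerate) {u w : V}
    (hu : Q u = 0) (hw : Q w = 0) (huw : ⟪u, w⟫ ≠ 0) (hd : 5 ≤ finrank F V) :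
    ∃ z, z ≠ 0 ∧ Q z = 0 ∧ ⟪u, z⟫ = 0 ∧ ⟪w, z⟫ = 0 := by
  have hw' : Q ((⟪u, w⟫)⁻¹ • w) = 0 := by rw [QuadraticMap.map_smul, hw, smul_zero]
  have huw' : ⟪u, (⟪u, w⟫)⁻¹ • w⟫ = 1 := by
    rw [QuadraticMap.polar_smul_right, smul_eq_mul, inv_mul_cancel₀ huw]
  obtain ⟨z, hz0, hz, h1, h2⟩ := exists_singular_perp2 Q hQ hu hw' huw' hd
  refine ⟨z, hz0, hz, h1, ?_⟩
  rw [QuadraticMap.polar_smul_left, smul_eq_mul] at h2
  rcases mul_eq_zero.mp h2 with h | h
  · exact absurd h (inv_ne_zero huw)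
  · exact h

/-- A hyperbolic pair orthogonal to a given singular vector. -/
theorem exists_hyp_pair_perp1 (hQ : (QuadraticMap.polarBilin Q).Nondegenerate) {w : V}
    (hw0 : w ≠ 0) (hw : Q w = 0) (hd : 5 ≤ finrank F V) :
    ∃ a b, Q a = 0 ∧ Q b = 0 ∧ ⟪a, b⟫ = 1 ∧ ⟪w, a⟫ = 0 ∧ ⟪w, b⟫ = 0 := by
  obtain ⟨w', hw', hww'⟩ := exists_hyp_partner Q hQ w hw0 hw
  have hnd := perp2_nondeg Q hQ hw hw' hww'
  have hdim := finrank_perp2 Q hw hw' hww'
  obtain ⟨a, ha0, ha⟩ := exists_singular_of_three_le (restrictQ Q (perp2 Q w w')) hnd (by omega)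
  obtain ⟨b, hb, hab⟩ := exists_hyp_partner (restrictQ Q (perp2 Q w w')) hnd a ha0 ha
  rw [polar_restrictQ] at hab
  exact ⟨a, b, ha, hb, hab, ((mem_perp2 Q).mp a.2).1, ((mem_perp2 Q).mp b.2).1⟩

/-- A hyperbolic pair orthogonal to a totally singular pair (Witt index at least 3). -/
theorem exists_hyp_pair_perp (hQ : (QuadraticMap.polarBilin Q).Nondegenerate) {u w : V}
    (hu0 : u ≠ 0) (hu : Q u = 0) (hw : Q w = 0) (huw : ⟪u, w⟫ = 0) (hind : ∀ a : F, w ≠ a • u)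
    (hd : 7 ≤ finrank F V) :
    ∃ a b, Q a = 0 ∧ Q b = 0 ∧ ⟪a, b⟫ = 1 ∧ ⟪u, a⟫ = 0 ∧ ⟪u, b⟫ = 0 ∧ ⟪w, a⟫ = 0 ∧ ⟪w, b⟫ = 0 := by
  obtain ⟨u', hu', huu'⟩ := exists_hyp_partner Q hQ u hu0 hu
  have hu'u : ⟪u', u⟫ = 1 := by rw [QuadraticMap.polar_comm]; exact huu'
  have hnd := perp2_nondeg Q hQ hu hu' huu'
  have hdim := finrank_perp2 Q hu hu' huu'
  set t := ⟪u', w⟫ with ht
  have hmem : w + (-t) • u ∈ perp2 Q u u' := by
    rw [mem_perp2]
    constructor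
    · rw [QuadraticMap.polar_add_right, QuadraticMap.polar_smul_right, polar_self_sing Q hu, huw]
      simp
    · rw [QuadraticMap.polar_add_right, QuadraticMap.polar_smul_right, hu'u, ← ht]
      simp
  have hne : (⟨w + (-t) • u, hmem⟩ : perp2 Q u u') ≠ 0 := by
    intro h
    have h1 : w + (-t) • u = 0 := congrArg Subtype.val h
    apply hind t
    rw [neg_smul] at h1
    exact add_neg_eq_zero.mp h1
  have hsing : restrictQ Q (perp2 Q u u') ⟨w + (-t) • u, hmem⟩ = 0 := by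
    rw [restrictQ_apply]
    show Q (w + (-t) • u) = 0
    rw [QuadraticMap.map_add (⇑Q), QuadraticMap.map_smul, QuadraticMap.polar_smul_right, hu, hw,
      QuadraticMap.polar_comm, huw]
    simp
  obtain ⟨a, b, ha, hb, hab, hwa, hwb⟩ := exists_hyp_pair_perp1 (restrictQ Q (perp2 Q u u')) hnd hne
    hsing (by omega)
  rw [polar_restrictQ] at hab hwa hwb
  have hwa' : ⟪w + (-t) • u, (a : V)⟫ = 0 := hwa
  have hwb' : ⟪w + (-t) • u, (b : V)⟫ = 0 := hwb
  have ha1 := ((mem_perp2 Q).mp a.2).1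
  have hb1 := ((mem_perp2 Q).mp b.2).1
  refine ⟨a, b, ha, hb, hab, ha1, hb1, ?_, ?_⟩
  · rw [QuadraticMap.polar_add_left, QuadraticMap.polar_smul_left, ha1] at hwa'
    simpa using hwa'
  · rw [QuadraticMap.polar_add_left, QuadraticMap.polar_smul_left, hb1] at hwb'
    simpa using hwb'

/-- Two non-orthogonal singular vectors in `e^⊥` are both orthogonal to a singular vector of `e^⊥`
off the line of `e`. -/
theorem exists_singular_perp3 (hQ : (QuadraticMap.polarBilin Q).Nondegenerate) {e w₁ w₂ : V}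
    (he0 : e ≠ 0) (he : Q e = 0) (hw₁ : Q w₁ = 0) (hw₂ : Q w₂ = 0) (hew₁ : ⟪e, w₁⟫ = 0)
    (hew₂ : ⟪e, w₂⟫ = 0) (hw : ⟪w₁, w₂⟫ ≠ 0) (hd : 7 ≤ finrank F V) :
    ∃ z, Q z = 0 ∧ ⟪e, z⟫ = 0 ∧ ⟪w₁, z⟫ = 0 ∧ ⟪w₂, z⟫ = 0 ∧ ∀ a : F, z ≠ a • e := by
  obtain ⟨f, hf, hef⟩ := exists_hyp_partner Q hQ e he0 he
  have hfe : ⟪f, e⟫ = 1 := by rw [QuadraticMap.polar_comm]; exact hef
  have hmem₁ := projE_mem_perp2 Q (f := f) he hef hew₁
  have hmem₂ := projE_mem_perp2 Q (f := f) he hef hew₂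
  have hnd := perp2_nondeg Q hQ he hf hef
  have hdim := finrank_perp2 Q he hf hef
  have hsing₁ : restrictQ Q (perp2 Q e f) ⟨w₁ + (-⟪f, w₁⟫) • e, hmem₁⟩ = 0 :=
    projE_sing Q he hw₁ hew₁ _
  have hsing₂ : restrictQ Q (perp2 Q e f) ⟨w₂ + (-⟪f, w₂⟫) • e, hmem₂⟩ = 0 :=
    projE_sing Q he hw₂ hew₂ _
  have hw₁e : ⟪w₁, e⟫ = 0 := by rw [QuadraticMap.polar_comm]; exact hew₁
  have hne : QuadraticMap.polar (⇑(restrictQ Q (perp2 Q e f))) ⟨w₁ + (-⟪f, w₁⟫) • e, hmem₁⟩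
      ⟨w₂ + (-⟪f, w₂⟫) • e, hmem₂⟩ ≠ 0 := by
    rw [polar_restrictQ]
    show ⟪w₁ + (-⟪f, w₁⟫) • e, w₂ + (-⟪f, w₂⟫) • e⟫ ≠ 0
    simp only [QuadraticMap.polar_add_left, QuadraticMap.polar_add_right, QuadraticMap.polar_smul_left,
      QuadraticMap.polar_smul_right, hw₁e, hew₂, polar_self_sing Q he]
    simpa using hw
  obtain ⟨z, hz0, hz, hz₁, hz₂⟩ := exists_singular_perp_of_polar_ne (restrictQ Q (perp2 Q e f)) hnd
    hsing₁ hsing₂ hne (by omega)
  rw [polar_restrictQ] at hz₁ hz₂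
  obtain ⟨hez, hfz⟩ := (mem_perp2 Q).mp z.2
  have hz₁' : ⟪w₁ + (-⟪f, w₁⟫) • e, (z : V)⟫ = 0 := hz₁
  have hz₂' : ⟪w₂ + (-⟪f, w₂⟫) • e, (z : V)⟫ = 0 := hz₂
  refine ⟨z, hz, hez, ?_, ?_, ?_⟩
  · rw [QuadraticMap.polar_add_left, QuadraticMap.polar_smul_left, hez] at hz₁'
    simpa using hz₁'
  · rw [QuadraticMap.polar_add_left, QuadraticMap.polar_smul_left, hez] at hz₂'
    simpa using hz₂'
  · intro a h
    rw [h, QuadraticMap.polar_smul_right, hfe, smul_eq_mul, mul_one] at hfz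
    rw [hfz, zero_smul] at h
    exact hz0 (Subtype.ext h)

end Finite

end Cfsg.Agent.Lib.helper7.QGeom
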