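/-
helper7: long root elements (Siegel transformations `siegelMatrix Q u v c`, `u, v` singular and orthogonal)
in the isometry group of a quadratic form on `ι → F` with non-degenerate polar form, and the subgroup
they generate.
-/
import Mathlib
import Cfsg.Agent.Lib.helper17.Quad3
import Cfsg.Agent.Lib.helper7.QGeom

set_option autoImplicit false

namespace Cfsg.Agent.Lib.helper7.RootElt

open Matrix Cfsg Cfsg.Agent.Lib.helper17
open scoped commutatorElement

section

variable {ι : Type} [Fintype ι] [DecidableEq ι] {F : Type*} [Field F] (Q : QuadraticForm F (ι → F))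

local notation "⟪" x ", " y "⟫" => QuadraticMap.polar (DFunLike.coe Q) x y

/-- the action of the isometry group on vectors, as a monoid hom to the endomorphism ring -/
def act : ↥(isometryGroup F ⇑Q) →* Module.End F (ι → F) where
  toFun g := Matrix.mulVecLin ((g : Matrix.GeneralLinearGroup ι F) : Matrix ι ι F)
  map_one' := by
    show Matrix.mulVecLin (1 : Matrix ι ι F) = 1
    rw [Matrix.mulVecLin_one]; rfl
  map_mul' g h := by
    show Matrix.mulVecLin (((g : Matrix.GeneralLinearGroup ι F) : Matrix ι ι F) *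
      ((h : Matrix.GeneralLinearGroup ι F) : Matrix ι ι F)) = _
    rw [Matrix.mulVecLin_mul]; rfl

theorem act_apply (g : ↥(isometryGroup F ⇑Q)) (x : ι → F) :
    act Q g x = ((g : Matrix.GeneralLinearGroup ι F) : Matrix ι ι F) *ᵥ x := rfl

theorem act_mul (g h : ↥(isometryGroup F ⇑Q)) (x : ι → F) : act Q (g * h) x = act Q g (act Q h x) := by
  rw [map_mul]; rfl

theorem act_one (x : ι → F) : act Q 1 x = x := by
  rw [map_one]; rfl

theorem act_inv_act (g : ↥(isometryGroup F ⇑Q)) (x : ι → F) : act Q g⁻¹ (act Q g x) = x := by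
  rw [← act_mul, inv_mul_cancel, act_one]

theorem act_act_inv (g : ↥(isometryGroup F ⇑Q)) (x : ι → F) : act Q g (act Q g⁻¹ x) = x := by
  rw [← act_mul, mul_inv_cancel, act_one]

theorem Q_act (g : ↥(isometryGroup F ⇑Q)) (x : ι → F) : Q (act Q g x) = Q x :=
  (mem_isometryGroup_iff _ _).mp g.2 x

theorem polar_act (g : ↥(isometryGroup F ⇑Q)) (x y : ι → F) : ⟪act Q g x, act Q g y⟫ = ⟪x, y⟫ :=
  polar_mulVec_of_isometry Q _ ((mem_isometryGroup_iff _ _).mp g.2) x y

theorem polar_act_left (g : ↥(isometryGroup F ⇑Q)) (x y : ι → F) : ⟪act Q g x, y⟫ = ⟪x, act Q g⁻¹ y⟫ := by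
  rw [← polar_act Q g x (act Q g⁻¹ y), act_act_inv]

theorem polar_act_right (g : ↥(isometryGroup F ⇑Q)) (x y : ι → F) : ⟪x, act Q g y⟫ = ⟪act Q g⁻¹ x, y⟫ := by
  rw [← polar_act Q g (act Q g⁻¹ x) y, act_act_inv]

theorem act_ext {g h : ↥(isometryGroup F ⇑Q)} (H : ∀ x, act Q g x = act Q h x) : g = h := by
  apply Subtype.ext
  apply Units.ext
  rw [Matrix.ext_iff_mulVec]
  exact H

theorem act_eq_zero_iff (g : ↥(isometryGroup F ⇑Q)) (x : ι → F) : act Q g x = 0 ↔ x = 0 := by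
  constructor
  · intro h
    have := act_inv_act Q g x
    rw [h, map_zero] at this
    exact this.symm
  · rintro rfl
    exact map_zero _

variable (hQ : (QuadraticMap.polarBilin Q).Nondegenerate)

theorem siegel_preserves {u v : ι → F} (hu : Q u = 0) (hv : Q v = 0) (huv : ⟪u, v⟫ = 0) (c : F)
    (x : ι → F) : Q (siegelMatrix ⇑Q u v c *ᵥ x) = Q x := by
  have hvu : ⟪v, u⟫ = 0 := by rw [QuadraticMap.polar_comm]; exact huv
  rw [siegelMatrix_mulVec, ← add_assoc, QGeom.Q_add3, hu, hv, hvu, QuadraticMap.polar_comm (⇑Q) x v,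
    QuadraticMap.polar_comm (⇑Q) x u]
  ring

open Classical in
/-- the root element `x ↦ x + c f(u,x) v - c f(v,x) u` for `u, v` singular and orthogonal (`1` otherwise) -/
noncomputable def rootElt (u v : ι → F) (c : F) : ↥(isometryGroup F ⇑Q) :=
  if h : Q u = 0 ∧ Q v = 0 ∧ ⟪u, v⟫ = 0 then
    isomOfMatrix Q hQ (siegelMatrix ⇑Q u v c) (siegel_preserves Q h.1 h.2.1 h.2.2 c)
  else 1

theorem rootElt_coe {u v : ι → F} (hu : Q u = 0) (hv : Q v = 0) (huv : ⟪u, v⟫ = 0) (c : F) :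
    ((rootElt Q hQ u v c : Matrix.GeneralLinearGroup ι F) : Matrix ι ι F) = siegelMatrix ⇑Q u v c := by
  unfold rootElt
  rw [dif_pos ⟨hu, hv, huv⟩]
  rfl

theorem rootElt_act {u v : ι → F} (hu : Q u = 0) (hv : Q v = 0) (huv : ⟪u, v⟫ = 0) (c : F)
    (x : ι → F) :
    act Q (rootElt Q hQ u v c) x = x + (c * ⟪u, x⟫) • v + (-(c * ⟪v, x⟫)) • u := by
  rw [act_apply, rootElt_coe Q hQ hu hv huv, siegelMatrix_mulVec, add_assoc]

/-- the set of root elements -/
def rootSet : Set ↥(isometryGroup F ⇑Q) :=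
  {g | ∃ (u v : ι → F) (c : F), Q u = 0 ∧ Q v = 0 ∧ QuadraticMap.polar ⇑Q u v = 0 ∧
    ((g : Matrix.GeneralLinearGroup ι F) : Matrix ι ι F) = Cfsg.siegelMatrix ⇑Q u v c}

/-- the subgroup generated by the root elements -/
def rootSubgroup : Subgroup ↥(isometryGroup F ⇑Q) := Subgroup.closure (rootSet Q)

theorem rootElt_mem_rootSet {u v : ι → F} (hu : Q u = 0) (hv : Q v = 0) (huv : ⟪u, v⟫ = 0) (c : F) :
    rootElt Q hQ u v c ∈ rootSet Q :=
  ⟨u, v, c, hu, hv, huv, rootElt_coe Q hQ hu hv huv c⟩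

theorem rootElt_mem {u v : ι → F} (hu : Q u = 0) (hv : Q v = 0) (huv : ⟪u, v⟫ = 0) (c : F) :
    rootElt Q hQ u v c ∈ rootSubgroup Q :=
  Subgroup.subset_closure (rootElt_mem_rootSet Q hQ hu hv huv c)

theorem eq_rootElt_of_mem_rootSet {g : ↥(isometryGroup F ⇑Q)} (hg : g ∈ rootSet Q) :
    ∃ (u v : ι → F) (c : F), Q u = 0 ∧ Q v = 0 ∧ ⟪u, v⟫ = 0 ∧ g = rootElt Q hQ u v c := by
  obtain ⟨u, v, c, hu, hv, huv, h⟩ := hg
  refine ⟨u, v, c, hu, hv, huv, ?_⟩
  apply Subtype.ext
  apply Units.ext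
  rw [h, rootElt_coe Q hQ hu hv huv]

/-- conjugating a root element -/
theorem conj_rootElt (g : ↥(isometryGroup F ⇑Q)) {u v : ι → F} (hu : Q u = 0) (hv : Q v = 0)
    (huv : ⟪u, v⟫ = 0) (c : F) :
    g * rootElt Q hQ u v c * g⁻¹ = rootElt Q hQ (act Q g u) (act Q g v) c := by
  have hu' : Q (act Q g u) = 0 := by rw [Q_act, hu]
  have hv' : Q (act Q g v) = 0 := by rw [Q_act, hv]
  have huv' : ⟪act Q g u, act Q g v⟫ = 0 := by rw [polar_act, huv]
  apply act_ext
  intro x
  rw [act_mul, act_mul, rootElt_act Q hQ hu hv huv, rootElt_act Q hQ hu' hv' huv', map_add, map_add,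
    map_smul, map_smul, act_act_inv, polar_act_left, polar_act_left]

include hQ in
theorem rootSubgroup_normal : (rootSubgroup Q).Normal := by
  constructor
  intro n hn g
  unfold rootSubgroup at hn ⊢
  induction hn using Subgroup.closure_induction with
  | mem x hx =>
    obtain ⟨u, v, c, hu, hv, huv, rfl⟩ := eq_rootElt_of_mem_rootSet Q hQ hx
    rw [conj_rootElt Q hQ g hu hv huv]
    exact rootElt_mem Q hQ (by rw [Q_act, hu]) (by rw [Q_act, hv]) (by rw [polar_act, huv]) c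
  | one => simp
  | mul x y _ _ hx hy =>
    have : g * (x * y) * g⁻¹ = (g * x * g⁻¹) * (g * y * g⁻¹) := by group
    rw [this]
    exact Subgroup.mul_mem _ hx hy
  | inv x _ hx =>
    have : g * x⁻¹ * g⁻¹ = (g * x * g⁻¹)⁻¹ := by group
    rw [this]
    exact Subgroup.inv_mem _ hx

theorem rootElt_eq_one_of_zero (v : ι → F) (c : F) : rootElt Q hQ 0 v c = 1 := by
  by_cases h : Q (0 : ι → F) = 0 ∧ Q v = 0 ∧ ⟪(0 : ι → F), v⟫ = 0
  · apply act_ext
    intro x
    rw [rootElt_act Q hQ h.1 h.2.1 h.2.2, act_one]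
    simp
  · unfold rootElt
    rw [dif_neg h]

theorem rootElt_eq_one_of_smul (u : ι → F) (a c : F) : rootElt Q hQ u (a • u) c = 1 := by
  by_cases h : Q u = 0 ∧ Q (a • u) = 0 ∧ ⟪u, a • u⟫ = 0
  · apply act_ext
    intro x
    rw [rootElt_act Q hQ h.1 h.2.1 h.2.2, act_one, QuadraticMap.polar_smul_left, smul_eq_mul]
    module
  · unfold rootElt
    rw [dif_neg h]

/-- the commutator relation making the root subgroup perfect -/
theorem commutator_rootElt {u a w b : ι → F} (hu : Q u = 0) (ha : Q a = 0) (hw : Q w = 0) (hb : Q b = 0)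
    (hua : ⟪u, a⟫ = 0) (hwb : ⟪w, b⟫ = 0) (huw : ⟪u, w⟫ = 0) (hub : ⟪u, b⟫ = 0) (hwa : ⟪w, a⟫ = 0)
    (hab : ⟪a, b⟫ = 1) (c : F) :
    ⁅rootElt Q hQ u a c, rootElt Q hQ w b 1⁆ = rootElt Q hQ u w c := by
  have haw : ⟪a, w⟫ = 0 := by rw [QuadraticMap.polar_comm]; exact hwa
  have hbu : ⟪b, u⟫ = 0 := by rw [QuadraticMap.polar_comm]; exact hub
  have hwu : ⟪w, u⟫ = 0 := by rw [QuadraticMap.polar_comm]; exact huw
  have hbw : ⟪b, w⟫ = 0 := by rw [QuadraticMap.polar_comm]; exact hwb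
  have e1 : act Q (rootElt Q hQ u a c) w = w := by
    rw [rootElt_act Q hQ hu ha hua, huw, haw]
    simp
  have e2 : act Q (rootElt Q hQ u a c) b = b + (-c) • u := by
    rw [rootElt_act Q hQ hu ha hua, hub, hab]
    simp
  have hb' : Q (b + (-c) • u) = 0 := by
    rw [QuadraticMap.map_add (⇑Q), QuadraticMap.map_smul, QuadraticMap.polar_smul_right, hb, hu, hbu]
    simp
  have hwb' : ⟪w, b + (-c) • u⟫ = 0 := by
    rw [QuadraticMap.polar_add_right, QuadraticMap.polar_smul_right, hwb, hwu]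
    simp
  have key : rootElt Q hQ u a c * rootElt Q hQ w b 1 * (rootElt Q hQ u a c)⁻¹ =
      rootElt Q hQ u w c * rootElt Q hQ w b 1 := by
    rw [conj_rootElt Q hQ _ hw hb hwb, e1, e2]
    apply act_ext
    intro x
    rw [act_mul, rootElt_act Q hQ hw hb' hwb', rootElt_act Q hQ hw hb hwb, rootElt_act Q hQ hu hw huw]
    simp only [QuadraticMap.polar_add_left, QuadraticMap.polar_add_right, QuadraticMap.polar_smul_left,
      QuadraticMap.polar_smul_right, smul_eq_mul, hub, huw, hwu, hwb, QGeom.polar_self_sing Q hw,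
      QGeom.polar_self_sing Q hu]
    module
  rw [commutatorElement_def, key]
  group

end

end Cfsg.Agent.Lib.helper7.RootElt
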