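/-
helper7: transitivity properties of the subgroup generated by the long root elements
(on singular vectors, hyperbolic pairs, vectors of a given norm; rank-3 transitivity inside a point
stabiliser), and the inclusion `[O(Q), O(Q)] ≤ ⟨root elements⟩`.
-/
import Mathlib
import Cfsg.Agent.Lib.helper17.CartanDieudonne
import Cfsg.Agent.Lib.helper7.RootElt

set_option autoImplicit false

namespace Cfsg.Agent.Lib.helper7.RootElt

open Matrix Cfsg Cfsg.Agent.Lib.helper17 Cfsg.Agent.Lib.helper49 Module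
open scoped commutatorElement

section

variable {ι : Type} [Fintype ι] [DecidableEq ι] {F : Type*} [Field F] [Finite F]
  (Q : QuadraticForm F (ι → F)) (hQ : (QuadraticMap.polarBilin Q).Nondegenerate)

local notation "⟪" x ", " y "⟫" => QuadraticMap.polar (DFunLike.coe Q) x y

include hQ

/-- The root group at `e` is transitive on the hyperbolic partners of `e`. -/
theorem exists_fix_move_partner (hd : 5 ≤ Fintype.card ι) {e f f' : ι → F} (he : Q e = 0)
    (hf : Q f = 0) (hf' : Q f' = 0) (hef : ⟪e, f⟫ = 1) (hef' : ⟪e, f'⟫ = 1) :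
    ∃ s ∈ rootSubgroup Q, act Q s e = e ∧ act Q s f = f' := by
  have hnd := QGeom.perp2_nondeg Q hQ he hf hef
  have hdim := QGeom.finrank_perp2 Q he hf hef
  rw [Module.finrank_fintype_fun_eq_card] at hdim
  have hfe : ⟪f, e⟫ = 1 := by rw [QuadraticMap.polar_comm]; exact hef
  have hf'e : ⟪f', e⟫ = 1 := by rw [QuadraticMap.polar_comm]; exact hef'
  obtain ⟨z, hz0, hz⟩ := exists_singular_of_three_le (restrictQ Q (QGeom.perp2 Q e f)) hnd (by omega)
  have key : ∀ v : QGeom.perp2 Q e f, ∃ s ∈ rootSubgroup Q, act Q s e = e ∧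
      act Q s f = f + (-1 : F) • (v : ι → F) + (-(Q (v : ι → F))) • e := by
    intro v
    refine QGeom.sum_singular_induction (restrictQ Q (QGeom.perp2 Q e f)) hnd hz0 hz
      (fun v => ∃ s ∈ rootSubgroup Q, act Q s e = e ∧
        act Q s f = f + (-1 : F) • (v : ι → F) + (-(Q (v : ι → F))) • e) ?_ ?_ v
    · refine ⟨1, Subgroup.one_mem _, act_one Q e, ?_⟩
      rw [act_one]
      simp
    · rintro v s ⟨t, ht, hte, htf⟩ hs
      have hs' : Q (s : ι → F) = 0 := hs
      obtain ⟨hes, hfs⟩ := (QGeom.mem_perp2 Q).mp s.2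
      obtain ⟨hev, hfv⟩ := (QGeom.mem_perp2 Q).mp v.2
      have hse : ⟪(s : ι → F), e⟫ = 0 := by rw [QuadraticMap.polar_comm]; exact hes
      have hsf : ⟪(s : ι → F), f⟫ = 0 := by rw [QuadraticMap.polar_comm]; exact hfs
      refine ⟨rootElt Q hQ e s (-1) * t, Subgroup.mul_mem _ (rootElt_mem Q hQ he hs' hes (-1)) ht,
        ?_, ?_⟩
      · rw [act_mul, hte, rootElt_act Q hQ he hs' hes, QGeom.polar_self_sing Q he, hse]
        simp
      · rw [act_mul, htf, rootElt_act Q hQ he hs' hes]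
        simp only [QuadraticMap.polar_add_right, QuadraticMap.polar_smul_right, smul_eq_mul, hef, hev,
          QGeom.polar_self_sing Q he, hse, hsf, Submodule.coe_add, QuadraticMap.map_add (⇑Q), hs']
        rw [QuadraticMap.polar_comm (⇑Q) (v : ι → F) (s : ι → F)]
        module
  have hmem : f + (-1 : F) • f' + ⟪f, f'⟫ • e ∈ QGeom.perp2 Q e f := by
    rw [QGeom.mem_perp2]
    constructor
    · simp only [QuadraticMap.polar_add_right, QuadraticMap.polar_smul_right, smul_eq_mul, hef, hef',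
        QGeom.polar_self_sing Q he]
      ring
    · simp only [QuadraticMap.polar_add_right, QuadraticMap.polar_smul_right, smul_eq_mul, hfe,
        QGeom.polar_self_sing Q hf]
      ring
  obtain ⟨s, hs, hse, hsf⟩ := key ⟨_, hmem⟩
  refine ⟨s, hs, hse, ?_⟩
  rw [hsf]
  have hq : Q (f + (-1 : F) • f' + ⟪f, f'⟫ • e) = -⟪f, f'⟫ := by
    rw [QGeom.Q_add3, hf, hf', he, hfe, hf'e]
    ring
  show f + (-1 : F) • (f + (-1 : F) • f' + ⟪f, f'⟫ • e) + (-(Q (f + (-1 : F) • f' + ⟪f, f'⟫ • e))) • e = f'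
  rw [hq]
  module

/-- one step: two orthogonal independent singular vectors are conjugate under a root element -/
theorem exists_move_singular_step {f f' : ι → F} (hf0 : f ≠ 0) (hf : Q f = 0) (hf' : Q f' = 0)
    (hff' : ⟪f, f'⟫ = 0) (hind : ∀ a : F, f' ≠ a • f) :
    ∃ s ∈ rootSubgroup Q, act Q s f = f' := by
  obtain ⟨u, hu, huf, huf'⟩ := QGeom.exists_common_partner Q hQ hf0 hf hf' hff' hind
  have hf'f : ⟪f', f⟫ = 0 := by rw [QuadraticMap.polar_comm]; exact hff'
  have h1 : Q (f' + (-1 : F) • f) = 0 := by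
    rw [QuadraticMap.map_add (⇑Q), QuadraticMap.map_smul, QuadraticMap.polar_smul_right, hf, hf', hf'f]
    simp
  have h2 : ⟪u, f' + (-1 : F) • f⟫ = 0 := by
    rw [QuadraticMap.polar_add_right, QuadraticMap.polar_smul_right, huf, huf']
    simp
  refine ⟨rootElt Q hQ u (f' + (-1 : F) • f) 1, rootElt_mem Q hQ hu h1 h2 1, ?_⟩
  rw [rootElt_act Q hQ hu h1 h2, huf, QuadraticMap.polar_add_left, QuadraticMap.polar_smul_left, hf'f,
    QGeom.polar_self_sing Q hf]
  module

/-- The root subgroup is transitive on non-zero singular vectors. -/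
theorem exists_move_singular (hd : 5 ≤ Fintype.card ι) {f f' : ι → F} (hf0 : f ≠ 0) (hf'0 : f' ≠ 0)
    (hf : Q f = 0) (hf' : Q f' = 0) : ∃ s ∈ rootSubgroup Q, act Q s f = f' := by
  have hdim : 5 ≤ finrank F (ι → F) := by rw [Module.finrank_fintype_fun_eq_card]; exact hd
  by_cases h : ⟪f, f'⟫ = 0
  · by_cases h' : ∃ a : F, f' = a • f
    · obtain ⟨a, rfl⟩ := h'
      have ha : a ≠ 0 := by
        rintro rfl
        exact hf'0 (zero_smul _ _)
      obtain ⟨g, hg, hfg⟩ := exists_hyp_partner Q hQ f hf0 hf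
      have hgf : ⟪g, f⟫ = 1 := by rw [QuadraticMap.polar_comm]; exact hfg
      obtain ⟨z, hz0, hz, hfz, hgz⟩ := QGeom.exists_singular_perp2 Q hQ hf hg hfg hdim
      obtain ⟨s₁, hs₁, h₁⟩ := exists_move_singular_step Q hQ hf0 hf hz hfz (by
        intro b hb
        rw [hb, QuadraticMap.polar_smul_right, hgf, smul_eq_mul, mul_one] at hgz
        rw [hgz, zero_smul] at hb
        exact hz0 hb)
      obtain ⟨s₂, hs₂, h₂⟩ := exists_move_singular_step Q hQ hz0 hz hf' (by
        rw [QuadraticMap.polar_smul_right, QuadraticMap.polar_comm, hfz, smul_zero]) (by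
        intro b hb
        have h3 := congrArg (fun x => ⟪g, x⟫) hb
        simp only [QuadraticMap.polar_smul_right, hgf, hgz, smul_eq_mul, mul_one, mul_zero] at h3
        exact ha h3)
      exact ⟨s₂ * s₁, Subgroup.mul_mem _ hs₂ hs₁, by rw [act_mul, h₁, h₂]⟩
    · push Not at h'
      exact exists_move_singular_step Q hQ hf0 hf hf' h h'
  · obtain ⟨z, hz0, hz, hfz, hf'z⟩ := QGeom.exists_singular_perp_of_polar_ne Q hQ hf hf' h hdim
    have hf'f : ⟪f', f⟫ ≠ 0 := by rw [QuadraticMap.polar_comm]; exact h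
    obtain ⟨s₁, hs₁, h₁⟩ := exists_move_singular_step Q hQ hf0 hf hz hfz (by
      intro b hb
      rw [hb, QuadraticMap.polar_smul_right, smul_eq_mul] at hf'z
      rcases mul_eq_zero.mp hf'z with h3 | h3
      · rw [h3, zero_smul] at hb
        exact hz0 hb
      · exact hf'f h3)
    obtain ⟨s₂, hs₂, h₂⟩ := exists_move_singular_step Q hQ hz0 hz hf' (by
      rw [QuadraticMap.polar_comm]; exact hf'z) (by
      intro b hb
      rw [hb, QuadraticMap.polar_smul_right, hfz, smul_zero] at h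
      exact h rfl)
    exact ⟨s₂ * s₁, Subgroup.mul_mem _ hs₂ hs₁, by rw [act_mul, h₁, h₂]⟩

/-- The root subgroup is transitive on hyperbolic pairs. -/
theorem exists_move_hyp_pair (hd : 5 ≤ Fintype.card ι) {e f e' f' : ι → F} (he : Q e = 0)
    (hf : Q f = 0) (hef : ⟪e, f⟫ = 1) (he' : Q e' = 0) (hf' : Q f' = 0) (hef' : ⟪e', f'⟫ = 1) :
    ∃ s ∈ rootSubgroup Q, act Q s e = e' ∧ act Q s f = f' := by
  have he0 : e ≠ 0 := by
    rintro rfl
    rw [QuadraticMap.polar_zero_left] at hef
    exact zero_ne_one hef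
  have he'0 : e' ≠ 0 := by
    rintro rfl
    rw [QuadraticMap.polar_zero_left] at hef'
    exact zero_ne_one hef'
  obtain ⟨s₁, hs₁, h₁⟩ := exists_move_singular Q hQ hd he0 he'0 he he'
  obtain ⟨s₂, hs₂, h₂, h₃⟩ := exists_fix_move_partner Q hQ hd he' (f := act Q s₁ f) (f' := f')
    (by rw [Q_act, hf]) hf' (by rw [← h₁, polar_act, hef]) hef'
  exact ⟨s₂ * s₁, Subgroup.mul_mem _ hs₂ hs₁, by rw [act_mul, h₁, h₂], by rw [act_mul, h₃]⟩

/-- The root subgroup is transitive on the vectors of a given non-zero norm. -/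
theorem exists_move_of_Q_eq (hd : 5 ≤ Fintype.card ι) {a a' : ι → F} (ha : Q a ≠ 0)
    (haa' : Q a' = Q a) : ∃ s ∈ rootSubgroup Q, act Q s a = a' := by
  have hdim : 3 ≤ finrank F (ι → F) := by rw [Module.finrank_fintype_fun_eq_card]; omega
  obtain ⟨z, hz0, hz⟩ := exists_singular_of_three_le Q hQ hdim
  have ha0 : a ≠ 0 := by
    rintro rfl
    exact ha (map_zero _)
  have ha'0 : a' ≠ 0 := by
    rintro rfl
    rw [map_zero] at haa'
    exact ha haa'.symm
  obtain ⟨e, he, hea⟩ := QGeom.exists_singular_polar_eq_one Q hQ hz0 hz ha0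
  obtain ⟨e', he', hea'⟩ := QGeom.exists_singular_polar_eq_one Q hQ hz0 hz ha'0
  have hae : ⟪a, e⟫ = 1 := by rw [QuadraticMap.polar_comm]; exact hea
  have ha'e' : ⟪a', e'⟫ = 1 := by rw [QuadraticMap.polar_comm]; exact hea'
  have hf : Q (a + (-(Q a)) • e) = 0 := by
    rw [QuadraticMap.map_add (⇑Q), QuadraticMap.map_smul, QuadraticMap.polar_smul_right, he, hae]
    simp
  have hf' : Q (a' + (-(Q a)) • e') = 0 := by
    rw [QuadraticMap.map_add (⇑Q), QuadraticMap.map_smul, QuadraticMap.polar_smul_right, he', ha'e',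
      haa']
    simp
  have hef : ⟪e, a + (-(Q a)) • e⟫ = 1 := by
    rw [QuadraticMap.polar_add_right, QuadraticMap.polar_smul_right, QGeom.polar_self_sing Q he, hea]
    simp
  have hef' : ⟪e', a' + (-(Q a)) • e'⟫ = 1 := by
    rw [QuadraticMap.polar_add_right, QuadraticMap.polar_smul_right, QGeom.polar_self_sing Q he', hea']
    simp
  obtain ⟨s, hs, h₁, h₂⟩ := exists_move_hyp_pair Q hQ hd he hf hef he' hf' hef'
  refine ⟨s, hs, ?_⟩
  have h3 : a = (a + (-(Q a)) • e) + (Q a) • e := by module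
  rw [h3, map_add, map_smul, h₁, h₂]
  module

end

end Cfsg.Agent.Lib.helper7.RootElt

namespace Cfsg.Agent.Lib.helper7.RootElt

open Matrix Cfsg Cfsg.Agent.Lib.helper17 Cfsg.Agent.Lib.helper49 Module
open scoped commutatorElement

section

variable {ι : Type} [Fintype ι] [DecidableEq ι] {F : Type*} [Field F] [Finite F]
  (Q : QuadraticForm F (ι → F)) (hQ : (QuadraticMap.polarBilin Q).Nondegenerate)

local notation "⟪" x ", " y "⟫" => QuadraticMap.polar (DFunLike.coe Q) x y

omit [Finite F] in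
theorem reflectionIsom_act {v : ι → F} (hv : Q v ≠ 0) (x : ι → F) :
    act Q (reflectionIsom Q v hv) x = x + (-((Q v)⁻¹ * ⟪v, x⟫)) • v := by
  rw [act_apply, reflectionIsom_coe, reflectionMatrix_mulVec]

omit [Finite F] in
theorem conj_reflectionIsom (g : ↥(isometryGroup F ⇑Q)) {v : ι → F} (hv : Q v ≠ 0)
    (hv' : Q (act Q g v) ≠ 0) :
    g * reflectionIsom Q v hv * g⁻¹ = reflectionIsom Q (act Q g v) hv' := by
  apply act_ext
  intro x
  rw [act_mul, act_mul, reflectionIsom_act, reflectionIsom_act, map_add, map_smul, act_act_inv,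
    polar_act_left, Q_act]

include hQ

/-- The commutator subgroup of the isometry group lies in the root subgroup, when the reflections
generate the isometry group. -/
theorem commutator_le_rootSubgroup (hd : 5 ≤ Fintype.card ι) (hgen : reflSubgroup Q = ⊤) :
    commutator ↥(isometryGroup F ⇑Q) ≤ rootSubgroup Q := by
  haveI := rootSubgroup_normal Q hQ
  have hcen : ∀ x : ↥(isometryGroup F ⇑Q),
      (x : ↥(isometryGroup F ⇑Q) ⧸ rootSubgroup Q) ∈
        Subgroup.center (↥(isometryGroup F ⇑Q) ⧸ rootSubgroup Q) := by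
    intro x
    have hx : x ∈ reflSubgroup Q := by rw [hgen]; trivial
    unfold reflSubgroup at hx
    induction hx using Subgroup.closure_induction with
    | mem x hx =>
      obtain ⟨v, hv, rfl⟩ := hx
      rw [Subgroup.mem_center_iff]
      intro y
      obtain ⟨g, rfl⟩ := QuotientGroup.mk_surjective y
      rw [← QuotientGroup.mk_mul, ← QuotientGroup.mk_mul, QuotientGroup.eq]
      have hv' : Q (act Q g⁻¹ v) ≠ 0 := by rw [Q_act]; exact hv
      obtain ⟨s, hs, hsv⟩ := exists_move_of_Q_eq Q hQ hd hv (a' := act Q g⁻¹ v) (Q_act Q g⁻¹ v)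
      have h1 : g⁻¹ * reflectionIsom Q v hv * g = s * reflectionIsom Q v hv * s⁻¹ := by
        have e1 := conj_reflectionIsom Q g⁻¹ hv hv'
        rw [inv_inv] at e1
        rw [e1, conj_reflectionIsom Q s hv (by rw [hsv]; exact hv')]
        congr 1
        exact hsv.symm
      have h2 : (g * reflectionIsom Q v hv)⁻¹ * (reflectionIsom Q v hv * g) =
          (reflectionIsom Q v hv)⁻¹ * (g⁻¹ * reflectionIsom Q v hv * g) := by group
      rw [h2, h1]
      have h3 : (reflectionIsom Q v hv)⁻¹ * (s * reflectionIsom Q v hv * s⁻¹) =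
          ((reflectionIsom Q v hv)⁻¹ * s * ((reflectionIsom Q v hv)⁻¹)⁻¹) * s⁻¹ := by group
      rw [h3]
      exact Subgroup.mul_mem _ (Subgroup.Normal.conj_mem inferInstance s hs _) (Subgroup.inv_mem _ hs)
    | one => exact Subgroup.one_mem _
    | mul x y _ _ hx hy =>
      rw [QuotientGroup.mk_mul]
      exact Subgroup.mul_mem _ hx hy
    | inv x _ hx =>
      rw [QuotientGroup.mk_inv]
      exact Subgroup.inv_mem _ hx
  rw [commutator_def, Subgroup.commutator_le]
  intro x _ y _
  rw [← QuotientGroup.eq_one_iff]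
  have h := (Subgroup.mem_center_iff.mp (hcen x)) (y : ↥(isometryGroup F ⇑Q) ⧸ rootSubgroup Q)
  rw [commutatorElement_def, QuotientGroup.mk_mul, QuotientGroup.mk_mul, QuotientGroup.mk_mul,
    QuotientGroup.mk_inv, QuotientGroup.mk_inv, ← h]
  group

end

end Cfsg.Agent.Lib.helper7.RootElt
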