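/-
helper7: the point stabiliser in the root subgroup is a maximal subgroup (rank 3 argument on singular
points), and isometries fixing all singular points are scalar.
-/
import Mathlib
import Cfsg.Agent.Lib.helper7.RootTrans

set_option autoImplicit false

namespace Cfsg.Agent.Lib.helper7.RootElt

open Matrix Cfsg Cfsg.Agent.Lib.helper17 Cfsg.Agent.Lib.helper49 Module
open scoped commutatorElement

section

variable {ι : Type} [Fintype ι] [DecidableEq ι] {F : Type*} [Field F] [Finite F]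
  (Q : QuadraticForm F (ι → F)) (hQ : (QuadraticMap.polarBilin Q).Nondegenerate)

local notation "⟪" x ", " y "⟫" => QuadraticMap.polar (DFunLike.coe Q) x y

include hQ

omit [Finite F] in
/-- one step of the transitivity of the point stabiliser on the singular points of `e^⊥` -/
theorem exists_fix_move_perp_step {e w₁ w₂ : ι → F} (he0 : e ≠ 0) (he : Q e = 0) (hw₁ : Q w₁ = 0)
    (hw₂ : Q w₂ = 0) (hew₁ : ⟪e, w₁⟫ = 0) (hew₂ : ⟪e, w₂⟫ = 0) (hw : ⟪w₁, w₂⟫ = 0)
    (hind₁ : ∀ a : F, w₁ ≠ a • e) (hind₂ : ∀ a b : F, w₂ ≠ a • w₁ + b • e) :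
    ∃ s ∈ rootSubgroup Q, act Q s e = e ∧ act Q s w₁ = w₂ := by
  obtain ⟨u, hu, heu, hu₁, hu₂⟩ := QGeom.exists_common_partner_perp Q hQ he0 he hw₁ hw₂ hew₁ hew₂ hw
    hind₁ hind₂
  have hw₂₁ : ⟪w₂, w₁⟫ = 0 := by rw [QuadraticMap.polar_comm]; exact hw
  have hue : ⟪u, e⟫ = 0 := by rw [QuadraticMap.polar_comm]; exact heu
  have hw₁e : ⟪w₁, e⟫ = 0 := by rw [QuadraticMap.polar_comm]; exact hew₁
  have hw₂e : ⟪w₂, e⟫ = 0 := by rw [QuadraticMap.polar_comm]; exact hew₂
  have h1 : Q (w₂ + (-1 : F) • w₁) = 0 := by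
    rw [QuadraticMap.map_add (⇑Q), QuadraticMap.map_smul, QuadraticMap.polar_smul_right, hw₁, hw₂, hw₂₁]
    simp
  have h2 : ⟪u, w₂ + (-1 : F) • w₁⟫ = 0 := by
    rw [QuadraticMap.polar_add_right, QuadraticMap.polar_smul_right, hu₁, hu₂]
    simp
  refine ⟨rootElt Q hQ u (w₂ + (-1 : F) • w₁) 1, rootElt_mem Q hQ hu h1 h2 1, ?_, ?_⟩
  · rw [rootElt_act Q hQ hu h1 h2, hue, QuadraticMap.polar_add_left, QuadraticMap.polar_smul_left,
      hw₂e, hw₁e]
    simp
  · rw [rootElt_act Q hQ hu h1 h2, hu₁, QuadraticMap.polar_add_left, QuadraticMap.polar_smul_left,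
      hw₂₁, QGeom.polar_self_sing Q hw₁]
    module

/-- The stabiliser of the vector `e` in the root subgroup is transitive on the singular points of
`e^⊥` other than `⟨e⟩`. -/
theorem exists_fix_move_perp (hd : 7 ≤ Fintype.card ι) {e w₁ w₂ : ι → F} (he0 : e ≠ 0) (he : Q e = 0)
    (hw₁ : Q w₁ = 0) (hw₂ : Q w₂ = 0) (hew₁ : ⟪e, w₁⟫ = 0) (hew₂ : ⟪e, w₂⟫ = 0)
    (hind₁ : ∀ a : F, w₁ ≠ a • e) (hind₂ : ∀ a : F, w₂ ≠ a • e) :
    ∃ s ∈ rootSubgroup Q, act Q s e = e ∧ ∃ c : F, c ≠ 0 ∧ act Q s w₁ = c • w₂ := by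
  have hdim : 7 ≤ finrank F (ι → F) := by rw [Module.finrank_fintype_fun_eq_card]; exact hd
  have hw₁e : ⟪w₁, e⟫ = 0 := by rw [QuadraticMap.polar_comm]; exact hew₁
  have hw₂e : ⟪w₂, e⟫ = 0 := by rw [QuadraticMap.polar_comm]; exact hew₂
  by_cases hdep : ∃ a b : F, w₂ = a • w₁ + b • e
  · obtain ⟨a, b, hab⟩ := hdep
    have ha : a ≠ 0 := by
      rintro rfl
      rw [zero_smul, zero_add] at hab
      exact hind₂ b hab
    obtain ⟨v, hv, hev, hvw⟩ := QGeom.exists_partner_perp Q hQ he0 he hw₁ hew₁ hind₁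
    have hve : ⟪v, e⟫ = 0 := by rw [QuadraticMap.polar_comm]; exact hev
    refine ⟨rootElt Q hQ e v (-(a⁻¹ * b)), rootElt_mem Q hQ he hv hev _, ?_, a⁻¹, inv_ne_zero ha, ?_⟩
    · rw [rootElt_act Q hQ he hv hev, QGeom.polar_self_sing Q he, hve]
      simp
    · rw [rootElt_act Q hQ he hv hev, hew₁, hvw, hab, smul_add, smul_smul, inv_mul_cancel₀ ha]
      module
  · push Not at hdep
    by_cases hw : ⟪w₁, w₂⟫ = 0
    · obtain ⟨s, hs, h₁, h₂⟩ := exists_fix_move_perp_step Q hQ he0 he hw₁ hw₂ hew₁ hew₂ hw hind₁ hdep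
      exact ⟨s, hs, h₁, 1, one_ne_zero, by rw [h₂, one_smul]⟩
    · obtain ⟨z, hz, hez, hz₁, hz₂, hzind⟩ := QGeom.exists_singular_perp3 Q hQ he0 he hw₁ hw₂ hew₁ hew₂
        hw hdim
      have hw₂₁ : ⟪w₂, w₁⟫ ≠ 0 := by rw [QuadraticMap.polar_comm]; exact hw
      obtain ⟨s₁, hs₁, h₁, h₁'⟩ := exists_fix_move_perp_step Q hQ he0 he hw₁ hz hew₁ hez hz₁ hind₁ (by
        intro a b hab
        rw [hab, QuadraticMap.polar_add_right, QuadraticMap.polar_smul_right,
          QuadraticMap.polar_smul_right, hw₂e, smul_zero, add_zero, smul_eq_mul] at hz₂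
        rcases mul_eq_zero.mp hz₂ with h3 | h3
        · rw [h3, zero_smul, zero_add] at hab
          exact hzind b hab
        · exact hw₂₁ h3)
      obtain ⟨s₂, hs₂, h₂, h₂'⟩ := exists_fix_move_perp_step Q hQ he0 he hz hw₂ hez hew₂ (by
        rw [QuadraticMap.polar_comm]; exact hz₂) hzind (by
        intro a b hab
        rw [hab, QuadraticMap.polar_add_right, QuadraticMap.polar_smul_right,
          QuadraticMap.polar_smul_right, hz₁, hw₁e, smul_zero, smul_zero, add_zero] at hw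
        exact hw rfl)
      exact ⟨s₂ * s₁, Subgroup.mul_mem _ hs₂ hs₁, by rw [act_mul, h₁, h₂], 1, one_ne_zero,
        by rw [act_mul, h₁', h₂', one_smul]⟩

/-- The stabiliser of the vector `e` in the root subgroup is transitive on the singular points
outside `e^⊥`. -/
theorem exists_fix_move_nonperp (hd : 5 ≤ Fintype.card ι) {e w₁ w₂ : ι → F} (he : Q e = 0)
    (hw₁ : Q w₁ = 0) (hw₂ : Q w₂ = 0) (hew₁ : ⟪e, w₁⟫ ≠ 0) (hew₂ : ⟪e, w₂⟫ ≠ 0) :
    ∃ s ∈ rootSubgroup Q, act Q s e = e ∧ ∃ c : F, c ≠ 0 ∧ act Q s w₁ = c • w₂ := by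
  obtain ⟨s, hs, h₁, h₂⟩ := exists_fix_move_partner Q hQ hd he (f := (⟪e, w₁⟫)⁻¹ • w₁)
    (f' := (⟪e, w₂⟫)⁻¹ • w₂) (by rw [QuadraticMap.map_smul, hw₁, smul_zero])
    (by rw [QuadraticMap.map_smul, hw₂, smul_zero])
    (by rw [QuadraticMap.polar_smul_right, smul_eq_mul, inv_mul_cancel₀ hew₁])
    (by rw [QuadraticMap.polar_smul_right, smul_eq_mul, inv_mul_cancel₀ hew₂])
  refine ⟨s, hs, h₁, ⟪e, w₁⟫ * (⟪e, w₂⟫)⁻¹, mul_ne_zero hew₁ (inv_ne_zero hew₂), ?_⟩
  rw [map_smul] at h₂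
  have h3 : act Q s w₁ = ⟪e, w₁⟫ • ((⟪e, w₁⟫)⁻¹ • act Q s w₁) := by
    rw [smul_smul, mul_inv_cancel₀ hew₁, one_smul]
  rw [h3, h₂, smul_smul]

/-- The point stabiliser is maximal: a subgroup of the root subgroup containing the stabiliser of the
point `⟨e⟩` and an element moving this point is the whole root subgroup. -/
theorem rootSubgroup_le_of_stab_le (hd : 7 ≤ Fintype.card ι) {e : ι → F} (he0 : e ≠ 0) (he : Q e = 0)
    (K : Subgroup ↥(isometryGroup F ⇑Q)) (hKS : K ≤ rootSubgroup Q)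
    (hHK : ∀ g ∈ rootSubgroup Q, (∃ a : F, act Q g e = a • e) → g ∈ K)
    (k₀ : ↥(isometryGroup F ⇑Q)) (hk₀ : k₀ ∈ K) (hk₀' : ∀ a : F, act Q k₀ e ≠ a • e) :
    rootSubgroup Q ≤ K := by
  have hdim : 5 ≤ finrank F (ι → F) := by rw [Module.finrank_fintype_fun_eq_card]; omega
  have hd5 : 5 ≤ Fintype.card ι := by omega
  have hw₀ : Q (act Q k₀ e) = 0 := by rw [Q_act, he]
  -- the orbit of the point `⟨e⟩` under `K` contains every singular point off `⟨e⟩`
  have horb : ∀ w : ι → F, Q w = 0 → (∀ a : F, w ≠ a • e) →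
      ∃ k ∈ K, ∃ c : F, c ≠ 0 ∧ act Q k e = c • w := by
    -- stability of the orbit under the point stabiliser
    have hperp : (∃ w₀ : ι → F, Q w₀ = 0 ∧ ⟪e, w₀⟫ = 0 ∧ (∀ a : F, w₀ ≠ a • e) ∧
        ∃ k ∈ K, ∃ c : F, c ≠ 0 ∧ act Q k e = c • w₀) →
        ∀ w : ι → F, Q w = 0 → ⟪e, w⟫ = 0 → (∀ a : F, w ≠ a • e) →
          ∃ k ∈ K, ∃ c : F, c ≠ 0 ∧ act Q k e = c • w := by
      rintro ⟨w₀, hw₀, hew₀, hind₀, k, hk, c, hc, hkc⟩ w hw hew hind
      obtain ⟨s, hs, hse, c', hc', hsw⟩ := exists_fix_move_perp Q hQ hd he0 he hw₀ hw hew₀ hew hind₀ hind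
      refine ⟨s * k, K.mul_mem (hHK s hs ⟨1, by rw [hse, one_smul]⟩) hk, c * c', mul_ne_zero hc hc', ?_⟩
      rw [act_mul, hkc, map_smul, hsw, smul_smul]
    have hnonperp : (∃ w₀ : ι → F, Q w₀ = 0 ∧ ⟪e, w₀⟫ ≠ 0 ∧
        ∃ k ∈ K, ∃ c : F, c ≠ 0 ∧ act Q k e = c • w₀) →
        ∀ w : ι → F, Q w = 0 → ⟪e, w⟫ ≠ 0 →
          ∃ k ∈ K, ∃ c : F, c ≠ 0 ∧ act Q k e = c • w := by
      rintro ⟨w₀, hw₀, hew₀, k, hk, c, hc, hkc⟩ w hw hew
      obtain ⟨s, hs, hse, c', hc', hsw⟩ := exists_fix_move_nonperp Q hQ hd5 he hw₀ hw hew₀ hew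
      refine ⟨s * k, K.mul_mem (hHK s hs ⟨1, by rw [hse, one_smul]⟩) hk, c * c', mul_ne_zero hc hc', ?_⟩
      rw [act_mul, hkc, map_smul, hsw, smul_smul]
    -- moving along an element of `K`
    have hmove : ∀ (k₁ : ↥(isometryGroup F ⇑Q)), k₁ ∈ K → ∀ (c₁ : F) (z w : ι → F), c₁ ≠ 0 →
        act Q k₁ e = c₁ • z →
        (∃ k ∈ K, ∃ c : F, c ≠ 0 ∧ act Q k e = c • act Q k₁⁻¹ w) →
        ∃ k ∈ K, ∃ c : F, c ≠ 0 ∧ act Q k e = c • w := by
      rintro k₁ hk₁ c₁ z w hc₁ hk₁z ⟨k, hk, c, hc, hkc⟩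
      refine ⟨k₁ * k, K.mul_mem hk₁ hk, c, hc, ?_⟩
      rw [act_mul, hkc, map_smul, act_act_inv]
    by_cases hcase : ⟪e, act Q k₀ e⟫ = 0
    · have hP := hperp ⟨act Q k₀ e, hw₀, hcase, hk₀', k₀, hk₀, 1, one_ne_zero, by rw [one_smul]⟩
      intro w hw hind
      by_cases hew : ⟪e, w⟫ = 0
      · exact hP w hw hew hind
      · obtain ⟨z, hz0, hz, hez, hwz⟩ := QGeom.exists_singular_perp_of_polar_ne Q hQ he hw hew hdim
        have hzind : ∀ a : F, z ≠ a • e := by
          intro a ha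
          rw [ha, QuadraticMap.polar_smul_right, smul_eq_mul] at hwz
          rcases mul_eq_zero.mp hwz with h3 | h3
          · rw [h3, zero_smul] at ha
            exact hz0 ha
          · rw [QuadraticMap.polar_comm] at h3
            exact hew h3
        obtain ⟨k₁, hk₁, c₁, hc₁, hk₁z⟩ := hP z hz hez hzind
        apply hmove k₁ hk₁ c₁ z w hc₁ hk₁z
        apply hP
        · rw [Q_act, hw]
        · rw [polar_act_right, inv_inv, hk₁z, QuadraticMap.polar_smul_left, QuadraticMap.polar_comm, hwz,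
            smul_zero]
        · intro a ha
          have h4 : w = a • act Q k₁ e := by
            rw [← map_smul, ← ha, act_act_inv]
          rw [h4, hk₁z, QuadraticMap.polar_smul_right, QuadraticMap.polar_smul_right, hez, smul_zero,
            smul_zero] at hew
          exact hew rfl
    · have hP := hnonperp ⟨act Q k₀ e, hw₀, hcase, k₀, hk₀, 1, one_ne_zero, by rw [one_smul]⟩
      intro w hw hind
      by_cases hew : ⟪e, w⟫ = 0
      · obtain ⟨z, hz, hze, hzw⟩ := QGeom.exists_common_partner Q hQ he0 he hw hew hind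
        have hez : ⟪e, z⟫ ≠ 0 := by
          rw [QuadraticMap.polar_comm, hze]
          exact one_ne_zero
        obtain ⟨k₁, hk₁, c₁, hc₁, hk₁z⟩ := hP z hz hez
        apply hmove k₁ hk₁ c₁ z w hc₁ hk₁z
        apply hP
        · rw [Q_act, hw]
        · rw [polar_act_right, inv_inv, hk₁z, QuadraticMap.polar_smul_left, hzw, smul_eq_mul, mul_one]
          exact hc₁
      · exact hP w hw hew
  intro x hx
  by_cases hxe : ∃ a : F, act Q x e = a • e
  · exact hHK x hx hxe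
  · push Not at hxe
    obtain ⟨k, hk, c, hc, hkc⟩ := horb (act Q x e) (by rw [Q_act, he]) hxe
    have h1 : x⁻¹ * k ∈ K := by
      apply hHK _ (Subgroup.mul_mem _ (Subgroup.inv_mem _ hx) (hKS hk))
      exact ⟨c, by rw [act_mul, hkc, map_smul, act_inv_act]⟩
    have h2 : x = k * (x⁻¹ * k)⁻¹ := by group
    rw [h2]
    exact K.mul_mem hk (K.inv_mem h1)

/-- An isometry fixing every singular point is a scalar. -/
theorem scalar_of_fix_singular (hd : 5 ≤ Fintype.card ι) (g : ↥(isometryGroup F ⇑Q))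
    (h : ∀ u : ι → F, Q u = 0 → ∃ a : F, act Q g u = a • u) : ∃ a : F, ∀ x, act Q g x = a • x := by
  have hdim : 5 ≤ finrank F (ι → F) := by rw [Module.finrank_fintype_fun_eq_card]; exact hd
  obtain ⟨e, he0, he⟩ := exists_singular_of_three_le Q hQ (by omega : 3 ≤ finrank F (ι → F))
  obtain ⟨a, ha⟩ := h e he
  -- orthogonal independent singular vectors have the same eigenvalue
  have hstep : ∀ (e' u : ι → F) (b : F), e' ≠ 0 → Q e' = 0 → Q u = 0 → ⟪e', u⟫ = 0 →
      (∀ c : F, u ≠ c • e') → act Q g e' = b • e' → act Q g u = b • u := by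
    intro e' u b he'0 he' hu he'u hind hb
    obtain ⟨c, hc⟩ := h u hu
    have hsum : Q (e' + u) = 0 := by rw [QuadraticMap.map_add (⇑Q), he', hu, he'u]; simp
    obtain ⟨d, hd'⟩ := h (e' + u) hsum
    rw [map_add, hb, hc, smul_add] at hd'
    have h1 : (c - d) • u = (d - b) • e' := by linear_combination (norm := module) hd'
    have hcd : c = d := by
      by_contra hne
      apply hind ((c - d)⁻¹ * (d - b))
      rw [mul_smul, ← h1, smul_smul, inv_mul_cancel₀ (sub_ne_zero.mpr hne), one_smul]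
    have hdb : d = b := by
      by_contra hne
      rw [hcd, sub_self, zero_smul] at h1
      rcases smul_eq_zero.mp h1.symm with h2 | h2
      · exact hne (sub_eq_zero.mp h2)
      · exact he'0 h2
    rw [hc, hcd, hdb]
  have hall : ∀ u : ι → F, Q u = 0 → act Q g u = a • u := by
    intro u hu
    by_cases hind : ∃ c : F, u = c • e
    · obtain ⟨c, rfl⟩ := hind
      rw [map_smul, ha, smul_comm]
    · push Not at hind
      by_cases heu : ⟪e, u⟫ = 0
      · exact hstep e u a he0 he hu heu hind ha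
      · obtain ⟨z, hz0, hz, hez, huz⟩ := QGeom.exists_singular_perp_of_polar_ne Q hQ he hu heu hdim
        have hza : act Q g z = a • z := by
          apply hstep e z a he0 he hz hez _ ha
          intro c hc
          rw [hc, QuadraticMap.polar_smul_right, smul_eq_mul] at huz
          rcases mul_eq_zero.mp huz with h3 | h3
          · rw [h3, zero_smul] at hc
            exact hz0 hc
          · rw [QuadraticMap.polar_comm] at h3
            exact heu h3
        apply hstep z u a hz0 hz hu (by rw [QuadraticMap.polar_comm]; exact huz) _ hza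
        intro c hc
        rw [hc, QuadraticMap.polar_smul_right, hez, smul_zero] at heu
        exact heu rfl
  refine ⟨a, fun x => ?_⟩
  refine QGeom.sum_singular_induction Q hQ he0 he (fun x => act Q g x = a • x) ?_ ?_ x
  · simp
  · intro v s hv hs
    show act Q g (v + s) = a • (v + s)
    rw [map_add, hv, hall s hs, smul_add]

end

end Cfsg.Agent.Lib.helper7.RootElt
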