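/-
helper7: simplicity of `PΩ(Q)` for a quadratic form `Q` on `F^ι` with non-degenerate polar form over a
finite field, `7 ≤ |ι|`, via Iwasawa's criterion for the root subgroup acting on singular points.
-/
import Mathlib
import Cfsg.Agent.Lib.helper7.RootPrim

set_option autoImplicit false

namespace Cfsg.Agent.Lib.helper7.RootElt

open Matrix Cfsg Cfsg.Agent.Lib.helper17 Cfsg.Agent.Lib.helper49 Module
open scoped commutatorElement

section Abstract

/-- Iwasawa's criterion, in subgroup form. -/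
theorem iwasawa_aux {G : Type*} [Group G] (H A : Subgroup G)
    (hnorm : ∀ h ∈ H, ∀ a ∈ A, h * a * h⁻¹ ∈ A) (hcomm : ∀ a ∈ A, ∀ b ∈ A, a * b = b * a)
    (hgen : Subgroup.normalClosure (A : Set G) = ⊤) (hperf : commutator G = ⊤)
    (hmax : ∀ K : Subgroup G, H ≤ K → (∃ k ∈ K, k ∉ H) → K = ⊤)
    (N : Subgroup G) [hN : N.Normal] (hNH : ¬ N ≤ H) : N = ⊤ := by
  have hHN : H ⊔ N = ⊤ := hmax _ le_sup_left (by
    obtain ⟨n, hn, hnH⟩ := SetLike.not_le_iff_exists.mp hNH
    exact ⟨n, Subgroup.mem_sup_right hn, hnH⟩)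
  have hM : (N ⊔ A).Normal := by
    constructor
    intro x hx g
    have hg : g ∈ H ⊔ N := by rw [hHN]; trivial
    rw [← SetLike.mem_coe, Subgroup.mul_normal] at hg
    obtain ⟨h, hh, n, hn, rfl⟩ := hg
    rw [← SetLike.mem_coe, Subgroup.normal_mul] at hx
    obtain ⟨m, hm, a, ha, rfl⟩ := hx
    have h1 : h * n * (m * a) * (h * n)⁻¹ =
        (h * (n * m * (a * n⁻¹ * a⁻¹)) * h⁻¹) * (h * a * h⁻¹) := by group
    rw [h1]
    apply Subgroup.mul_mem
    · apply Subgroup.mem_sup_left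
      apply hN.conj_mem
      exact N.mul_mem (N.mul_mem hn hm) (hN.conj_mem _ (N.inv_mem hn) a)
    · exact Subgroup.mem_sup_right (hnorm h hh a ha)
  have hMtop : N ⊔ A = ⊤ := by
    rw [eq_top_iff, ← hgen]
    exact Subgroup.normalClosure_le_normal (fun a ha => Subgroup.mem_sup_right ha)
  rw [eq_top_iff, ← hperf, commutator_def, Subgroup.commutator_le]
  intro x _ y _
  have hx : x ∈ N ⊔ A := by rw [hMtop]; trivial
  have hy : y ∈ N ⊔ A := by rw [hMtop]; trivial
  rw [← SetLike.mem_coe, Subgroup.normal_mul] at hx hy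
  obtain ⟨m, hm, a, ha, rfl⟩ := hx
  obtain ⟨m', hm', b, hb, rfl⟩ := hy
  rw [← QuotientGroup.eq_one_iff]
  have e1 : ((m : G) : G ⧸ N) = 1 := (QuotientGroup.eq_one_iff m).mpr hm
  have e2 : ((m' : G) : G ⧸ N) = 1 := (QuotientGroup.eq_one_iff m').mpr hm'
  have e3 : ((a * b : G) : G ⧸ N) = ((b * a : G) : G ⧸ N) := by rw [hcomm a ha b hb]
  rw [QuotientGroup.mk_mul, QuotientGroup.mk_mul] at e3
  rw [commutatorElement_def]
  simp only [QuotientGroup.mk_mul, QuotientGroup.mk_inv, e1, e2, one_mul]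
  rw [e3]
  group

/-- If every normal subgroup is central or everything, the central quotient is simple. -/
theorem simple_quot_center {G : Type*} [Group G] (hne : ∃ g : G, g ∉ Subgroup.center G)
    (h : ∀ N : Subgroup G, N.Normal → N ≤ Subgroup.center G ∨ N = ⊤) :
    IsSimpleGroup (G ⧸ Subgroup.center G) := by
  obtain ⟨g₀, hg₀⟩ := hne
  haveI : Nontrivial (G ⧸ Subgroup.center G) :=
    ⟨⟨(g₀ : G ⧸ Subgroup.center G), 1, fun h => hg₀ ((QuotientGroup.eq_one_iff g₀).mp h)⟩⟩
  refine ⟨fun N hN => ?_⟩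
  rcases h (N.comap (QuotientGroup.mk' (Subgroup.center G))) (hN.comap _) with h1 | h1
  · left
    rw [eq_bot_iff]
    intro x hx
    obtain ⟨g, rfl⟩ := QuotientGroup.mk_surjective x
    rw [Subgroup.mem_bot]
    exact (QuotientGroup.eq_one_iff g).mpr (h1 hx)
  · right
    rw [eq_top_iff]
    intro x _
    obtain ⟨g, rfl⟩ := QuotientGroup.mk_surjective x
    have : g ∈ N.comap (QuotientGroup.mk' (Subgroup.center G)) := by rw [h1]; trivial
    exact this

end Abstract

section

variable {ι : Type} [Fintype ι] [DecidableEq ι] {F : Type*} [Field F] [Finite F]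
  (Q : QuadraticForm F (ι → F)) (hQ : (QuadraticMap.polarBilin Q).Nondegenerate)

local notation "⟪" x ", " y "⟫" => QuadraticMap.polar (DFunLike.coe Q) x y

omit [Finite F] in
/-- the stabiliser of the point `⟨e⟩` in the root subgroup -/
def stabSub {e : ι → F} (he0 : e ≠ 0) : Subgroup ↥(rootSubgroup Q) where
  carrier := {g | ∃ a : F, act Q (g : ↥(isometryGroup F ⇑Q)) e = a • e}
  mul_mem' := by
    rintro g h ⟨a, ha⟩ ⟨b, hb⟩
    exact ⟨b * a, by rw [Subgroup.coe_mul, act_mul, hb, map_smul, ha, smul_smul]⟩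
  one_mem' := ⟨1, by rw [Subgroup.coe_one, act_one, one_smul]⟩
  inv_mem' := by
    rintro g ⟨a, ha⟩
    have ha0 : a ≠ 0 := by
      rintro rfl
      rw [zero_smul] at ha
      exact he0 ((act_eq_zero_iff Q _ e).mp ha)
    refine ⟨a⁻¹, ?_⟩
    rw [Subgroup.coe_inv]
    have h1 : act Q (g : ↥(isometryGroup F ⇑Q))⁻¹ (a • e) = e := by rw [← ha, act_inv_act]
    rw [map_smul] at h1
    rw [← h1, smul_smul, inv_mul_cancel₀ ha0, one_smul, h1]

omit [Finite F] in
theorem mem_stabSub {e : ι → F} (he0 : e ≠ 0) (g : ↥(rootSubgroup Q)) :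
    g ∈ stabSub Q he0 ↔ ∃ a : F, act Q (g : ↥(isometryGroup F ⇑Q)) e = a • e := Iff.rfl

/-- the root group at the point `⟨e⟩` -/
def rootGrp (e : ι → F) : Subgroup ↥(isometryGroup F ⇑Q) :=
  Subgroup.closure {g | ∃ (v : ι → F) (c : F), Q v = 0 ∧ ⟪e, v⟫ = 0 ∧ g = rootElt Q hQ e v c}

omit [Finite F] in
theorem rootGrp_le {e : ι → F} (he : Q e = 0) : rootGrp Q hQ e ≤ rootSubgroup Q := by
  unfold rootGrp
  rw [Subgroup.closure_le]
  rintro g ⟨v, c, hv, hev, rfl⟩
  exact rootElt_mem Q hQ he hv hev c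

omit [Finite F] in
theorem rootGrp_fix {e : ι → F} (he : Q e = 0) {g : ↥(isometryGroup F ⇑Q)} (hg : g ∈ rootGrp Q hQ e) :
    act Q g e = e := by
  unfold rootGrp at hg
  induction hg using Subgroup.closure_induction with
  | mem x hx =>
    obtain ⟨v, c, hv, hev, rfl⟩ := hx
    have hve : ⟪v, e⟫ = 0 := by rw [QuadraticMap.polar_comm]; exact hev
    rw [rootElt_act Q hQ he hv hev, QGeom.polar_self_sing Q he, hve]
    simp
  | one => exact act_one Q e
  | mul x y _ _ hx hy => rw [act_mul, hy, hx]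
  | inv x _ hx =>
    have := act_inv_act Q x e
    rw [hx] at this
    exact this

omit [Finite F] in
theorem rootElt_comm {e v v' : ι → F} (he : Q e = 0) (hv : Q v = 0) (hev : ⟪e, v⟫ = 0)
    (hv' : Q v' = 0) (hev' : ⟪e, v'⟫ = 0) (c c' : F) :
    rootElt Q hQ e v c * rootElt Q hQ e v' c' = rootElt Q hQ e v' c' * rootElt Q hQ e v c := by
  have hve : ⟪v, e⟫ = 0 := by rw [QuadraticMap.polar_comm]; exact hev
  have hv'e : ⟪v', e⟫ = 0 := by rw [QuadraticMap.polar_comm]; exact hev'
  apply act_ext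
  intro x
  rw [act_mul, act_mul, rootElt_act Q hQ he hv' hev', rootElt_act Q hQ he hv hev,
    rootElt_act Q hQ he hv hev, rootElt_act Q hQ he hv' hev']
  simp only [QuadraticMap.polar_add_right, QuadraticMap.polar_smul_right, smul_eq_mul, hev, hev', hve,
    hv'e, QGeom.polar_self_sing Q he]
  rw [QuadraticMap.polar_comm (⇑Q) v' v]
  module

omit [Finite F] in
theorem rootGrp_comm {e : ι → F} (he : Q e = 0) {a b : ↥(isometryGroup F ⇑Q)}
    (ha : a ∈ rootGrp Q hQ e) (hb : b ∈ rootGrp Q hQ e) : a * b = b * a := by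
  have h1 : rootGrp Q hQ e ≤ Subgroup.centralizer
      {g | ∃ (v : ι → F) (c : F), Q v = 0 ∧ ⟪e, v⟫ = 0 ∧ g = rootElt Q hQ e v c} := by
    unfold rootGrp
    rw [Subgroup.closure_le]
    rintro g ⟨v, c, hv, hev, rfl⟩
    rw [SetLike.mem_coe, Subgroup.mem_centralizer_iff]
    rintro h ⟨v', c', hv', hev', rfl⟩
    exact rootElt_comm Q hQ he hv' hev' hv hev c' c
  have h2 : rootGrp Q hQ e ≤ Subgroup.centralizer (rootGrp Q hQ e : Set ↥(isometryGroup F ⇑Q)) := by
    conv_lhs => unfold rootGrp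
    rw [Subgroup.closure_le]
    intro g hg
    rw [SetLike.mem_coe, Subgroup.mem_centralizer_iff]
    intro h hh
    exact ((Subgroup.mem_centralizer_iff.mp (h1 hh)) g hg).symm
  exact ((Subgroup.mem_centralizer_iff.mp (h2 ha)) b hb).symm

omit [Finite F] in
theorem rootElt_smul_left {u v : ι → F} (hu : Q u = 0) (hv : Q v = 0) (huv : ⟪u, v⟫ = 0) (a c : F) :
    rootElt Q hQ (a • u) v c = rootElt Q hQ u v (a * c) := by
  have hu' : Q (a • u) = 0 := by rw [QuadraticMap.map_smul, hu, smul_zero]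
  have huv' : ⟪a • u, v⟫ = 0 := by rw [QuadraticMap.polar_smul_left, huv, smul_zero]
  apply act_ext
  intro x
  rw [rootElt_act Q hQ hu' hv huv', rootElt_act Q hQ hu hv huv, QuadraticMap.polar_smul_left,
    smul_eq_mul]
  module

omit [Finite F] in
theorem rootGrp_conj {e : ι → F} (he : Q e = 0) (h : ↥(isometryGroup F ⇑Q)) (a : F)
    (hh : act Q h e = a • e) {g : ↥(isometryGroup F ⇑Q)} (hg : g ∈ rootGrp Q hQ e) :
    h * g * h⁻¹ ∈ rootGrp Q hQ e := by
  unfold rootGrp at hg ⊢
  induction hg using Subgroup.closure_induction with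
  | mem x hx =>
    obtain ⟨v, c, hv, hev, rfl⟩ := hx
    have hv' : Q (act Q h v) = 0 := by rw [Q_act, hv]
    have hev' : ⟪e, act Q h v⟫ = 0 := by
      have := polar_act Q h e v
      rw [hh, QuadraticMap.polar_smul_left, hev, smul_eq_mul] at this
      rcases mul_eq_zero.mp this with h3 | h3
      · rw [h3, zero_smul] at hh
        rw [(act_eq_zero_iff Q h e).mp hh, QuadraticMap.polar_zero_left]
      · exact h3
    rw [conj_rootElt Q hQ h he hv hev, hh, rootElt_smul_left Q hQ he hv' hev']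
    exact Subgroup.subset_closure ⟨_, _, hv', hev', rfl⟩
  | one => simp
  | mul x y _ _ hx hy =>
    have : h * (x * y) * h⁻¹ = (h * x * h⁻¹) * (h * y * h⁻¹) := by group
    rw [this]
    exact Subgroup.mul_mem _ hx hy
  | inv x _ hx =>
    have : h * x⁻¹ * h⁻¹ = (h * x * h⁻¹)⁻¹ := by group
    rw [this]
    exact Subgroup.inv_mem _ hx

include hQ

/-- The root subgroup is perfect (Witt index at least 3). -/
theorem rootSubgroup_le_commutator (hd : 7 ≤ Fintype.card ι) :
    rootSubgroup Q ≤ ⁅rootSubgroup Q, rootSubgroup Q⁆ := by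
  have hdim : 7 ≤ finrank F (ι → F) := by rw [Module.finrank_fintype_fun_eq_card]; exact hd
  conv_lhs => unfold rootSubgroup
  rw [Subgroup.closure_le]
  intro g hg
  obtain ⟨u, v, c, hu, hv, huv, rfl⟩ := eq_rootElt_of_mem_rootSet Q hQ hg
  by_cases hu0 : u = 0
  · rw [hu0, rootElt_eq_one_of_zero]
    exact Subgroup.one_mem _
  by_cases hdep : ∃ a : F, v = a • u
  · obtain ⟨a, rfl⟩ := hdep
    rw [rootElt_eq_one_of_smul]
    exact Subgroup.one_mem _
  push Not at hdep
  obtain ⟨a, b, ha, hb, hab, hua, hub, hva, hvb⟩ := QGeom.exists_hyp_pair_perp Q hQ hu0 hu hv huv hdep hdim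
  rw [SetLike.mem_coe, ← commutator_rootElt Q hQ hu ha hv hb hua hvb huv hub hva hab c]
  exact Subgroup.commutator_mem_commutator (rootElt_mem Q hQ hu ha hua c) (rootElt_mem Q hQ hv hb hvb 1)

/-- The root subgroup is `Ω(Q)`. -/
theorem rootSubgroup_eq_Omega (hd : 7 ≤ Fintype.card ι) (hgen : reflSubgroup Q = ⊤) :
    rootSubgroup Q = Cfsg.Omega F ⇑Q := by
  apply le_antisymm
  · refine (rootSubgroup_le_commutator Q hQ hd).trans ?_
    show ⁅rootSubgroup Q, rootSubgroup Q⁆ ≤ commutator ↥(isometryGroup F ⇑Q)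
    rw [commutator_def]
    exact Subgroup.commutator_mono le_top le_top
  · exact commutator_le_rootSubgroup Q hQ (by omega) hgen

/-- The central quotient of the root subgroup is simple. -/
theorem isSimpleGroup_rootSubgroup_quot (hd : 7 ≤ Fintype.card ι) :
    IsSimpleGroup (↥(rootSubgroup Q) ⧸ Subgroup.center ↥(rootSubgroup Q)) := by
  have hdim3 : 3 ≤ finrank F (ι → F) := by rw [Module.finrank_fintype_fun_eq_card]; omega
  have hd5 : 5 ≤ Fintype.card ι := by omega
  obtain ⟨e, he0, he⟩ := exists_singular_of_three_le Q hQ hdim3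
  have hnorm : ∀ h ∈ stabSub Q he0, ∀ a ∈ (rootGrp Q hQ e).subgroupOf (rootSubgroup Q),
      h * a * h⁻¹ ∈ (rootGrp Q hQ e).subgroupOf (rootSubgroup Q) := by
    rintro h ⟨c, hc⟩ a ha
    rw [Subgroup.mem_subgroupOf] at ha ⊢
    rw [Subgroup.coe_mul, Subgroup.coe_mul, Subgroup.coe_inv]
    exact rootGrp_conj Q hQ he _ c hc ha
  have hcomm : ∀ a ∈ (rootGrp Q hQ e).subgroupOf (rootSubgroup Q),
      ∀ b ∈ (rootGrp Q hQ e).subgroupOf (rootSubgroup Q), a * b = b * a := by
    intro a ha b hb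
    rw [Subgroup.mem_subgroupOf] at ha hb
    exact Subtype.ext (rootGrp_comm Q hQ he ha hb)
  have hgen : Subgroup.normalClosure
      (((rootGrp Q hQ e).subgroupOf (rootSubgroup Q) : Subgroup ↥(rootSubgroup Q)) :
        Set ↥(rootSubgroup Q)) = ⊤ := by
    rw [eq_top_iff]
    rintro ⟨x, hx⟩ _
    have hall : ∀ (x : ↥(isometryGroup F ⇑Q)) (hx : x ∈ Subgroup.closure (rootSet Q)),
        (⟨x, hx⟩ : ↥(rootSubgroup Q)) ∈ Subgroup.normalClosure
          (((rootGrp Q hQ e).subgroupOf (rootSubgroup Q) : Subgroup ↥(rootSubgroup Q)) :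
            Set ↥(rootSubgroup Q)) := by
      intro x hx
      induction hx using Subgroup.closure_induction with
      | mem x hx' =>
        obtain ⟨u, v, c, hu, hv, huv, rfl⟩ := eq_rootElt_of_mem_rootSet Q hQ hx'
        by_cases hu0 : u = 0
        · have h1 : (⟨rootElt Q hQ u v c, Subgroup.subset_closure hx'⟩ : ↥(rootSubgroup Q)) = 1 := by
            apply Subtype.ext
            show rootElt Q hQ u v c = 1
            rw [hu0]
            exact rootElt_eq_one_of_zero Q hQ v c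
          rw [h1]
          exact Subgroup.one_mem _
        · obtain ⟨s, hs, hsu⟩ := exists_move_singular Q hQ hd5 he0 hu0 he hu
          have hv' : Q (act Q s⁻¹ v) = 0 := by rw [Q_act, hv]
          have hev' : ⟪e, act Q s⁻¹ v⟫ = 0 := by rw [polar_act_right, inv_inv, hsu, huv]
          have h1 : rootElt Q hQ u v c = s * rootElt Q hQ e (act Q s⁻¹ v) c * s⁻¹ := by
            rw [conj_rootElt Q hQ s he hv' hev', hsu, act_act_inv]
          have h2 : (⟨rootElt Q hQ u v c, Subgroup.subset_closure hx'⟩ : ↥(rootSubgroup Q)) =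
              ⟨s, hs⟩ * ⟨rootElt Q hQ e (act Q s⁻¹ v) c, rootElt_mem Q hQ he hv' hev' c⟩ *
                (⟨s, hs⟩ : ↥(rootSubgroup Q))⁻¹ := Subtype.ext h1
          rw [h2]
          apply Subgroup.normalClosure_normal.conj_mem
          apply Subgroup.subset_normalClosure
          rw [SetLike.mem_coe, Subgroup.mem_subgroupOf]
          exact Subgroup.subset_closure ⟨_, c, hv', hev', rfl⟩
      | one => exact Subgroup.one_mem _
      | mul x y hx hy hx' hy' => exact Subgroup.mul_mem _ hx' hy'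
      | inv x hx hx' => exact Subgroup.inv_mem _ hx'
    exact hall x hx
  have hperf : commutator ↥(rootSubgroup Q) = ⊤ := by
    rw [eq_top_iff]
    intro x _
    have h1 : (x : ↥(isometryGroup F ⇑Q)) ∈ ⁅rootSubgroup Q, rootSubgroup Q⁆ :=
      rootSubgroup_le_commutator Q hQ hd x.2
    rw [← Subgroup.map_subtype_commutator] at h1
    obtain ⟨y, hy, hyx⟩ := h1
    have h2 : y = x := Subtype.ext hyx
    rw [← h2]
    exact hy
  have hmax : ∀ K : Subgroup ↥(rootSubgroup Q), stabSub Q he0 ≤ K →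
      (∃ k ∈ K, k ∉ stabSub Q he0) → K = ⊤ := by
    rintro K hHK ⟨k, hk, hkH⟩
    have h1 := rootSubgroup_le_of_stab_le Q hQ hd he0 he (K.map (rootSubgroup Q).subtype)
      (by
        rintro _ ⟨y, _, rfl⟩
        exact y.2)
      (by
        intro g hg hge
        exact ⟨⟨g, hg⟩, hHK hge, rfl⟩)
      (k : ↥(isometryGroup F ⇑Q)) ⟨k, hk, rfl⟩ (by
        intro a ha
        exact hkH ⟨a, ha⟩)
    rw [eq_top_iff]
    intro x _
    obtain ⟨y, hy, hyx⟩ := h1 x.2
    have h2 : y = x := Subtype.ext hyx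
    rw [← h2]
    exact hy
  have key : ∀ N : Subgroup ↥(rootSubgroup Q), N.Normal →
      N ≤ Subgroup.center ↥(rootSubgroup Q) ∨ N = ⊤ := by
    intro N hN
    by_cases hNH : N ≤ stabSub Q he0
    · left
      intro n hn
      have hfix : ∀ u : ι → F, Q u = 0 → ∃ a : F, act Q (n : ↥(isometryGroup F ⇑Q)) u = a • u := by
        intro u hu
        by_cases hu0 : u = 0
        · exact ⟨1, by rw [hu0, map_zero, smul_zero]⟩
        obtain ⟨s, hs, hsu⟩ := exists_move_singular Q hQ hd5 he0 hu0 he hu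
        have h1 : (⟨s, hs⟩ : ↥(rootSubgroup Q))⁻¹ * n * ⟨s, hs⟩ ∈ N := by
          have := hN.conj_mem n hn (⟨s, hs⟩ : ↥(rootSubgroup Q))⁻¹
          rwa [inv_inv] at this
        obtain ⟨a, ha⟩ := hNH h1
        refine ⟨a, ?_⟩
        rw [Subgroup.coe_mul, Subgroup.coe_mul, Subgroup.coe_inv, act_mul, act_mul] at ha
        change act Q s⁻¹ (act Q (n : ↥(isometryGroup F ⇑Q)) (act Q s e)) = a • e at ha
        rw [hsu] at ha
        have h3 := congrArg (act Q s) ha
        rw [act_act_inv, map_smul, hsu] at h3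
        exact h3
      obtain ⟨a, ha⟩ := scalar_of_fix_singular Q hQ hd5 (n : ↥(isometryGroup F ⇑Q)) hfix
      rw [Subgroup.mem_center_iff]
      intro y
      apply Subtype.ext
      apply act_ext
      intro x
      rw [Subgroup.coe_mul, Subgroup.coe_mul, act_mul, act_mul, ha, ha, map_smul]
    · right
      exact iwasawa_aux (stabSub Q he0) ((rootGrp Q hQ e).subgroupOf (rootSubgroup Q)) hnorm hcomm hgen
        hperf hmax N hNH
  apply simple_quot_center _ key
  by_contra hcon
  push Not at hcon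
  obtain ⟨f, hf, hef⟩ := exists_hyp_partner Q hQ e he0 he
  have hf0 : f ≠ 0 := by
    rintro rfl
    rw [QuadraticMap.polar_zero_right] at hef
    exact zero_ne_one hef
  obtain ⟨s, hs, hsf⟩ := exists_move_singular Q hQ hd5 he0 hf0 he hf
  have hbot : commutator ↥(rootSubgroup Q) = ⊥ := by
    rw [eq_bot_iff, commutator_def, Subgroup.commutator_le]
    intro x _ y _
    rw [Subgroup.mem_bot, commutatorElement_eq_one_iff_mul_comm]
    exact ((Subgroup.mem_center_iff.mp (hcon x)) y).symm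
  have h1 : (⟨s, hs⟩ : ↥(rootSubgroup Q)) ∈ commutator ↥(rootSubgroup Q) := by rw [hperf]; trivial
  rw [hbot, Subgroup.mem_bot] at h1
  have h2 : s = 1 := congrArg Subtype.val h1
  rw [h2, act_one] at hsf
  rw [← hsf, QGeom.polar_self_sing Q he] at hef
  exact zero_ne_one hef

/-- `PΩ(Q)` is simple for a quadratic form with non-degenerate polar form on a space of dimension at
least 7 over a finite field (the reflections generating the isometry group). -/
theorem isSimpleGroup_POmega (hd : 7 ≤ Fintype.card ι) (hgen : reflSubgroup Q = ⊤) :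
    IsSimpleGroup (Cfsg.POmega F ⇑Q) := by
  have h := isSimpleGroup_rootSubgroup_quot Q hQ hd
  have e := rootSubgroup_eq_Omega Q hQ hd hgen
  show IsSimpleGroup (↥(Cfsg.Omega F ⇑Q) ⧸ Subgroup.center ↥(Cfsg.Omega F ⇑Q))
  rw [← e]
  exact h

end

end Cfsg.Agent.Lib.helper7.RootElt
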