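/-
helper7: general Siegel transformations lie in the root group of their centre, and the stabiliser of a
totally singular subspace is a maximal subgroup of `Ω(Q)` (`7 ≤ dim`, excluding the case where the
subspace lies in a larger totally singular subspace `T` and `dim < 2 dim W + 3`).
-/
import Mathlib
import Cfsg.Prelude.Def_GeometricClasses
import Cfsg.Agent.Lib.helper7.OmegaSimple

set_option autoImplicit false

namespace Cfsg.Agent.Lib.helper7.QGeom

open Module Cfsg.Agent.Lib.helper49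

section

variable {F V : Type*} [Field F] [AddCommGroup V] [Module F V] (Q : QuadraticForm F V)

local notation "⟪" x ", " y "⟫" => QuadraticMap.polar (DFunLike.coe Q) x y

theorem polar_eq_zero_of_sing {T : Submodule F V} (hT : ∀ t ∈ T, Q t = 0) {x y : V} (hx : x ∈ T)
    (hy : y ∈ T) : ⟪x, y⟫ = 0 := by
  show Q (x + y) - Q x - Q y = 0
  rw [hT _ (T.add_mem hx hy), hT x hx, hT y hy]
  ring

variable [FiniteDimensional F V]

/-- A totally singular subspace has dimension at most half the dimension of the space. -/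
theorem two_mul_finrank_le_of_sing (hQ : (QuadraticMap.polarBilin Q).Nondegenerate)
    {T : Submodule F V} (hT : ∀ t ∈ T, Q t = 0) : 2 * finrank F T ≤ finrank F V := by
  have hle : T ≤ LinearMap.BilinForm.orthogonal (QuadraticMap.polarBilin Q) T := by
    intro x hx
    rw [LinearMap.BilinForm.mem_orthogonal_iff]
    intro y hy
    exact polar_eq_zero_of_sing Q hT hy hx
  have h2 : finrank F (LinearMap.BilinForm.orthogonal (QuadraticMap.polarBilin Q) T) =
      finrank F V - finrank F T := LinearMap.BilinForm.finrank_orthogonal hQ T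
  have h3 := Submodule.finrank_mono hle
  have h4 := Submodule.finrank_le T
  omega

/-- A subspace of less than half the dimension is orthogonal to some non-singular vector. -/
theorem exists_nonsingular_perp (hQ : (QuadraticMap.polarBilin Q).Nondegenerate) (U : Submodule F V)
    (hk : 2 * finrank F U < finrank F V) : ∃ w, Q w ≠ 0 ∧ ∀ u ∈ U, ⟪w, u⟫ = 0 := by
  by_contra hcon
  push Not at hcon
  have hT0 : ∀ t ∈ LinearMap.BilinForm.orthogonal (QuadraticMap.polarBilin Q) U, Q t = 0 := by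
    intro t ht
    by_contra h
    obtain ⟨u, hu, hne⟩ := hcon t h
    apply hne
    have := ht u hu
    rw [QuadraticMap.polar_comm]
    exact this
  have h1 : finrank F (LinearMap.BilinForm.orthogonal (QuadraticMap.polarBilin Q) U) =
      finrank F V - finrank F U := LinearMap.BilinForm.finrank_orthogonal hQ U
  have h2 := two_mul_finrank_le_of_sing Q hQ hT0
  have h3 := Submodule.finrank_le U
  omega

/-- A vector outside a subspace is non-orthogonal to some vector orthogonal to the subspace. -/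
theorem exists_perp_polar_ne (hQ : (QuadraticMap.polarBilin Q).Nondegenerate) (W : Submodule F V)
    {p : V} (hp : p ∉ W) : ∃ x, (∀ w ∈ W, ⟪w, x⟫ = 0) ∧ ⟪x, p⟫ ≠ 0 := by
  by_contra hcon
  push Not at hcon
  apply hp
  have hrefl : (QuadraticMap.polarBilin Q).IsRefl := (polarBilin_isSymm Q).isRefl
  rw [← LinearMap.BilinForm.orthogonal_orthogonal hQ hrefl W, LinearMap.BilinForm.mem_orthogonal_iff]
  intro x hx
  exact hcon x (fun w hw => hx w hw)

end

end Cfsg.Agent.Lib.helper7.QGeom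

namespace Cfsg.Agent.Lib.helper7.RootElt

open Matrix Cfsg Cfsg.Agent.Lib.helper17 Cfsg.Agent.Lib.helper49 Module
open scoped commutatorElement

section

variable {ι : Type} [Fintype ι] [DecidableEq ι] {F : Type*} [Field F] [Finite F]
  (Q : QuadraticForm F (ι → F)) (hQ : (QuadraticMap.polarBilin Q).Nondegenerate)

local notation "⟪" x ", " y "⟫" => QuadraticMap.polar (DFunLike.coe Q) x y

/-- The general Siegel transformation `x ↦ x + f(v,x) a - f(a,x) v - Q(v) f(a,x) a` (`a` singular,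
`v ⊥ a`) lies in the root group at `a`. -/
theorem exists_siegel (hd : 5 ≤ Fintype.card ι) {a v : ι → F} (ha0 : a ≠ 0) (ha : Q a = 0)
    (hav : ⟪a, v⟫ = 0) :
    ∃ g ∈ rootGrp Q hQ a, ∀ x, act Q g x =
      x + ⟪v, x⟫ • a + (-⟪a, x⟫) • v + (-(Q v * ⟪a, x⟫)) • a := by
  obtain ⟨f, hf, haf⟩ := exists_hyp_partner Q hQ a ha0 ha
  have hnd := QGeom.perp2_nondeg Q hQ ha hf haf
  have hdim := QGeom.finrank_perp2 Q ha hf haf
  rw [Module.finrank_fintype_fun_eq_card] at hdim
  obtain ⟨z, hz0, hz⟩ := exists_singular_of_three_le (restrictQ Q (QGeom.perp2 Q a f)) hnd (by omega)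
  have key : ∀ w : QGeom.perp2 Q a f, ∃ g ∈ rootGrp Q hQ a, ∀ x, act Q g x =
      x + ⟪(w : ι → F), x⟫ • a + (-⟪a, x⟫) • (w : ι → F) + (-(Q (w : ι → F) * ⟪a, x⟫)) • a := by
    intro w
    refine QGeom.sum_singular_induction (restrictQ Q (QGeom.perp2 Q a f)) hnd hz0 hz
      (fun w => ∃ g ∈ rootGrp Q hQ a, ∀ x, act Q g x =
        x + ⟪(w : ι → F), x⟫ • a + (-⟪a, x⟫) • (w : ι → F) + (-(Q (w : ι → F) * ⟪a, x⟫)) • a) ?_ ?_ w
    · refine ⟨1, Subgroup.one_mem _, fun x => ?_⟩
      rw [act_one]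
      simp
    · rintro w s ⟨g, hg, hgx⟩ hs
      have hs' : Q (s : ι → F) = 0 := hs
      obtain ⟨has, hfs⟩ := (QGeom.mem_perp2 Q).mp s.2
      obtain ⟨haw, hfw⟩ := (QGeom.mem_perp2 Q).mp w.2
      have hsa : ⟪(s : ι → F), a⟫ = 0 := by rw [QuadraticMap.polar_comm]; exact has
      refine ⟨rootElt Q hQ a s (-1) * g,
        Subgroup.mul_mem _ (Subgroup.subset_closure ⟨s, -1, hs', has, rfl⟩) hg, fun x => ?_⟩
      rw [act_mul, hgx, rootElt_act Q hQ ha hs' has]
      simp only [QuadraticMap.polar_add_right, QuadraticMap.polar_smul_right, smul_eq_mul,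
        Submodule.coe_add, QuadraticMap.map_add (⇑Q), QuadraticMap.polar_add_left, hs',
        QGeom.polar_self_sing Q ha, haw, hsa]
      rw [QuadraticMap.polar_comm (⇑Q) (s : ι → F) (w : ι → F)]
      module
  have hmem := QGeom.projE_mem_perp2 Q (f := f) ha haf hav
  obtain ⟨g, hg, hgx⟩ := key ⟨_, hmem⟩
  refine ⟨g, hg, fun x => ?_⟩
  rw [hgx]
  have hva : ⟪v, a⟫ = 0 := by rw [QuadraticMap.polar_comm]; exact hav
  have hq : Q (v + (-⟪f, v⟫) • a) = Q v := by
    rw [QuadraticMap.map_add (⇑Q), QuadraticMap.map_smul, QuadraticMap.polar_smul_right, ha, hva]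
    simp
  show x + ⟪v + (-⟪f, v⟫) • a, x⟫ • a + (-⟪a, x⟫) • (v + (-⟪f, v⟫) • a) +
    (-(Q (v + (-⟪f, v⟫) • a) * ⟪a, x⟫)) • a = _
  rw [hq, QuadraticMap.polar_add_left, QuadraticMap.polar_smul_left, smul_eq_mul]
  module

include hQ in
/-- A subgroup containing the stabiliser (in the root subgroup) of the totally singular subspace `W`
and an isometry not stabilising `W` contains the root subgroup. -/
theorem rootSubgroup_le_of_parab (hd : 7 ≤ Fintype.card ι) (W : Submodule F (ι → F))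
    (hW : ∀ w ∈ W, Q w = 0)
    (hW2 : ∀ T : Submodule F (ι → F), W < T → (∀ t ∈ T, Q t = 0) →
      2 * finrank F W + 3 ≤ Fintype.card ι)
    (H : Subgroup ↥(isometryGroup F ⇑Q))
    (hPH : ∀ g ∈ rootSubgroup Q, (∀ w ∈ W, act Q g w ∈ W) → g ∈ H)
    (h : ↥(isometryGroup F ⇑Q)) (hh : h ∈ H) (w₀ : ι → F) (hw₀ : w₀ ∈ W) (hhw : act Q h w₀ ∉ W) :
    rootSubgroup Q ≤ H := by
  have hd5 : 5 ≤ Fintype.card ι := by omega
  have hWpol : ∀ x ∈ W, ∀ y ∈ W, ⟪x, y⟫ = 0 := fun x hx y hy => QGeom.polar_eq_zero_of_sing Q hW hx hy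
  -- good points: singular vectors whose long root elements all lie in `H`
  have hgoodW : ∀ u ∈ W, ∀ (v : ι → F) (c : F), Q v = 0 → ⟪u, v⟫ = 0 → rootElt Q hQ u v c ∈ H := by
    intro u hu v c hv huv
    apply hPH _ (rootElt_mem Q hQ (hW u hu) hv huv c)
    intro w hw
    rw [rootElt_act Q hQ (hW u hu) hv huv, hWpol u hu w hw]
    simp only [mul_zero, zero_smul, add_zero]
    exact W.add_mem hw (W.smul_mem _ hu)
  have hgoodH : ∀ u : ι → F, Q u = 0 →
      (∀ (v : ι → F) (c : F), Q v = 0 → ⟪u, v⟫ = 0 → rootElt Q hQ u v c ∈ H) → ∀ k ∈ H,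
      ∀ (v : ι → F) (c : F), Q v = 0 → ⟪act Q k u, v⟫ = 0 → rootElt Q hQ (act Q k u) v c ∈ H := by
    intro u hu hgu k hk v c hv huv
    have hv' : Q (act Q k⁻¹ v) = 0 := by rw [Q_act, hv]
    have huv' : ⟪u, act Q k⁻¹ v⟫ = 0 := by rw [← polar_act_left, huv]
    have h1 := conj_rootElt Q hQ k hu hv' huv' c
    rw [act_act_inv] at h1
    rw [← h1]
    exact H.mul_mem (H.mul_mem hk (hgu _ c hv' huv')) (H.inv_mem hk)
  have hgoodsmul : ∀ u : ι → F, Q u = 0 →
      (∀ (v : ι → F) (c : F), Q v = 0 → ⟪u, v⟫ = 0 → rootElt Q hQ u v c ∈ H) → ∀ a : F,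
      ∀ (v : ι → F) (c : F), Q v = 0 → ⟪a • u, v⟫ = 0 → rootElt Q hQ (a • u) v c ∈ H := by
    intro u hu hgu a v c hv huv
    by_cases ha : a = 0
    · rw [ha, zero_smul, rootElt_eq_one_of_zero]
      exact H.one_mem
    · have huv' : ⟪u, v⟫ = 0 := by
        rw [QuadraticMap.polar_smul_left, smul_eq_mul] at huv
        exact (mul_eq_zero.mp huv).resolve_left ha
      rw [rootElt_smul_left Q hQ hu hv huv']
      exact hgu v _ hv huv'
  have hgrp : ∀ u : ι → F,
      (∀ (v : ι → F) (c : F), Q v = 0 → ⟪u, v⟫ = 0 → rootElt Q hQ u v c ∈ H) →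
      rootGrp Q hQ u ≤ H := by
    intro u hgu
    unfold rootGrp
    rw [Subgroup.closure_le]
    rintro g ⟨v, c, hv, huv, rfl⟩
    exact hgu v c hv huv
  -- two non-perpendicular good points make every point non-perpendicular to the first one good
  have hstep : ∀ u u' : ι → F, Q u = 0 → Q u' = 0 →
      (∀ (v : ι → F) (c : F), Q v = 0 → ⟪u, v⟫ = 0 → rootElt Q hQ u v c ∈ H) →
      (∀ (v : ι → F) (c : F), Q v = 0 → ⟪u', v⟫ = 0 → rootElt Q hQ u' v c ∈ H) →
      ⟪u, u'⟫ ≠ 0 → ∀ z : ι → F, Q z = 0 → ⟪u, z⟫ ≠ 0 →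
      ∀ (v : ι → F) (c : F), Q v = 0 → ⟪z, v⟫ = 0 → rootElt Q hQ z v c ∈ H := by
    intro u u' hu hu' hgu hgu' huu' z hz huz
    have hu0 : u ≠ 0 := by
      rintro rfl
      rw [QuadraticMap.polar_zero_left] at huu'
      exact huu' rfl
    -- the partners `f = u'/f(u,u')` and `f' = z/f(u,z)` of `u`
    have hf : Q ((⟪u, u'⟫)⁻¹ • u') = 0 := by rw [QuadraticMap.map_smul, hu', smul_zero]
    have hf' : Q ((⟪u, z⟫)⁻¹ • z) = 0 := by rw [QuadraticMap.map_smul, hz, smul_zero]
    have huf : ⟪u, (⟪u, u'⟫)⁻¹ • u'⟫ = 1 := by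
      rw [QuadraticMap.polar_smul_right, smul_eq_mul, inv_mul_cancel₀ huu']
    have huf' : ⟪u, (⟪u, z⟫)⁻¹ • z⟫ = 1 := by
      rw [QuadraticMap.polar_smul_right, smul_eq_mul, inv_mul_cancel₀ huz]
    obtain ⟨s, hs, hse, hsf⟩ := exists_fix_move_partner Q hQ hd5 hu hf hf' huf huf'
    -- we need the mover inside the root group at `u`: use the Siegel element instead
    clear s hs hse hsf
    set f := (⟪u, u'⟫)⁻¹ • u' with hfdef
    set f' := (⟪u, z⟫)⁻¹ • z with hf'def
    have hfu : ⟪f, u⟫ = 1 := by rw [QuadraticMap.polar_comm]; exact huf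
    have hf'u : ⟪f', u⟫ = 1 := by rw [QuadraticMap.polar_comm]; exact huf'
    have huv : ⟪u, f + (-1 : F) • f' + ⟪f, f'⟫ • u⟫ = 0 := by
      simp only [QuadraticMap.polar_add_right, QuadraticMap.polar_smul_right, smul_eq_mul, huf, huf',
        QGeom.polar_self_sing Q hu]
      ring
    obtain ⟨g, hg, hgx⟩ := exists_siegel Q hQ hd5 hu0 hu huv
    have hq : Q (f + (-1 : F) • f' + ⟪f, f'⟫ • u) = -⟪f, f'⟫ := by
      rw [QGeom.Q_add3, hf, hf', hu, hfu, hf'u]
      ring
    have hgf : act Q g f = f' := by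
      rw [hgx, hq]
      simp only [QuadraticMap.polar_add_left, QuadraticMap.polar_smul_left, smul_eq_mul, huf,
        QGeom.polar_self_sing Q hf]
      rw [QuadraticMap.polar_comm (⇑Q) f' f]
      module
    have hgH : g ∈ H := hgrp u hgu hg
    have hgood_f := hgoodsmul u' hu' hgu' (⟪u, u'⟫)⁻¹
    have hgood_f' := hgoodH f hf hgood_f g hgH
    rw [hgf] at hgood_f'
    have hgood_z := hgoodsmul f' hf' hgood_f' ⟪u, z⟫
    have hzz : ⟪u, z⟫ • f' = z := by
      rw [hf'def, smul_smul, mul_inv_cancel₀ huz, one_smul]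
    rw [hzz] at hgood_z
    exact hgood_z
  -- from a non-perpendicular pair of good points, every singular vector is good
  have hall : ∀ u u' : ι → F, Q u = 0 → Q u' = 0 →
      (∀ (v : ι → F) (c : F), Q v = 0 → ⟪u, v⟫ = 0 → rootElt Q hQ u v c ∈ H) →
      (∀ (v : ι → F) (c : F), Q v = 0 → ⟪u', v⟫ = 0 → rootElt Q hQ u' v c ∈ H) →
      ⟪u, u'⟫ ≠ 0 → rootSubgroup Q ≤ H := by
    intro u u' hu hu' hgu hgu' huu'
    have hu0 : u ≠ 0 := by
      rintro rfl
      rw [QuadraticMap.polar_zero_left] at huu'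
      exact huu' rfl
    have hgoodall : ∀ z : ι → F, Q z = 0 →
        ∀ (v : ι → F) (c : F), Q v = 0 → ⟪z, v⟫ = 0 → rootElt Q hQ z v c ∈ H := by
      intro z hz
      by_cases huz : ⟪u, z⟫ = 0
      · by_cases hdep : ∃ a : F, z = a • u
        · obtain ⟨a, rfl⟩ := hdep
          exact hgoodsmul u hu hgu a
        · push Not at hdep
          obtain ⟨y, hy, hyu, hyz⟩ := QGeom.exists_common_partner Q hQ hu0 hu hz huz hdep
          have huy : ⟪u, y⟫ ≠ 0 := by
            rw [QuadraticMap.polar_comm, hyu]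
            exact one_ne_zero
          have hgy := hstep u u' hu hu' hgu hgu' huu' y hy huy
          exact hstep y u hy hu hgy hgu (by rw [hyu]; exact one_ne_zero) z hz
            (by rw [hyz]; exact one_ne_zero)
      · exact hstep u u' hu hu' hgu hgu' huu' z hz huz
    unfold rootSubgroup
    rw [Subgroup.closure_le]
    intro g hg
    obtain ⟨a, b, c, ha, hb, hab, rfl⟩ := eq_rootElt_of_mem_rootSet Q hQ hg
    exact hgoodall a ha b c hb hab
  -- the point `p = h w₀` is good and lies outside `W`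
  have hp : Q (act Q h w₀) = 0 := by rw [Q_act, hW w₀ hw₀]
  have hgp := hgoodH w₀ (hW w₀ hw₀) (hgoodW w₀ hw₀) h hh
  by_cases hc : ∃ u ∈ W, ⟪u, act Q h w₀⟫ ≠ 0
  · obtain ⟨u, hu, hup⟩ := hc
    exact hall u (act Q h w₀) (hW u hu) hp (hgoodW u hu) hgp hup
  · push Not at hc
    set p := act Q h w₀ with hpdef
    -- `W + F p` is a larger totally singular subspace
    have hT : ∀ t ∈ W ⊔ Submodule.span F {p}, Q t = 0 := by
      intro t ht
      obtain ⟨w, hw, y, hy, rfl⟩ := Submodule.mem_sup.mp ht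
      obtain ⟨a, rfl⟩ := Submodule.mem_span_singleton.mp hy
      rw [QuadraticMap.map_add (⇑Q), QuadraticMap.map_smul, QuadraticMap.polar_smul_right, hW w hw, hp,
        hc w hw]
      simp
    have hlt : W < W ⊔ Submodule.span F {p} := by
      refine lt_of_le_of_ne le_sup_left ?_
      intro heq
      apply hhw
      rw [heq]
      exact Submodule.mem_sup_right (Submodule.mem_span_singleton_self p)
    have hn := hW2 _ hlt hT
    -- a singular vector `a ⊥ W` with `f(a,p) = 1`
    have hpp : ⟪p, p⟫ = 0 := QGeom.polar_self_sing Q hp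
    obtain ⟨a₀, ha₀p, ha₀W⟩ : ∃ a₀ : ι → F, ⟪a₀, p⟫ = 1 ∧ ∀ w ∈ W, ⟪a₀, w⟫ = 0 := by
      obtain ⟨x, hxW, hxp⟩ := QGeom.exists_perp_polar_ne Q hQ W hhw
      refine ⟨(⟪x, p⟫)⁻¹ • x, ?_, fun w hw => ?_⟩
      · rw [QuadraticMap.polar_smul_left, smul_eq_mul, inv_mul_cancel₀ hxp]
      · rw [QuadraticMap.polar_smul_left, QuadraticMap.polar_comm (⇑Q) x w, hxW w hw, smul_zero]
    obtain ⟨a, ha, hap, haW⟩ : ∃ a : ι → F, Q a = 0 ∧ ⟪a, p⟫ = 1 ∧ ∀ w ∈ W, ⟪a, w⟫ = 0 := by
      refine ⟨a₀ + (-(Q a₀)) • p, ?_, ?_, fun w hw => ?_⟩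
      · rw [QuadraticMap.map_add (⇑Q), QuadraticMap.map_smul, QuadraticMap.polar_smul_right, hp, ha₀p]
        simp
      · rw [QuadraticMap.polar_add_left, QuadraticMap.polar_smul_left, ha₀p, hpp]
        simp
      · rw [QuadraticMap.polar_add_left, QuadraticMap.polar_smul_left, ha₀W w hw,
          QuadraticMap.polar_comm (⇑Q) p w, hc w hw]
        simp
    have ha0 : a ≠ 0 := by
      intro h0
      rw [h0, QuadraticMap.polar_zero_left] at hap
      exact zero_ne_one hap
    -- a non-singular vector orthogonal to `W` and `a`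
    have hfr : finrank F ↥(W ⊔ Submodule.span F {a}) ≤ finrank F W + 1 := by
      refine (Submodule.finrank_add_le_finrank_add_finrank W (Submodule.span F {a})).trans ?_
      have := finrank_span_singleton (K := F) ha0
      omega
    obtain ⟨v, hv, hvU⟩ := QGeom.exists_nonsingular_perp Q hQ (W ⊔ Submodule.span F {a}) (by
      rw [Module.finrank_fintype_fun_eq_card]
      omega)
    have hva : ⟪v, a⟫ = 0 := hvU a (Submodule.mem_sup_right (Submodule.mem_span_singleton_self a))
    have hav : ⟪a, v⟫ = 0 := by rw [QuadraticMap.polar_comm]; exact hva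
    have hvW : ∀ w ∈ W, ⟪v, w⟫ = 0 := fun w hw => hvU w (Submodule.mem_sup_left hw)
    obtain ⟨g, hg, hgx⟩ := exists_siegel Q hQ hd5 ha0 ha hav
    have hgS : g ∈ rootSubgroup Q := rootGrp_le Q hQ ha hg
    have hgH : g ∈ H := by
      apply hPH g hgS
      intro w hw
      rw [hgx, hvW w hw, haW w hw]
      simpa using hw
    have hgp' := hgoodH p hp hgp g hgH
    have hne : ⟪p, act Q g p⟫ ≠ 0 := by
      rw [hgx, hap]
      simp only [QuadraticMap.polar_add_right, QuadraticMap.polar_smul_right, smul_eq_mul, hpp]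
      rw [QuadraticMap.polar_comm (⇑Q) p a, hap, QuadraticMap.polar_comm (⇑Q) p v]
      intro h0
      apply hv
      linear_combination -h0
    exact hall p (act Q g p) hp (by rw [Q_act, hp]) hgp hgp' hne

end

end Cfsg.Agent.Lib.helper7.RootElt

namespace Cfsg.Agent.Lib.helper7.RootElt

open Matrix Cfsg Cfsg.Agent.Lib.helper17 Cfsg.Agent.Lib.helper49 Module

section

variable {ι : Type} [Fintype ι] [DecidableEq ι] {F : Type*} [Field F] [Finite F]
  (Q : QuadraticForm F (ι → F)) (hQ : (QuadraticMap.polarBilin Q).Nondegenerate)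

local notation "⟪" x ", " y "⟫" => QuadraticMap.polar (DFunLike.coe Q) x y

omit [Finite F] in
/-- An isometry mapping a subspace into itself stabilises it. -/
theorem mem_subspaceStabilizer_of_act_mem (W : Submodule F (ι → F)) (g : ↥(isometryGroup F ⇑Q))
    (hg : ∀ w ∈ W, act Q g w ∈ W) :
    (g : Matrix.GeneralLinearGroup ι F) ∈ Cfsg.Geo.subspaceStabilizer W := by
  intro v
  constructor
  · intro hv
    exact hg v hv
  · intro hv
    have hinj : Function.Injective ((act Q g).restrict hg) := by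
      intro x y hxy
      have h1 : act Q g x = act Q g y := congrArg Subtype.val hxy
      apply Subtype.ext
      have h2 := congrArg (act Q g⁻¹) h1
      rwa [act_inv_act, act_inv_act] at h2
    obtain ⟨u, hu⟩ := LinearMap.surjective_of_injective hinj ⟨_, hv⟩
    have h1 : act Q g u = act Q g v := congrArg Subtype.val hu
    have h2 := congrArg (act Q g⁻¹) h1
    rw [act_inv_act, act_inv_act] at h2
    rw [← h2]
    exact u.2

include hQ in
/-- The stabiliser of a non-zero totally singular subspace `W` is a maximal subgroup of `Ω(Q)`, provided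
`2 dim W + 3 ≤ dim` whenever `W` lies in a strictly larger totally singular subspace. -/
theorem isMaximalIn_stab_sing (hd : 7 ≤ Fintype.card ι) (hgen : reflSubgroup Q = ⊤)
    (W : Submodule F (ι → F)) (hW0 : W ≠ ⊥) (hW : ∀ w ∈ W, Q w = 0)
    (hW2 : ∀ T : Submodule F (ι → F), W < T → (∀ t ∈ T, Q t = 0) →
      2 * finrank F W + 3 ≤ Fintype.card ι) :
    Cfsg.Geo.IsMaximalIn (Cfsg.Geo.omegaGL ⇑Q)
      (Cfsg.Geo.subspaceStabilizer W ⊓ Cfsg.Geo.omegaGL ⇑Q) := by
  have hΩ := rootSubgroup_eq_Omega Q hQ hd hgen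
  have hd5 : 5 ≤ Fintype.card ι := by omega
  have hmemΩ : ∀ g : ↥(isometryGroup F ⇑Q), g ∈ rootSubgroup Q →
      (g : Matrix.GeneralLinearGroup ι F) ∈ Cfsg.Geo.omegaGL ⇑Q := by
    intro g hg
    exact ⟨g, by rw [← hΩ]; exact hg, rfl⟩
  constructor
  · refine lt_of_le_of_ne inf_le_right ?_
    intro heq
    obtain ⟨u, huW, hu0⟩ := Submodule.exists_mem_ne_zero_of_ne_bot hW0
    obtain ⟨f, hf, huf⟩ := exists_hyp_partner Q hQ u hu0 (hW u huW)
    have hfW : f ∉ W := by
      intro hfW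
      have := QGeom.polar_eq_zero_of_sing Q hW huW hfW
      rw [huf] at this
      exact one_ne_zero this
    have hf0 : f ≠ 0 := by
      rintro rfl
      exact hfW W.zero_mem
    obtain ⟨s, hs, hsu⟩ := exists_move_singular Q hQ hd5 hu0 hf0 (hW u huW) hf
    have h1 : (s : Matrix.GeneralLinearGroup ι F) ∈
        Cfsg.Geo.subspaceStabilizer W ⊓ Cfsg.Geo.omegaGL ⇑Q := by
      rw [heq]
      exact hmemΩ s hs
    have h2 : act Q s u ∈ W := (h1.1 u).mp huW
    rw [hsu] at h2
    exact hfW h2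
  · intro M hPM hMG
    by_cases hM : M ≤ Cfsg.Geo.subspaceStabilizer W
    · left
      exact le_antisymm (le_inf hM hMG) hPM
    · right
      refine le_antisymm hMG ?_
      obtain ⟨k, hkM, hkW⟩ := SetLike.not_le_iff_exists.mp hM
      have hex : ∃ k' ∈ M, ∃ w ∈ W, ((k' : Matrix.GeneralLinearGroup ι F) : Matrix ι ι F) *ᵥ w ∉ W := by
        have hk1 : ¬ ∀ v, v ∈ (W : Set (ι → F)) ↔
            ((k : Matrix.GeneralLinearGroup ι F) : Matrix ι ι F) *ᵥ v ∈ (W : Set (ι → F)) := hkW
        obtain ⟨v, hv⟩ := not_forall.mp hk1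
        by_cases hvW : v ∈ W
        · exact ⟨k, hkM, v, hvW, fun h => hv ⟨fun _ => h, fun _ => hvW⟩⟩
        · have hkv : ((k : Matrix.GeneralLinearGroup ι F) : Matrix ι ι F) *ᵥ v ∈ W := by
            by_contra h
            exact hv ⟨fun h' => absurd h' hvW, fun h' => absurd h' h⟩
          refine ⟨k⁻¹, M.inv_mem hkM, _, hkv, ?_⟩
          have h3 : ((k⁻¹ : Matrix.GeneralLinearGroup ι F) : Matrix ι ι F) *ᵥ
              (((k : Matrix.GeneralLinearGroup ι F) : Matrix ι ι F) *ᵥ v) = v := by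
            rw [Matrix.mulVec_mulVec, ← Units.val_mul, inv_mul_cancel, Units.val_one,
              Matrix.one_mulVec]
          rw [h3]
          exact hvW
      obtain ⟨k', hk'M, w, hw, hk'w⟩ := hex
      obtain ⟨k'', hk''Ω, rfl⟩ := hMG hk'M
      have key := rootSubgroup_le_of_parab Q hQ hd W hW hW2
        (M.comap (isometryGroup F ⇑Q).subtype)
        (fun g hg hgW => hPM ⟨mem_subspaceStabilizer_of_act_mem Q W g hgW, hmemΩ g hg⟩)
        k'' hk'M w hw hk'w
      rintro _ ⟨g, hg, rfl⟩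
      exact key (by rw [hΩ]; exact hg)

end

end Cfsg.Agent.Lib.helper7.RootElt
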