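import Mathlib
import Cfsg.Prelude.Def_GeometricClasses
import Cfsg.Agent.Lib.helper24.SfoDefs
import Cfsg.Agent.Lib.helper27.SfoCNTE
import Cfsg.Agent.Lib.helper77.SfoCNTO

/-!
helper7: S5977U pieces TRANSL (`qfu_count_transl`) and NEQ (`qfu_count_ne`).
-/

set_option autoImplicit false

namespace Cfsg.Agent.Lib.helper2

open Cfsg.Geo Matrix Cfsg.Agent.Lib.helper24

/-- TRANSL -/
theorem qfu_count_transl {E : Type*} [Field E] {n : ℕ} (Q Q₀ : (Fin n → E) → E)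
    (P : GL (Fin n) E) (hP : ∀ x : Fin n → E, Q ((P : Matrix (Fin n) (Fin n) E) *ᵥ x) = Q₀ x)
    (t : E) : sfoCount Q t = sfoCount Q₀ t := by
  have h1 : ∀ v : Fin n → E, (P : Matrix (Fin n) (Fin n) E) *ᵥ
      (((P⁻¹ : GL (Fin n) E) : Matrix (Fin n) (Fin n) E) *ᵥ v) = v := by
    intro v
    rw [Matrix.mulVec_mulVec, ← Units.val_mul, mul_inv_cancel, Units.val_one, Matrix.one_mulVec]
  have h2 : ∀ v : Fin n → E, ((P⁻¹ : GL (Fin n) E) : Matrix (Fin n) (Fin n) E) *ᵥ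
      ((P : Matrix (Fin n) (Fin n) E) *ᵥ v) = v := by
    intro v
    rw [Matrix.mulVec_mulVec, ← Units.val_mul, inv_mul_cancel, Units.val_one, Matrix.one_mulVec]
  unfold sfoCount
  refine Nat.card_congr
    { toFun := fun v => ⟨((P⁻¹ : GL (Fin n) E) : Matrix (Fin n) (Fin n) E) *ᵥ v.1, ?_⟩
      invFun := fun x => ⟨(P : Matrix (Fin n) (Fin n) E) *ᵥ x.1, ?_⟩
      left_inv := fun v => Subtype.ext (h1 v.1)
      right_inv := fun x => Subtype.ext (h2 x.1) }
  · rw [← hP, h1]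
    exact v.2
  · rw [hP]
    exact x.2

/-- NEQ -/
theorem qfu_count_ne {E : Type*} [Field E] [Fintype E] {m : ℕ} (h2 : (2 : E) ≠ 0)
    (Q : (Fin (m + 1) → E) → E) (hQ : IsNondegenerateQuadraticForm Q) :
    sfoCount Q 1 ≠ Fintype.card E ^ m := by
  intro hcon
  have hq : (0 : ℤ) < (Fintype.card E : ℤ) := by exact_mod_cast Fintype.card_pos
  have hconZ : (sfoCount Q 1 : ℤ) = (Fintype.card E : ℤ) ^ m := by exact_mod_cast hcon
  obtain ⟨k, hk | hk⟩ := Nat.even_or_odd' (m + 1)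
  · obtain ⟨ε, hε, hcount⟩ := h27_sfo_count_even h2 (m + 1) k hk Q hQ
    have h1 := hcount 1 one_ne_zero
    rw [hconZ] at h1
    have hm : m = (k - 1) + k := by omega
    rw [hm, pow_add] at h1
    have h3 : (Fintype.card E : ℤ) ^ (k - 1) ≠ 0 := pow_ne_zero _ hq.ne'
    have h4 := mul_left_cancel₀ h3 h1
    rcases hε with rfl | rfl <;> omega
  · obtain ⟨e, he, hsq, -⟩ := sfo_count_odd h2 (m + 1) k hk Q hQ
    have h1 := hsq 1 one_ne_zero ⟨1, by simp⟩
    rw [hconZ] at h1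
    have hm : m = k + k := by omega
    rw [hm, pow_add] at h1
    have h3 : (Fintype.card E : ℤ) ^ k ≠ 0 := pow_ne_zero _ hq.ne'
    have h4 := mul_left_cancel₀ h3 h1
    rcases he with rfl | rfl <;> omega

end Cfsg.Agent.Lib.helper2
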