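import Mathlib
import Cfsg.Agent.Lib.helper24.S6eDefs

/-!
helper7: S6002, shared core for pieces AFRG / AINV: words in four pairwise anticommuting
involutions (`h7s6M`), sign-commutation, injectivity of `(a, ε) ↦ ± t^a`, squares.
-/

set_option autoImplicit false
set_option linter.unusedSimpArgs false

namespace Cfsg.Agent.Lib.helper24

open Matrix Cfsg Cfsg.Geo

/-- the word `t0^a0 t1^a1 t2^a2 t3^a3` -/
def h7s6M {S : Type*} [Ring S] (T : Fin 4 → S) (a : Fin 4 → Bool) : S :=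
  (if a 0 then T 0 else 1) * (if a 1 then T 1 else 1) * (if a 2 then T 2 else 1) *
    (if a 3 then T 3 else 1)

/-- parity of the number of `i ≠ j` with `a i` -/
def h7s6par (j : Fin 4) (a : Fin 4 → Bool) : Bool :=
  xor (xor (xor (a 0 && decide ((0 : Fin 4) ≠ j)) (a 1 && decide ((1 : Fin 4) ≠ j)))
    (a 2 && decide ((2 : Fin 4) ≠ j))) (a 3 && decide ((3 : Fin 4) ≠ j))

theorem h7s6_signcomm_mul {S : Type*} [Ring S] (X Y T : S) (b c : Bool)
    (hX : X * T = (if b then (-1 : S) else 1) * (T * X))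
    (hY : Y * T = (if c then (-1 : S) else 1) * (T * Y)) :
    (X * Y) * T = (if xor b c then (-1 : S) else 1) * (T * (X * Y)) := by
  have e1 : X * Y * T = X * (Y * T) := mul_assoc _ _ _
  rw [e1, hY]
  cases b <;> cases c <;> simp at hX ⊢
  · rw [← mul_assoc, hX, mul_assoc]
  · rw [← mul_assoc, hX, mul_assoc]
  · rw [← mul_assoc, hX, neg_mul, mul_assoc]
  · rw [← mul_assoc, hX, neg_mul, mul_assoc, neg_neg]

theorem h7s6_signcomm_factor {S : Type*} [Ring S] (T : Fin 4 → S)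
    (hta : ∀ i j, i ≠ j → T i * T j = -(T j * T i)) (i j : Fin 4) (b : Bool) :
    (if b then T i else 1) * T j
      = (if (b && decide (i ≠ j)) then (-1 : S) else 1) * (T j * (if b then T i else 1)) := by
  cases b
  · simp
  · by_cases h : i = j
    · subst h; simp
    · simp [h, hta i j h]

theorem h7s6_M_signcomm {S : Type*} [Ring S] (T : Fin 4 → S)
    (hta : ∀ i j, i ≠ j → T i * T j = -(T j * T i)) (a : Fin 4 → Bool) (j : Fin 4) :
    h7s6M T a * T j = (if h7s6par j a then (-1 : S) else 1) * (T j * h7s6M T a) := by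
  have h0 := h7s6_signcomm_factor T hta 0 j (a 0)
  have h1 := h7s6_signcomm_factor T hta 1 j (a 1)
  have h2 := h7s6_signcomm_factor T hta 2 j (a 2)
  have h3 := h7s6_signcomm_factor T hta 3 j (a 3)
  exact h7s6_signcomm_mul _ _ _ _ _ (h7s6_signcomm_mul _ _ _ _ _
    (h7s6_signcomm_mul _ _ _ _ _ h0 h1) h2) h3

theorem h7s6_par_inj (a a' : Fin 4 → Bool) (h : ∀ j, h7s6par j a = h7s6par j a') : a = a' := by
  have h0 := h 0
  have h1 := h 1
  have h2 := h 2
  have h3 := h 3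
  simp only [h7s6par] at h0 h1 h2 h3
  have key : ∀ x0 x1 x2 x3 y0 y1 y2 y3 : Bool,
      xor (xor (xor (x0 && decide ((0 : Fin 4) ≠ 0)) (x1 && decide ((1 : Fin 4) ≠ 0)))
        (x2 && decide ((2 : Fin 4) ≠ 0))) (x3 && decide ((3 : Fin 4) ≠ 0))
      = xor (xor (xor (y0 && decide ((0 : Fin 4) ≠ 0)) (y1 && decide ((1 : Fin 4) ≠ 0)))
        (y2 && decide ((2 : Fin 4) ≠ 0))) (y3 && decide ((3 : Fin 4) ≠ 0)) →
      xor (xor (xor (x0 && decide ((0 : Fin 4) ≠ 1)) (x1 && decide ((1 : Fin 4) ≠ 1)))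
        (x2 && decide ((2 : Fin 4) ≠ 1))) (x3 && decide ((3 : Fin 4) ≠ 1))
      = xor (xor (xor (y0 && decide ((0 : Fin 4) ≠ 1)) (y1 && decide ((1 : Fin 4) ≠ 1)))
        (y2 && decide ((2 : Fin 4) ≠ 1))) (y3 && decide ((3 : Fin 4) ≠ 1)) →
      xor (xor (xor (x0 && decide ((0 : Fin 4) ≠ 2)) (x1 && decide ((1 : Fin 4) ≠ 2)))
        (x2 && decide ((2 : Fin 4) ≠ 2))) (x3 && decide ((3 : Fin 4) ≠ 2))
      = xor (xor (xor (y0 && decide ((0 : Fin 4) ≠ 2)) (y1 && decide ((1 : Fin 4) ≠ 2)))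
        (y2 && decide ((2 : Fin 4) ≠ 2))) (y3 && decide ((3 : Fin 4) ≠ 2)) →
      xor (xor (xor (x0 && decide ((0 : Fin 4) ≠ 3)) (x1 && decide ((1 : Fin 4) ≠ 3)))
        (x2 && decide ((2 : Fin 4) ≠ 3))) (x3 && decide ((3 : Fin 4) ≠ 3))
      = xor (xor (xor (y0 && decide ((0 : Fin 4) ≠ 3)) (y1 && decide ((1 : Fin 4) ≠ 3)))
        (y2 && decide ((2 : Fin 4) ≠ 3))) (y3 && decide ((3 : Fin 4) ≠ 3)) →
      x0 = y0 ∧ x1 = y1 ∧ x2 = y2 ∧ x3 = y3 := by decide
  obtain ⟨e0, e1, e2, e3⟩ := key _ _ _ _ _ _ _ _ h0 h1 h2 h3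
  funext j
  fin_cases j
  · exact e0
  · exact e1
  · exact e2
  · exact e3

theorem h7s6_isUnit_M {S : Type*} [Ring S] (T : Fin 4 → S) (hT2 : ∀ i, T i * T i = 1)
    (a : Fin 4 → Bool) : IsUnit (h7s6M T a) := by
  have hf : ∀ (i : Fin 4) (b : Bool), IsUnit (if b then T i else 1) := by
    intro i b
    cases b
    · simp
    · exact ⟨⟨T i, T i, hT2 i, hT2 i⟩, rfl⟩
  exact (((hf 0 (a 0)).mul (hf 1 (a 1))).mul (hf 2 (a 2))).mul (hf 3 (a 3))

theorem h7s6_neg_eq_self {F : Type*} [Field F] (h2 : (2 : F) ≠ 0) (Y : Matrix S6I S6I F)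
    (h : -Y = Y) : Y = 0 := by
  ext i k
  have h1 := congrFun (congrFun h i) k
  simp only [Matrix.neg_apply] at h1
  have h3 : (2 : F) * Y i k = 0 := by linear_combination (-1 : F) * h1
  simpa using (mul_eq_zero.1 h3).resolve_left h2

theorem h7s6_inj {F : Type*} [Field F] (h2 : (2 : F) ≠ 0) (T : Fin 4 → Matrix S6I S6I F)
    (hT2 : ∀ i, T i * T i = 1)
    (hta : ∀ i j, i ≠ j → T i * T j = -(T j * T i)) (a a' : Fin 4 → Bool) (ε ε' : Bool)
    (h : (if ε then (-1 : F) else 1) • h7s6M T a = (if ε' then (-1 : F) else 1) • h7s6M T a') :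
    a = a' ∧ ε = ε' := by
  have hM0 : ∀ b : Fin 4 → Bool, h7s6M T b ≠ 0 := fun b => (h7s6_isUnit_M T hT2 b).ne_zero
  have hX0 : ∀ (b : Fin 4 → Bool) (δ : Bool), (if δ then (-1 : F) else 1) • h7s6M T b ≠ 0 := by
    intro b δ hz
    cases δ
    · simp at hz; exact hM0 b hz
    · simp at hz; exact hM0 b hz
  have hcomm : ∀ (b : Fin 4 → Bool) (δ : Bool) (j : Fin 4),
      ((if δ then (-1 : F) else 1) • h7s6M T b) * T j
        = (if h7s6par j b then (-1 : Matrix S6I S6I F) else 1)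
          * (T j * ((if δ then (-1 : F) else 1) • h7s6M T b)) := by
    intro b δ j
    rw [smul_mul_assoc, h7s6_M_signcomm T hta b j, mul_smul_comm, mul_smul_comm]
  have hpar : ∀ j, h7s6par j a = h7s6par j a' := by
    intro j
    by_contra hne
    have e1 := hcomm a ε j
    have e2 := hcomm a' ε' j
    rw [← h] at e2
    rw [e1] at e2
    set Y := T j * ((if ε then (-1 : F) else 1) • h7s6M T a) with hY
    have hY0 : Y = 0 := by
      cases hpa : h7s6par j a <;> cases hpa' : h7s6par j a' <;> rw [hpa, hpa'] at e2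
      · exact absurd (hpa.trans hpa'.symm) hne
      · simp at e2
        exact h7s6_neg_eq_self h2 Y e2.symm
      · simp at e2
        exact h7s6_neg_eq_self h2 Y e2
      · exact absurd (hpa.trans hpa'.symm) hne
    have hX : (if ε then (-1 : F) else 1) • h7s6M T a = 0 := by
      have e3 : T j * Y = (if ε then (-1 : F) else 1) • h7s6M T a := by
        rw [hY, ← mul_assoc, hT2 j, one_mul]
      rw [← e3, hY0, mul_zero]
    exact hX0 a ε hX
  have haa : a = a' := h7s6_par_inj a a' hpar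
  subst haa
  refine ⟨rfl, ?_⟩
  by_contra hne
  cases ε <;> cases ε'
  · exact hne rfl
  · simp at h
    exact hM0 a (h7s6_neg_eq_self h2 _ h.symm)
  · simp at h
    exact hM0 a (h7s6_neg_eq_self h2 _ h)
  · exact hne rfl

/-- the words of weight 2 or 3 -/
def h7s6bad (a : Fin 4 → Bool) : Bool :=
  decide ((a 0).toNat + (a 1).toNat + (a 2).toNat + (a 3).toNat = 2 ∨
    (a 0).toNat + (a 1).toNat + (a 2).toNat + (a 3).toNat = 3)

theorem h7s6_M_sq {S : Type*} [Ring S] (T : Fin 4 → S) (hT2 : ∀ i, T i * T i = 1)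
    (hta : ∀ i j, i ≠ j → T i * T j = -(T j * T i)) (a : Fin 4 → Bool) :
    h7s6M T a * h7s6M T a = if h7s6bad a then -1 else 1 := by
  have hA := hT2 0
  have hB := hT2 1
  have hC := hT2 2
  have hD := hT2 3
  have hBA := hta 1 0 (by decide)
  have hCA := hta 2 0 (by decide)
  have hDA := hta 3 0 (by decide)
  have hCB := hta 2 1 (by decide)
  have hDB := hta 3 1 (by decide)
  have hDC := hta 3 2 (by decide)
  have hA' : ∀ X, T 0 * (T 0 * X) = X := fun X => by rw [← mul_assoc, hA, one_mul]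
  have hB' : ∀ X, T 1 * (T 1 * X) = X := fun X => by rw [← mul_assoc, hB, one_mul]
  have hC' : ∀ X, T 2 * (T 2 * X) = X := fun X => by rw [← mul_assoc, hC, one_mul]
  have hD' : ∀ X, T 3 * (T 3 * X) = X := fun X => by rw [← mul_assoc, hD, one_mul]
  have hBA' : ∀ X, T 1 * (T 0 * X) = -(T 0 * (T 1 * X)) := fun X => by
    rw [← mul_assoc, hBA, neg_mul, mul_assoc]
  have hCA' : ∀ X, T 2 * (T 0 * X) = -(T 0 * (T 2 * X)) := fun X => by
    rw [← mul_assoc, hCA, neg_mul, mul_assoc]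
  have hDA' : ∀ X, T 3 * (T 0 * X) = -(T 0 * (T 3 * X)) := fun X => by
    rw [← mul_assoc, hDA, neg_mul, mul_assoc]
  have hCB' : ∀ X, T 2 * (T 1 * X) = -(T 1 * (T 2 * X)) := fun X => by
    rw [← mul_assoc, hCB, neg_mul, mul_assoc]
  have hDB' : ∀ X, T 3 * (T 1 * X) = -(T 1 * (T 3 * X)) := fun X => by
    rw [← mul_assoc, hDB, neg_mul, mul_assoc]
  have hDC' : ∀ X, T 3 * (T 2 * X) = -(T 2 * (T 3 * X)) := fun X => by
    rw [← mul_assoc, hDC, neg_mul, mul_assoc]
  unfold h7s6M h7s6bad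
  generalize a 0 = b0
  generalize a 1 = b1
  generalize a 2 = b2
  generalize a 3 = b3
  cases b0 <;> cases b1 <;> cases b2 <;> cases b3 <;>
    simp [mul_assoc, hA, hB, hC, hD, hA', hB', hC', hD', hBA, hCA, hDA, hCB, hDB, hDC,
      hBA', hCA', hDA', hCB', hDB', hDC']

end Cfsg.Agent.Lib.helper24
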