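import Mathlib
import Cfsg.Agent.Lib.helper24.S6eDefs
import Cfsg.Agent.Lib.helper7.S6eFrCore

/-!
helper7: S6002 piece AFRG (`s6_frame_gen`): the 32 matrices `± t0^a0 t1^a1 t2^a2 t3^a3` are
pairwise distinct elements of `R`, so they exhaust `R`.
-/

set_option autoImplicit false

namespace Cfsg.Agent.Lib.helper24

open Matrix Cfsg Cfsg.Geo

/-- the word as an element of `GL` -/
def h7s6P {F : Type*} [Field F] (t : Fin 4 → GL S6I F) (a : Fin 4 → Bool) : GL S6I F :=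
  (if a 0 then t 0 else 1) * (if a 1 then t 1 else 1) * (if a 2 then t 2 else 1) *
    (if a 3 then t 3 else 1)

theorem h7s6P_val {F : Type*} [Field F] (t : Fin 4 → GL S6I F) (a : Fin 4 → Bool) :
    ((h7s6P t a : GL S6I F) : Matrix S6I S6I F)
      = h7s6M (fun i => (t i : Matrix S6I S6I F)) a := by
  unfold h7s6P h7s6M
  generalize a 0 = b0
  generalize a 1 = b1
  generalize a 2 = b2
  generalize a 3 = b3
  cases b0 <;> cases b1 <;> cases b2 <;> cases b3 <;> simp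

theorem h7s6P_mem {F : Type*} [Field F] (R : Subgroup (GL S6I F)) (t : Fin 4 → GL S6I F)
    (ht : ∀ i, t i ∈ R) (a : Fin 4 → Bool) : h7s6P t a ∈ R := by
  have hf : ∀ (i : Fin 4) (b : Bool), (if b then t i else 1) ∈ R := by
    intro i b
    cases b
    · simpa using R.one_mem
    · simpa using ht i
  exact mul_mem (mul_mem (mul_mem (hf 0 (a 0)) (hf 1 (a 1))) (hf 2 (a 2))) (hf 3 (a 3))

/-- the signed word as an element of `GL` -/
def h7s6Q {F : Type*} [Field F] (z : GL S6I F) (t : Fin 4 → GL S6I F)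
    (p : (Fin 4 → Bool) × Bool) : GL S6I F :=
  (if p.2 then z else 1) * h7s6P t p.1

theorem h7s6Q_val {F : Type*} [Field F] (z : GL S6I F) (hz : (z : Matrix S6I S6I F) = -1)
    (t : Fin 4 → GL S6I F) (p : (Fin 4 → Bool) × Bool) :
    ((h7s6Q z t p : GL S6I F) : Matrix S6I S6I F)
      = (if p.2 then (-1 : F) else 1) • h7s6M (fun i => (t i : Matrix S6I S6I F)) p.1 := by
  obtain ⟨a, ε⟩ := p
  unfold h7s6Q
  rw [Units.val_mul, h7s6P_val]
  cases ε
  · simp
  · simp [hz]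

theorem h7s6Q_mem {F : Type*} [Field F] (R : Subgroup (GL S6I F)) (z : GL S6I F) (hzR : z ∈ R)
    (t : Fin 4 → GL S6I F) (ht : ∀ i, t i ∈ R) (p : (Fin 4 → Bool) × Bool) :
    h7s6Q z t p ∈ R := by
  refine mul_mem ?_ (h7s6P_mem R t ht p.1)
  cases p.2
  · simpa using R.one_mem
  · simpa using hzR

theorem h7s6Q_inj {F : Type*} [Field F] (h2 : (2 : F) ≠ 0) (z : GL S6I F)
    (hz : (z : Matrix S6I S6I F) = -1) (t : Fin 4 → GL S6I F)
    (ht2 : ∀ i, (t i : Matrix S6I S6I F) * (t i : Matrix S6I S6I F) = 1)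
    (hta : ∀ i j, i ≠ j → (t i : Matrix S6I S6I F) * (t j : Matrix S6I S6I F)
      = -((t j : Matrix S6I S6I F) * (t i : Matrix S6I S6I F))) :
    Function.Injective (h7s6Q z t) := by
  intro p p' h
  have h1 := congrArg (fun s : GL S6I F => (s : Matrix S6I S6I F)) h
  simp only [h7s6Q_val z hz] at h1
  obtain ⟨ha, he⟩ := h7s6_inj h2 (fun i => (t i : Matrix S6I S6I F)) ht2 hta _ _ _ _ h1
  exact Prod.ext ha he

/-- AFRG (L). -/
theorem s6_frame_gen {F : Type*} [Field F] [Fintype F] (h2 : (2 : F) ≠ 0) (R : Subgroup (GL S6I F))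
    (hR5 : Nat.card R = 32) (hneg : ∃ z ∈ R, (z : Matrix S6I S6I F) = -1)
    (t : Fin 4 → GL S6I F) (ht : ∀ i, t i ∈ R) (ht2 : ∀ i, (t i : Matrix S6I S6I F) * (t i : Matrix S6I S6I F) = 1)
    (hta : ∀ i j, i ≠ j → (t i : Matrix S6I S6I F) * (t j : Matrix S6I S6I F) = -((t j : Matrix S6I S6I F) * (t i : Matrix S6I S6I F))) :
    S6Frame R t := by
  classical
  obtain ⟨z, hzR, hz⟩ := hneg
  refine ⟨ht, ht2, hta, ?_⟩
  let Φ : (Fin 4 → Bool) × Bool → ↥R := fun p => ⟨h7s6Q z t p, h7s6Q_mem R z hzR t ht p⟩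
  have hinj : Function.Injective Φ := by
    intro p p' h
    exact h7s6Q_inj h2 z hz t ht2 hta (congrArg Subtype.val h)
  haveI : Finite ↥R := inferInstance
  have hcard : Nat.card ((Fin 4 → Bool) × Bool) = Nat.card ↥R := by
    rw [hR5, Nat.card_eq_fintype_card]
    simp
  have hbij : Function.Bijective Φ := (Nat.bijective_iff_injective_and_card Φ).2 ⟨hinj, hcard⟩
  intro s hs
  obtain ⟨⟨a, ε⟩, hp⟩ := hbij.2 ⟨s, hs⟩
  refine ⟨a, ε, ?_⟩
  have h3 := h7s6Q_val z hz t (a, ε)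
  have h4 : h7s6Q z t (a, ε) = s := congrArg Subtype.val hp
  rw [h4] at h3
  exact h3

end Cfsg.Agent.Lib.helper24
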