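import Mathlib
import Cfsg.Agent.Lib.helper24.S6eDefs
import Cfsg.Agent.Lib.helper7.S6eAFRG

/-!
helper7: S6002 piece AINV (`s6_invol_card`): a frame group has exactly ten non-central
involutions, `± t i` and `± t0 t1 t2 t3`.
-/

set_option autoImplicit false

namespace Cfsg.Agent.Lib.helper24

open Matrix Cfsg Cfsg.Geo

/-- the five selected words: the four letters and the full word -/
def h7s6sel (k : Fin 5) : Fin 4 → Bool := fun i => decide (k = 4) || decide ((i : ℕ) = (k : ℕ))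

theorem h7s6sel_inj : ∀ k k' : Fin 5, h7s6sel k = h7s6sel k' → k = k' := by decide

theorem h7s6sel_ne : ∀ k : Fin 5, h7s6sel k ≠ fun _ => false := by decide

theorem h7s6sel_surj : ∀ a : Fin 4 → Bool, h7s6bad a = false → a ≠ (fun _ => false) →
    ∃ k, h7s6sel k = a := by decide

theorem h7s6sel_bad : ∀ k : Fin 5, h7s6bad (h7s6sel k) = false := by decide

/-- AINV (L). -/
theorem s6_invol_card {F : Type*} [Field F] [Fintype F] (h2 : (2 : F) ≠ 0) (R : Subgroup (GL S6I F))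
    (hneg : ∃ z ∈ R, (z : Matrix S6I S6I F) = -1) (t : Fin 4 → GL S6I F) (hfr : S6Frame R t) :
    Nat.card {s : GL S6I F // s ∈ R ∧ (s : Matrix S6I S6I F) * (s : Matrix S6I S6I F) = 1 ∧ (s : Matrix S6I S6I F) ≠ 1 ∧ (s : Matrix S6I S6I F) ≠ -1} = 10 := by
  classical
  obtain ⟨z, hzR, hz⟩ := hneg
  obtain ⟨ht, ht2, hta, hgen⟩ := hfr
  have hM0 : h7s6M (fun i => (t i : Matrix S6I S6I F)) (fun _ => false) = 1 := by simp [h7s6M]
  have hneg1 : (-1 : Matrix S6I S6I F) ≠ 1 := by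
    intro h
    exact one_ne_zero (h7s6_neg_eq_self h2 1 h)
  have hval := h7s6Q_val z hz t
  have hQinj := h7s6Q_inj h2 z hz t ht2 hta
  have hsq : ∀ p : (Fin 4 → Bool) × Bool,
      ((h7s6Q z t p : GL S6I F) : Matrix S6I S6I F) * ((h7s6Q z t p : GL S6I F) : Matrix S6I S6I F)
        = if h7s6bad p.1 then -1 else 1 := by
    intro p
    rw [hval, smul_mul_smul_comm, h7s6_M_sq _ ht2 hta]
    cases p.2 <;> simp
  have e0 : ((h7s6Q z t (fun _ => false, false) : GL S6I F) : Matrix S6I S6I F) = 1 := by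
    rw [hval]; simp [hM0]
  have e1 : ((h7s6Q z t (fun _ => false, true) : GL S6I F) : Matrix S6I S6I F) = -1 := by
    rw [hval]; simp [hM0]
  have hΨ : ∀ q : Fin 5 × Bool, h7s6Q z t (h7s6sel q.1, q.2) ∈ R ∧
      ((h7s6Q z t (h7s6sel q.1, q.2) : GL S6I F) : Matrix S6I S6I F)
        * ((h7s6Q z t (h7s6sel q.1, q.2) : GL S6I F) : Matrix S6I S6I F) = 1 ∧
      ((h7s6Q z t (h7s6sel q.1, q.2) : GL S6I F) : Matrix S6I S6I F) ≠ 1 ∧
      ((h7s6Q z t (h7s6sel q.1, q.2) : GL S6I F) : Matrix S6I S6I F) ≠ -1 := by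
    intro q
    refine ⟨h7s6Q_mem R z hzR t ht _, ?_, ?_, ?_⟩
    · rw [hsq]
      simp [h7s6sel_bad q.1]
    · intro h
      have h3 := hQinj (Units.ext (h.trans e0.symm))
      exact h7s6sel_ne q.1 (Prod.ext_iff.1 h3).1
    · intro h
      have h3 := hQinj (Units.ext (h.trans e1.symm))
      exact h7s6sel_ne q.1 (Prod.ext_iff.1 h3).1
  let Ψ : Fin 5 × Bool → {s : GL S6I F // s ∈ R ∧ (s : Matrix S6I S6I F) * (s : Matrix S6I S6I F) = 1 ∧ (s : Matrix S6I S6I F) ≠ 1 ∧ (s : Matrix S6I S6I F) ≠ -1} :=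
    fun q => ⟨h7s6Q z t (h7s6sel q.1, q.2), hΨ q⟩
  have hinj : Function.Injective Ψ := by
    intro q q' h
    have h3 := hQinj (congrArg Subtype.val h)
    exact Prod.ext (h7s6sel_inj _ _ (Prod.ext_iff.1 h3).1) (Prod.ext_iff.1 h3).2
  have hsurj : Function.Surjective Ψ := by
    rintro ⟨s, hsR, hs2, hs1, hsn⟩
    obtain ⟨a, ε, hsa⟩ := hgen s hsR
    have hsa' : (s : Matrix S6I S6I F)
        = (if ε then (-1 : F) else 1) • h7s6M (fun i => (t i : Matrix S6I S6I F)) a := hsa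
    have hs : s = h7s6Q z t (a, ε) := Units.ext (hsa'.trans (hval (a, ε)).symm)
    have hbad : h7s6bad a = false := by
      have h3 := hsq (a, ε)
      rw [← hs, hs2] at h3
      cases hb : h7s6bad a
      · rfl
      · rw [hb] at h3
        simp at h3
        exact absurd h3.symm hneg1
    have ha0 : a ≠ fun _ => false := by
      intro h
      subst h
      cases ε
      · exact hs1 (by rw [hs]; exact e0)
      · exact hsn (by rw [hs]; exact e1)
    obtain ⟨k, hk⟩ := h7s6sel_surj a hbad ha0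
    refine ⟨(k, ε), Subtype.ext ?_⟩
    show h7s6Q z t (h7s6sel k, ε) = s
    rw [hk, hs]
  have hcard := Nat.card_congr (Equiv.ofBijective Ψ ⟨hinj, hsurj⟩)
  rw [← hcard, Nat.card_eq_fintype_card]
  simp

end Cfsg.Agent.Lib.helper24
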