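import Cfsg.Agent.Lib.helper95.APDefs

/-!
# S2276 piece RESTRICT (`restrict`): a good pair on an invariant subset gives a good pair
-/

set_option autoImplicit false

namespace Cfsg.Agent.Lib.helper95.AP

open Equiv

/-- The permutations of `Fin n` which (together with their inverse) preserve the range of `ι`. -/
def helper7_stabS {n m : ℕ} (ι : Fin m ↪ Fin n) : Subgroup (Perm (Fin n)) where
  carrier := {σ | (∀ i, ∃ j, σ (ι i) = ι j) ∧ (∀ i, ∃ j, σ⁻¹ (ι i) = ι j)}
  mul_mem' := by
    rintro σ τ ⟨hσ1, hσ2⟩ ⟨hτ1, hτ2⟩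
    refine ⟨fun i => ?_, fun i => ?_⟩
    · obtain ⟨j, hj⟩ := hτ1 i
      obtain ⟨j', hj'⟩ := hσ1 j
      exact ⟨j', by rw [Perm.mul_apply, hj, hj']⟩
    · obtain ⟨j, hj⟩ := hσ2 i
      obtain ⟨j', hj'⟩ := hτ2 j
      exact ⟨j', by rw [mul_inv_rev, Perm.mul_apply, hj, hj']⟩
  one_mem' := ⟨fun i => ⟨i, rfl⟩, fun i => ⟨i, by rw [inv_one]; rfl⟩⟩
  inv_mem' := by
    rintro σ ⟨hσ1, hσ2⟩
    exact ⟨hσ2, by rw [inv_inv]; exact hσ1⟩

/-- The induced map on `Fin m`. -/
noncomputable def helper7_resFun {n m : ℕ} (ι : Fin m ↪ Fin n) (σ : ↥(helper7_stabS ι)) :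
    Fin m → Fin m := fun i => Classical.choose (σ.2.1 i)

theorem helper7_resFun_spec {n m : ℕ} (ι : Fin m ↪ Fin n) (σ : ↥(helper7_stabS ι)) (i : Fin m) :
    ι (helper7_resFun ι σ i) = (σ : Perm (Fin n)) (ι i) :=
  (Classical.choose_spec (σ.2.1 i)).symm

/-- The restriction homomorphism. -/
noncomputable def helper7_resHom {n m : ℕ} (ι : Fin m ↪ Fin n) :
    ↥(helper7_stabS ι) →* Perm (Fin m) :=
  MonoidHom.mk' (fun σ =>
    { toFun := helper7_resFun ι σ
      invFun := helper7_resFun ι σ⁻¹
      left_inv := by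
        intro i
        apply ι.injective
        rw [helper7_resFun_spec, helper7_resFun_spec, Subgroup.coe_inv]
        simp
      right_inv := by
        intro i
        apply ι.injective
        rw [helper7_resFun_spec, helper7_resFun_spec, Subgroup.coe_inv]
        simp })
    (by
      intro σ τ
      apply Equiv.ext
      intro i
      apply ι.injective
      show ι (helper7_resFun ι (σ * τ) i) = ι (helper7_resFun ι σ (helper7_resFun ι τ i))
      rw [helper7_resFun_spec, helper7_resFun_spec, helper7_resFun_spec, Subgroup.coe_mul,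
        Perm.mul_apply])

theorem helper7_resHom_apply {n m : ℕ} (ι : Fin m ↪ Fin n) (σ : ↥(helper7_stabS ι)) (i : Fin m) :
    ι (helper7_resHom ι σ i) = (σ : Perm (Fin n)) (ι i) :=
  helper7_resFun_spec ι σ i

theorem helper7_mem_stabS {n m : ℕ} (ι : Fin m ↪ Fin n) (U : Perm (Fin n)) (a : Perm (Fin m))
    (hU : ∀ i, U (ι i) = ι (a i)) : U ∈ helper7_stabS ι := by
  refine ⟨fun i => ⟨a i, hU i⟩, fun i => ⟨a⁻¹ i, ?_⟩⟩
  rw [Perm.inv_eq_iff_eq, hU]
  simp

/-- [RESTRICT] a good pair on an invariant subset gives a good pair -/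
theorem restrict (p : ℕ) (hp : p.Prime) {n m : ℕ} (U W' : Perm (Fin n)) (a b : Perm (Fin m))
    (ι : Fin m ↪ Fin n) (hU : ∀ i, U (ι i) = ι (a i)) (hW : ∀ i, W' (ι i) = ι (b i))
    (h : Good p a b) : Good p U W' := by
  obtain ⟨h1, h2⟩ := h
  constructor
  · rintro ⟨k, hk⟩
    apply h1
    have hstep : ∀ i, (U * W') (ι i) = ι ((a * b) i) := by
      intro i
      rw [Perm.mul_apply, Perm.mul_apply, hW, hU]
    have hpow : ∀ N : ℕ, ∀ i, ((U * W') ^ N) (ι i) = ι (((a * b) ^ N) i) := by
      intro N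
      induction N with
      | zero =>
        intro i
        rw [pow_zero, pow_zero]
        rfl
      | succ N ih =>
        intro i
        rw [pow_succ, Perm.mul_apply, hstep, ih, pow_succ]
        rfl
    have hone : (a * b) ^ orderOf (U * W') = 1 := by
      apply Equiv.ext
      intro i
      apply ι.injective
      rw [← hpow, pow_orderOf_eq_one]
      rfl
    have hdvd : orderOf (a * b) ∣ p ^ k := by
      rw [← hk]
      exact orderOf_dvd_of_pow_eq_one hone
    obtain ⟨j, -, hj⟩ := (Nat.dvd_prime_pow hp).1 hdvd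
    exact ⟨j, hj⟩
  · intro hsol
    apply h2
    have hUS : U ∈ helper7_stabS ι := helper7_mem_stabS ι U a hU
    have hWS : W' ∈ helper7_stabS ι := helper7_mem_stabS ι W' b hW
    have hφU : helper7_resHom ι ⟨U, hUS⟩ = a := by
      apply Equiv.ext
      intro i
      apply ι.injective
      rw [helper7_resHom_apply, hU]
    have hφW : helper7_resHom ι ⟨W', hWS⟩ = b := by
      apply Equiv.ext
      intro i
      apply ι.injective
      rw [helper7_resHom_apply, hW]
    -- the subgroup of the stabiliser generated by `U`, `W'`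
    obtain ⟨K, hK⟩ : ∃ K : Subgroup ↥(helper7_stabS ι),
        K = Subgroup.closure ({⟨U, hUS⟩, ⟨W', hWS⟩} : Set ↥(helper7_stabS ι)) := ⟨_, rfl⟩
    have hUK : (⟨U, hUS⟩ : ↥(helper7_stabS ι)) ∈ K := by
      rw [hK]
      exact Subgroup.subset_closure (Set.mem_insert _ _)
    have hWK : (⟨W', hWS⟩ : ↥(helper7_stabS ι)) ∈ K := by
      rw [hK]
      exact Subgroup.subset_closure (Set.mem_insert_of_mem _ rfl)
    have hK_le : ∀ x : ↥K, ((x : ↥(helper7_stabS ι)) : Perm (Fin n)) ∈
          Subgroup.closure ({U, W'} : Set (Perm (Fin n))) := by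
      intro x
      have hle : K ≤
          (Subgroup.closure ({U, W'} : Set (Perm (Fin n)))).comap (helper7_stabS ι).subtype := by
        rw [hK, Subgroup.closure_le]
        rintro y (rfl | rfl)
        · exact Subgroup.subset_closure (Set.mem_insert _ _)
        · exact Subgroup.subset_closure (Set.mem_insert_of_mem _ rfl)
      exact hle x.2
    obtain ⟨ψ, hψval⟩ : ∃ ψ : ↥K →* ↥(Subgroup.closure ({U, W'} : Set (Perm (Fin n)))),
        ∀ x : ↥K, ((ψ x : ↥(Subgroup.closure ({U, W'} : Set (Perm (Fin n))))) : Perm (Fin n)) =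
          ((x : ↥(helper7_stabS ι)) : Perm (Fin n)) :=
      ⟨((helper7_stabS ι).subtype.comp K.subtype).codRestrict
        (Subgroup.closure ({U, W'} : Set (Perm (Fin n)))) hK_le, fun x => rfl⟩
    have hψ : Function.Injective ψ := by
      intro x y hxy
      apply Subtype.ext
      apply Subtype.ext
      rw [← hψval, ← hψval, hxy]
    have hKsol : Group.IsSolvable ↥K := Group.isSolvable_of_isSolvable_injective (f := ψ) hψ
    have hMsol : Group.IsSolvable ↥(K.map (helper7_resHom ι)) :=
      Group.isSolvable_of_surjective (f := (helper7_resHom ι).subgroupMap K)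
        ((helper7_resHom ι).subgroupMap_surjective K)
    have hle : Subgroup.closure ({a, b} : Set (Perm (Fin m))) ≤ K.map (helper7_resHom ι) := by
      rw [Subgroup.closure_le]
      rintro x (rfl | rfl)
      · exact ⟨⟨U, hUS⟩, hUK, hφU⟩
      · exact ⟨⟨W', hWS⟩, hWK, hφW⟩
    exact Group.isSolvable_of_isSolvable_injective (f := Subgroup.inclusion hle)
      (Subgroup.inclusion_injective hle)

end Cfsg.Agent.Lib.helper95.AP
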