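import Mathlib
import Cfsg.Agent.Lib.helper26.S4409Defs

/-!
# S4409 piece KN (`kn`): `⁅X, H⁆ ≤ X` is normalized by `X` and by `H` when `H` normalizes `X`
-/

set_option autoImplicit false

namespace Cfsg.Agent.Lib.helper26.S4409

variable {G : Type*} [Group G]

open scoped commutatorElement

/-- A subgroup generated by a set which is stable under conjugation by `g` is stable under
conjugation by `g`. -/
theorem helper7_conj_mem_closure (S : Set G) (g : G)
    (hS : ∀ s ∈ S, g * s * g⁻¹ ∈ Subgroup.closure S) :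
    ∀ k ∈ Subgroup.closure S, g * k * g⁻¹ ∈ Subgroup.closure S := by
  intro k hk
  induction hk using Subgroup.closure_induction with
  | mem s hs => exact hS s hs
  | one => rw [mul_one, mul_inv_cancel]; exact Subgroup.one_mem _
  | mul a b _ _ ha hb =>
    have : g * (a * b) * g⁻¹ = (g * a * g⁻¹) * (g * b * g⁻¹) := by group
    rw [this]
    exact Subgroup.mul_mem _ ha hb
  | inv a _ ha =>
    have : g * a⁻¹ * g⁻¹ = (g * a * g⁻¹)⁻¹ := by group
    rw [this]
    exact Subgroup.inv_mem _ ha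

theorem helper7_mem_normalizer_of_conj (K : Subgroup G) (g : G)
    (h1 : ∀ k ∈ K, g * k * g⁻¹ ∈ K) (h2 : ∀ k ∈ K, g⁻¹ * k * g⁻¹⁻¹ ∈ K) :
    g ∈ Subgroup.normalizer (K : Set G) := by
  rw [Subgroup.mem_normalizer_iff]
  intro k
  constructor
  · intro hk
    exact h1 k hk
  · intro hk
    have h3 := h2 _ hk
    have h4 : g⁻¹ * (g * k * g⁻¹) * g⁻¹⁻¹ = k := by group
    rw [h4] at h3
    exact h3

theorem kn (X H : Subgroup G) (hH : H ≤ Subgroup.normalizer (X : Set G)) :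
    ⁅X, H⁆ ≤ X ∧ X ≤ Subgroup.normalizer ((⁅X, H⁆ : Subgroup G) : Set G) ∧
      H ≤ Subgroup.normalizer ((⁅X, H⁆ : Subgroup G) : Set G) := by
  -- `h x h⁻¹ ∈ X`
  have hconj : ∀ h ∈ H, ∀ x ∈ X, h * x * h⁻¹ ∈ X := by
    intro h hh x hx
    exact (Subgroup.mem_normalizer_iff.1 (hH hh) x).1 hx
  have hcomm : ∀ x ∈ X, ∀ h ∈ H, ⁅x, h⁆ ∈ ⁅X, H⁆ := fun x hx h hh =>
    Subgroup.commutator_mem_commutator hx hh
  have hle : ⁅X, H⁆ ≤ X := by
    rw [Subgroup.commutator_le]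
    intro x hx h hh
    have h1 : ⁅x, h⁆ = x * (h * x⁻¹ * h⁻¹) := by
      rw [commutatorElement_def]
      group
    rw [h1]
    exact X.mul_mem hx (hconj h hh _ (X.inv_mem hx))
  -- conjugation by elements of `X`
  have hX : ∀ x' ∈ X, ∀ k ∈ ⁅X, H⁆, x' * k * x'⁻¹ ∈ ⁅X, H⁆ := by
    intro x' hx'
    rw [Subgroup.commutator_def]
    apply helper7_conj_mem_closure
    rintro s ⟨x, hx, h, hh, rfl⟩
    rw [← Subgroup.commutator_def]
    have h1 : x' * ⁅x, h⁆ * x'⁻¹ = ⁅x' * x, h⁆ * ⁅x', h⁆⁻¹ := by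
      rw [commutatorElement_def, commutatorElement_def, commutatorElement_def]
      group
    rw [h1]
    exact Subgroup.mul_mem _ (hcomm _ (X.mul_mem hx' hx) h hh)
      (Subgroup.inv_mem _ (hcomm _ hx' h hh))
  -- conjugation by elements of `H`
  have hHc : ∀ h' ∈ H, ∀ k ∈ ⁅X, H⁆, h' * k * h'⁻¹ ∈ ⁅X, H⁆ := by
    intro h' hh'
    rw [Subgroup.commutator_def]
    apply helper7_conj_mem_closure
    rintro s ⟨x, hx, h, hh, rfl⟩
    rw [← Subgroup.commutator_def]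
    have h1 : h' * ⁅x, h⁆ * h'⁻¹ = ⁅h' * x * h'⁻¹, h' * h * h'⁻¹⁆ := by
      rw [commutatorElement_def, commutatorElement_def]
      group
    rw [h1]
    exact hcomm _ (hconj h' hh' x hx) _ (H.mul_mem (H.mul_mem hh' hh) (H.inv_mem hh'))
  refine ⟨hle, ?_, ?_⟩
  · intro x' hx'
    exact helper7_mem_normalizer_of_conj _ x' (hX x' hx') (hX x'⁻¹ (X.inv_mem hx'))
  · intro h' hh'
    exact helper7_mem_normalizer_of_conj _ h' (hHc h' hh') (hHc h'⁻¹ (H.inv_mem hh'))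

end Cfsg.Agent.Lib.helper26.S4409
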