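import Mathlib
import Cfsg.Agent.Lib.helper26.S4409Defs

/-!
# S4409 piece BM (`bm`): existence of a maximal proper subgroup of `X` normalized by `X` and `H`
-/

set_option autoImplicit false
set_option linter.unusedVariables false

namespace Cfsg.Agent.Lib.helper26.S4409

variable {G : Type*} [Group G]

theorem bm [Finite G] (X H : Subgroup G) (hH : H ≤ Subgroup.normalizer (X : Set G)) (hne : X ≠ ⊥) :
    ∃ M : Subgroup G, IsMaxInv X H M := by
  classical
  have hfin : ({N : Subgroup G | N ≤ X ∧ N ≠ X ∧ X ≤ Subgroup.normalizer (N : Set G) ∧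
      H ≤ Subgroup.normalizer (N : Set G)} : Set (Subgroup G)).Finite := Set.toFinite _
  have hbotn : ∀ g : G, g ∈ Subgroup.normalizer (((⊥ : Subgroup G) : Subgroup G) : Set G) := by
    intro g
    rw [Subgroup.mem_normalizer_iff]
    intro k
    rw [Subgroup.mem_bot, Subgroup.mem_bot, conj_eq_one_iff]
  have hbot : (⊥ : Subgroup G) ∈ ({N : Subgroup G | N ≤ X ∧ N ≠ X ∧
      X ≤ Subgroup.normalizer (N : Set G) ∧ H ≤ Subgroup.normalizer (N : Set G)} :
        Set (Subgroup G)) :=
    ⟨bot_le, fun h => hne h.symm, fun g _ => hbotn g, fun g _ => hbotn g⟩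
  obtain ⟨M, hM, hmax⟩ := Finset.exists_max_image hfin.toFinset (fun N => Nat.card ↥N)
    ⟨⊥, hfin.mem_toFinset.2 hbot⟩
  rw [Set.Finite.mem_toFinset] at hM
  refine ⟨M, hM.1, hM.2.1, hM.2.2.1, hM.2.2.2, ?_⟩
  intro N hMN hNX hXN hHN
  by_cases hN : N = X
  · right
    exact hN
  · left
    have hcard := hmax N (hfin.mem_toFinset.2 ⟨hNX, hN, hXN, hHN⟩)
    exact (Subgroup.eq_of_le_of_card_ge hMN hcard).symm

end Cfsg.Agent.Lib.helper26.S4409
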