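import Mathlib
import Cfsg.Agent.Lib.helper26.S4409Defs

/-!
# S4409 piece QLE (`qle`): `O_2(S)` is normal and lies in every Sylow 2-subgroup
-/

set_option autoImplicit false

namespace Cfsg.Agent.Lib.helper26.S4409

variable {G : Type*} [Group G]

theorem qle {S : Type*} [Group S] [Finite S] (X : Sylow 2 S) :
    Cfsg.pCore 2 S ≤ (X : Subgroup S) ∧ (Cfsg.pCore 2 S).Normal := by
  have hn : (Cfsg.pCore 2 S).Normal := Subgroup.sSup_normal _ (fun _ h => h.1)
  have hp : IsPGroup 2 (Cfsg.pCore 2 S) :=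
    Sylow.sSup_of_normal _ (fun _ h => h.2) (fun _ h => h.1)
  exact ⟨hp.le_sylow_of_normal X, hn⟩

end Cfsg.Agent.Lib.helper26.S4409
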