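import Mathlib

/-!
# S4395 sub-split EXB, leaf XF4 (`exb_char`): the character `k ↦ lam ^ k.val` of `ZMod (q ^ r)`
-/

set_option autoImplicit false

namespace Cfsg.Agent.Lib.helper3.Gf

universe u

/-- XF4 : the character `k ↦ lam ^ k.val` of `ZMod (q ^ r)`. -/
theorem exb_char (q r : ℕ) [Fact q.Prime] (hr : 1 ≤ r) {L : Type u} [CommRing L] (σ : L →+* L)
    (lam : L) (hlam : lam ^ q = 1) (hnorm : lam * σ lam = 1) :
    ∃ e : ZMod (q ^ r) → L, e 0 = 1 ∧ (∀ a b, e (a + b) = e a * e b) ∧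
      (∀ a, e a * σ (e a) = 1) ∧ e 1 = lam ∧ e (q : ZMod (q ^ r)) = 1 := by
  have hq : q.Prime := Fact.out
  have hN1 : 1 < q ^ r := Nat.one_lt_pow (by omega) hq.one_lt
  have : NeZero (q ^ r) := ⟨by omega⟩
  have hlamN : lam ^ (q ^ r) = 1 := by
    obtain ⟨k, rfl⟩ : ∃ k, r = k + 1 := ⟨r - 1, by omega⟩
    rw [pow_succ, mul_comm, pow_mul, hlam, one_pow]
  refine ⟨fun a => lam ^ a.val, ?_, ?_, ?_, ?_, ?_⟩
  · show lam ^ (0 : ZMod (q ^ r)).val = 1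
    rw [ZMod.val_zero, pow_zero]
  · intro a b
    show lam ^ (a + b).val = lam ^ a.val * lam ^ b.val
    rw [ZMod.val_add, ← pow_eq_pow_mod _ hlamN, pow_add]
  · intro a
    show lam ^ a.val * σ (lam ^ a.val) = 1
    rw [map_pow, ← mul_pow, hnorm, one_pow]
  · show lam ^ (1 : ZMod (q ^ r)).val = lam
    rw [ZMod.val_one_eq_one_mod, Nat.mod_eq_of_lt hN1, pow_one]
  · show lam ^ ((q : ℕ) : ZMod (q ^ r)).val = 1
    rw [ZMod.val_natCast, ← pow_eq_pow_mod _ hlamN, hlam]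

end Cfsg.Agent.Lib.helper3.Gf
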