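import Mathlib
import Cfsg.Agent.Lib.helper24.SffDefs
import Cfsg.Agent.Lib.helper24.DecMaschke

/-!
# S5965, piece SPLIT (racing copy, prefixed name)
-/

set_option autoImplicit false

namespace Cfsg.Agent.Lib.helper24

open Module

/-- **SPLIT**. -/
theorem h7_sff_split_irr {F : Type*} [Field F] {V : Type*} [AddCommGroup V] [Module F V]
    [FiniteDimensional F V] [Nontrivial V] (f : Module.End F V) (r : ℕ) (hrF : (r : F) ≠ 0)
    (hf : f ^ r = 1) :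
    ∃ W W' : Submodule F V, IsCompl W W' ∧ (∀ w ∈ W, f w ∈ W) ∧ (∀ w ∈ W', f w ∈ W') ∧ W ≠ ⊥ ∧
      ∀ U : Submodule F V, U ≤ W → (∀ u ∈ U, f u ∈ U) → U = ⊥ ∨ U = W := by
  have hwf : WellFounded ((· < ·) : Submodule F V → Submodule F V → Prop) := wellFounded_lt
  have hne : {W : Submodule F V | W ≠ ⊥ ∧ ∀ w ∈ W, f w ∈ W}.Nonempty :=
    ⟨⊤, top_ne_bot, fun w _ => Submodule.mem_top⟩
  obtain ⟨W, ⟨hW0, hWf⟩, hmin⟩ := hwf.has_min _ hne
  have hT : f ^ r = (1 : F) • (1 : Module.End F V) := by rw [hf, one_smul]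
  obtain ⟨W', hc, hW'⟩ := dec_maschke f r 1 one_ne_zero hrF hT W hWf
  refine ⟨W, W', hc, hWf, hW', hW0, ?_⟩
  intro U hUW hUf
  by_cases hU0 : U = ⊥
  · exact Or.inl hU0
  · right
    rcases eq_or_lt_of_le hUW with h | h
    · exact h
    · exact absurd h (hmin U ⟨hU0, hUf⟩)

end Cfsg.Agent.Lib.helper24
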