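import Cfsg.Agent.Lib.helper7.APGPCcore
import Cfsg.Agent.Lib.helper4.APPORD
import Cfsg.Agent.Lib.helper4.APNS
import Cfsg.Agent.Lib.helper98.APPRIM

/-!
helper7: S2276 piece GPC (`gpc`): the good pair criterion, assembled from `helper7_gpc_core`
and the landed pieces PORD, NS, PRIM.
-/

set_option autoImplicit false

namespace Cfsg.Agent.Lib.helper95.AP

open Equiv

/-- [GPC] good pair criterion; uses PORD, NS, PRIM -/
theorem gpc (p : ℕ) (hp : p.Prime) (hp3 : 3 ≤ p) (e : ℕ) (he : 1 ≤ e) (b : Perm (Fin (p ^ e)))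
    (x y : Fin (p ^ e)) (hxy : ((p ^ (e - 1) : ℕ) : ℤ) ∣ ((x : ℕ) : ℤ) - ((y : ℕ) : ℤ))
    (hbxy : ¬ (p : ℤ) ∣ (((b x : Fin (p ^ e)) : ℕ) : ℤ) - (((b y : Fin (p ^ e)) : ℕ) : ℤ))
    (f : ℕ)
    (hf : (Finset.univ.filter (fun z : Fin (p ^ e) => (finRotate (p ^ e) * b) z = z)).card = f)
    (hf2 : 2 ≤ f) (hfp : ¬ p ∣ f) : Good p (finRotate (p ^ e)) b := by
  have hm : 2 ≤ p ^ e := by
    calc 2 ≤ p := by omega
      _ = p ^ 1 := (pow_one p).symm
      _ ≤ p ^ e := Nat.pow_le_pow_right (by omega) he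
  refine helper7_gpc_core p hp e he b (fun g hg => pord p hp g hg)
    (fun H hprim hsol => (ns hm H hprim hsol).2) ?_ f hf hf2 hfp
  exact prim p hp e he _ (Subgroup.subset_closure (by simp)) b (Subgroup.subset_closure (by simp))
    x y hxy hbxy

end Cfsg.Agent.Lib.helper95.AP
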