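import Cfsg.Agent.Lib.helper42.FGDefs

/-!
helper7: S1915 pieces P0 (`rank0_mono`) and P1 (`perfect_of_layer`).
-/

set_option autoImplicit false

namespace Cfsg.Agent.Lib.helper42.FG

variable {G : Type*} [Group G] [Finite G]

/-- P0 -/
theorem rank0_mono (H K : Subgroup G) (hHK : H ≤ K) (h : ¬ Cfsg.PRankLE 2 0 ↥H) :
    ¬ Cfsg.PRankLE 2 0 ↥K := by
  intro hK
  apply h
  intro A hcomm hexp
  have hinj : Function.Injective (Subgroup.inclusion hHK) := Subgroup.inclusion_injective hHK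
  have hc : IsMulCommutative (A.map (Subgroup.inclusion hHK)) := by
    refine ⟨⟨?_⟩⟩
    rintro ⟨x, hx⟩ ⟨y, hy⟩
    obtain ⟨a, ha, rfl⟩ := hx
    obtain ⟨b, hb, rfl⟩ := hy
    apply Subtype.ext
    have h1 : (⟨a, ha⟩ : A) * ⟨b, hb⟩ = ⟨b, hb⟩ * ⟨a, ha⟩ := hcomm.is_comm.comm _ _
    have h2 : a * b = b * a := congrArg Subtype.val h1
    show Subgroup.inclusion hHK a * Subgroup.inclusion hHK b
      = Subgroup.inclusion hHK b * Subgroup.inclusion hHK a
    rw [← map_mul, ← map_mul, h2]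
  have he : ∀ a ∈ A.map (Subgroup.inclusion hHK), a ^ 2 = 1 := by
    rintro x ⟨a, ha, rfl⟩
    rw [← map_pow, hexp a ha, map_one]
  have h3 := hK (A.map (Subgroup.inclusion hHK)) hc he
  have h4 : Nat.card (A.map (Subgroup.inclusion hHK)) = Nat.card A :=
    Nat.card_congr (A.equivMapOfInjective (Subgroup.inclusion hHK) hinj).toEquiv.symm
  rw [h4] at h3
  exact h3

/-- P1 -/
theorem perfect_of_layer (A : Subgroup G) (hA : Cfsg.layer ↥A = ⊤) : commutator ↥A = ⊤ := by
  rw [eq_top_iff, ← hA]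
  unfold Cfsg.layer
  apply sSup_le
  intro K hK
  have hperf : commutator ↥K = ⊤ := hK.2.1.commutator_eq_top
  have h1 : (⊤ : Subgroup ↥K).map K.subtype = K := by
    rw [← MonoidHom.range_eq_map, Subgroup.range_subtype]
  calc K = (⊤ : Subgroup ↥K).map K.subtype := h1.symm
    _ = (commutator ↥K).map K.subtype := by rw [hperf]
    _ = ⁅(⊤ : Subgroup ↥K).map K.subtype, (⊤ : Subgroup ↥K).map K.subtype⁆ := by
        rw [commutator_def, Subgroup.map_commutator]
    _ ≤ ⁅(⊤ : Subgroup ↥A), (⊤ : Subgroup ↥A)⁆ := Subgroup.commutator_mono le_top le_top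
    _ = commutator ↥A := (commutator_def ↥A).symm

end Cfsg.Agent.Lib.helper42.FG
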