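import Mathlib
import Cfsg.Prelude.Def_LieTypeChar
import Cfsg.Agent.Lib.helper44.LODefs
import Cfsg.Agent.Lib.helper6.LOARITH
import Cfsg.Agent.S1069

/-!
helper7: S2363 piece REE (`h7_lo_ree`, racer copy): the order bound for `²G₂(3^(2m+1))`.
-/

set_option autoImplicit false

namespace Cfsg.Agent.Lib.helper44.LO

open Cfsg

/-- REE, racer copy (helper7). -/
theorem h7_lo_ree {K : Type} [Field K] [Fintype K] (m : ℕ) (hm : 1 ≤ m) (hK : Fintype.card K = 3 ^ (2 * m + 1)) :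
    LOGood 3 (Nat.card ↥(Cfsg.Lie.twistedG2 K (3 ^ m))) := by
  have hS := Cfsg.Agent.S1069.result (K := K) (m := m) hK
  have h3 : 3 ∣ 3 ^ (2 * m + 1) := dvd_pow_self 3 (by omega)
  have hq1 : 1 ≤ 3 ^ (2 * m + 1) := Nat.one_le_pow _ _ (by norm_num)
  refine lo_good Nat.prime_three (2 * m + 1) (by omega) 1 _ 3
    ((3 ^ (2 * m + 1) - 1) * ((3 ^ (2 * m + 1)) ^ 3 + 1)) 4 ?_ (by norm_num) ?_ ?_
    (by norm_num) (by norm_num)
  · rw [hS]
    ring
  · intro h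
    rcases (Nat.Prime.dvd_mul Nat.prime_three).1 h with h | h
    · have h4 : 3 ∣ 3 ^ (2 * m + 1) - (3 ^ (2 * m + 1) - 1) := Nat.dvd_sub h3 h
      have h5 : 3 ^ (2 * m + 1) - (3 ^ (2 * m + 1) - 1) = 1 := by omega
      rw [h5] at h4
      exact absurd (Nat.dvd_one.1 h4) (by norm_num)
    · have h4 : 3 ∣ 1 := (Nat.dvd_add_right (dvd_pow h3 (by norm_num))).1 h
      exact absurd (Nat.dvd_one.1 h4) (by norm_num)
  · obtain ⟨r, hr⟩ : ∃ r, 3 ^ (2 * m + 1) = r + 1 := ⟨3 ^ (2 * m + 1) - 1, by omega⟩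
    rw [hr]
    simp only [Nat.add_sub_cancel, one_mul]
    have h7 : (r + 1) ^ 4 = r * (r + 1) ^ 3 + (r + 1) ^ 3 := by ring
    have h8 : r < (r + 1) ^ 3 := by
      calc r < r + 1 := Nat.lt_succ_self r
        _ = (r + 1) ^ 1 := (pow_one _).symm
        _ ≤ (r + 1) ^ 3 := Nat.pow_le_pow_right (by omega) (by norm_num)
    rw [h7, mul_add, mul_one]
    exact Nat.add_lt_add_left h8 _

end Cfsg.Agent.Lib.helper44.LO
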