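import Mathlib
import Cfsg.Agent.Lib.helper45.SVDefs

/-!
# S2425 piece INT (`mu_bot_eq_mobInv_restrict`)

`μ(⊥, U)` in the lattice of `T`-invariant subspaces is the Moebius number of the lattice of
invariant subspaces of the restriction `T|U`.  The Moebius function is transported along an
isomorphism of intervals (`helper7_mu_transport`, agnostic of the `LocallyFiniteOrder` and
`DecidableEq` instances).
-/

set_option autoImplicit false
open scoped MatrixGroups

namespace Cfsg.Agent.Lib.helper45.SV

/-- Transport of the Moebius function along a bijection of intervals which preserves and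
reflects the order. -/
theorem helper7_mu_transport {α β : Type*} [PartialOrder α] [LocallyFiniteOrder α] [DecidableEq α]
    [PartialOrder β] [LocallyFiniteOrder β] [DecidableEq β] (a b : α) (f : α → β) (g : β → α)
    (hf : ∀ x y, a ≤ x → x ≤ b → a ≤ y → y ≤ b → (x ≤ y ↔ f x ≤ f y))
    (hg : ∀ z, f a ≤ z → z ≤ f b → a ≤ g z ∧ g z ≤ b ∧ f (g z) = z) :
    ∀ x, a ≤ x → x ≤ b → IncidenceAlgebra.mu ℤ a x = IncidenceAlgebra.mu ℤ (f a) (f x) := by
  have key : ∀ k : ℕ, ∀ x, a ≤ x → x ≤ b → (Finset.Ico a x).card = k →
      IncidenceAlgebra.mu ℤ a x = IncidenceAlgebra.mu ℤ (f a) (f x) := by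
    intro k
    induction k using Nat.strong_induction_on with
    | _ k ih =>
      intro x hax hxb hk
      by_cases hx : a = x
      · subst hx
        rw [IncidenceAlgebra.mu_self, IncidenceAlgebra.mu_self]
      · have hab : a ≤ b := hax.trans hxb
        have hfx : f a ≠ f x := by
          intro h
          apply hx
          exact le_antisymm hax ((hf x a hax hxb le_rfl hab).2 h.ge)
        have hfxb : f x ≤ f b := (hf x b hax hxb hab le_rfl).1 hxb
        rw [IncidenceAlgebra.mu_eq_neg_sum_Ico_of_ne hx,
          IncidenceAlgebra.mu_eq_neg_sum_Ico_of_ne hfx, neg_inj]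
        refine Finset.sum_bij' (fun y _ => f y) (fun z _ => g z) ?_ ?_ ?_ ?_ ?_
        · intro y hy
          rw [Finset.mem_Ico] at hy ⊢
          have hyb : y ≤ b := hy.2.le.trans hxb
          refine ⟨(hf a y le_rfl hab hy.1 hyb).1 hy.1, ?_⟩
          rw [lt_iff_le_not_ge]
          exact ⟨(hf y x hy.1 hyb hax hxb).1 hy.2.le,
            fun h => hy.2.not_ge ((hf x y hax hxb hy.1 hyb).2 h)⟩
        · intro z hz
          rw [Finset.mem_Ico] at hz ⊢
          obtain ⟨h1, h2, h3⟩ := hg z hz.1 (hz.2.le.trans hfxb)
          refine ⟨h1, ?_⟩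
          rw [lt_iff_le_not_ge]
          constructor
          · apply (hf (g z) x h1 h2 hax hxb).2
            rw [h3]
            exact hz.2.le
          · intro h
            have h4 := (hf x (g z) hax hxb h1 h2).1 h
            rw [h3] at h4
            exact hz.2.not_ge h4
        · intro y hy
          rw [Finset.mem_Ico] at hy
          have hyb : y ≤ b := hy.2.le.trans hxb
          have hfy1 : f a ≤ f y := (hf a y le_rfl hab hy.1 hyb).1 hy.1
          have hfy2 : f y ≤ f b := (hf y b hy.1 hyb hab le_rfl).1 hyb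
          obtain ⟨h1, h2, h3⟩ := hg (f y) hfy1 hfy2
          apply le_antisymm
          · exact (hf _ _ h1 h2 hy.1 hyb).2 h3.le
          · exact (hf _ _ hy.1 hyb h1 h2).2 h3.ge
        · intro z hz
          rw [Finset.mem_Ico] at hz
          exact (hg z hz.1 (hz.2.le.trans hfxb)).2.2
        · intro y hy
          have hy' := Finset.mem_Ico.1 hy
          have hyb : y ≤ b := hy'.2.le.trans hxb
          apply ih (Finset.Ico a y).card ?_ y hy'.1 hyb rfl
          rw [← hk]
          apply Finset.card_lt_card
          rw [Finset.ssubset_iff_of_subset (Finset.Ico_subset_Ico_right hy'.2.le)]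
          exact ⟨y, hy, fun h => lt_irrefl y (Finset.mem_Ico.1 h).2⟩
  intro x hax hxb
  exact key _ x hax hxb rfl

/-- INT with arbitrary instances on both lattices. -/
theorem helper7_mu_restrict {F : Type*} [Field F] {V : Type*} [AddCommGroup V] [Module F V]
    (T : Module.End F V) [DecidableEq (T.invtSubmodule)]
    [LocallyFiniteOrder (T.invtSubmodule)] (U : Submodule F V) (hU : ∀ v ∈ U, T v ∈ U)
    (hU' : U ∈ T.invtSubmodule) [DecidableEq (Module.End.invtSubmodule (T.restrict hU))]
    [LocallyFiniteOrder (Module.End.invtSubmodule (T.restrict hU))] :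
    IncidenceAlgebra.mu ℤ (⊥ : T.invtSubmodule) ⟨U, hU'⟩ =
      IncidenceAlgebra.mu ℤ (⊥ : Module.End.invtSubmodule (T.restrict hU)) ⊤ := by
  have hfmem : ∀ W : T.invtSubmodule,
      (W : Submodule F V).comap U.subtype ∈ Module.End.invtSubmodule (T.restrict hU) := by
    intro W
    rw [Module.End.mem_invtSubmodule_iff_forall_mem_of_mem]
    intro u hu
    rw [Submodule.mem_comap] at hu ⊢
    have h1 : U.subtype (T.restrict hU u) = T (U.subtype u) := rfl
    rw [h1]
    exact ((Module.End.mem_invtSubmodule_iff_forall_mem_of_mem _).1 W.2) _ hu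
  have hgmem : ∀ W' : Module.End.invtSubmodule (T.restrict hU),
      (W' : Submodule F ↥U).map U.subtype ∈ T.invtSubmodule := by
    intro W'
    rw [Module.End.mem_invtSubmodule_iff_forall_mem_of_mem]
    rintro v ⟨u, hu, rfl⟩
    refine ⟨T.restrict hU u, ?_, rfl⟩
    exact ((Module.End.mem_invtSubmodule_iff_forall_mem_of_mem _).1 W'.2) _ hu
  have h := helper7_mu_transport (⊥ : T.invtSubmodule) ⟨U, hU'⟩
    (fun W => (⟨(W : Submodule F V).comap U.subtype, hfmem W⟩ : Module.End.invtSubmodule (T.restrict hU)))
    (fun W' => (⟨(W' : Submodule F ↥U).map U.subtype, hgmem W'⟩ : T.invtSubmodule))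
    (by
      intro x y _ hxb _ _
      constructor
      · intro hxy
        exact Submodule.comap_mono (show (x : Submodule F V) ≤ y from hxy)
      · intro hxy w hw
        have hwU : w ∈ U := (show (x : Submodule F V) ≤ U from hxb) hw
        have h1 : (⟨w, hwU⟩ : ↥U) ∈ (x : Submodule F V).comap U.subtype := hw
        exact (show (x : Submodule F V).comap U.subtype ≤ (y : Submodule F V).comap U.subtype
          from hxy) h1)
    (by
      intro z _ _
      refine ⟨bot_le, ?_, ?_⟩
      · show (z : Submodule F ↥U).map U.subtype ≤ U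
        exact Submodule.map_subtype_le U _
      · apply Subtype.ext
        exact Submodule.comap_map_eq_of_injective U.injective_subtype _)
    ⟨U, hU'⟩ bot_le le_rfl
  have hbot : (⟨((⊥ : T.invtSubmodule) : Submodule F V).comap U.subtype, hfmem ⊥⟩ :
      Module.End.invtSubmodule (T.restrict hU)) = ⊥ := by
    apply Subtype.ext
    show (⊥ : Submodule F V).comap U.subtype = ⊥
    rw [Submodule.comap_bot, Submodule.ker_subtype]
  have htop : (⟨((⟨U, hU'⟩ : T.invtSubmodule) : Submodule F V).comap U.subtype, hfmem ⟨U, hU'⟩⟩ :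
      Module.End.invtSubmodule (T.restrict hU)) = ⊤ := by
    apply Subtype.ext
    show U.comap U.subtype = ⊤
    exact Submodule.comap_subtype_self U
  exact h.trans (congrArg₂ (fun p q => IncidenceAlgebra.mu ℤ p q) hbot htop)

/-- INT (M). -/
theorem mu_bot_eq_mobInv_restrict {F : Type*} [Field F] {V : Type*} [AddCommGroup V] [Module F V]
    [Finite V] (T : Module.End F V) [Fintype (T.invtSubmodule)] [DecidableEq (T.invtSubmodule)]
    [LocallyFiniteOrder (T.invtSubmodule)] (U : Submodule F V) (hU : ∀ v ∈ U, T v ∈ U)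
    (hU' : U ∈ T.invtSubmodule) :
    IncidenceAlgebra.mu ℤ (⊥ : T.invtSubmodule) ⟨U, hU'⟩ = mobInv (T.restrict hU) := by
  unfold mobInv
  exact @helper7_mu_restrict F _ V _ _ T _ _ U hU hU' ?_ ?_

end Cfsg.Agent.Lib.helper45.SV
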