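import Mathlib
import Cfsg.Agent.Lib.helper45.SVDefs

/-!
# S2425 piece SIGN (`sign_arith`): `(-1)^n gval` is the product in the statement.
-/

set_option autoImplicit false
open scoped MatrixGroups

namespace Cfsg.Agent.Lib.helper45.SV

/-- SIGN (M). -/
theorem sign_arith {F : Type*} [Field F] [DecidableEq F] (q : ℕ) (P : Polynomial F) (hP : P.Monic) :
    (((-1 : ℤ) ^ P.natDegree * gval q P : ℤ) : ℂ) =
      ∏ f ∈ (UniqueFactorizationMonoid.normalizedFactors P).toFinset,
        (-1 : ℂ) ^ ((f.natDegree - 1) * (UniqueFactorizationMonoid.normalizedFactors P).count f) *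
          (q : ℂ) ^ (f.natDegree * (UniqueFactorizationMonoid.normalizedFactors P).count f *
            ((UniqueFactorizationMonoid.normalizedFactors P).count f - 1) / 2) := by
  have hP0 : P ≠ 0 := hP.ne_zero
  have hmon : ∀ f ∈ UniqueFactorizationMonoid.normalizedFactors P, f.Monic := by
    intro f hf
    have h1 : normalize f = f := UniqueFactorizationMonoid.normalize_normalized_factor f hf
    have hf0 : f ≠ 0 := (UniqueFactorizationMonoid.irreducible_of_normalized_factor f hf).ne_zero
    rw [← h1]
    exact Polynomial.monic_normalize hf0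
  have hprod : (UniqueFactorizationMonoid.normalizedFactors P).prod = P := by
    have h1 := UniqueFactorizationMonoid.prod_normalizedFactors_eq hP0
    rw [hP.normalize_eq_self] at h1
    exact h1
  have hdeg : P.natDegree = ∑ f ∈ (UniqueFactorizationMonoid.normalizedFactors P).toFinset,
      (UniqueFactorizationMonoid.normalizedFactors P).count f * f.natDegree := by
    conv_lhs => rw [← hprod]
    rw [Polynomial.natDegree_multiset_prod_of_monic _ hmon, Finset.sum_multiset_map_count]
    apply Finset.sum_congr rfl
    intro f _
    rw [smul_eq_mul]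
  have hirr : ∀ f ∈ (UniqueFactorizationMonoid.normalizedFactors P).toFinset, 1 ≤ f.natDegree := by
    intro f hf
    exact (UniqueFactorizationMonoid.irreducible_of_normalized_factor f
      (Multiset.mem_toFinset.1 hf)).natDegree_pos
  unfold gval
  push_cast
  conv_lhs => rw [hdeg]
  rw [← Finset.prod_pow_eq_pow_sum, ← Finset.prod_mul_distrib]
  apply Finset.prod_congr rfl
  intro f hf
  obtain ⟨k, hk⟩ : ∃ k, f.natDegree = k + 1 := ⟨f.natDegree - 1, by have := hirr f hf; omega⟩
  rw [hk, Nat.add_sub_cancel, ← mul_assoc, ← pow_add]
  congr 1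
  have e1 : (UniqueFactorizationMonoid.normalizedFactors P).count f * (k + 1) +
      (UniqueFactorizationMonoid.normalizedFactors P).count f =
      2 * (UniqueFactorizationMonoid.normalizedFactors P).count f +
        k * (UniqueFactorizationMonoid.normalizedFactors P).count f := by ring
  rw [e1, pow_add, pow_mul (-1 : ℂ) 2, neg_one_sq, one_pow, one_mul]

end Cfsg.Agent.Lib.helper45.SV
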