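import Mathlib
import Cfsg.Agent.Lib.helper45.SVDefs

/-!
# S2425 piece SS (`toLin_semisimple`): an element of `GL_n(F)` of order prime to the
characteristic acts semisimply.
-/

set_option autoImplicit false
open scoped MatrixGroups

namespace Cfsg.Agent.Lib.helper45.SV

theorem helper7_toLin_pow {F : Type*} [Field F] {n : ℕ} (M : Matrix (Fin n) (Fin n) F) (k : ℕ) :
    Matrix.toLin' (M ^ k) = (Matrix.toLin' M) ^ k := by
  induction k with
  | zero => rw [pow_zero, pow_zero, Matrix.toLin'_one]; rfl
  | succ k ih => rw [pow_succ, pow_succ, Matrix.toLin'_mul, ih]; rfl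

/-- SS (M). -/
theorem toLin_semisimple {F : Type*} [Field F] [Fintype F] (p : ℕ) [Fact p.Prime] [CharP F p] {n : ℕ}
    (x : GL (Fin n) F) (hx : (orderOf x).Coprime p) :
    Module.End.IsSemisimple (Matrix.toLin' (x : Matrix (Fin n) (Fin n) F)) := by
  have hp : p.Prime := Fact.out
  have hnd : ¬ p ∣ orderOf x := by
    intro h
    have h1 : p ∣ Nat.gcd (orderOf x) p := Nat.dvd_gcd h dvd_rfl
    rw [Nat.Coprime] at hx
    rw [hx] at h1
    exact hp.one_lt.ne' (Nat.dvd_one.1 h1)
  have hsep : (Polynomial.X ^ orderOf x - Polynomial.C (1 : F)).Separable :=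
    Polynomial.separable_X_pow_sub_C' p (orderOf x) (1 : F) hnd one_ne_zero
  apply Module.End.isSemisimple_of_squarefree_aeval_eq_zero hsep.squarefree
  have hpow : (x : Matrix (Fin n) (Fin n) F) ^ orderOf x = 1 := by
    rw [← Units.val_pow_eq_pow_val, pow_orderOf_eq_one, Units.val_one]
  rw [map_sub, map_pow, Polynomial.aeval_X, Polynomial.aeval_C, ← helper7_toLin_pow, hpow,
    Matrix.toLin'_one, map_one]
  exact sub_self _

end Cfsg.Agent.Lib.helper45.SV
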