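import Mathlib
import Cfsg.Agent.Lib.helper45.QType
import Cfsg.Agent.Lib.helper42.Dickson2
import Cfsg.Agent.S0786

/-! Non-singular points of a quadratic space over a finite field (mostly characteristic two):
counting them from the value distribution, fixed non-singular points of isometries, and
involutions without fixed non-singular vectors. -/

set_option autoImplicit false
set_option linter.unusedSectionVars false
set_option linter.style.haveILetI false

namespace Cfsg.Agent.Lib.helper7.NonsingPt

open Cfsg Matrix Cfsg.Agent.Lib.helper42 Cfsg.Agent.Lib.helper45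

variable {ι : Type} [Fintype ι] [DecidableEq ι] {F : Type*} [Field F] [Fintype F]

/-- a line containing a non-zero vector is spanned by it -/
theorem line_eq_span (W : Submodule F (ι → F)) (hW : Module.finrank F ↥W = 1) (u : ι → F)
    (hu : u ∈ W) (hu0 : u ≠ 0) : W = Submodule.span F {u} := by
  apply le_antisymm
  · intro w hw
    have h1 := (finrank_eq_one_iff_of_nonzero' (⟨u, hu⟩ : ↥W)
      (by intro h; exact hu0 (congrArg Subtype.val h))).mp hW ⟨w, hw⟩
    obtain ⟨c, hc⟩ := h1
    rw [Submodule.mem_span_singleton]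
    exact ⟨c, congrArg Subtype.val hc⟩
  · rw [Submodule.span_singleton_le_iff_mem]
    exact hu

/-- each non-singular line carries `q - 1` non-singular vectors -/
theorem card_lines_mul (Q : QuadraticForm F (ι → F)) :
    Nat.card {W : Submodule F (ι → F) // Module.finrank F ↥W = 1 ∧ ∃ v ∈ W, Q v ≠ 0}
        * (Fintype.card F - 1)
      = Nat.card {v : ι → F // Q v ≠ 0} := by
  classical
  have hgen : ∀ W : {W : Submodule F (ι → F) // Module.finrank F ↥W = 1 ∧ ∃ v ∈ W, Q v ≠ 0},
      ∃ v, v ∈ W.1 ∧ Q v ≠ 0 := fun W => W.2.2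
  choose gen hgenW hgenQ using hgen
  have hgen0 : ∀ W, gen W ≠ 0 := by
    intro W h
    apply hgenQ W
    rw [h, map_zero]
  have hsm : ∀ (c : Fˣ) (v : ι → F), Q v ≠ 0 → Q ((c : F) • v) ≠ 0 := by
    intro c v hv
    rw [QuadraticMap.map_smul]
    exact smul_ne_zero (mul_ne_zero c.ne_zero c.ne_zero) hv
  let f : {W : Submodule F (ι → F) // Module.finrank F ↥W = 1 ∧ ∃ v ∈ W, Q v ≠ 0} × Fˣ →
      {v : ι → F // Q v ≠ 0} := fun p => ⟨(p.2 : F) • gen p.1, hsm p.2 _ (hgenQ p.1)⟩
  have hf : Function.Bijective f := by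
    constructor
    · rintro ⟨W, c⟩ ⟨W', c'⟩ h
      have h1 : (c : F) • gen W = (c' : F) • gen W' := congrArg Subtype.val h
      have hu0 : (c : F) • gen W ≠ 0 := smul_ne_zero c.ne_zero (hgen0 W)
      have e1 := line_eq_span W.1 W.2.1 _ (W.1.smul_mem _ (hgenW W)) hu0
      have e2 := line_eq_span W'.1 W'.2.1 _ (W'.1.smul_mem _ (hgenW W')) (h1 ▸ hu0)
      have hWW : W = W' := by
        apply Subtype.ext
        rw [e1, e2, h1]
      subst hWW
      have h2 : (c : F) = (c' : F) := smul_left_injective F (hgen0 W) h1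
      rw [Units.ext h2]
    · rintro ⟨v, hv⟩
      have hv0 : v ≠ 0 := by
        intro h
        apply hv
        rw [h, map_zero]
      let W : {W : Submodule F (ι → F) // Module.finrank F ↥W = 1 ∧ ∃ v ∈ W, Q v ≠ 0} :=
        ⟨Submodule.span F {v}, finrank_span_singleton hv0,
          v, Submodule.mem_span_singleton_self v, hv⟩
      have h1 : gen W ∈ Submodule.span F {v} := hgenW W
      rw [Submodule.mem_span_singleton] at h1
      obtain ⟨c, hc⟩ := h1
      have hc0 : c ≠ 0 := by
        intro h
        apply hgen0 W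
        rw [← hc, h, zero_smul]
      refine ⟨(W, (Units.mk0 c hc0)⁻¹), ?_⟩
      apply Subtype.ext
      change ((Units.mk0 c hc0)⁻¹ : Fˣ).1 • gen W = v
      rw [← hc, smul_smul, Units.val_inv_eq_inv_val, Units.val_mk0, inv_mul_cancel₀ hc0, one_smul]
  rw [← Nat.card_congr (Equiv.ofBijective f hf), Nat.card_prod]
  congr 1
  rw [Nat.card_eq_fintype_card, Fintype.card_units]

/-- the number of non-singular vectors, from the value distribution -/
theorem card_nonsing_of_unif (Q : QuadraticForm F (ι → F)) (s : ℤ)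
    (hu : Unif s (fun c => Nat.card {v : ι → F // Q v = c})) :
    (Fintype.card F : ℤ) * (Nat.card {v : ι → F // Q v ≠ 0} : ℤ)
      = (Fintype.card F : ℤ) * (Fintype.card F : ℤ) ^ (Fintype.card ι)
        - (s ^ 2 + s * ((Fintype.card F : ℤ) - 1)) := by
  classical
  have h0 := hu 0
  simp only [if_true] at h0
  have h1 : Nat.card {v : ι → F // Q v ≠ 0} + Nat.card {v : ι → F // Q v = 0}
      = Fintype.card F ^ Fintype.card ι := by
    rw [Nat.card_eq_fintype_card, Nat.card_eq_fintype_card, Fintype.card_subtype_compl]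
    have e : Fintype.card (ι → F) = Fintype.card F ^ Fintype.card ι := Fintype.card_fun
    have := Fintype.card_subtype_le (fun v : ι → F => Q v = 0)
    omega
  have h2 : (Nat.card {v : ι → F // Q v ≠ 0} : ℤ) + (Nat.card {v : ι → F // Q v = 0} : ℤ)
      = (Fintype.card F : ℤ) ^ Fintype.card ι := by
    exact_mod_cast h1
  linear_combination (Fintype.card F : ℤ) * h2 - h0

/-- the number of non-singular lines, from the value distribution -/
theorem lines_count (Q : QuadraticForm F (ι → F)) (s : ℤ)
    (hu : Unif s (fun c => Nat.card {v : ι → F // Q v = c})) :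
    (Fintype.card F : ℤ) * ((Fintype.card F : ℤ) - 1) *
      (Nat.card {W : Submodule F (ι → F) // Module.finrank F ↥W = 1 ∧ ∃ v ∈ W, Q v ≠ 0} : ℤ)
      = (Fintype.card F : ℤ) * (Fintype.card F : ℤ) ^ (Fintype.card ι)
        - (s ^ 2 + s * ((Fintype.card F : ℤ) - 1)) := by
  rw [← card_nonsing_of_unif Q s hu, ← card_lines_mul Q]
  have hq : 1 ≤ Fintype.card F := Fintype.card_pos
  push_cast [Nat.cast_sub hq]
  ring

/-- in characteristic two an isometry fixes a non-singular line iff it fixes a non-singular
vector -/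
theorem fixes_line_iff (h2 : (2 : F) = 0) (Q : QuadraticForm F (ι → F)) (x : Matrix ι ι F)
    (hx : ∀ v, Q (x *ᵥ v) = Q v) :
    (∃ W : Submodule F (ι → F), (Module.finrank F ↥W = 1 ∧ ∃ v ∈ W, Q v ≠ 0) ∧
        W.map (Matrix.toLin' x) ≤ W)
      ↔ ∃ v, Q v ≠ 0 ∧ x *ᵥ v = v := by
  constructor
  · rintro ⟨W, ⟨hW, v, hvW, hv⟩, hmap⟩
    refine ⟨v, hv, ?_⟩
    have hv0 : v ≠ 0 := by
      intro h
      apply hv
      rw [h, map_zero]
    have h1 : x *ᵥ v ∈ W := by
      apply hmap
      refine ⟨v, hvW, ?_⟩
      rw [Matrix.toLin'_apply]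
    rw [line_eq_span W hW v hvW hv0, Submodule.mem_span_singleton] at h1
    obtain ⟨c, hc⟩ := h1
    have h3 := hx v
    rw [← hc, QuadraticMap.map_smul, smul_eq_mul] at h3
    have h4 : (c * c - 1) * Q v = 0 := by linear_combination h3
    have h5 : c * c - 1 = 0 := by
      rcases mul_eq_zero.mp h4 with h | h
      · exact h
      · exact absurd h hv
    have h6 : (c - 1) * (c - 1) = 0 := by linear_combination h5 + (1 - c) * h2
    have h7 : c = 1 := by
      rcases mul_eq_zero.mp h6 with h | h <;> linear_combination h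
    rw [← hc, h7, one_smul]
  · rintro ⟨v, hv, hxv⟩
    have hv0 : v ≠ 0 := by
      intro h
      apply hv
      rw [h, map_zero]
    refine ⟨Submodule.span F {v}, ⟨finrank_span_singleton hv0, v,
      Submodule.mem_span_singleton_self v, hv⟩, ?_⟩
    rw [Submodule.map_span_le]
    intro w hw
    rw [Set.mem_singleton_iff] at hw
    rw [hw, Matrix.toLin'_apply, hxv]
    exact Submodule.mem_span_singleton_self v

/-- an involution in characteristic two without fixed non-singular vectors: its fixed space is
totally singular of half the dimension -/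
theorem invol_no_fixed (h2 : (2 : F) = 0) (Q : QuadraticForm F (ι → F))
    (hQ : (QuadraticMap.polarBilin Q).Nondegenerate) (x : Matrix ι ι F) (hxx : x * x = 1)
    (hno : ∀ v, x *ᵥ v = v → Q v = 0) :
    2 * (x - 1).rank = Fintype.card ι ∧ 2 * Module.finrank F (fixSub x) = Fintype.card ι := by
  have h1 := rank_sub_one_add_finrank_fixSub x
  have hsq : (x - 1) * (x - 1) = 0 := by
    have e : (x - 1) * (x - 1) = x * x - (2 : F) • x + 1 := by
      rw [two_smul]
      noncomm_ring
    rw [e, hxx, h2, zero_smul]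
    have : (1 : Matrix ι ι F) - 0 + 1 = (2 : F) • (1 : Matrix ι ι F) := by
      rw [two_smul]; abel
    rw [this, h2, zero_smul]
  have hle : (x - 1).rank ≤ Module.finrank F (fixSub x) := by
    rw [Matrix.rank]
    apply Submodule.finrank_mono
    rintro w ⟨u, rfl⟩
    rw [fixSub, LinearMap.mem_ker, Matrix.mulVecLin_apply, Matrix.mulVecLin_apply,
      Matrix.mulVec_mulVec, hsq, Matrix.zero_mulVec]
  have hts : fixSub x ≤ LinearMap.BilinForm.orthogonal (QuadraticMap.polarBilin Q) (fixSub x) := by
    intro u hu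
    rw [LinearMap.BilinForm.mem_orthogonal_iff]
    intro w hw
    rw [QuadraticMap.polarBilin_apply_apply, QuadraticMap.polar]
    have e1 := hno w (mem_fixSub.mp hw)
    have e2 := hno u (mem_fixSub.mp hu)
    have e3 := hno (w + u) (mem_fixSub.mp ((fixSub x).add_mem hw hu))
    rw [e1, e2, e3]
    simp
  have h3 := LinearMap.BilinForm.finrank_orthogonal hQ (fixSub x)
  have h4 := Submodule.finrank_mono hts
  rw [h3, Module.finrank_fintype_fun_eq_card] at h4
  have h5 : Module.finrank F (fixSub x) ≤ Fintype.card ι := by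
    have := Submodule.finrank_le (fixSub x)
    rwa [Module.finrank_fintype_fun_eq_card] at this
  constructor <;> omega

end Cfsg.Agent.Lib.helper7.NonsingPt
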