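import Mathlib
import Cfsg.Agent.Lib.helper7.NonsingPt
import Cfsg.Agent.Lib.helper45.OEven

/-! Elements of `Ω⁺_{2d}(q)`, `q` even, without fixed non-singular points. -/

set_option autoImplicit false
set_option linter.unusedSectionVars false
set_option linter.style.haveILetI false

namespace Cfsg.Agent.Lib.helper7.NonsingPt

open Cfsg Matrix Cfsg.Agent.Lib.helper42 Cfsg.Agent.Lib.helper45 Cfsg.Agent.Lib.helper49
  Cfsg.Agent.Lib.helper17

/-- a fixed-point-free matrix of prime order `r` dividing `q^d - 1` -/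
theorem exists_fpf_matrix {F : Type*} [Field F] [Fintype F] {p : ℕ} [Fact p.Prime] [CharP F p]
    (d : ℕ) (hd : 0 < d) (r : ℕ) [Fact r.Prime] (hr : r ∣ Fintype.card F ^ d - 1) :
    ∃ A : Matrix (Fin d) (Fin d) F, A ^ r = 1 ∧ IsUnit (A - 1) := by
  classical
  haveI : NeZero d := ⟨hd.ne'⟩
  haveI : Fintype (FiniteField.Extension F p d) := Fintype.ofFinite _
  have hcard : Fintype.card (FiniteField.Extension F p d)ˣ = Fintype.card F ^ d - 1 := by
    rw [Fintype.card_units, Fintype.card_eq_nat_card, FiniteField.natCard_extension,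
      Nat.card_eq_fintype_card]
  obtain ⟨α, hα⟩ := exists_prime_orderOf_dvd_card r (by rw [hcard]; exact hr)
  let b : Module.Basis (Fin d) F (FiniteField.Extension F p d) :=
    Module.finBasisOfFinrankEq F _ (FiniteField.finrank_extension F p d)
  refine ⟨Algebra.leftMulMatrix b (α : FiniteField.Extension F p d), ?_, ?_⟩
  · rw [← map_pow, ← Units.val_pow_eq_pow_val, ← hα, pow_orderOf_eq_one, Units.val_one, map_one]
  · have h1 : ((α : FiniteField.Extension F p d) - 1) ≠ 0 := by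
      intro h
      have h2 : α = 1 := Units.ext (by rw [Units.val_one]; exact sub_eq_zero.mp h)
      rw [h2, orderOf_one] at hα
      exact (Fact.out : r.Prime).one_lt.ne hα
    have h3 : Algebra.leftMulMatrix b (α : FiniteField.Extension F p d) - 1
        = Algebra.leftMulMatrix b ((α : FiniteField.Extension F p d) - 1) := by
      rw [map_sub, map_one]
    rw [h3]
    exact (IsUnit.mk0 _ h1).map (Algebra.leftMulMatrix b)

section blocks

variable {F : Type*} [Field F] {d : ℕ}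

theorem fb_pow (A B : Matrix (Fin d) (Fin d) F) (k : ℕ) :
    (fromBlocks A 0 0 B) ^ k = fromBlocks (A ^ k) 0 0 (B ^ k) := by
  induction k with
  | zero => simp [Matrix.fromBlocks_one]
  | succ k ih =>
    rw [pow_succ, ih, Matrix.fromBlocks_multiply]
    simp [pow_succ]

theorem quadFormPlus_eq (v : Fin d ⊕ Fin d → F) :
    Cfsg.quadFormPlus d F v = (v ∘ Sum.inl) ⬝ᵥ (v ∘ Sum.inr) := by
  unfold Cfsg.quadFormPlus
  rfl

end blocks

section main

variable {F : Type*} [Field F] [Fintype F]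

theorem plus_hgen (d : ℕ) (hd : 4 ≤ d) : reflSubgroup (plusForm d F) = ⊤ := by
  apply Cfsg.Agent.S0786.reflSubgroup_eq_top' _ (plusForm_nondegenerate d)
  right
  rw [Fintype.card_sum, Fintype.card_fin]
  omega

/-- membership in `omegaGL` of the plus form, in characteristic two -/
theorem mem_omegaGL_plus (h2 : (2 : F) = 0) (d : ℕ) (hd : 4 ≤ d)
    (x : GL (Fin d ⊕ Fin d) F)
    (hiso : ∀ v, Cfsg.quadFormPlus d F ((x : Matrix (Fin d ⊕ Fin d) (Fin d ⊕ Fin d) F) *ᵥ v)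
      = Cfsg.quadFormPlus d F v)
    (hev : Even (((x : Matrix (Fin d ⊕ Fin d) (Fin d ⊕ Fin d) F) - 1).rank)) :
    x ∈ Cfsg.Geo.omegaGL (Cfsg.quadFormPlus d F) := by
  have hx : x ∈ Cfsg.isometryGroup F (Cfsg.quadFormPlus d F) := fun u _ => hiso u
  refine ⟨⟨x, hx⟩, ?_, rfl⟩
  exact (mem_Omega_iff_even_rank h2 (plusForm d F) (plusForm_nondegenerate d) (plus_hgen d hd)
    ⟨x, hx⟩).mpr hev

/-- elements of `omegaGL` of the plus form, in characteristic two -/
theorem of_mem_omegaGL_plus (h2 : (2 : F) = 0) (d : ℕ) (hd : 4 ≤ d)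
    (x : GL (Fin d ⊕ Fin d) F) (hx : x ∈ Cfsg.Geo.omegaGL (Cfsg.quadFormPlus d F)) :
    (∀ v, Cfsg.quadFormPlus d F ((x : Matrix (Fin d ⊕ Fin d) (Fin d ⊕ Fin d) F) *ᵥ v)
      = Cfsg.quadFormPlus d F v) ∧
    Even (((x : Matrix (Fin d ⊕ Fin d) (Fin d ⊕ Fin d) F) - 1).rank) := by
  obtain ⟨g, hg, rfl⟩ := hx
  refine ⟨fun v => g.2 v v, ?_⟩
  exact (mem_Omega_iff_even_rank h2 (plusForm d F) (plusForm_nondegenerate d) (plus_hgen d hd)
    g).mp hg

/-- a fixed-point-free element of odd order in `Ω⁺` -/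
theorem plus_fpf (h2 : (2 : F) = 0) (d : ℕ) (hd : 4 ≤ d) (A : Matrix (Fin d) (Fin d) F) (r : ℕ)
    (hr : 0 < r) (hA : A ^ r = 1) (hA1 : IsUnit (A - 1)) :
    ∃ x : GL (Fin d ⊕ Fin d) F, x ∈ Cfsg.Geo.omegaGL (Cfsg.quadFormPlus d F) ∧ x ^ r = 1 ∧
      (∀ v, (x : Matrix (Fin d ⊕ Fin d) (Fin d ⊕ Fin d) F) *ᵥ v = v → v = 0) := by
  classical
  obtain ⟨k, rfl⟩ : ∃ k, r = k + 1 := ⟨r - 1, by omega⟩
  have hAA : A * A ^ k = 1 := by rw [← pow_succ', hA]
  have hAA' : A ^ k * A = 1 := by rw [← pow_succ, hA]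
  have hT1 : Aᵀ * (A ^ k)ᵀ = 1 := by rw [← Matrix.transpose_mul, hAA', Matrix.transpose_one]
  have hT2 : (A ^ k)ᵀ * Aᵀ = 1 := by rw [← Matrix.transpose_mul, hAA, Matrix.transpose_one]
  let M : Matrix (Fin d ⊕ Fin d) (Fin d ⊕ Fin d) F := fromBlocks A 0 0 (A ^ k)ᵀ
  let M' : Matrix (Fin d ⊕ Fin d) (Fin d ⊕ Fin d) F := fromBlocks (A ^ k) 0 0 Aᵀ
  have hMM' : M * M' = 1 := by
    change fromBlocks A 0 0 (A ^ k)ᵀ * fromBlocks (A ^ k) 0 0 Aᵀ = 1
    rw [Matrix.fromBlocks_multiply, hAA, hT2]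
    simp [Matrix.fromBlocks_one]
  have hM'M : M' * M = 1 := by
    change fromBlocks (A ^ k) 0 0 Aᵀ * fromBlocks A 0 0 (A ^ k)ᵀ = 1
    rw [Matrix.fromBlocks_multiply, hAA', hT1]
    simp [Matrix.fromBlocks_one]
  let x : GL (Fin d ⊕ Fin d) F := ⟨M, M', hMM', hM'M⟩
  have hxM : (x : Matrix (Fin d ⊕ Fin d) (Fin d ⊕ Fin d) F) = M := rfl
  have hMv : ∀ v : Fin d ⊕ Fin d → F,
      M *ᵥ v = Sum.elim (A *ᵥ (v ∘ Sum.inl)) ((A ^ k)ᵀ *ᵥ (v ∘ Sum.inr)) := by
    intro v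
    change fromBlocks A 0 0 (A ^ k)ᵀ *ᵥ v = _
    rw [Matrix.fromBlocks_mulVec]
    simp
  have hiso : ∀ v, Cfsg.quadFormPlus d F (M *ᵥ v) = Cfsg.quadFormPlus d F v := by
    intro v
    rw [quadFormPlus_eq, quadFormPlus_eq, hMv]
    have e1 : (Sum.elim (A *ᵥ (v ∘ Sum.inl)) ((A ^ k)ᵀ *ᵥ (v ∘ Sum.inr))) ∘ Sum.inl
        = A *ᵥ (v ∘ Sum.inl) := rfl
    have e2 : (Sum.elim (A *ᵥ (v ∘ Sum.inl)) ((A ^ k)ᵀ *ᵥ (v ∘ Sum.inr))) ∘ Sum.inr
        = (A ^ k)ᵀ *ᵥ (v ∘ Sum.inr) := rfl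
    rw [e1, e2, ← Matrix.vecMul_transpose, ← Matrix.dotProduct_mulVec, Matrix.mulVec_mulVec, hT1,
      Matrix.one_mulVec]
  have hfix : ∀ v, M *ᵥ v = v → v = 0 := by
    intro v hv
    rw [hMv] at hv
    have ha : A *ᵥ (v ∘ Sum.inl) = v ∘ Sum.inl := by
      funext i
      exact congrFun hv (Sum.inl i)
    have hb : (A ^ k)ᵀ *ᵥ (v ∘ Sum.inr) = v ∘ Sum.inr := by
      funext i
      exact congrFun hv (Sum.inr i)
    obtain ⟨C, hC⟩ := hA1.exists_left_inv
    have ha0 : v ∘ Sum.inl = 0 := by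
      have : (A - 1) *ᵥ (v ∘ Sum.inl) = 0 := by
        rw [Matrix.sub_mulVec, ha, Matrix.one_mulVec, sub_self]
      have h5 := congrArg (fun w => C *ᵥ w) this
      simp only [Matrix.mulVec_mulVec, hC, Matrix.one_mulVec, Matrix.mulVec_zero] at h5
      exact h5
    have hb0 : v ∘ Sum.inr = 0 := by
      have h6 : Aᵀ *ᵥ (v ∘ Sum.inr) = v ∘ Sum.inr := by
        have := congrArg (fun w => Aᵀ *ᵥ w) hb
        simp only [Matrix.mulVec_mulVec, hT1, Matrix.one_mulVec] at this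
        exact this.symm
      have : (A - 1)ᵀ *ᵥ (v ∘ Sum.inr) = 0 := by
        rw [Matrix.transpose_sub, Matrix.transpose_one, Matrix.sub_mulVec, h6, Matrix.one_mulVec,
          sub_self]
      have hC' : (A - 1)ᵀ * Cᵀ = 1 := by
        rw [← Matrix.transpose_mul, hC, Matrix.transpose_one]
      have hC'' : Cᵀ * (A - 1)ᵀ = 1 := by
        rw [mul_eq_one_comm]
        exact hC'
      have h5 := congrArg (fun w => Cᵀ *ᵥ w) this
      simp only [Matrix.mulVec_mulVec, hC'', Matrix.one_mulVec, Matrix.mulVec_zero] at h5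
      exact h5
    funext j
    rcases j with i | i
    · exact congrFun ha0 i
    · exact congrFun hb0 i
  refine ⟨x, ?_, ?_, hfix⟩
  · apply mem_omegaGL_plus h2 d hd x hiso
    have h1 := rank_sub_one_add_finrank_fixSub M
    have h3 : fixSub M = ⊥ := by
      rw [eq_bot_iff]
      intro v hv
      rw [Submodule.mem_bot]
      exact hfix v (mem_fixSub.mp hv)
    rw [h3, finrank_bot, add_zero, Fintype.card_sum, Fintype.card_fin] at h1
    rw [hxM, h1]
    exact ⟨d, rfl⟩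
  · apply Units.ext
    rw [Units.val_pow_eq_pow_val, Units.val_one, hxM]
    change (fromBlocks A 0 0 (A ^ k)ᵀ) ^ (k + 1) = 1
    rw [fb_pow, hA, ← Matrix.transpose_pow, ← pow_mul, mul_comm, pow_mul, hA, one_pow,
      Matrix.transpose_one, Matrix.fromBlocks_one]

/-- an involution of `Ω⁺_{2d}`, `d` even, without fixed non-singular vectors -/
theorem plus_invol (h2 : (2 : F) = 0) (d : ℕ) (hd : 4 ≤ d) (hde : Even d) :
    ∃ x : GL (Fin d ⊕ Fin d) F, x ∈ Cfsg.Geo.omegaGL (Cfsg.quadFormPlus d F) ∧ x ^ 2 = 1 ∧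
      (∀ z : F, (x : Matrix (Fin d ⊕ Fin d) (Fin d ⊕ Fin d) F) ≠ z • 1) ∧
      (∀ v, (x : Matrix (Fin d ⊕ Fin d) (Fin d ⊕ Fin d) F) *ᵥ v = v →
        Cfsg.quadFormPlus d F v = 0) := by
  classical
  obtain ⟨e, he⟩ := hde
  let ε : Fin d ≃ Fin e ⊕ Fin e := (finCongr he).trans finSumFinEquiv.symm
  let σ : Fin d ≃ Fin d := ε.trans ((Equiv.sumComm _ _).trans ε.symm)
  let S : Matrix (Fin d) (Fin d) F := (1 : Matrix (Fin d) (Fin d) F).submatrix σ id
  have hS : ∀ w : Fin d → F, S *ᵥ w = w ∘ σ := by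
    intro w
    funext i
    simp [S, Matrix.mulVec, dotProduct, Matrix.one_apply]
  let M : Matrix (Fin d ⊕ Fin d) (Fin d ⊕ Fin d) F := fromBlocks 1 S 0 1
  have hMM : M * M = 1 := by
    change fromBlocks 1 S 0 1 * fromBlocks 1 S 0 1 = 1
    rw [Matrix.fromBlocks_multiply]
    have : S + S = 0 := by rw [← two_smul F S, h2, zero_smul]
    simp [this, Matrix.fromBlocks_one]
  let x : GL (Fin d ⊕ Fin d) F := ⟨M, M, hMM, hMM⟩
  have hxM : (x : Matrix (Fin d ⊕ Fin d) (Fin d ⊕ Fin d) F) = M := rfl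
  have hMv : ∀ v : Fin d ⊕ Fin d → F,
      M *ᵥ v = Sum.elim (v ∘ Sum.inl + (v ∘ Sum.inr) ∘ σ) (v ∘ Sum.inr) := by
    intro v
    change fromBlocks 1 S 0 1 *ᵥ v = _
    rw [Matrix.fromBlocks_mulVec, hS]
    simp
  have hsum : ∀ g : Fin d → F, ∑ i, g (σ i) * g i = 0 := by
    intro g
    rw [← Equiv.sum_comp ε.symm, Fintype.sum_sum_type]
    have e1 : ∀ j : Fin e, σ (ε.symm (Sum.inl j)) = ε.symm (Sum.inr j) := by
      intro j; simp [σ]
    have e2 : ∀ j : Fin e, σ (ε.symm (Sum.inr j)) = ε.symm (Sum.inl j) := by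
      intro j; simp [σ]
    simp only [e1, e2]
    rw [← Finset.sum_add_distrib]
    apply Finset.sum_eq_zero
    intro j _
    have : g (ε.symm (Sum.inr j)) * g (ε.symm (Sum.inl j))
        + g (ε.symm (Sum.inl j)) * g (ε.symm (Sum.inr j))
        = 2 * (g (ε.symm (Sum.inr j)) * g (ε.symm (Sum.inl j))) := by ring
    rw [this, h2, zero_mul]
  have hiso : ∀ v, Cfsg.quadFormPlus d F (M *ᵥ v) = Cfsg.quadFormPlus d F v := by
    intro v
    rw [quadFormPlus_eq, quadFormPlus_eq, hMv]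
    have e1 : (Sum.elim (v ∘ Sum.inl + (v ∘ Sum.inr) ∘ σ) (v ∘ Sum.inr)) ∘ Sum.inl
        = v ∘ Sum.inl + (v ∘ Sum.inr) ∘ σ := rfl
    have e2 : (Sum.elim (v ∘ Sum.inl + (v ∘ Sum.inr) ∘ σ) (v ∘ Sum.inr)) ∘ Sum.inr
        = v ∘ Sum.inr := rfl
    rw [e1, e2, add_dotProduct]
    have := hsum (v ∘ Sum.inr)
    simp only [dotProduct, Function.comp_apply] at this ⊢
    rw [this, add_zero]
  have hfix : ∀ v, M *ᵥ v = v → Cfsg.quadFormPlus d F v = 0 := by
    intro v hv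
    rw [hMv] at hv
    have h1 : ∀ i, v (Sum.inr i) = 0 := by
      intro i
      have := congrFun hv (Sum.inl (σ.symm i))
      simp only [Sum.elim_inl, Pi.add_apply, Function.comp_apply, Equiv.apply_symm_apply] at this
      linear_combination this
    rw [quadFormPlus_eq]
    simp only [dotProduct, Function.comp_apply, h1, mul_zero, Finset.sum_const_zero]
  refine ⟨x, ?_, ?_, ?_, hfix⟩
  · apply mem_omegaGL_plus h2 d hd x hiso
    have h1 := (invol_no_fixed h2 (plusForm d F) (plusForm_nondegenerate d) M hMM hfix).1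
    rw [Fintype.card_sum, Fintype.card_fin] at h1
    rw [hxM]
    have : (M - 1).rank = d := by omega
    rw [this]
    exact ⟨e, he⟩
  · apply Units.ext
    rw [Units.val_pow_eq_pow_val, Units.val_one, hxM, pow_two, hMM]
  · intro z hz
    rw [hxM] at hz
    have i0 : Fin d := ⟨0, by omega⟩
    have h1 := congrFun (congrFun hz (Sum.inl i0)) (Sum.inr (σ i0))
    simp [M, S, Matrix.one_apply] at h1

end main

end Cfsg.Agent.Lib.helper7.NonsingPt
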