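import Mathlib
import Cfsg.Agent.Lib.helper7.NonsingPlus
import Cfsg.Agent.Lib.helper45.QWitt
import Cfsg.Agent.Lib.helper45.OEven

/-! Elements of `Ω⁻_{2d}(q)`, `q` even, and non-singular points. -/

set_option autoImplicit false
set_option linter.unusedSectionVars false
set_option linter.style.haveILetI false

namespace Cfsg.Agent.Lib.helper7.NonsingPt

open Cfsg Matrix Cfsg.Agent.Lib.helper42 Cfsg.Agent.Lib.helper45 Cfsg.Agent.Lib.helper49
  Cfsg.Agent.Lib.helper17

universe u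

section count

variable {ι : Type} [Fintype ι] [DecidableEq ι] {F : Type*} [Field F] [Fintype F]

/-- a totally singular subspace of half the dimension forces the hyperbolic number of singular
vectors -/
theorem ts_half_count (Q : QuadraticForm F (ι → F))
    (hQ : (QuadraticMap.polarBilin Q).Nondegenerate) (U : Submodule F (ι → F))
    (hU : ∀ u ∈ U, Q u = 0) (hdim : 2 * Module.finrank F U = Fintype.card ι) :
    Fintype.card F * Nat.card {v : ι → F // Q v = 0} + Nat.card U
      = Fintype.card F * Nat.card U + Fintype.card F ^ Fintype.card ι := by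
  classical
  have hpol0 : ∀ u ∈ U, ∀ w ∈ U, QuadraticMap.polar Q u w = 0 := by
    intro u hu w hw
    rw [QuadraticMap.polar, hU _ (U.add_mem hu hw), hU u hu, hU w hw]
    simp
  have hle : U ≤ LinearMap.BilinForm.orthogonal (QuadraticMap.polarBilin Q) U := by
    intro u hu
    rw [LinearMap.BilinForm.mem_orthogonal_iff]
    intro w hw
    exact hpol0 w hw u hu
  have h3 := LinearMap.BilinForm.finrank_orthogonal hQ U
  rw [Module.finrank_fintype_fun_eq_card] at h3
  have hperp : U = LinearMap.BilinForm.orthogonal (QuadraticMap.polarBilin Q) U :=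
    Submodule.eq_of_le_of_finrank_eq hle (by omega)
  have hmem : ∀ v : ι → F, (∀ u ∈ U, QuadraticMap.polar Q v u = 0) → v ∈ U := by
    intro v hv
    rw [hperp, LinearMap.BilinForm.mem_orthogonal_iff]
    intro w hw
    have := hv w hw
    rw [QuadraticMap.polar_comm] at this
    exact this
  -- the count on each coset
  have hcv : ∀ v : ι → F, Fintype.card F * Nat.card {u : U // Q (v + (u : ι → F)) = 0}
      = if v ∈ U then Fintype.card F * Nat.card U else Nat.card U := by
    intro v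
    by_cases hv : v ∈ U
    · rw [if_pos hv]
      congr 1
      apply Nat.card_congr
      exact Equiv.subtypeUnivEquiv (fun u => hU _ (U.add_mem hv u.2))
    · rw [if_neg hv]
      let ℓ : U →ₗ[F] F := (QuadraticMap.polarBilin Q v).comp U.subtype
      have hℓ : ℓ ≠ 0 := by
        intro h0
        apply hv
        apply hmem
        intro u hu
        have := LinearMap.congr_fun h0 ⟨u, hu⟩
        simpa [ℓ] using this
      rw [← card_fiber_functional ℓ hℓ (-(Q v))]
      congr 1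
      apply Nat.card_congr
      refine Equiv.subtypeEquivRight (fun u => ?_)
      have e1 : Q (v + (u : ι → F)) = Q v + QuadraticMap.polar Q v u := by
        rw [QuadraticMap.polar, hU u u.2]
        ring
      have e2 : ℓ u = QuadraticMap.polar Q v u := by simp [ℓ]
      rw [e1, e2]
      constructor
      · intro h; linear_combination h
      · intro h; linear_combination h
  -- double counting
  have hA : Nat.card {p : (ι → F) × U // Q (p.1 + (p.2 : ι → F)) = 0}
      = ∑ v : ι → F, Nat.card {u : U // Q (v + (u : ι → F)) = 0} := by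
    rw [← Nat.card_sigma]
    exact Nat.card_congr (Equiv.subtypeProdEquivSigmaSubtype
      (fun (v : ι → F) (u : U) => Q (v + (u : ι → F)) = 0))
  have hB : Nat.card {p : (ι → F) × U // Q (p.1 + (p.2 : ι → F)) = 0}
      = Nat.card {v : ι → F // Q v = 0} * Nat.card U := by
    rw [← Nat.card_prod]
    apply Nat.card_congr
    exact
      { toFun := fun p => (⟨p.1.1 + (p.1.2 : ι → F), p.2⟩, p.1.2)
        invFun := fun s => ⟨(s.1.1 - (s.2 : ι → F), s.2), by
          show Q (s.1.1 - (s.2 : ι → F) + (s.2 : ι → F)) = 0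
          rw [sub_add_cancel]
          exact s.1.2⟩
        left_inv := fun p => by
          apply Subtype.ext
          apply Prod.ext
          · show p.1.1 + (p.1.2 : ι → F) - (p.1.2 : ι → F) = p.1.1
            rw [add_sub_cancel_right]
          · rfl
        right_inv := fun s => by
          apply Prod.ext
          · apply Subtype.ext
            show s.1.1 - (s.2 : ι → F) + (s.2 : ι → F) = s.1.1
            rw [sub_add_cancel]
          · rfl }
  have hC : Fintype.card F * (Nat.card {v : ι → F // Q v = 0} * Nat.card U)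
      = ∑ v : ι → F, (if v ∈ U then Fintype.card F * Nat.card U else Nat.card U) := by
    rw [← hB, hA, Finset.mul_sum]
    exact Finset.sum_congr rfl (fun v _ => hcv v)
  rw [Finset.sum_ite, Finset.sum_const, Finset.sum_const, smul_eq_mul, smul_eq_mul] at hC
  have hc1 : (Finset.univ.filter (fun v : ι → F => v ∈ U)).card = Nat.card U := by
    rw [Nat.card_eq_fintype_card, Fintype.card_subtype]
  have hc2 : (Finset.univ.filter (fun v : ι → F => v ∈ U)).card
      + (Finset.univ.filter (fun v : ι → F => ¬ v ∈ U)).card = Fintype.card F ^ Fintype.card ι := by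
    rw [Finset.card_filter_add_card_filter_not, Finset.card_univ, Fintype.card_fun]
  rw [hc1] at hC hc2
  have hUpos : 0 < Nat.card U := Nat.card_pos
  have hfin : (Fintype.card F * Nat.card {v : ι → F // Q v = 0} + Nat.card U) * Nat.card U
      = (Fintype.card F * Nat.card U + Fintype.card F ^ Fintype.card ι) * Nat.card U := by
    rw [← hc2]
    linear_combination hC
  exact Nat.eq_of_mul_eq_mul_right hUpos hfin

end count

section model

/-- an abstract model: a quadratic space with a fixed-point-free isometry, from a field with an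
involutory automorphism -/
theorem model_of_field {F : Type u} [Field F] [Fintype F] (h2 : (2 : F) = 0) {E : Type*} [Field E]
    [Algebra F E] [FiniteDimensional F E] [Algebra.IsSeparable F E] (n : ℕ)
    (hn : Module.finrank F E = n) (σ : E ≃ₐ[F] E) (hσσ : ∀ x, σ (σ x) = x) (γ : E)
    (hγ : σ γ ≠ γ) (α : Eˣ) (r : ℕ) (hαr : α ^ r = 1) (hα1 : α ≠ 1)
    (hασ : (α : E) * σ (α : E) = 1) :
    ∃ (Q : QuadraticForm F (Fin n → F)) (a b : Module.End F (Fin n → F)),
      (∀ v, (∀ w, QuadraticMap.polar Q v w = 0) → v = 0) ∧ (∀ v, Q (a v) = Q v) ∧ a * b = 1 ∧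
      a ^ r = 1 ∧ (∀ v, a v = v → v = 0) := by
  classical
  have h2E : (2 : E) = 0 := by
    have h0 : (2 : E) = algebraMap F E 2 := (map_ofNat (algebraMap F E) 2).symm
    rw [h0, h2, map_zero]
  let e : (Fin n → F) ≃ₗ[F] E := (Module.finBasisOfFinrankEq F E hn).equivFun.symm
  let B : LinearMap.BilinMap F (Fin n → F) F :=
    LinearMap.mk₂ F (fun u v => Algebra.trace F E (γ * e u * σ (e v)))
      (by intro u u' v; rw [map_add, mul_add, add_mul, map_add])
      (by intro c u v; rw [map_smul, Algebra.mul_smul_comm, Algebra.smul_mul_assoc, map_smul])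
      (by intro u v v'; rw [map_add, map_add, mul_add, map_add])
      (by intro c u v; rw [map_smul, map_smul, Algebra.mul_smul_comm, map_smul])
  have hB : ∀ u v, B u v = Algebra.trace F E (γ * e u * σ (e v)) := fun u v => rfl
  let a : Module.End F (Fin n → F) := e.symm.conj (Algebra.lmul F E (α : E))
  let b : Module.End F (Fin n → F) := e.symm.conj (Algebra.lmul F E ((α⁻¹ : Eˣ) : E))
  have ha : ∀ v, e (a v) = (α : E) * e v := by
    intro v
    simp [a, LinearEquiv.conj_apply_apply]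
  refine ⟨B.toQuadraticMap, a, b, ?_, ?_, ?_, ?_, ?_⟩
  · intro v hv
    by_contra hv0
    have hev : e v ≠ 0 := fun h => hv0 (by simpa using h)
    have hc0 : γ + σ γ ≠ 0 := by
      intro h
      apply hγ
      have : σ γ = γ - (2 : E) * γ := by linear_combination h
      rw [this, h2E, zero_mul, sub_zero]
    have hx : (γ + σ γ) * e v = 0 := by
      apply (traceForm_nondegenerate F E).1
      intro y
      have h1 := hv (e.symm (σ y))
      rw [LinearMap.BilinMap.polar_toQuadraticMap, hB, hB, LinearEquiv.apply_symm_apply, hσσ] at h1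
      have h3 : Algebra.trace F E (γ * σ y * σ (e v))
          = Algebra.trace F E (σ γ * y * e v) := by
        rw [← Algebra.trace_eq_of_algEquiv σ (γ * σ y * σ (e v)), map_mul σ, map_mul σ, hσσ, hσσ]
      rw [h3, ← map_add] at h1
      rw [Algebra.traceForm_apply, ← h1]
      congr 1
      ring
    rcases mul_eq_zero.mp hx with h | h
    · exact hc0 h
    · exact hev h
  · intro v
    rw [LinearMap.BilinMap.toQuadraticMap_apply, LinearMap.BilinMap.toQuadraticMap_apply, hB, hB,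
      ha, map_mul σ]
    congr 1
    linear_combination (γ * e v * σ (e v)) * hασ
  · show e.symm.conj (Algebra.lmul F E (α : E)) * e.symm.conj (Algebra.lmul F E ((α⁻¹ : Eˣ) : E))
      = 1
    rw [← conj_mul', ← map_mul, ← Units.val_mul, mul_inv_cancel, Units.val_one, map_one, conj_one']
  · show (e.symm.conj (Algebra.lmul F E (α : E))) ^ r = 1
    rw [← conj_pow', ← map_pow, ← Units.val_pow_eq_pow_val, hαr, Units.val_one, map_one, conj_one']
  · intro v hv
    have h1 := ha v
    rw [hv] at h1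
    have h3 : ((α : E) - 1) * e v = 0 := by linear_combination -h1
    rcases mul_eq_zero.mp h3 with h | h
    · exfalso
      apply hα1
      apply Units.ext
      rw [Units.val_one]
      exact sub_eq_zero.mp h
    · simpa using h

/-- the model over an extension of degree `2d` -/
theorem exists_minus_model {F : Type u} [Field F] [Fintype F] {p : ℕ} [Fact p.Prime] [CharP F p]
    (h2 : (2 : F) = 0) (d : ℕ) (hd : 0 < d) (r : ℕ) [Fact r.Prime]
    (hr : r ∣ Fintype.card F ^ d + 1) :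
    ∃ (Q : QuadraticForm F (Fin (2 * d) → F)) (a b : Module.End F (Fin (2 * d) → F)),
      (∀ v, (∀ w, QuadraticMap.polar Q v w = 0) → v = 0) ∧ (∀ v, Q (a v) = Q v) ∧ a * b = 1 ∧
      a ^ r = 1 ∧ (∀ v, a v = v → v = 0) := by
  classical
  haveI : NeZero (2 * d) := ⟨by omega⟩
  haveI : Fintype (FiniteField.Extension F p (2 * d)) := Fintype.ofFinite _
  have hcardE : Fintype.card (FiniteField.Extension F p (2 * d)) = Fintype.card F ^ (2 * d) := by
    rw [Fintype.card_eq_nat_card, FiniteField.natCard_extension, Nat.card_eq_fintype_card]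
  obtain ⟨σ, hσdef⟩ : ∃ σ : FiniteField.Extension F p (2 * d) ≃ₐ[F]
      FiniteField.Extension F p (2 * d), σ = (FiniteField.Extension.frob F p (2 * d)) ^ d :=
    ⟨_, rfl⟩
  have hσ : ∀ x, σ x = x ^ (Fintype.card F ^ d) := by
    intro x
    rw [hσdef, FiniteField.Extension.frob_iterate_apply, Nat.card_eq_fintype_card]
  have hσσ : ∀ x, σ (σ x) = x := by
    intro x
    rw [hσ, hσ, ← pow_mul, ← pow_add, ← two_mul, ← hcardE, FiniteField.pow_card]
  have hford : orderOf (FiniteField.Extension.frob F p (2 * d)) = 2 * d := by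
    unfold FiniteField.Extension.frob
    rw [FiniteField.orderOf_frobeniusAlgEquivOfAlgebraic, FiniteField.finrank_extension]
  obtain ⟨γ, hγ⟩ : ∃ γ, σ γ ≠ γ := by
    by_contra hcon
    push Not at hcon
    have h1 : σ = 1 := AlgEquiv.ext hcon
    rw [hσdef] at h1
    exact pow_ne_one_of_lt_orderOf (by omega) (by rw [hford]; omega) h1
  have hrdvd : r ∣ Fintype.card (FiniteField.Extension F p (2 * d))ˣ := by
    rw [Fintype.card_units, hcardE]
    have h1 : 1 ≤ Fintype.card F ^ d := Nat.one_le_pow _ _ Fintype.card_pos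
    obtain ⟨t, ht⟩ : ∃ t, Fintype.card F ^ d = t + 1 := ⟨_, (Nat.sub_add_cancel h1).symm⟩
    have h3 : Fintype.card F ^ (2 * d) - 1 = t * (Fintype.card F ^ d + 1) := by
      rw [two_mul, pow_add, ht]
      apply Nat.sub_eq_of_eq_add
      ring
    rw [h3]
    exact Dvd.dvd.mul_left hr _
  obtain ⟨α, hα⟩ := exists_prime_orderOf_dvd_card r hrdvd
  have hασ : (α : FiniteField.Extension F p (2 * d)) * σ (α : FiniteField.Extension F p (2 * d))
      = 1 := by
    rw [hσ, ← pow_succ']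
    obtain ⟨t, ht⟩ := hr
    rw [ht, pow_mul, ← Units.val_pow_eq_pow_val, ← hα, pow_orderOf_eq_one, Units.val_one, one_pow]
  have hα1 : α ≠ 1 := by
    intro h
    rw [h, orderOf_one] at hα
    exact (Fact.out : r.Prime).one_lt.ne hα
  exact model_of_field h2 (2 * d) (FiniteField.finrank_extension F p (2 * d)) σ hσσ γ hγ α r
    (by rw [← hα]; exact pow_orderOf_eq_one α) hα1 hασ

end model

section generic

variable {ι : Type} [Fintype ι] [DecidableEq ι] {F : Type*} [Field F] [Fintype F]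

/-- a scalar isometry in characteristic two is the identity -/
theorem scalar_isometry_eq_one (h2 : (2 : F) = 0) (Q : QuadraticForm F (ι → F)) (u : ι → F)
    (hu : Q u ≠ 0) (z : F) (h3 : Q (z • u) = Q u) : z = 1 := by
  rw [QuadraticMap.map_smul, smul_eq_mul] at h3
  have h4 : (z * z - 1) * Q u = 0 := by linear_combination h3
  have h5 : z * z - 1 = 0 := by
    rcases mul_eq_zero.mp h4 with h | h
    · exact h
    · exact absurd h hu
  have h6 : (z - 1) * (z - 1) = 0 := by linear_combination h5 + (1 - z) * h2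
  rcases mul_eq_zero.mp h6 with h | h <;> linear_combination h

theorem sq_eq_one_of_scalar (h2 : (2 : F) = 0) (Q : QuadraticForm F (ι → F)) (x : Matrix ι ι F)
    (hiso : ∀ v, Q (x *ᵥ v) = Q v) (u : ι → F) (hu : Q u ≠ 0) (z : F)
    (hz : x * x = z • (1 : Matrix ι ι F)) : x * x = 1 := by
  have h1 : x *ᵥ (x *ᵥ u) = z • u := by
    rw [Matrix.mulVec_mulVec, hz, Matrix.smul_mulVec, Matrix.one_mulVec]
  have h3 := hiso (x *ᵥ u)
  rw [h1, hiso u] at h3
  rw [hz, scalar_isometry_eq_one h2 Q u hu z h3, one_smul]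

theorem ne_scalar_of_fpf (h2 : (2 : F) = 0) (Q : QuadraticForm F (ι → F)) (x : Matrix ι ι F)
    (hiso : ∀ v, Q (x *ᵥ v) = Q v) (u : ι → F) (hu : Q u ≠ 0)
    (hfix : ∀ v, x *ᵥ v = v → v = 0) (z : F) : x ≠ z • (1 : Matrix ι ι F) := by
  intro hz
  have hu0 : u ≠ 0 := by
    intro h
    apply hu
    rw [h, map_zero]
  have h1 : x *ᵥ u = z • u := by
    rw [hz, Matrix.smul_mulVec, Matrix.one_mulVec]
  have h3 := hiso u
  rw [h1] at h3
  rw [scalar_isometry_eq_one h2 Q u hu z h3, one_smul] at h1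
  exact hu0 (hfix u h1)

end generic

section minus

variable {F : Type u} [Field F] [Fintype F]

theorem minus_hgen (k : ℕ) (hk : 2 ≤ k) (a c : F)
    (hac : ∀ z₁ z₂ : F, z₁ ^ 2 + a * z₁ * z₂ + c * z₂ ^ 2 = 0 → z₁ = 0 ∧ z₂ = 0) :
    reflSubgroup (minusForm k F a c) = ⊤ := by
  apply Cfsg.Agent.S0786.reflSubgroup_eq_top' _ (minusForm_nondegenerate k a c hac)
  right
  rw [Fintype.card_sum, Fintype.card_sum, Fintype.card_fin, Fintype.card_fin]
  omega

/-- membership in `omegaGL` of the minus form, in characteristic two -/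
theorem mem_omegaGL_minus (h2 : (2 : F) = 0) (k : ℕ) (hk : 2 ≤ k) (a c : F)
    (hac : ∀ z₁ z₂ : F, z₁ ^ 2 + a * z₁ * z₂ + c * z₂ ^ 2 = 0 → z₁ = 0 ∧ z₂ = 0)
    (x : GL ((Fin k ⊕ Fin k) ⊕ Fin 2) F)
    (hiso : ∀ v, Cfsg.quadFormMinus k F a c
        ((x : Matrix ((Fin k ⊕ Fin k) ⊕ Fin 2) ((Fin k ⊕ Fin k) ⊕ Fin 2) F) *ᵥ v)
      = Cfsg.quadFormMinus k F a c v)
    (hev : Even (((x : Matrix ((Fin k ⊕ Fin k) ⊕ Fin 2) ((Fin k ⊕ Fin k) ⊕ Fin 2) F) - 1).rank)) :
    x ∈ Cfsg.Geo.omegaGL (Cfsg.quadFormMinus k F a c) := by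
  have hx : x ∈ Cfsg.isometryGroup F (Cfsg.quadFormMinus k F a c) := fun u _ => hiso u
  refine ⟨⟨x, hx⟩, ?_, rfl⟩
  exact (mem_Omega_iff_even_rank h2 (minusForm k F a c) (minusForm_nondegenerate k a c hac)
    (minus_hgen k hk a c hac) ⟨x, hx⟩).mpr hev

/-- elements of `omegaGL` of the minus form are isometries -/
theorem of_mem_omegaGL_minus (k : ℕ) (a c : F)
    (x : GL ((Fin k ⊕ Fin k) ⊕ Fin 2) F) (hx : x ∈ Cfsg.Geo.omegaGL (Cfsg.quadFormMinus k F a c)) :
    ∀ v, Cfsg.quadFormMinus k F a c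
        ((x : Matrix ((Fin k ⊕ Fin k) ⊕ Fin 2) ((Fin k ⊕ Fin k) ⊕ Fin 2) F) *ᵥ v)
      = Cfsg.quadFormMinus k F a c v := by
  obtain ⟨g, hg, rfl⟩ := hx
  exact fun v => g.2 v v

/-- the standard minus form has no totally singular subspace of half the dimension -/
theorem minus_no_ts (k : ℕ) (a c : F)
    (hac : ∀ z₁ z₂ : F, z₁ ^ 2 + a * z₁ * z₂ + c * z₂ ^ 2 = 0 → z₁ = 0 ∧ z₂ = 0)
    (U : Submodule F ((Fin k ⊕ Fin k) ⊕ Fin 2 → F))
    (hU : ∀ u ∈ U, Cfsg.quadFormMinus k F a c u = 0) :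
    2 * Module.finrank F U ≠ Fintype.card ((Fin k ⊕ Fin k) ⊕ Fin 2) := by
  classical
  intro hdim
  have h1 := ts_half_count (minusForm k F a c) (minusForm_nondegenerate k a c hac) U hU hdim
  have h3 := unif_minus_std k a c hac 0
  simp only [if_true] at h3
  have hcard : Fintype.card ((Fin k ⊕ Fin k) ⊕ Fin 2) = 2 * (k + 1) := by
    rw [Fintype.card_sum, Fintype.card_sum, Fintype.card_fin, Fintype.card_fin]
    omega
  have hfr : Module.finrank F U = k + 1 := by omega
  have hUc : Nat.card U = Fintype.card F ^ (k + 1) := by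
    rw [Module.natCard_eq_pow_finrank (K := F), hfr, Nat.card_eq_fintype_card]
  rw [hUc, hcard] at h1
  have h1' : (Fintype.card F : ℤ) * (Nat.card {v : (Fin k ⊕ Fin k) ⊕ Fin 2 → F //
      (minusForm k F a c) v = 0} : ℤ) + (Fintype.card F : ℤ) ^ (k + 1)
      = (Fintype.card F : ℤ) * (Fintype.card F : ℤ) ^ (k + 1)
        + (Fintype.card F : ℤ) ^ (2 * (k + 1)) := by
    exact_mod_cast h1
  have hq2 : (2 : ℤ) ≤ (Fintype.card F : ℤ) := by exact_mod_cast Fintype.one_lt_card
  have hZ : (0 : ℤ) < (Fintype.card F : ℤ) ^ (k + 1) := by positivity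
  have e : (Fintype.card F : ℤ) ^ (2 * (k + 1))
      = (Fintype.card F : ℤ) ^ (k + 1) * (Fintype.card F : ℤ) ^ (k + 1) := by
    rw [two_mul, pow_add]
  have h5 : 2 * ((Fintype.card F : ℤ) ^ (k + 1) * ((Fintype.card F : ℤ) - 1)) = 0 := by
    linear_combination h3 - h1' - e
  have h6 := mul_pos hZ (by linarith : (0 : ℤ) < (Fintype.card F : ℤ) - 1)
  linarith

/-- a fixed-point-free element of odd prime order in `Ω⁻` -/
theorem minus_fpf {p : ℕ} [Fact p.Prime] [CharP F p] (hp : p = 2) (h2 : (2 : F) = 0) (k : ℕ)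
    (hk : 2 ≤ k) (a c : F)
    (hac : ∀ z₁ z₂ : F, z₁ ^ 2 + a * z₁ * z₂ + c * z₂ ^ 2 = 0 → z₁ = 0 ∧ z₂ = 0) (r : ℕ)
    [Fact r.Prime] (hr2 : r ≠ 2) (hr : r ∣ Fintype.card F ^ (k + 1) + 1) :
    ∃ x : GL ((Fin k ⊕ Fin k) ⊕ Fin 2) F, x ∈ Cfsg.Geo.omegaGL (Cfsg.quadFormMinus k F a c) ∧
      x ^ r = 1 ∧
      (∀ v, (x : Matrix ((Fin k ⊕ Fin k) ⊕ Fin 2) ((Fin k ⊕ Fin k) ⊕ Fin 2) F) *ᵥ v = v → v = 0) := by
  classical
  have hrprime : r.Prime := Fact.out
  obtain ⟨Q, a', b', hnd, hiso, hab, har, hfix⟩ :=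
    exists_minus_model (p := p) h2 (k + 1) (by omega) r hr
  have hfin : Module.finrank F (Fin (2 * (k + 1)) → F) = 2 * (k + 1) := by
    rw [Module.finrank_fintype_fun_eq_card, Fintype.card_fin]
  have h1 : (LinearMap.charpoly a').eval 1 ≠ 0 := by
    intro h0
    have hev := (Module.End.hasEigenvalue_iff_isRoot_charpoly a' 1).mpr h0
    obtain ⟨v, hv⟩ := hev.exists_hasEigenvector
    have h3 := hv.apply_eq_smul
    rw [one_smul] at h3
    exact hv.2 (hfix v h3)
  have hreal : QRealP r (LinearMap.charpoly a') (fun c => Nat.card {v : Fin (2 * (k + 1)) → F // Q v = c}) :=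
    ⟨_, inferInstance, inferInstance, inferInstance, Q, a', b', hnd, hiso, hab, har, rfl,
      fun c => rfl⟩
  rcases witt_class Q hnd (k + 1) hfin with ⟨hu, -⟩ | ⟨-, k', hk', hT⟩
  · exfalso
    have hrp : r ≠ p := by rw [hp]; exact hr2
    have hs : ¬ (r : ℤ) ∣ (Fintype.card F : ℤ) ^ (k + 1) := by
      have := not_dvd_card_pow (F := F) p hrp (k + 1) 1 (Or.inl rfl)
      rwa [one_mul] at this
    have h5 := unif_fixfree hreal hu h1 hs
    have h6 : (r : ℤ) ∣ (Fintype.card F : ℤ) ^ (k + 1) + 1 := by exact_mod_cast hr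
    have h7 : (r : ℤ) ∣ 2 := by
      have := dvd_sub h6 h5
      have e : (Fintype.card F : ℤ) ^ (k + 1) + 1 - ((Fintype.card F : ℤ) ^ (k + 1) - 1) = 2 := by
        ring
      rwa [e] at this
    have h8 : r ∣ 2 := by exact_mod_cast h7
    exact hr2 ((Nat.prime_dvd_prime_iff_eq hrprime Nat.prime_two).mp h8)
  · have hkk : k' = k := by omega
    subst hkk
    obtain ⟨T, hT⟩ := hT a c hac
    obtain ⟨g, hg1, hg2⟩ := exists_isometry_of_similitude (Cfsg.quadFormMinus k' F a c)
      (fun v => Q v) a' b' hiso hab T 1 (by intro v; rw [hT, one_mul])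
    have hgiso : ∀ v, Cfsg.quadFormMinus k' F a c
        (((g : GL ((Fin k' ⊕ Fin k') ⊕ Fin 2) F) :
          Matrix ((Fin k' ⊕ Fin k') ⊕ Fin 2) ((Fin k' ⊕ Fin k') ⊕ Fin 2) F) *ᵥ v)
        = Cfsg.quadFormMinus k' F a c v := fun v => g.2 v v
    have hgfix : ∀ v, ((g : GL ((Fin k' ⊕ Fin k') ⊕ Fin 2) F) :
        Matrix ((Fin k' ⊕ Fin k') ⊕ Fin 2) ((Fin k' ⊕ Fin k') ⊕ Fin 2) F) *ᵥ v = v → v = 0 := by
      intro v hv
      have hdet : (Matrix.scalar ((Fin k' ⊕ Fin k') ⊕ Fin 2) (1 : F)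
          - ((g : GL ((Fin k' ⊕ Fin k') ⊕ Fin 2) F) :
            Matrix ((Fin k' ⊕ Fin k') ⊕ Fin 2) ((Fin k' ⊕ Fin k') ⊕ Fin 2) F)).det ≠ 0 := by
        rw [← Matrix.eval_charpoly, hg2]
        exact h1
      apply Matrix.eq_zero_of_mulVec_eq_zero hdet
      rw [Matrix.sub_mulVec, hv]
      simp
    refine ⟨(g : GL ((Fin k' ⊕ Fin k') ⊕ Fin 2) F), ?_, ?_, hgfix⟩
    · apply mem_omegaGL_minus h2 k' hk a c hac _ hgiso
      have h9 := rank_sub_one_add_finrank_fixSub ((g : GL ((Fin k' ⊕ Fin k') ⊕ Fin 2) F) :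
          Matrix ((Fin k' ⊕ Fin k') ⊕ Fin 2) ((Fin k' ⊕ Fin k') ⊕ Fin 2) F)
      have h10 : fixSub ((g : GL ((Fin k' ⊕ Fin k') ⊕ Fin 2) F) :
          Matrix ((Fin k' ⊕ Fin k') ⊕ Fin 2) ((Fin k' ⊕ Fin k') ⊕ Fin 2) F) = ⊥ := by
        rw [eq_bot_iff]
        intro v hv
        rw [Submodule.mem_bot]
        exact hgfix v (mem_fixSub.mp hv)
      rw [h10, finrank_bot, add_zero, Fintype.card_sum, Fintype.card_sum, Fintype.card_fin,
        Fintype.card_fin] at h9
      rw [h9]
      exact ⟨k' + 1, by ring⟩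
    · have := hg1 r har
      exact congrArg Subtype.val this

/-- the main statement for `Ω⁻`, `q` even -/
theorem minus_main {p : ℕ} [Fact p.Prime] [CharP F p] (hp : p = 2) (k : ℕ) (hk : 3 ≤ k) (a b : F)
    (hab : ∀ x y : F, x ^ 2 + a * x * y + b * y ^ 2 = 0 → x = 0 ∧ y = 0) (r : ℕ) [Fact r.Prime]
    (hrΩ : r ∣ Nat.card {W : Submodule F ((Fin k ⊕ Fin k) ⊕ Fin 2 → F) //
      Module.finrank F ↥W = 1 ∧ ∃ v ∈ W, Cfsg.quadFormMinus k F a b v ≠ 0}) :
    (∀ x : GL ((Fin k ⊕ Fin k) ⊕ Fin 2) F, x ∈ Cfsg.Geo.omegaGL (Cfsg.quadFormMinus k F a b) →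
      (∃ z : F, ((x ^ r : GL ((Fin k ⊕ Fin k) ⊕ Fin 2) F) :
        Matrix ((Fin k ⊕ Fin k) ⊕ Fin 2) ((Fin k ⊕ Fin k) ⊕ Fin 2) F)
          = z • (1 : Matrix ((Fin k ⊕ Fin k) ⊕ Fin 2) ((Fin k ⊕ Fin k) ⊕ Fin 2) F)) →
      (∀ z : F, (x : Matrix ((Fin k ⊕ Fin k) ⊕ Fin 2) ((Fin k ⊕ Fin k) ⊕ Fin 2) F)
          ≠ z • (1 : Matrix ((Fin k ⊕ Fin k) ⊕ Fin 2) ((Fin k ⊕ Fin k) ⊕ Fin 2) F)) →
      ∃ W : Submodule F ((Fin k ⊕ Fin k) ⊕ Fin 2 → F),
        (Module.finrank F ↥W = 1 ∧ ∃ v ∈ W, Cfsg.quadFormMinus k F a b v ≠ 0) ∧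
        W.map (Matrix.toLin' (x : Matrix ((Fin k ⊕ Fin k) ⊕ Fin 2) ((Fin k ⊕ Fin k) ⊕ Fin 2) F))
          ≤ W) ↔ r = 2 := by
  classical
  have h2 : (2 : F) = 0 := by
    subst hp
    exact_mod_cast CharP.cast_eq_zero F 2
  obtain ⟨n, -, hn⟩ := FiniteField.card F p
  have hq2 : 2 ≤ Fintype.card F := Fintype.one_lt_card
  have hnd := minusForm_nondegenerate k a b hab
  haveI : Nonempty ((Fin k ⊕ Fin k) ⊕ Fin 2) := ⟨Sum.inr 0⟩
  obtain ⟨u, hu⟩ := exists_nonsingular (minusForm k F a b) hnd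
  have hcount := lines_count (minusForm k F a b) (-(Fintype.card F : ℤ) ^ (k + 1))
    (unif_minus_std k a b hab)
  rw [Fintype.card_sum, Fintype.card_sum, Fintype.card_fin, Fintype.card_fin] at hcount
  have hcount2 : (Fintype.card F : ℤ) *
      (Nat.card {W : Submodule F ((Fin k ⊕ Fin k) ⊕ Fin 2 → F) // Module.finrank F ↥W = 1 ∧
        ∃ v ∈ W, Cfsg.quadFormMinus k F a b v ≠ 0} : ℤ)
      = (Fintype.card F : ℤ) ^ (k + 1) * ((Fintype.card F : ℤ) ^ (k + 1) + 1) := by
    have hq1 : ((Fintype.card F : ℤ) - 1) ≠ 0 := by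
      have : (2 : ℤ) ≤ (Fintype.card F : ℤ) := by exact_mod_cast hq2
      omega
    apply mul_left_cancel₀ hq1
    have e : (Fintype.card F : ℤ) * ((Fintype.card F : ℤ) - 1) *
        (Nat.card {W : Submodule F ((Fin k ⊕ Fin k) ⊕ Fin 2 → F) // Module.finrank F ↥W = 1 ∧
          ∃ v ∈ W, Cfsg.quadFormMinus k F a b v ≠ 0} : ℤ)
        = (Fintype.card F : ℤ) * (Fintype.card F : ℤ) ^ (k + k + 2)
          - ((-(Fintype.card F : ℤ) ^ (k + 1)) ^ 2
            + -(Fintype.card F : ℤ) ^ (k + 1) * ((Fintype.card F : ℤ) - 1)) :=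
      hcount
    have e2 : (Fintype.card F : ℤ) ^ (k + k + 2)
        = (Fintype.card F : ℤ) ^ (k + 1) * (Fintype.card F : ℤ) ^ (k + 1) := by
      rw [← pow_add]
      congr 1
      omega
    linear_combination e + (Fintype.card F : ℤ) * e2
  have hrdvd : r = 2 ∨ r ∣ Fintype.card F ^ (k + 1) + 1 := by
    have h1 : (r : ℤ) ∣ (Fintype.card F : ℤ) ^ (k + 1) * ((Fintype.card F : ℤ) ^ (k + 1) + 1) := by
      rw [← hcount2]
      exact Dvd.dvd.mul_left (Int.natCast_dvd_natCast.mpr hrΩ) _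
    have h3 : r ∣ Fintype.card F ^ (k + 1) * (Fintype.card F ^ (k + 1) + 1) := by
      apply Int.natCast_dvd_natCast.mp
      push_cast
      exact h1
    rcases (Nat.Prime.dvd_mul (Fact.out : r.Prime)).mp h3 with h | h
    · left
      have h4 := (Fact.out : r.Prime).dvd_of_dvd_pow h
      rw [hn] at h4
      have h5 := (Fact.out : r.Prime).dvd_of_dvd_pow h4
      rw [← hp]
      exact (Nat.prime_dvd_prime_iff_eq (Fact.out : r.Prime) (Fact.out : p.Prime)).mp h5
    · right
      exact h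
  constructor
  · intro hall
    by_contra hr2
    have hrd : r ∣ Fintype.card F ^ (k + 1) + 1 := by
      rcases hrdvd with h | h
      · exact absurd h hr2
      · exact h
    obtain ⟨x, hxΩ, hxr, hxfix⟩ := minus_fpf (p := p) hp h2 k (by omega) a b hab r hr2 hrd
    have hiso := of_mem_omegaGL_minus k a b x hxΩ
    have hxns := ne_scalar_of_fpf h2 (minusForm k F a b) _ hiso u hu hxfix
    obtain ⟨W, hW, hWx⟩ := hall x hxΩ ⟨1, by rw [hxr]; simp⟩ hxns
    obtain ⟨v, hv, hxv⟩ := (fixes_line_iff h2 (minusForm k F a b) _ hiso).mp ⟨W, hW, hWx⟩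
    apply hv
    rw [hxfix v hxv]
    exact map_zero (minusForm k F a b)
  · intro hr2 x hxΩ hz hxns
    obtain ⟨z, hz⟩ := hz
    subst hr2
    have hiso := of_mem_omegaGL_minus k a b x hxΩ
    apply (fixes_line_iff h2 (minusForm k F a b) _ hiso).mpr
    by_contra hno
    push Not at hno
    have hz' : (x : Matrix ((Fin k ⊕ Fin k) ⊕ Fin 2) ((Fin k ⊕ Fin k) ⊕ Fin 2) F)
        * (x : Matrix ((Fin k ⊕ Fin k) ⊕ Fin 2) ((Fin k ⊕ Fin k) ⊕ Fin 2) F)
        = z • (1 : Matrix ((Fin k ⊕ Fin k) ⊕ Fin 2) ((Fin k ⊕ Fin k) ⊕ Fin 2) F) := by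
      rw [← hz, Units.val_pow_eq_pow_val, pow_two]
    have hxx := sq_eq_one_of_scalar h2 (minusForm k F a b) _ hiso u hu z hz'
    have h8 := (invol_no_fixed h2 (minusForm k F a b) hnd _ hxx
      (fun v hv => by
        by_contra h
        exact hno v h hv)).2
    exact minus_no_ts k a b hab _
      (fun w hw => by
        by_contra h
        exact hno w h (mem_fixSub.mp hw)) h8

end minus

end Cfsg.Agent.Lib.helper7.NonsingPt
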