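import Mathlib

/-!
# S2113, piece TWOF: a combinatorial lemma on `ZMod 7` (racing copy)
-/

set_option autoImplicit false

namespace Cfsg.Agent.Lib.helper7.S2113

/-- PIECE TWOF: a combinatorial lemma on `ZMod 7`. -/
theorem helper7_two_f {Γ : Type*} [Group Γ] (f : ZMod 7 → Γ) (j : ZMod 7)
    (hcomm : ∀ a b, f a * f b = f b * f a) (h0 : f 0 = 1) (hsq : ∀ k, f k * f k = 1)
    (hneg : ∀ k, f (-k) = f k) (hj0 : j ≠ 0) (hj1 : j ≠ 1)
    (hrel : ∀ i, f (i + j) = f i * f (i + 1)) : ∀ k, f k = 1 := by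
  have hn1 : f 6 = f 1 := by
    have h := hneg 1
    have e : (-1 : ZMod 7) = 6 := by decide
    rwa [e] at h
  have hn2 : f 5 = f 2 := by
    have h := hneg 2
    have e : (-2 : ZMod 7) = 5 := by decide
    rwa [e] at h
  have hn3 : f 4 = f 3 := by
    have h := hneg 3
    have e : (-3 : ZMod 7) = 4 := by decide
    rwa [e] at h
  -- it is enough to kill `f 1`, `f 2`, `f 3`
  have key : f 1 = 1 → f 2 = 1 → f 3 = 1 → ∀ k, f k = 1 := by
    intro h1 h2 h3 k
    have hkk : ∀ i : ZMod 7, i = 0 ∨ i = 1 ∨ i = 2 ∨ i = 3 ∨ i = 4 ∨ i = 5 ∨ i = 6 := by decide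
    have hk : k = 0 ∨ k = 1 ∨ k = 2 ∨ k = 3 ∨ k = 4 ∨ k = 5 ∨ k = 6 := hkk k
    rcases hk with rfl | rfl | rfl | rfl | rfl | rfl | rfl
    · exact h0
    · exact h1
    · exact h2
    · exact h3
    · rw [hn3, h3]
    · rw [hn2, h2]
    · rw [hn1, h1]
  have hjj : ∀ i : ZMod 7, i ≠ 0 → i ≠ 1 → i = 2 ∨ i = 3 ∨ i = 4 ∨ i = 5 ∨ i = 6 := by decide
  have hj : j = 2 ∨ j = 3 ∨ j = 4 ∨ j = 5 ∨ j = 6 := hjj j hj0 hj1
  rcases hj with rfl | rfl | rfl | rfl | rfl
  · -- j = 2
    have r0 : f 2 = f 0 * f 1 := by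
      have h := hrel 0
      have e1 : (0 : ZMod 7) + 2 = 2 := by decide
      have e2 : (0 : ZMod 7) + 1 = 1 := by decide
      rwa [e1, e2] at h
    have r1 : f 3 = f 1 * f 2 := by
      have h := hrel 1
      have e1 : (1 : ZMod 7) + 2 = 3 := by decide
      have e2 : (1 : ZMod 7) + 1 = 2 := by decide
      rwa [e1, e2] at h
    have r2 : f 4 = f 2 * f 3 := by
      have h := hrel 2
      have e1 : (2 : ZMod 7) + 2 = 4 := by decide
      have e2 : (2 : ZMod 7) + 1 = 3 := by decide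
      rwa [e1, e2] at h
    rw [h0, one_mul] at r0
    have h3 : f 3 = 1 := by rw [r1, r0, hsq]
    have h2 : f 2 = 1 := by
      rw [hn3, h3, mul_one] at r2
      exact r2.symm
    have h1 : f 1 = 1 := by rw [← r0, h2]
    exact key h1 h2 h3
  · -- j = 3
    have r0 : f 3 = f 0 * f 1 := by
      have h := hrel 0
      have e1 : (0 : ZMod 7) + 3 = 3 := by decide
      have e2 : (0 : ZMod 7) + 1 = 1 := by decide
      rwa [e1, e2] at h
    have r1 : f 4 = f 1 * f 2 := by
      have h := hrel 1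
      have e1 : (1 : ZMod 7) + 3 = 4 := by decide
      have e2 : (1 : ZMod 7) + 1 = 2 := by decide
      rwa [e1, e2] at h
    have r2 : f 5 = f 2 * f 3 := by
      have h := hrel 2
      have e1 : (2 : ZMod 7) + 3 = 5 := by decide
      have e2 : (2 : ZMod 7) + 1 = 3 := by decide
      rwa [e1, e2] at h
    rw [h0, one_mul] at r0
    -- f 3 = f 1 ; f 3 = f 1 * f 2 ; f 2 = f 2 * f 3
    have h2 : f 2 = 1 := by
      rw [hn3, r0] at r1
      exact (mul_eq_left.mp r1.symm)
    have h3 : f 3 = 1 := by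
      rw [hn2] at r2
      exact (mul_eq_left.mp r2.symm)
    have h1 : f 1 = 1 := by rw [← r0, h3]
    exact key h1 h2 h3
  · -- j = 4
    have r0 : f 4 = f 0 * f 1 := by
      have h := hrel 0
      have e1 : (0 : ZMod 7) + 4 = 4 := by decide
      have e2 : (0 : ZMod 7) + 1 = 1 := by decide
      rwa [e1, e2] at h
    have r1 : f 5 = f 1 * f 2 := by
      have h := hrel 1
      have e1 : (1 : ZMod 7) + 4 = 5 := by decide
      have e2 : (1 : ZMod 7) + 1 = 2 := by decide
      rwa [e1, e2] at h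
    have r2 : f 6 = f 2 * f 3 := by
      have h := hrel 2
      have e1 : (2 : ZMod 7) + 4 = 6 := by decide
      have e2 : (2 : ZMod 7) + 1 = 3 := by decide
      rwa [e1, e2] at h
    rw [h0, one_mul, hn3] at r0
    -- f 3 = f 1 ; f 2 = f 1 * f 2 ; f 1 = f 2 * f 3
    have h1 : f 1 = 1 := by
      rw [hn2] at r1
      exact (mul_eq_right.mp r1.symm)
    have h3 : f 3 = 1 := by rw [r0, h1]
    have h2 : f 2 = 1 := by
      rw [hn1, h1, h3, mul_one] at r2
      exact r2.symm
    exact key h1 h2 h3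
  · -- j = 5
    have r0 : f 5 = f 0 * f 1 := by
      have h := hrel 0
      have e1 : (0 : ZMod 7) + 5 = 5 := by decide
      have e2 : (0 : ZMod 7) + 1 = 1 := by decide
      rwa [e1, e2] at h
    have r1 : f 6 = f 1 * f 2 := by
      have h := hrel 1
      have e1 : (1 : ZMod 7) + 5 = 6 := by decide
      have e2 : (1 : ZMod 7) + 1 = 2 := by decide
      rwa [e1, e2] at h
    have r2 : f 0 = f 2 * f 3 := by
      have h := hrel 2
      have e1 : (2 : ZMod 7) + 5 = 0 := by decide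
      have e2 : (2 : ZMod 7) + 1 = 3 := by decide
      rwa [e1, e2] at h
    rw [h0, one_mul, hn2] at r0
    -- f 2 = f 1 ; f 1 = f 1 * f 2 ; 1 = f 2 * f 3
    have h2 : f 2 = 1 := by
      rw [hn1] at r1
      exact (mul_eq_left.mp r1.symm)
    have h1 : f 1 = 1 := by rw [← r0, h2]
    have h3 : f 3 = 1 := by
      rw [h0, h2, one_mul] at r2
      exact r2.symm
    exact key h1 h2 h3
  · -- j = 6
    have r1 : f 0 = f 1 * f 2 := by
      have h := hrel 1
      have e1 : (1 : ZMod 7) + 6 = 0 := by decide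
      have e2 : (1 : ZMod 7) + 1 = 2 := by decide
      rwa [e1, e2] at h
    have r2 : f 1 = f 2 * f 3 := by
      have h := hrel 2
      have e1 : (2 : ZMod 7) + 6 = 1 := by decide
      have e2 : (2 : ZMod 7) + 1 = 3 := by decide
      rwa [e1, e2] at h
    have r3 : f 2 = f 3 * f 4 := by
      have h := hrel 3
      have e1 : (3 : ZMod 7) + 6 = 2 := by decide
      have e2 : (3 : ZMod 7) + 1 = 4 := by decide
      rwa [e1, e2] at h
    -- 1 = f 1 * f 2 ; f 1 = f 2 * f 3 ; f 2 = f 3 * f 3 = 1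
    have h2 : f 2 = 1 := by rw [r3, hn3, hsq]
    have h1 : f 1 = 1 := by
      rw [h0, h2, mul_one] at r1
      exact r1.symm
    have h3 : f 3 = 1 := by
      rw [h1, h2, one_mul] at r2
      exact r2.symm
    exact key h1 h2 h3

end Cfsg.Agent.Lib.helper7.S2113
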