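import Cfsg.Agent.Lib.helper81.WTDefs

/-!
# S4414 piece B4 (`no_dichotomy`), by helper7

`helper7_card_free` : a racer copy of piece CNT2 (`card_free`), so that this file depends on
nothing but `WTDefs`.
`helper7_no_dichotomy_core` : B4 with the conclusion of CNT2 as a hypothesis.
`no_dichotomy` : piece B4, the Skel statement.
-/

set_option autoImplicit false
set_option linter.style.haveILetI false

namespace Cfsg.Agent.Lib.helper81.WT

open scoped TensorProduct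

universe u v w

/-- [CNT2] racer copy (helper7): a `Q`-invariant set of characters on which `Q` acts freely has
size divisible by `q`. -/
theorem helper7_card_free {S : Type u} [Group S] [Finite S] {F : Type w} [Field F] [Finite F]
    (Y : Subgroup S) [Y.Normal]
    (Q : Subgroup S) (q : ℕ) (hq : q.Prime) (hQ : Nat.card ↥Q = q)
    (Θ : Set (↥Y →* Fˣ)) (hΘ : ∀ x ∈ Q, ∀ μ ∈ Θ, cj Y x μ ∈ Θ)
    (hfree : ∀ x ∈ Q, x ≠ 1 → ∀ μ ∈ Θ, cj Y x μ ≠ μ) :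
    q ∣ Nat.card ↥Θ := by
  have : Fact q.Prime := ⟨hq⟩
  have : Finite (↥Y →* Fˣ) :=
    Finite.of_injective (fun f : ↥Y →* Fˣ => (f : ↥Y → Fˣ)) DFunLike.coe_injective
  letI act : MulAction ↥Q ↥Θ :=
    { smul := fun x μ => ⟨cj Y (x : S) μ.1, hΘ x x.2 μ.1 μ.2⟩
      one_smul := fun μ => Subtype.ext (by
        show cj Y ((1 : ↥Q) : S) μ.1 = μ.1
        rw [Subgroup.coe_one, cj_one])
      mul_smul := fun x y μ => Subtype.ext (by
        show cj Y ((x * y : ↥Q) : S) μ.1 = cj Y (x : S) (cj Y (y : S) μ.1)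
        rw [Subgroup.coe_mul, cj_mul]) }
  have hP : IsPGroup q ↥Q := IsPGroup.of_card (n := 1) (by rw [hQ, pow_one])
  have hmod := hP.card_modEq_card_fixedPoints ↥Θ
  have hQnt : Nontrivial ↥Q := by
    rw [← Finite.one_lt_card_iff_nontrivial, hQ]
    exact hq.one_lt
  obtain ⟨x', hx'⟩ := exists_ne (1 : ↥Q)
  have hempty : IsEmpty ↥(MulAction.fixedPoints ↥Q ↥Θ) := by
    constructor
    rintro ⟨μ, hμ⟩
    have h1 : x' • μ = μ := hμ x'
    have h2 : cj Y (x' : S) μ.1 = μ.1 := congrArg Subtype.val h1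
    exact hfree x' x'.2 (fun he => hx' (Subtype.ext he)) μ.1 μ.2 h2
  have h0 : Nat.card ↥(MulAction.fixedPoints ↥Q ↥Θ) = 0 := Nat.card_of_isEmpty
  rw [h0] at hmod
  exact (Nat.modEq_zero_iff_dvd).1 hmod

/-- [B4] core: the combinatorial contradiction, with the conclusion of CNT2 (`card_free`)
as the hypothesis `hCNT2`. -/
theorem helper7_no_dichotomy_core {S : Type u} [Group S] [Finite S] {F : Type w} [Field F]
    [Finite F] (Y : Subgroup S) [Y.Normal]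
    (Q : Subgroup S) (q : ℕ) (hq : q.Prime) (hq2 : q ≠ 2) (hQ : Nat.card ↥Q = q)
    (hCNT2 : ∀ (Θ : Set (↥Y →* Fˣ)), (∀ x ∈ Q, ∀ μ ∈ Θ, cj Y x μ ∈ Θ) →
      (∀ x ∈ Q, x ≠ 1 → ∀ μ ∈ Θ, cj Y x μ ≠ μ) → q ∣ Nat.card ↥Θ)
    (Θ₁ Θ₂ : Set (↥Y →* Fˣ)) (hne : Θ₁.Nonempty) (hd : Disjoint Θ₁ Θ₂) (c : ℕ)
    (hc : Nat.card ↥Θ₁ = 2 ^ c) (hfree : ∀ x ∈ Q, x ≠ 1 → ∀ μ ∈ Θ₁, cj Y x μ ≠ μ)
    (h : ∀ g ∈ Q, cj Y g '' Θ₁ = Θ₁ ∨ cj Y g '' Θ₁ = Θ₂) : False := by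
  have : Fact q.Prime := ⟨hq⟩
  -- injectivity of the action of an element
  have hinj : ∀ g : S, Function.Injective (cj Y g : (↥Y →* Fˣ) → (↥Y →* Fˣ)) := by
    intro g
    apply Function.LeftInverse.injective (g := cj Y g⁻¹)
    intro μ
    rw [← cj_mul, inv_mul_cancel, cj_one]
  have h12 : Θ₁ ≠ Θ₂ := by
    intro he
    obtain ⟨μ, hμ⟩ := hne
    exact (Set.disjoint_left.1 hd hμ) (he ▸ hμ)
  -- a nontrivial element of `Q`
  have hQnt : Nontrivial ↥Q := by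
    rw [← Finite.one_lt_card_iff_nontrivial, hQ]
    exact hq.one_lt
  obtain ⟨x', hx'⟩ := exists_ne (1 : ↥Q)
  have hxQ : (x' : S) ∈ Q := x'.2
  have hx1 : (x' : S) ≠ 1 := fun he => hx' (Subtype.ext he)
  -- no element of order two in `Q`
  have hsq : ∀ y : ↥Q, y ≠ 1 → y * y ≠ 1 := by
    intro y hy hyy
    have h2 : orderOf y = 2 := orderOf_eq_prime (by rw [pow_two]; exact hyy) hy
    have hdvd : 2 ∣ q := by
      rw [← hQ, ← h2]
      exact orderOf_dvd_natCard y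
    exact hq2 ((Nat.prime_dvd_prime_iff_eq Nat.prime_two hq).1 hdvd).symm
  -- a nontrivial element of `Q` stabilising `Θ₁`
  have hex : ∃ g : ↥Q, g ≠ 1 ∧ cj Y (g : S) '' Θ₁ = Θ₁ := by
    rcases h (x' : S) hxQ with h1 | h2
    · exact ⟨x', hx', h1⟩
    · refine ⟨x' * x', hsq x' hx', ?_⟩
      have hxx : cj Y ((x' * x' : ↥Q) : S) '' Θ₁ = cj Y (x' : S) '' Θ₂ := by
        rw [← h2, Set.image_image]
        apply Set.image_congr
        intro μ _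
        rw [Subgroup.coe_mul, cj_mul]
      rcases h ((x' * x' : ↥Q) : S) (x' * x').2 with h3 | h4
      · exact h3
      · exfalso
        rw [hxx] at h4
        have : cj Y (x' : S) '' Θ₂ = cj Y (x' : S) '' Θ₁ := by rw [h4, h2]
        exact h12 ((Set.image_injective.2 (hinj _)) this).symm
  obtain ⟨g, hg1, hg⟩ := hex
  have htop : Subgroup.zpowers g = ⊤ := zpowers_eq_top_of_prime_card hQ hg1
  -- powers of `g` stabilise `Θ₁`
  have hpow : ∀ n : ℕ, cj Y ((g ^ n : ↥Q) : S) '' Θ₁ = Θ₁ := by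
    intro n
    induction n with
    | zero =>
      rw [pow_zero, Subgroup.coe_one]
      have : (cj Y (1 : S) : (↥Y →* Fˣ) → (↥Y →* Fˣ)) = id := funext fun μ => cj_one Y μ
      rw [this, Set.image_id]
    | succ n ih =>
      have : cj Y ((g ^ (n + 1) : ↥Q) : S) '' Θ₁ = cj Y ((g ^ n : ↥Q) : S) '' (cj Y (g : S) '' Θ₁) := by
        rw [Set.image_image]
        apply Set.image_congr
        intro μ _
        rw [pow_succ, Subgroup.coe_mul, cj_mul]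
      rw [this, hg, ih]
  have hinv : ∀ y ∈ Q, ∀ μ ∈ Θ₁, cj Y y μ ∈ Θ₁ := by
    intro y hy μ hμ
    have hmem : (⟨y, hy⟩ : ↥Q) ∈ Subgroup.zpowers g := by rw [htop]; exact Subgroup.mem_top _
    rw [← mem_powers_iff_mem_zpowers] at hmem
    obtain ⟨n, hn⟩ := (Submonoid.mem_powers_iff _ _).1 hmem
    have h1 := hpow n
    rw [hn] at h1
    have : cj Y y μ ∈ cj Y ((⟨y, hy⟩ : ↥Q) : S) '' Θ₁ := Set.mem_image_of_mem _ hμ
    rw [h1] at this
    exact this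
  have hdvd : q ∣ 2 ^ c := by
    rw [← hc]
    exact hCNT2 Θ₁ hinv hfree
  have hdvd2 : q ∣ 2 := hq.dvd_of_dvd_pow hdvd
  exact hq2 ((Nat.prime_dvd_prime_iff_eq hq Nat.prime_two).1 hdvd2)

/-- [B4] combinatorial contradiction; uses CNT2 -/
theorem no_dichotomy {S : Type u} [Group S] [Finite S] {F : Type w} [Field F] [Finite F]
    (Y : Subgroup S) [Y.Normal]
    (Q : Subgroup S) (q : ℕ) (hq : q.Prime) (hq2 : q ≠ 2) (hQ : Nat.card ↥Q = q)
    (Θ₁ Θ₂ : Set (↥Y →* Fˣ)) (hne : Θ₁.Nonempty) (hd : Disjoint Θ₁ Θ₂) (c : ℕ)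
    (hc : Nat.card ↥Θ₁ = 2 ^ c) (hfree : ∀ x ∈ Q, x ≠ 1 → ∀ μ ∈ Θ₁, cj Y x μ ≠ μ)
    (h : ∀ g ∈ Q, cj Y g '' Θ₁ = Θ₁ ∨ cj Y g '' Θ₁ = Θ₂) : False :=
  helper7_no_dichotomy_core Y Q q hq hq2 hQ
    (fun Θ hΘ hf => helper7_card_free Y Q q hq hQ Θ hΘ hf) Θ₁ Θ₂ hne hd c hc hfree h

end Cfsg.Agent.Lib.helper81.WT
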