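import Mathlib

/-!
# S3571 piece GEN (helper7): if `r ∤ |K ∩ A_m|` then every element of order `r` of `A_m`
has no conjugate in `K`.
-/

set_option autoImplicit false

namespace Cfsg.Agent.Lib.helper7.AD

open scoped Pointwise
open Equiv MulAction

/-- `|A_m| = |A_m : A_m ∩ K| * |K ∩ A_m|`. -/
theorem card_alt_eq (m : ℕ) (K : Subgroup (Perm (Fin m))) :
    Nat.card ↥(alternatingGroup (Fin m)) =
      K.relIndex (alternatingGroup (Fin m)) * Nat.card ↥(K ⊓ alternatingGroup (Fin m)) := by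
  have h := Subgroup.relIndex_mul_relIndex (H := (⊥ : Subgroup (Perm (Fin m))))
    (K := K ⊓ alternatingGroup (Fin m)) (L := alternatingGroup (Fin m)) bot_le inf_le_right
  rw [Subgroup.relIndex_bot_left, Subgroup.relIndex_bot_left, Subgroup.inf_relIndex_right] at h
  rw [← h, mul_comm]

/-- an element of `K ∩ A_m` of order `r` forces `r ∣ |K ∩ A_m|`. -/
theorem orderOf_dvd_card_inf (m : ℕ) (K : Subgroup (Perm (Fin m))) (y : Perm (Fin m))
    (hyK : y ∈ K) (hyA : y ∈ alternatingGroup (Fin m)) :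
    orderOf y ∣ Nat.card ↥(K ⊓ alternatingGroup (Fin m)) := by
  have h := orderOf_dvd_natCard (⟨y, ⟨hyK, hyA⟩⟩ : ↥(K ⊓ alternatingGroup (Fin m)))
  rwa [← Subgroup.orderOf_coe] at h

/-- GEN -/
theorem gen_of_not_dvd (m : ℕ) (K : Subgroup (Perm (Fin m))) (r : ℕ) (hr : r.Prime)
    (hrd : r ∣ K.relIndex (alternatingGroup (Fin m)))
    (hrK : ¬ r ∣ Nat.card ↥(K ⊓ alternatingGroup (Fin m))) :
    ∃ x ∈ alternatingGroup (Fin m), orderOf x = r ∧
      ∀ g ∈ alternatingGroup (Fin m), g * x * g⁻¹ ∉ K := by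
  haveI : Fact r.Prime := ⟨hr⟩
  have hcard : r ∣ Nat.card ↥(alternatingGroup (Fin m)) := by
    rw [card_alt_eq m K]
    exact Dvd.dvd.mul_right hrd _
  obtain ⟨x, hx⟩ := exists_prime_orderOf_dvd_card' r hcard
  refine ⟨(x : Perm (Fin m)), x.2, ?_, ?_⟩
  · rw [Subgroup.orderOf_coe, hx]
  · intro g hg hmem
    have hA : g * (x : Perm (Fin m)) * g⁻¹ ∈ alternatingGroup (Fin m) :=
      (alternatingGroup (Fin m)).mul_mem ((alternatingGroup (Fin m)).mul_mem hg x.2)
        ((alternatingGroup (Fin m)).inv_mem hg)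
    have h1 := orderOf_dvd_card_inf m K _ hmem hA
    have h2 : orderOf (g * (x : Perm (Fin m)) * g⁻¹) = r := by
      rw [← hx, ← Subgroup.orderOf_coe]
      have : g * (x : Perm (Fin m)) * g⁻¹ = MulAut.conj g (x : Perm (Fin m)) := by
        simp [MulAut.conj_apply]
      rw [this, MulEquiv.orderOf_eq]
    rw [h2] at h1
    exact hrK h1

end Cfsg.Agent.Lib.helper7.AD
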