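import Mathlib

/-!
# S3571 (helper7): top-level reduction.

`top_core`: the statement of S3571 from the embedding (EMB), the permutation-group theorem
(`perm_main`) and the degree-6 theorem (M6), all taken as hypotheses for the given `m`.
`perm_main_core`: the permutation-group theorem from TRI, PA, PB, PC.
-/

set_option autoImplicit false

namespace Cfsg.Agent.Lib.helper7.AD

open scoped Pointwise
open Equiv MulAction

/-- An element of a transitive subgroup `T` with no `T`-conjugate in a point stabilizer has no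
fixed point. -/
theorem derangement_of_noconj {G Ω : Type*} [Group G] [MulAction G Ω] (T : Subgroup G)
    (hTtr : IsPretransitive T Ω) (ω : Ω) (t : G)
    (h : ∀ g ∈ T, g * t * g⁻¹ ∉ stabilizer G ω) : ∀ ω' : Ω, t • ω' ≠ ω' := by
  intro ω' hfix
  obtain ⟨g, hg⟩ := hTtr.exists_smul_eq ω ω'
  have hg' : (g : G) • ω = ω' := hg
  apply h (g : G)⁻¹ (T.inv_mem g.2)
  rw [mem_stabilizer_iff, inv_inv, mul_smul, mul_smul, hg', hfix, ← hg', inv_smul_smul]

/-- The permutation-group theorem from the trichotomy and the three cases. -/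
theorem perm_main_core (m : ℕ)
    (hTRI : ∀ H : Subgroup (Perm (Fin m)),
      (∃ s : Set (Fin m), s.Nonempty ∧ sᶜ.Nonempty ∧ H ≤ stabilizer (Perm (Fin m)) s) ∨
      (IsPretransitive H (Fin m) ∧
        ∃ B : Set (Fin m), IsBlock H B ∧ B.Nontrivial ∧ B ≠ Set.univ) ∨
      IsPreprimitive H (Fin m))
    (hPA : ∀ (Γ H : Subgroup (Perm (Fin m))),
      alternatingGroup (Fin m) ≤ Γ → H ≤ Γ →
      (∀ L : Subgroup (Perm (Fin m)), H ≤ L → L ≤ Γ → L = H ∨ L = Γ) →
      ∀ s : Set (Fin m), s.Nonempty → sᶜ.Nonempty → H ≤ stabilizer (Perm (Fin m)) s →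
      ∀ r : ℕ, r.Prime → r ∣ H.relIndex (alternatingGroup (Fin m)) →
      (∀ q : ℕ, q.Prime → q ∣ H.relIndex (alternatingGroup (Fin m)) → q ≤ r) →
      ∃ x ∈ alternatingGroup (Fin m), orderOf x = r ∧
        ∀ g ∈ alternatingGroup (Fin m), g * x * g⁻¹ ∉ H)
    (hPB : ∀ (H : Subgroup (Perm (Fin m))),
      IsPretransitive H (Fin m) → ∀ B : Set (Fin m), IsBlock H B → B.Nontrivial →
      B ≠ Set.univ →
      ∀ r : ℕ, r.Prime → r ∣ H.relIndex (alternatingGroup (Fin m)) →
      (∀ q : ℕ, q.Prime → q ∣ H.relIndex (alternatingGroup (Fin m)) → q ≤ r) →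
      ∃ x ∈ alternatingGroup (Fin m), orderOf x = r ∧
        ∀ g ∈ alternatingGroup (Fin m), g * x * g⁻¹ ∉ H)
    (hPC : ∀ (H : Subgroup (Perm (Fin m))),
      IsPreprimitive H (Fin m) → ¬ alternatingGroup (Fin m) ≤ H →
      ∀ r : ℕ, r.Prime → r ∣ H.relIndex (alternatingGroup (Fin m)) →
      (∀ q : ℕ, q.Prime → q ∣ H.relIndex (alternatingGroup (Fin m)) → q ≤ r) →
      ∃ x ∈ alternatingGroup (Fin m), orderOf x = r ∧
        ∀ g ∈ alternatingGroup (Fin m), g * x * g⁻¹ ∉ H)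
    (Γ H : Subgroup (Perm (Fin m)))
    (hA : alternatingGroup (Fin m) ≤ Γ) (hHΓ : H ≤ Γ)
    (hmax : ∀ L : Subgroup (Perm (Fin m)), H ≤ L → L ≤ Γ → L = H ∨ L = Γ)
    (r : ℕ) (hr : r.Prime) (hrd : r ∣ H.relIndex (alternatingGroup (Fin m)))
    (hmaxr : ∀ q : ℕ, q.Prime → q ∣ H.relIndex (alternatingGroup (Fin m)) → q ≤ r) :
    ∃ x ∈ alternatingGroup (Fin m), orderOf x = r ∧
      ∀ g ∈ alternatingGroup (Fin m), g * x * g⁻¹ ∉ H := by
  rcases hTRI H with ⟨s, hs, hsc, hHs⟩ | ⟨htr, B, hB, hB1, hB2⟩ | hprim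
  · exact hPA Γ H hA hHΓ hmax s hs hsc hHs r hr hrd hmaxr
  · exact hPB H htr B hB hB1 hB2 r hr hrd hmaxr
  · refine hPC H hprim ?_ r hr hrd hmaxr
    intro hAH
    rw [Subgroup.relIndex_eq_one.mpr hAH] at hrd
    exact hr.one_lt.ne' (Nat.dvd_one.mp hrd)

/-- The statement of S3571 from EMB, `perm_main` and M6 (for the given `m`). -/
theorem top_core {G Ω : Type*} [Group G] [Finite G] [MulAction G Ω] [FaithfulSMul G Ω] [Finite Ω]
    (T : Subgroup G) (hT : T.Normal) (m : ℕ) (hm : 5 ≤ m)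
    (eT : ↥T ≃* ↥(alternatingGroup (Fin m))) (hprim : MulAction.IsPreprimitive G Ω)
    (hΩ : 2 ≤ Nat.card Ω)
    (r : ℕ) (hr : r.Prime) (hrd : r ∣ Nat.card Ω)
    (hmax : ∀ s : ℕ, s.Prime → s ∣ Nat.card Ω → s ≤ r)
    (hEMB : m ≠ 6 → ∃ ρ : G →* Perm (Fin m), Function.Injective ρ ∧
      T.map ρ = alternatingGroup (Fin m))
    (hPERM : m ≠ 6 → ∀ (Γ H : Subgroup (Perm (Fin m))),
      alternatingGroup (Fin m) ≤ Γ → H ≤ Γ →
      (∀ L : Subgroup (Perm (Fin m)), H ≤ L → L ≤ Γ → L = H ∨ L = Γ) →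
      r ∣ H.relIndex (alternatingGroup (Fin m)) →
      (∀ q : ℕ, q.Prime → q ∣ H.relIndex (alternatingGroup (Fin m)) → q ≤ r) →
      ∃ x ∈ alternatingGroup (Fin m), orderOf x = r ∧
        ∀ g ∈ alternatingGroup (Fin m), g * x * g⁻¹ ∉ H)
    (hM6 : m = 6 → ∀ K : Subgroup (Perm (Fin m)),
      r ∣ K.relIndex (alternatingGroup (Fin m)) →
      (∀ q : ℕ, q.Prime → q ∣ K.relIndex (alternatingGroup (Fin m)) → q ≤ r) →
      ∃ x ∈ alternatingGroup (Fin m), orderOf x = r ∧
        ∀ g ∈ alternatingGroup (Fin m), g * x * g⁻¹ ∉ K) :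
    ∃ g : G, orderOf g = r ∧ ∀ ω : Ω, g • ω ≠ ω := by
  classical
  haveI : Nontrivial Ω := Finite.one_lt_card_iff_nontrivial.mp (by omega)
  obtain ⟨ω⟩ : Nonempty Ω := inferInstance
  haveI := hprim
  haveI : T.Normal := hT
  -- `T` is transitive
  have hTtr : IsPretransitive T Ω := by
    refine IsQuasiPreprimitive.isPretransitive_of_normal (G := G) (N := T) ?_
    intro hfix
    haveI : Nontrivial ↥(alternatingGroup (Fin m)) :=
      alternatingGroup.nontrivial_of_three_le_card (by simp; omega)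
    haveI : Nontrivial ↥T := eT.toEquiv.nontrivial
    obtain ⟨t, ht⟩ := exists_ne (1 : ↥T)
    apply ht
    have h1 : (t : G) = 1 := by
      apply FaithfulSMul.eq_of_smul_eq_smul (α := Ω)
      intro a
      have ha : a ∈ fixedPoints (↥T) Ω := by rw [hfix]; exact Set.mem_univ a
      have := ha t
      rw [one_smul]
      exact this
    exact Subtype.ext h1
  -- the point stabilizer is maximal
  have hcoatom : IsCoatom (stabilizer G ω) :=
    IsPreprimitive.isCoatom_stabilizer_of_isPreprimitive G ω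
  -- the index
  have hidx : (stabilizer G ω).relIndex T = Nat.card Ω := by
    have h1 := index_stabilizer_of_transitive (G := ↥T) (x := ω)
    rw [← h1, Subgroup.relIndex]
    congr 1
  -- reduction
  suffices hmain : ∃ t ∈ T, orderOf t = r ∧ ∀ g ∈ T, g * t * g⁻¹ ∉ stabilizer G ω by
    obtain ⟨t, -, hto, htn⟩ := hmain
    exact ⟨t, hto, derangement_of_noconj T hTtr ω t htn⟩
  by_cases h6 : m = 6
  · -- degree 6
    let φ : ↥T →* Perm (Fin m) := (alternatingGroup (Fin m)).subtype.comp eT.toMonoidHom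
    have hφ : Function.Injective φ :=
      (Subgroup.subtype_injective _).comp eT.injective
    have hφtop : (⊤ : Subgroup ↥T).map φ = alternatingGroup (Fin m) := by
      ext x
      constructor
      · rintro ⟨t, -, rfl⟩
        exact (eT t).2
      · intro hx
        exact ⟨eT.symm ⟨x, hx⟩, Subgroup.mem_top _, by simp [φ]⟩
    have hrel : (((stabilizer G ω).subgroupOf T).map φ).relIndex (alternatingGroup (Fin m)) =
        Nat.card Ω := by
      rw [← hφtop, Subgroup.relIndex_map_map_of_injective _ _ hφ, Subgroup.relIndex_top_right,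
        ← hidx, Subgroup.relIndex]
    obtain ⟨x, hxA, hxo, hxn⟩ := hM6 h6 (((stabilizer G ω).subgroupOf T).map φ)
      (by rw [hrel]; exact hrd) (by rw [hrel]; exact hmax)
    rw [← hφtop] at hxA
    obtain ⟨t, -, rfl⟩ := hxA
    refine ⟨(t : G), t.2, ?_, ?_⟩
    · rw [Subgroup.orderOf_coe, ← orderOf_injective φ hφ t, hxo]
    · intro g hg hmem
      have hgA : φ ⟨g, hg⟩ ∈ alternatingGroup (Fin m) := by
        rw [← hφtop]; exact ⟨_, Subgroup.mem_top _, rfl⟩
      apply hxn (φ ⟨g, hg⟩) hgA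
      exact ⟨⟨g, hg⟩ * t * ⟨g, hg⟩⁻¹, Subgroup.mem_subgroupOf.mpr hmem, by simp⟩
  · -- degree ≠ 6
    obtain ⟨ρ, hρ, hρT⟩ := hEMB h6
    have hrel : ((stabilizer G ω).map ρ).relIndex (alternatingGroup (Fin m)) = Nat.card Ω := by
      rw [← hρT, Subgroup.relIndex_map_map_of_injective _ _ hρ, hidx]
    have hmaxH : ∀ L : Subgroup (Perm (Fin m)), (stabilizer G ω).map ρ ≤ L → L ≤ ρ.range →
        L = (stabilizer G ω).map ρ ∨ L = ρ.range := by
      intro L hL1 hL2
      have hL : (L.comap ρ).map ρ = L := Subgroup.map_comap_eq_self hL2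
      have hle : stabilizer G ω ≤ L.comap ρ := by
        intro g hg
        exact hL1 ⟨g, hg, rfl⟩
      rcases eq_or_lt_of_le hle with h | h
      · left; rw [← hL, ← h]
      · right
        rw [← hL, hcoatom.2 _ h, ← MonoidHom.range_eq_map]
    obtain ⟨x, hxA, hxo, hxn⟩ := hPERM h6 ρ.range ((stabilizer G ω).map ρ)
      (by rw [← hρT, MonoidHom.range_eq_map]; exact Subgroup.map_mono le_top)
      (by rw [MonoidHom.range_eq_map]; exact Subgroup.map_mono le_top) hmaxH
      (by rw [hrel]; exact hrd) (by rw [hrel]; exact hmax)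
    rw [← hρT] at hxA
    obtain ⟨t, htT, rfl⟩ := hxA
    refine ⟨t, htT, ?_, ?_⟩
    · rw [← orderOf_injective ρ hρ t, hxo]
    · intro g hg hmem
      have hgA : ρ g ∈ alternatingGroup (Fin m) := by
        rw [← hρT]; exact ⟨g, hg, rfl⟩
      apply hxn (ρ g) hgA
      exact ⟨g * t * g⁻¹, hmem, by simp⟩

end Cfsg.Agent.Lib.helper7.AD
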