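import Mathlib
import Cfsg.Agent.Lib.helper6.ADNT1a
import Cfsg.Agent.Lib.helper6.ADNT1b
import Cfsg.Agent.Lib.helper56.ADNT
import Cfsg.Agent.Lib.helper14.ADX2

/-!
# S3571 piece PA, core form (helper7): the intransitive case, with X1 and AIDX as hypotheses.
-/

set_option autoImplicit false

namespace Cfsg.Agent.Lib.helper7.AD

open scoped Pointwise
open Equiv MulAction

/-- weak Sylvester–Schur (NT1a + NT1b). -/
theorem choose_prime_factor (m k : ℕ) (hk : 1 ≤ k) (hkm : 2 * k ≤ m) :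
    ∃ p : ℕ, p.Prime ∧ p ∣ m.choose k ∧ (k < p ∨ m < p ^ 2) := by
  rcases Nat.lt_or_ge m (k ^ 2) with h | h
  · exact Cfsg.Agent.Lib.helper6.AD.choose_prime_factor_large m k hk hkm h
  · exact Cfsg.Agent.Lib.helper6.AD.choose_prime_factor_small m k hk hkm h

/-- The intransitive case for an invariant set `s` with `2 |s| ≤ m`. -/
theorem pa_aux (m : ℕ) (hm : 5 ≤ m)
    (hX1 : ∀ r : ℕ, r.Prime → r ≤ m → (r = 2 → 4 ∣ m) →
      ∃ x : Perm (Fin m), x ∈ alternatingGroup (Fin m) ∧ orderOf x = r ∧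
        (Finset.univ.filter (fun i : Fin m => x i = i)).card = m % r)
    (H : Subgroup (Perm (Fin m))) (s : Set (Fin m)) (hk1 : 1 ≤ s.ncard) (hk2 : 2 * s.ncard ≤ m)
    (hHs : H ≤ stabilizer (Perm (Fin m)) s)
    (r : ℕ) (hr : r.Prime) (hrd : r ∣ m.choose s.ncard)
    (hmaxr : ∀ q : ℕ, q.Prime → q ∣ m.choose s.ncard → q ≤ r) :
    ∃ x ∈ alternatingGroup (Fin m), orderOf x = r ∧
      ∀ g ∈ alternatingGroup (Fin m), g * x * g⁻¹ ∉ H := by
  set k := s.ncard with hk
  obtain ⟨p, hp, hpd, hpk⟩ := choose_prime_factor m k hk1 hk2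
  have hpr : p ≤ r := hmaxr p hp hpd
  have hrk : k < r ∨ m < r ^ 2 := by
    rcases hpk with h | h
    · exact Or.inl (lt_of_lt_of_le h hpr)
    · exact Or.inr (lt_of_lt_of_le h (Nat.pow_le_pow_left hpr 2))
  have hkm : k ≤ m := by omega
  have hmod : m % r < k % r :=
    Cfsg.Agent.Lib.helper56.AD.mod_lt_mod_of_dvd_choose m k r hr hkm hrd hrk
  have hrm : r ≤ m := by
    by_contra hlt
    rw [not_le] at hlt
    rw [Nat.mod_eq_of_lt hlt, Nat.mod_eq_of_lt (lt_of_le_of_lt hkm hlt)] at hmod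
    omega
  have h4 : r = 2 → 4 ∣ m := by
    intro hr2
    subst hr2
    have hp2 : p = 2 := le_antisymm hpr hp.two_le
    subst hp2
    have hk1' : k = 1 := by
      rcases hpk with h | h
      · omega
      · omega
    rw [hk1', Nat.choose_one_right] at hmaxr
    have hpow : m = 2 ^ m.primeFactorsList.length := by
      apply Nat.eq_prime_pow_of_unique_prime_dvd (by omega)
      intro d hd hdm
      exact le_antisymm (hmaxr d hd hdm) hd.two_le
    have hlen : 2 ≤ m.primeFactorsList.length := by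
      by_contra hlt
      rw [not_le] at hlt
      have : 2 ^ m.primeFactorsList.length ≤ 2 ^ 1 :=
        Nat.pow_le_pow_right (by norm_num) (by omega)
      omega
    rw [hpow]
    exact pow_dvd_pow 2 hlen
  obtain ⟨x, hxA, hxo, hxfix⟩ := hX1 r hr hrm h4
  refine ⟨x, hxA, hxo, ?_⟩
  intro g _ hmem
  have hstab : g * x * g⁻¹ ∈ stabilizer (Perm (Fin m)) s := hHs hmem
  have hx' : x ∈ stabilizer (Perm (Fin m)) (g⁻¹ • s) := by
    rw [mem_stabilizer_iff] at hstab ⊢
    have h1 : x • g⁻¹ • s = g⁻¹ • ((g * x * g⁻¹) • s) := by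
      rw [← mul_smul, ← mul_smul]
      congr 1
      group
    rw [h1, hstab]
  have hle := Cfsg.Agent.Lib.helper14.AD.card_mod_le_of_invariant m r hr x hxo hxfix (g⁻¹ • s) hx'
  have hcard : (g⁻¹ • s).ncard = k := by
    rw [hk, ← Set.image_smul]
    exact Set.ncard_image_of_injective s (MulAction.injective g⁻¹)
  rw [hcard] at hle
  omega

/-- PA (core): the intransitive case from X1 and AIDX (for the given `m`). -/
theorem perm_case_intrans_core (m : ℕ) (hm : 5 ≤ m)
    (hX1 : ∀ r : ℕ, r.Prime → r ≤ m → (r = 2 → 4 ∣ m) →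
      ∃ x : Perm (Fin m), x ∈ alternatingGroup (Fin m) ∧ orderOf x = r ∧
        (Finset.univ.filter (fun i : Fin m => x i = i)).card = m % r)
    (hAIDX : ∀ s : Set (Fin m),
      (stabilizer (Perm (Fin m)) s).relIndex (alternatingGroup (Fin m)) = m.choose s.ncard)
    (Γ H : Subgroup (Perm (Fin m)))
    (hA : alternatingGroup (Fin m) ≤ Γ) (hHΓ : H ≤ Γ)
    (hmax : ∀ L : Subgroup (Perm (Fin m)), H ≤ L → L ≤ Γ → L = H ∨ L = Γ)
    (s : Set (Fin m)) (hs : s.Nonempty) (hsc : sᶜ.Nonempty)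
    (hHs : H ≤ stabilizer (Perm (Fin m)) s)
    (r : ℕ) (hr : r.Prime) (hrd : r ∣ H.relIndex (alternatingGroup (Fin m)))
    (hmaxr : ∀ q : ℕ, q.Prime → q ∣ H.relIndex (alternatingGroup (Fin m)) → q ≤ r) :
    ∃ x ∈ alternatingGroup (Fin m), orderOf x = r ∧
      ∀ g ∈ alternatingGroup (Fin m), g * x * g⁻¹ ∉ H := by
  -- `H = Γ ⊓ Stab(s)`
  have hHeq : Γ ⊓ stabilizer (Perm (Fin m)) s = H := by
    rcases hmax (Γ ⊓ stabilizer (Perm (Fin m)) s) (le_inf hHΓ hHs) inf_le_left with h | h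
    · exact h
    · exfalso
      obtain ⟨a, ha⟩ := hs
      obtain ⟨b, hb⟩ := hsc
      have hab : a ≠ b := fun h' => hb (h' ▸ ha)
      obtain ⟨c, hca, hcb⟩ : ∃ c : Fin m, c ≠ a ∧ c ≠ b := by
        obtain ⟨c, -, hc⟩ := Finset.exists_mem_notMem_of_card_lt_card
          (s := ({a, b} : Finset (Fin m))) (t := Finset.univ)
          (by
            rw [Finset.card_univ, Fintype.card_fin]
            exact lt_of_le_of_lt Finset.card_le_two (by omega))
        simp only [Finset.mem_insert, Finset.mem_singleton, not_or] at hc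
        exact ⟨c, hc.1, hc.2⟩
      have hg3 : (swap a c * swap a b).IsThreeCycle :=
        Equiv.Perm.isThreeCycle_swap_mul_swap_same (Ne.symm hca) hab hcb
      have hgA : swap a c * swap a b ∈ alternatingGroup (Fin m) := hg3.mem_alternatingGroup
      have hgΓ : swap a c * swap a b ∈ Γ ⊓ stabilizer (Perm (Fin m)) s := by
        rw [h]
        exact hA hgA
      have hgs : swap a c * swap a b ∈ stabilizer (Perm (Fin m)) s := hgΓ.2
      rw [mem_stabilizer_set] at hgs
      have hmem := (hgs a).mpr ha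
      have hval : (swap a c * swap a b) • a = b := by
        rw [Perm.smul_def, Perm.mul_apply, swap_apply_left, swap_apply_of_ne_of_ne hab.symm hcb.symm]
      rw [hval] at hmem
      exact hb hmem
  have hrel : H.relIndex (alternatingGroup (Fin m)) = m.choose s.ncard := by
    have h1 : (Γ ⊓ stabilizer (Perm (Fin m)) s) ⊓ alternatingGroup (Fin m) =
        stabilizer (Perm (Fin m)) s ⊓ alternatingGroup (Fin m) := by
      rw [inf_comm Γ, inf_assoc, inf_eq_right.mpr hA]
    rw [← hHeq, ← Subgroup.inf_relIndex_right, h1, Subgroup.inf_relIndex_right, hAIDX]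
  have hcardsum : s.ncard + sᶜ.ncard = m := by
    have h := Set.ncard_add_ncard_compl s
    rw [Nat.card_eq_fintype_card, Fintype.card_fin] at h
    exact h
  have hs1 : 1 ≤ s.ncard := (Set.ncard_pos (Set.toFinite s)).mpr hs
  have hsc1 : 1 ≤ sᶜ.ncard := (Set.ncard_pos (Set.toFinite sᶜ)).mpr hsc
  rw [hrel] at hrd hmaxr
  rcases Nat.le_total (2 * s.ncard) m with h | h
  · exact pa_aux m hm hX1 H s hs1 h hHs r hr hrd hmaxr
  · have hsymm : m.choose s.ncard = m.choose sᶜ.ncard := by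
      rw [← Nat.choose_symm (by omega : s.ncard ≤ m)]
      congr 1
      omega
    rw [hsymm] at hrd hmaxr
    exact pa_aux m hm hX1 H sᶜ hsc1 (by omega) (by rw [stabilizer_compl]; exact hHs) r hr hrd
      hmaxr

end Cfsg.Agent.Lib.helper7.AD
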