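import Mathlib
import Cfsg.Agent.Lib.helper7.ADGen

/-!
# S3571 piece PB, core form (helper7): the imprimitive case, with BLK as a hypothesis.
-/

set_option autoImplicit false

namespace Cfsg.Agent.Lib.helper7.AD

open scoped Pointwise
open Equiv MulAction

/-- If `H` has no element of prime order `p` then `p ∤ |H ∩ A_m|`. -/
theorem not_dvd_card_inf_of_forall (m : ℕ) (H : Subgroup (Perm (Fin m))) (p : ℕ) (hp : p.Prime)
    (h : ∀ y : Perm (Fin m), y ∈ H → orderOf y ≠ p) :
    ¬ p ∣ Nat.card ↥(H ⊓ alternatingGroup (Fin m)) := by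
  intro hdvd
  haveI : Fact p.Prime := ⟨hp⟩
  obtain ⟨y, hy⟩ := exists_prime_orderOf_dvd_card' p hdvd
  apply h (y : Perm (Fin m)) y.2.1
  rw [Subgroup.orderOf_coe, hy]

/-- PB (core): the imprimitive case from the conclusion of BLK. -/
theorem perm_case_imprim_core (m : ℕ) (hm : 5 ≤ m) (H : Subgroup (Perm (Fin m)))
    (hBLK : ∀ p : ℕ, p.Prime → m < 2 * p → ∀ h : Perm (Fin m), h ∈ H → orderOf h ≠ p)
    (r : ℕ) (hr : r.Prime) (hrd : r ∣ H.relIndex (alternatingGroup (Fin m)))
    (hmaxr : ∀ q : ℕ, q.Prime → q ∣ H.relIndex (alternatingGroup (Fin m)) → q ≤ r) :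
    ∃ x ∈ alternatingGroup (Fin m), orderOf x = r ∧
      ∀ g ∈ alternatingGroup (Fin m), g * x * g⁻¹ ∉ H := by
  obtain ⟨p, hp, hlt, hle⟩ := Nat.exists_prime_lt_and_le_two_mul (m / 2) (by omega)
  have hpm : m < 2 * p := by omega
  have hpm' : p ≤ m := by omega
  have hpA : p ∣ Nat.card ↥(alternatingGroup (Fin m)) := by
    haveI : Nontrivial (Fin m) := Fin.nontrivial_iff_two_le.mpr (by omega)
    have h2 := two_mul_nat_card_alternatingGroup (α := Fin m)
    rw [Nat.card_perm, Nat.card_eq_fintype_card (α := Fin m), Fintype.card_fin] at h2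
    have hpf : p ∣ 2 * Nat.card ↥(alternatingGroup (Fin m)) := by
      rw [h2]
      exact (Nat.Prime.dvd_factorial hp).mpr hpm'
    rcases (Nat.Prime.dvd_mul hp).mp hpf with h | h
    · have := Nat.le_of_dvd (by norm_num) h
      omega
    · exact h
  have hpK : ¬ p ∣ Nat.card ↥(H ⊓ alternatingGroup (Fin m)) :=
    not_dvd_card_inf_of_forall m H p hp (hBLK p hp hpm)
  have hprel : p ∣ H.relIndex (alternatingGroup (Fin m)) := by
    rw [card_alt_eq m H] at hpA
    rcases (Nat.Prime.dvd_mul hp).mp hpA with h | h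
    · exact h
    · exact absurd h hpK
  have hpr : p ≤ r := hmaxr p hp hprel
  have hrK : ¬ r ∣ Nat.card ↥(H ⊓ alternatingGroup (Fin m)) :=
    not_dvd_card_inf_of_forall m H r hr (hBLK r hr (by omega))
  exact gen_of_not_dvd m H r hr hrd hrK

end Cfsg.Agent.Lib.helper7.AD
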