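import Mathlib
import Cfsg.Agent.S0713
import Cfsg.Agent.Lib.helper7.ADGen

/-!
# S3571 piece PC, core form (helper7): the primitive case, with NT3, C1, C2 as hypotheses.
-/

set_option autoImplicit false

namespace Cfsg.Agent.Lib.helper7.AD

open scoped Pointwise
open Equiv MulAction

/-- PC (core): primitive case from NT3, C1, C2 (for the given `m`). -/
theorem perm_case_prim_core (m : ℕ) (hm : 5 ≤ m)
    (hNT3 : ∀ r : ℕ, r.Prime → r ^ 2 ∣ m.factorial → 2 * r ≤ m)
    (hC1 : ∀ r : ℕ, 2 ≤ r → r ≤ m → ∃ x : Perm (Fin m), x.IsCycle ∧ x.support.card = r)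
    (hC2 : ∀ K : Subgroup (Perm (Fin m)), ¬ 3 ∣ K.relIndex (alternatingGroup (Fin m)) →
      ∃ g ∈ K, g.IsThreeCycle)
    (H : Subgroup (Perm (Fin m)))
    (hprim : IsPreprimitive H (Fin m)) (hAH : ¬ alternatingGroup (Fin m) ≤ H)
    (r : ℕ) (hr : r.Prime) (hrd : r ∣ H.relIndex (alternatingGroup (Fin m)))
    (hmaxr : ∀ q : ℕ, q.Prime → q ∣ H.relIndex (alternatingGroup (Fin m)) → q ≤ r) :
    ∃ x ∈ alternatingGroup (Fin m), orderOf x = r ∧
      ∀ g ∈ alternatingGroup (Fin m), g * x * g⁻¹ ∉ H := by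
  by_cases hrK : r ∣ Nat.card ↥(H ⊓ alternatingGroup (Fin m))
  swap
  · exact gen_of_not_dvd m H r hr hrd hrK
  have hsq : r ^ 2 ∣ Nat.card ↥(alternatingGroup (Fin m)) := by
    rw [card_alt_eq m H, sq]
    exact Nat.mul_dvd_mul hrd hrK
  have hfact : r ^ 2 ∣ m.factorial := by
    haveI : Nontrivial (Fin m) := Fin.nontrivial_iff_two_le.mpr (by omega)
    have h2 := two_mul_nat_card_alternatingGroup (α := Fin m)
    rw [Nat.card_perm, Nat.card_eq_fintype_card (α := Fin m), Fintype.card_fin] at h2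
    rw [← h2]
    exact Dvd.dvd.mul_left hsq 2
  have h2r : 2 * r ≤ m := hNT3 r hr hfact
  rcases hr.eq_two_or_odd' with rfl | hodd
  · exfalso
    have h3 : ¬ 3 ∣ H.relIndex (alternatingGroup (Fin m)) := by
      intro h
      have := hmaxr 3 Nat.prime_three h
      omega
    obtain ⟨g, hgH, hg3⟩ := hC2 H h3
    exact hAH (Equiv.Perm.alternatingGroup_le_of_isPreprimitive_of_isThreeCycle_mem hprim hg3 hgH)
  · have hr2 := hr.two_le
    have hr3 : 3 ≤ r := by
      rcases hodd with ⟨k, hk⟩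
      omega
    obtain ⟨x, hxc, hxs⟩ := hC1 r hr.two_le (by omega)
    refine ⟨x, ?_, ?_, ?_⟩
    · rw [Equiv.Perm.mem_alternatingGroup, hxc.sign, hxs, hodd.neg_one_pow, neg_neg]
    · rw [hxc.orderOf, hxs]
    · intro g _ hmem
      apply hAH
      have hcyc : (g * x * g⁻¹).IsCycle := hxc.conj
      have hsupp : (g * x * g⁻¹).support.card = r := by
        rw [Equiv.Perm.card_support_conj, hxs]
      exact Cfsg.Agent.S0713.result H hprim hr (by rw [Fintype.card_fin]; exact hm)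
        (by rw [Fintype.card_fin]; omega) hcyc hsupp hmem

end Cfsg.Agent.Lib.helper7.AD
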