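import Mathlib

/-!
# S3571 piece TRI (helper7): a subgroup of `Perm (Fin m)` is intransitive, or transitive with a
non-trivial block, or primitive.
-/

set_option autoImplicit false

namespace Cfsg.Agent.Lib.helper7.AD

open scoped Pointwise
open Equiv MulAction

/-- TRI -/
theorem trichotomy (m : ℕ) (H : Subgroup (Perm (Fin m))) :
    (∃ s : Set (Fin m), s.Nonempty ∧ sᶜ.Nonempty ∧ H ≤ stabilizer (Perm (Fin m)) s) ∨
    (IsPretransitive H (Fin m) ∧
      ∃ B : Set (Fin m), IsBlock H B ∧ B.Nontrivial ∧ B ≠ Set.univ) ∨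
    IsPreprimitive H (Fin m) := by
  by_cases htr : IsPretransitive H (Fin m)
  · by_cases hprim : IsPreprimitive H (Fin m)
    · exact Or.inr (Or.inr hprim)
    · right; left
      refine ⟨htr, ?_⟩
      by_contra hno
      apply hprim
      refine { toIsPretransitive := htr, isTrivialBlock_of_isBlock := ?_ }
      intro B hB
      by_contra htriv
      apply hno
      refine ⟨B, hB, ?_, ?_⟩
      · rw [← Set.not_subsingleton_iff]
        intro hsub
        exact htriv (Or.inl hsub)
      · intro huniv
        exact htriv (Or.inr huniv)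
  · left
    have hex : ∃ a b : Fin m, ∀ h : H, h • a ≠ b := by
      by_contra hno
      push Not at hno
      exact htr ⟨hno⟩
    obtain ⟨a, b, hab⟩ := hex
    refine ⟨orbit H a, ⟨a, mem_orbit_self a⟩, ⟨b, ?_⟩, ?_⟩
    · rintro ⟨h, hh⟩
      exact hab h hh
    · intro h hh
      rw [mem_stabilizer_iff]
      have h1 : (⟨h, hh⟩ : H) • orbit H a = orbit H a := smul_orbit _ a
      exact h1

end Cfsg.Agent.Lib.helper7.AD
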