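import Mathlib
import Cfsg.Agent.Lib.helper16.CG33Defs

/-!
# S3412, PIECE CEN (helper7): `C(E_v) = E_v ∪ {1}` and `C(E^φ) = E^φ ∪ {1}` in `SL(3,3)`

If `g` commutes with `1 + v φᵀ` for all `φ ⊥ v` then `(g v) φᵀ = v (φᵀ g)`, so `φᵀ g = λ φᵀ`
for all `φ ⊥ v` (one `λ`), so every column of `g - λ` is a multiple of `v`:
`g = λ + v βᵀ`; then `β ⊥ v` and `λ = det g = 1`.  The dual statement follows by transposing.
-/

set_option autoImplicit false

open Matrix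
open Cfsg.Agent.Lib.helper16.CG33

namespace Cfsg.Agent.Lib.helper7.CG33

theorem cen_dperp : ∀ v c : Fin 3 → ZMod 3, v ≠ 0 →
    (∀ φ : Fin 3 → ZMod 3, φ ⬝ᵥ v = 0 → φ ⬝ᵥ c = 0) → ∃ β : ZMod 3, ∀ i, c i = v i * β := by
  decide +kernel

theorem cen_det : ∀ (l : ZMod 3) (v β : Fin 3 → ZMod 3), β ⬝ᵥ v = 0 →
    (l • (1 : Matrix (Fin 3) (Fin 3) (ZMod 3)) + vecMulVec v β).det = 1 → l = 1 := by
  decide +kernel

theorem cen_det_one : ∀ (v β : Fin 3 → ZMod 3), β ⬝ᵥ v = 0 →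
    ((1 : Matrix (Fin 3) (Fin 3) (ZMod 3)) + vecMulVec v β).det = 1 := by
  decide +kernel

theorem cen_exists_coord : ∀ v : Fin 3 → ZMod 3, v ≠ 0 → ∃ i, v i ≠ 0 := by
  decide +kernel

/-- the matrix form: a matrix of determinant one commuting with all `1 + v φᵀ`, `φ ⊥ v`. -/
theorem cen_matrix (v : Fin 3 → ZMod 3) (hv : v ≠ 0) (G : Matrix (Fin 3) (Fin 3) (ZMod 3))
    (hdet : G.det = 1) (hG1 : G ≠ 1)
    (h : ∀ φ : Fin 3 → ZMod 3, φ ⬝ᵥ v = 0 → G * tvM v φ = tvM v φ * G) :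
    ∃ β : Fin 3 → ZMod 3, β ≠ 0 ∧ β ⬝ᵥ v = 0 ∧ G = tvM v β := by
  -- (K): `(G v)_i φ_j = v_i (φ G)_j`
  have K : ∀ φ : Fin 3 → ZMod 3, φ ⬝ᵥ v = 0 → ∀ i j, (G *ᵥ v) i * φ j = v i * (φ ᵥ* G) j := by
    intro φ hφ i j
    have h1 := h φ hφ
    simp only [tvM, mul_add, add_mul, mul_one, one_mul, add_right_inj] at h1
    rw [mul_vecMulVec, vecMulVec_mul] at h1
    have h2 := congrFun (congrFun h1 i) j
    simpa only [vecMulVec_apply] using h2
  obtain ⟨i0, hi0⟩ := cen_exists_coord v hv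
  set l : ZMod 3 := (G *ᵥ v) i0 * (v i0)⁻¹ with hl
  have hvi : v i0 * (v i0)⁻¹ = 1 := mul_inv_cancel₀ hi0
  -- `φ G = l φ` for `φ ⊥ v`
  have hφG : ∀ φ : Fin 3 → ZMod 3, φ ⬝ᵥ v = 0 → ∀ j, (φ ᵥ* G) j = l * φ j := by
    intro φ hφ j
    have h1 := K φ hφ i0 j
    calc (φ ᵥ* G) j = (v i0 * (v i0)⁻¹) * (φ ᵥ* G) j := by rw [hvi, one_mul]
      _ = (v i0 * (φ ᵥ* G) j) * (v i0)⁻¹ := by ring
      _ = l * φ j := by rw [← h1, hl]; ring
  -- the columns of `G - l` are multiples of `v`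
  have hcol : ∀ j, ∃ β : ZMod 3, ∀ i, (G - l • (1 : Matrix (Fin 3) (Fin 3) (ZMod 3))) i j
      = v i * β := by
    intro j
    refine cen_dperp v (fun i => (G - l • (1 : Matrix (Fin 3) (Fin 3) (ZMod 3))) i j) hv ?_
    intro φ hφ
    have h1 := hφG φ hφ j
    have h2 : φ ⬝ᵥ (fun i => (G - l • (1 : Matrix (Fin 3) (Fin 3) (ZMod 3))) i j)
        = (φ ᵥ* G) j - l * φ j := by
      simp only [dotProduct, vecMul, Matrix.sub_apply, Matrix.smul_apply, Matrix.one_apply,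
        smul_eq_mul, mul_sub, Finset.sum_sub_distrib, mul_ite, mul_one, mul_zero,
        Finset.sum_ite_eq', Finset.mem_univ, if_true]
      ring
    rw [h2, h1, sub_self]
  choose β hβ using hcol
  have hGeq : G = l • (1 : Matrix (Fin 3) (Fin 3) (ZMod 3)) + vecMulVec v β := by
    ext i j
    have := hβ j i
    rw [Matrix.add_apply, vecMulVec_apply, ← this]
    simp
  -- `β ⊥ v` from the definition of `l`
  have hβv : β ⬝ᵥ v = 0 := by
    have h1 : (G *ᵥ v) i0 = l * v i0 + v i0 * (β ⬝ᵥ v) := by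
      rw [hGeq, add_mulVec, smul_mulVec, one_mulVec, vecMulVec_mulVec]
      simp only [Pi.add_apply, Pi.smul_apply, smul_eq_mul, MulOpposite.smul_eq_mul_unop,
        MulOpposite.unop_op]
    have h2 : (G *ᵥ v) i0 = l * v i0 := by
      rw [hl, mul_assoc, inv_mul_cancel₀ hi0, mul_one]
    have h3 : v i0 * (β ⬝ᵥ v) = 0 := by
      rw [h2] at h1
      exact (add_eq_left.1 h1.symm)
    rcases mul_eq_zero.1 h3 with h4 | h4
    · exact absurd h4 hi0
    · exact h4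
  have hl1 : l = 1 := cen_det l v β hβv (hGeq ▸ hdet)
  refine ⟨β, ?_, hβv, ?_⟩
  · rintro rfl
    apply hG1
    rw [hGeq, hl1]
    simp
  · rw [hGeq, hl1, one_smul, tvM]

/-- PIECE CEN (1/2): `C(E_v) = E_v`. -/
theorem cent_Ept (v : Fin 3 → ZMod 3) (hv : v ≠ 0) (g : S33) (hg : g ≠ 1)
    (h : ∀ a ∈ Ept v, g * a = a * g) : g ∈ Ept v := by
  have key := cen_matrix v hv (g : Matrix (Fin 3) (Fin 3) (ZMod 3)) g.2
    (fun h1 => hg (Subtype.ext h1)) ?_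
  · obtain ⟨β, hβ0, hβv, hG⟩ := key
    exact ⟨β, hβ0, hβv, hG⟩
  · intro φ hφ
    by_cases hφ0 : φ = 0
    · subst hφ0
      simp [tvM]
    · have ha : (⟨tvM v φ, cen_det_one v φ hφ⟩ : S33) ∈ Ept v := ⟨φ, hφ0, hφ, rfl⟩
      have h1 := congrArg (fun x : S33 => (x : Matrix (Fin 3) (Fin 3) (ZMod 3))) (h _ ha)
      exact h1

/-- PIECE CEN (2/2). -/
theorem cent_Eln (φ : Fin 3 → ZMod 3) (hφ : φ ≠ 0) (g : S33) (hg : g ≠ 1)
    (h : ∀ a ∈ Eln φ, g * a = a * g) : g ∈ Eln φ := by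
  have htv : ∀ v w : Fin 3 → ZMod 3, (tvM v w)ᵀ = tvM w v := by
    intro v w
    ext i j
    simp only [tvM, Matrix.transpose_apply, Matrix.add_apply, vecMulVec_apply, Matrix.one_apply]
    rw [mul_comm]
    congr 1
    by_cases hij : i = j
    · subst hij; simp
    · rw [if_neg hij, if_neg (fun e => hij e.symm)]
  have hT : (Matrix.SpecialLinearGroup.transpose g) ∈ Ept φ := by
    refine cent_Ept φ hφ _ ?_ ?_
    · intro h1
      apply hg
      apply Subtype.ext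
      have h2 := congrArg (fun x : S33 => (x : Matrix (Fin 3) (Fin 3) (ZMod 3))ᵀ) h1
      simpa [Matrix.SpecialLinearGroup.transpose] using h2
    · rintro a ⟨ψ, hψ0, hψ, ha⟩
      have haT : (Matrix.SpecialLinearGroup.transpose a) ∈ Eln φ := by
        refine ⟨ψ, hψ0, ?_, ?_⟩
        · rw [dotProduct_comm]; exact hψ
        · show (a : Matrix (Fin 3) (Fin 3) (ZMod 3))ᵀ = _
          rw [ha, htv]
      have h1 := congrArg (fun x : S33 => (x : Matrix (Fin 3) (Fin 3) (ZMod 3))ᵀ) (h _ haT)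
      apply Subtype.ext
      simp only [Matrix.SpecialLinearGroup.coe_mul, Matrix.transpose_mul] at h1 ⊢
      have h2 : ((Matrix.SpecialLinearGroup.transpose a : S33) :
          Matrix (Fin 3) (Fin 3) (ZMod 3))ᵀ = (a : Matrix (Fin 3) (Fin 3) (ZMod 3)) := by
        show ((a : Matrix (Fin 3) (Fin 3) (ZMod 3))ᵀ)ᵀ = _
        rw [Matrix.transpose_transpose]
      rw [h2] at h1
      show (g : Matrix (Fin 3) (Fin 3) (ZMod 3))ᵀ * (a : Matrix (Fin 3) (Fin 3) (ZMod 3)) =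
        (a : Matrix (Fin 3) (Fin 3) (ZMod 3)) * (g : Matrix (Fin 3) (Fin 3) (ZMod 3))ᵀ
      exact h1.symm
  obtain ⟨v, hv0, hv, hg'⟩ := hT
  refine ⟨v, hv0, ?_, ?_⟩
  · rw [dotProduct_comm]; exact hv
  · have h3 : (g : Matrix (Fin 3) (Fin 3) (ZMod 3))ᵀ = tvM φ v := hg'
    have h4 := congrArg Matrix.transpose h3
    rw [Matrix.transpose_transpose, htv] at h4
    exact h4

end Cfsg.Agent.Lib.helper7.CG33
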