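import Mathlib
import Cfsg.Agent.Lib.helper16.CG33Defs
import Cfsg.Agent.Lib.helper29.CG33_ALG
import Cfsg.Agent.Lib.helper29.CG33_LA
import Cfsg.Agent.Lib.helper6.CG33_MEM
import Cfsg.Agent.Lib.helper6.CG33_TVb

/-!
# S3412, PIECE CLQ (helper7): the `8`-cliques of transvections of `SL(3,3)`

Every member of `Fam S33` is `E_v ∖ 1` (elations with centre `v`) or `E^φ ∖ 1` (elations with
axis `φ`).
-/

set_option autoImplicit false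

open Matrix
open Cfsg.Agent.Lib.helper16.CG33

namespace Cfsg.Agent.Lib.helper7.CG33

theorem clq_tvM_neg_left (v φ : Fin 3 → ZMod 3) : tvM (-v) φ = tvM v (-φ) := by
  unfold tvM
  congr 1
  ext i j
  simp [vecMulVec_apply]

/-- the core of CLQ, with the other pieces as hypotheses. -/
theorem clq_core
    (hT : ∀ x : S33, x ∈ T S33 → ∃ v φ : Fin 3 → ZMod 3, v ≠ 0 ∧ φ ≠ 0 ∧ φ ⬝ᵥ v = 0 ∧
      (x : Matrix (Fin 3) (Fin 3) (ZMod 3)) = tvM v φ)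
    (hcomm : ∀ (v φ w ψ : Fin 3 → ZMod 3), v ≠ 0 → φ ≠ 0 → w ≠ 0 → ψ ≠ 0 → φ ⬝ᵥ v = 0 →
      ψ ⬝ᵥ w = 0 → (tvM v φ * tvM w ψ = tvM w ψ * tvM v φ ↔ (φ ⬝ᵥ w = 0 ∧ ψ ⬝ᵥ v = 0)))
    (hla : ∀ (v φ w ψ : Fin 3 → ZMod 3), v ≠ 0 → φ ≠ 0 → w ≠ 0 → ψ ≠ 0 → φ ⬝ᵥ v = 0 →
      φ ⬝ᵥ w = 0 → ψ ⬝ᵥ v = 0 → ψ ⬝ᵥ w = 0 → (w = v ∨ w = -v) ∨ (ψ = φ ∨ ψ = -φ))
    (hE : ∀ v : Fin 3 → ZMod 3, v ≠ 0 → Ept v ∈ Fam S33)
    (hL : ∀ φ : Fin 3 → ZMod 3, φ ≠ 0 → Eln φ ∈ Fam S33)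
    (A : Set S33) (hA : A ∈ Fam S33) :
    (∃ v : Fin 3 → ZMod 3, v ≠ 0 ∧ A = Ept v) ∨ (∃ φ : Fin 3 → ZMod 3, φ ≠ 0 ∧ A = Eln φ) := by
  obtain ⟨hcard, hsub, hc⟩ := hA
  have hne : A.Nonempty := Set.nonempty_of_ncard_ne_zero (by rw [hcard]; norm_num)
  obtain ⟨a0, ha0⟩ := hne
  obtain ⟨v, φ, hv, hφ, hφv, ha0e⟩ := hT a0 (hsub ha0)
  have hcoe : ∀ a b : S33, a * b = b * a →
      (a : Matrix (Fin 3) (Fin 3) (ZMod 3)) * (b : Matrix (Fin 3) (Fin 3) (ZMod 3)) =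
        (b : Matrix (Fin 3) (Fin 3) (ZMod 3)) * (a : Matrix (Fin 3) (Fin 3) (ZMod 3)) := by
    intro a b h
    exact congrArg (fun x : S33 => (x : Matrix (Fin 3) (Fin 3) (ZMod 3))) h
  -- every member is an elation with centre `v` or with axis `φ`
  have h1 : ∀ a ∈ A, a ∈ Ept v ∨ a ∈ Eln φ := by
    intro a ha
    obtain ⟨w, ψ, hw, hψ, hψw, hae⟩ := hT a (hsub ha)
    have hcm := hcoe a0 a (hc a0 ha0 a ha)
    rw [ha0e, hae] at hcm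
    obtain ⟨hφw, hψv⟩ := (hcomm v φ w ψ hv hφ hw hψ hφv hψw).1 hcm
    rcases hla v φ w ψ hv hφ hw hψ hφv hφw hψv hψw with (rfl | rfl) | (rfl | rfl)
    · exact Or.inl ⟨ψ, hψ, hψv, hae⟩
    · refine Or.inl ⟨-ψ, neg_ne_zero.2 hψ, ?_, ?_⟩
      · rw [neg_dotProduct, hψv, neg_zero]
      · rw [hae, clq_tvM_neg_left]
    · exact Or.inr ⟨w, hw, hφw, hae⟩
    · refine Or.inr ⟨-w, neg_ne_zero.2 hw, ?_, ?_⟩
      · rw [dotProduct_neg, neg_dotProduct] at *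
        simpa using hψw
      · rw [hae, clq_tvM_neg_left]
  -- an elation with axis `φ` and centre `≠ ± v` never commutes with one with centre `v`
  -- and axis `≠ ± φ`
  have h2 : ∀ a1 ∈ A, a1 ∉ Ept v → ∀ a2 ∈ A, a2 ∈ Eln φ := by
    intro a1 ha1 hn1 a2 ha2
    by_contra hn2
    have h1E : a1 ∈ Eln φ := (h1 a1 ha1).resolve_left hn1
    have h2E : a2 ∈ Ept v := (h1 a2 ha2).resolve_right hn2
    obtain ⟨w, hw, hφw, ha1e⟩ := h1E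
    obtain ⟨ψ, hψ, hψv, ha2e⟩ := h2E
    have hcm := hcoe a1 a2 (hc a1 ha1 a2 ha2)
    rw [ha1e, ha2e] at hcm
    obtain ⟨_, hψw⟩ := (hcomm w φ v ψ hw hφ hv hψ hφw hψv).1 hcm
    rcases hla v φ w ψ hv hφ hw hψ hφv hφw hψv hψw with (rfl | rfl) | (rfl | rfl)
    · exact hn1 ⟨φ, hφ, hφv, ha1e⟩
    · refine hn1 ⟨-φ, neg_ne_zero.2 hφ, ?_, ?_⟩
      · rw [neg_dotProduct, hφv, neg_zero]
      · rw [ha1e, clq_tvM_neg_left]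
    · exact hn2 ⟨v, hv, hφv, ha2e⟩
    · refine hn2 ⟨-v, neg_ne_zero.2 hv, ?_, ?_⟩
      · rw [dotProduct_neg, neg_dotProduct] at *
        simpa using hψv
      · rw [ha2e, clq_tvM_neg_left]
  by_cases hEv : A ⊆ Ept v
  · left
    refine ⟨v, hv, Set.eq_of_subset_of_ncard_le hEv ?_ (Set.toFinite _)⟩
    rw [hcard, (hE v hv).1]
  · right
    obtain ⟨a1, ha1, hn1⟩ := Set.not_subset.1 hEv
    have hEl : A ⊆ Eln φ := fun a2 ha2 => h2 a1 ha1 hn1 a2 ha2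
    refine ⟨φ, hφ, Set.eq_of_subset_of_ncard_le hEl ?_ (Set.toFinite _)⟩
    rw [hcard, (hL φ hφ).1]

/-- PIECE CLQ: the `8`-cliques of transvections. -/
theorem fam_cases (A : Set S33) (hA : A ∈ Fam S33) :
    (∃ v : Fin 3 → ZMod 3, v ≠ 0 ∧ A = Ept v) ∨ (∃ φ : Fin 3 → ZMod 3, φ ≠ 0 ∧ A = Eln φ) :=
  clq_core Cfsg.Agent.Lib.helper6.CG33.exists_of_mem_T Cfsg.Agent.Lib.helper29.CG33.tvM_comm_iff
    Cfsg.Agent.Lib.helper29.CG33.la Cfsg.Agent.Lib.helper6.CG33.Ept_mem_Fam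
    Cfsg.Agent.Lib.helper6.CG33.Eln_mem_Fam A hA

end Cfsg.Agent.Lib.helper7.CG33
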