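import Mathlib
import Cfsg.Agent.Lib.helper16.CG33Defs

/-!
# S3412, PIECE MOD (helper7): the Levi graph of `PG(2,3)` has at most `11232` automorphisms

An automorphism `σ` is determined by its values on the base
`a, ab, b, bc, c, cd, d` (a quadrangle `a, b, c, d` with three of its sides): the set of
vertices where two automorphisms agree is closed under "the unique common neighbour of two
distinct vertices", and the closure of the base is everything (an explicit chain of 19 steps).
The images of the base form a `7`-tuple of distinct vertices with the same `R`-pattern as the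
base; there are exactly `11232` such tuples (kernel computation on Nat codes with a bitmask).
-/

set_option autoImplicit false

open Matrix
open Cfsg.Agent.Lib.helper16.CG33

namespace Cfsg.Agent.Lib.helper7.CG33

/-- the Nat code of a vertex: points `0..12`, lines `13..25`. -/
def modCode : Vtx → ℕ
  | Sum.inl i => i.val
  | Sum.inr j => 13 + j.val

/-- the incidence bitmask: bit `13 * j + i` is set iff the point `i` lies on the line `j`. -/
def modMask : ℕ := 401207267118432354941397679893939549563626132906374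

/-- the relation `R` on codes. -/
def modRn (x y : ℕ) : Bool :=
  bif Nat.blt x 13 then
    (bif Nat.blt y 13 then Nat.beq x y else Nat.testBit modMask (13 * (y - 13) + x))
  else (bif Nat.blt y 13 then Nat.testBit modMask (13 * (x - 13) + y) else Nat.beq x y)

/-- `x` is related to the earlier choices `l` as `b` is to the earlier base vertices `lb`, and
is different from all of them. -/
def modCompat (x : ℕ) : List ℕ → ℕ → List ℕ → Bool
  | w :: l, b, c :: lb => (modRn x w == modRn b c) && (!(Nat.beq x w) && modCompat x l b lb)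
  | _, _, _ => true

/-- all codes. -/
def modAll : List ℕ := List.range 26

/-- all tuples of distinct codes with the same pattern as the given (reversed) base. -/
def modEnum : List ℕ → List (List ℕ)
  | [] => [[]]
  | b :: lb =>
    (modEnum lb).flatMap
      (fun l => (modAll.filter (fun x => modCompat x l b lb)).map (fun x => x :: l))

theorem mod_enum_length : (modEnum [9, 17, 2, 13, 1, 15, 0]).length = 11232 := by
  decide +kernel

theorem mod_compat_of {W : Type*} (cW g : W → ℕ)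
    (hR : ∀ x y, modRn (g x) (g y) = modRn (cW x) (cW y)) (hinj : Function.Injective g)
    (b : W) (lb : List W) (hb : b ∉ lb) :
    modCompat (g b) (lb.map g) (cW b) (lb.map cW) = true := by
  induction lb with
  | nil => simp [modCompat]
  | cons c lb ih =>
    have hbc : b ≠ c := fun h => hb (h ▸ List.mem_cons_self)
    have hb' : b ∉ lb := fun h => hb (List.mem_cons_of_mem _ h)
    have hne : Nat.beq (g b) (g c) = false :=
      Bool.eq_false_iff.2 (fun h => hbc (hinj (Nat.eq_of_beq_eq_true h)))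
    simp only [List.map_cons, modCompat, hR b c, hne, ih hb', beq_self_eq_true, Bool.not_false,
      Bool.and_self]

theorem mod_mem_enum {W : Type*} (cW g : W → ℕ)
    (hR : ∀ x y, modRn (g x) (g y) = modRn (cW x) (cW y)) (hinj : Function.Injective g)
    (hmem : ∀ x, g x ∈ modAll) (lb : List W) (hnd : lb.Nodup) :
    lb.map g ∈ modEnum (lb.map cW) := by
  induction lb with
  | nil => simp [modEnum]
  | cons b lb ih =>
    have h1 := List.nodup_cons.1 hnd
    simp only [List.map_cons, modEnum, List.mem_flatMap, List.mem_map, List.mem_filter]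
    exact ⟨lb.map g, ih h1.2, g b, ⟨hmem b, mod_compat_of cW g hR hinj b lb h1.1⟩, rfl⟩

/-- decidability of the model relation. -/
instance helper7_modDecR : DecidableRel R := fun x y => by
  cases x <;> cases y <;> simp only [R] <;> infer_instance

theorem mod_R_iff : ∀ x y : Vtx, R x y ↔ modRn (modCode x) (modCode y) = true := by
  decide +kernel

theorem mod_code_inj : ∀ x y : Vtx, modCode x = modCode y → x = y := by
  decide +kernel

theorem mod_code_mem : ∀ x : Vtx, modCode x ∈ modAll := by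
  decide +kernel

set_option synthInstance.maxSize 1024 in
theorem mod_uniq : ∀ u v : Vtx, u ≠ v → ∀ n : Vtx, R u n → R v n → n ≠ u → n ≠ v →
    ∀ n' : Vtx, R u n' → R v n' → n' ≠ u → n' ≠ v → n = n' := by
  decide +kernel

theorem mod_step {σ τ : Equiv.Perm Vtx} (hσ : ∀ x y : Vtx, R x y ↔ R (σ x) (σ y))
    (hτ : ∀ x y : Vtx, R x y ↔ R (τ x) (τ y)) (u v n : Vtx) (hu : σ u = τ u) (hv : σ v = τ v)
    (h : u ≠ v ∧ n ≠ u ∧ n ≠ v ∧ R u n ∧ R v n) : σ n = τ n := by
  obtain ⟨huv, hnu, hnv, h1, h2⟩ := h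
  refine mod_uniq (σ u) (σ v) (fun e => huv (σ.injective e)) (σ n) ((hσ u n).1 h1)
    ((hσ v n).1 h2) (fun e => hnu (σ.injective e)) (fun e => hnv (σ.injective e)) (τ n) ?_ ?_ ?_ ?_
  · rw [hu]; exact (hτ u n).1 h1
  · rw [hv]; exact (hτ v n).1 h2
  · rw [hu]; exact fun e => hnu (τ.injective e)
  · rw [hv]; exact fun e => hnv (τ.injective e)

/-- the base (reversed): `d, cd, c, bc, b, ab, a`. -/
def modBase : List Vtx :=
  [Sum.inl 9, Sum.inr 4, Sum.inl 2, Sum.inr 0, Sum.inl 1, Sum.inr 2, Sum.inl 0]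

theorem mod_eq_of_base {σ τ : Equiv.Perm Vtx} (hσ : ∀ x y : Vtx, R x y ↔ R (σ x) (σ y))
    (hτ : ∀ x y : Vtx, R x y ↔ R (τ x) (τ y)) (hb : ∀ b ∈ modBase, σ b = τ b) : σ = τ := by
  have h9 : σ (Sum.inl 9) = τ (Sum.inl 9) := hb _ (by simp [modBase])
  have h17 : σ (Sum.inr 4) = τ (Sum.inr 4) := hb _ (by simp [modBase])
  have h2 : σ (Sum.inl 2) = τ (Sum.inl 2) := hb _ (by simp [modBase])
  have h13 : σ (Sum.inr 0) = τ (Sum.inr 0) := hb _ (by simp [modBase])
  have h1 : σ (Sum.inl 1) = τ (Sum.inl 1) := hb _ (by simp [modBase])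
  have h15 : σ (Sum.inr 2) = τ (Sum.inr 2) := hb _ (by simp [modBase])
  have h0 : σ (Sum.inl 0) = τ (Sum.inl 0) := hb _ (by simp [modBase])
  have h14 : σ (Sum.inr 1) = τ (Sum.inr 1) :=
    mod_step hσ hτ (Sum.inl 0) (Sum.inl 2) (Sum.inr 1) h0 h2 (by decide)
  have h21 : σ (Sum.inr 8) = τ (Sum.inr 8) :=
    mod_step hσ hτ (Sum.inl 0) (Sum.inl 9) (Sum.inr 8) h0 h9 (by decide)
  have h3 : σ (Sum.inl 3) = τ (Sum.inl 3) :=
    mod_step hσ hτ (Sum.inr 2) (Sum.inr 4) (Sum.inl 3) h15 h17 (by decide)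
  have h19 : σ (Sum.inr 6) = τ (Sum.inr 6) :=
    mod_step hσ hτ (Sum.inl 1) (Sum.inl 9) (Sum.inr 6) h1 h9 (by decide)
  have h7 : σ (Sum.inl 7) = τ (Sum.inl 7) :=
    mod_step hσ hτ (Sum.inr 0) (Sum.inr 8) (Sum.inl 7) h13 h21 (by decide)
  have h5 : σ (Sum.inl 5) = τ (Sum.inl 5) :=
    mod_step hσ hτ (Sum.inr 1) (Sum.inr 6) (Sum.inl 5) h14 h19 (by decide)
  have h24 : σ (Sum.inr 11) = τ (Sum.inr 11) :=
    mod_step hσ hτ (Sum.inl 3) (Sum.inl 7) (Sum.inr 11) h3 h7 (by decide)
  have h25 : σ (Sum.inr 12) = τ (Sum.inr 12) :=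
    mod_step hσ hτ (Sum.inl 3) (Sum.inl 5) (Sum.inr 12) h3 h5 (by decide)
  have h11 : σ (Sum.inl 11) = τ (Sum.inl 11) :=
    mod_step hσ hτ (Sum.inr 6) (Sum.inr 11) (Sum.inl 11) h19 h24 (by decide)
  have h20 : σ (Sum.inr 7) = τ (Sum.inr 7) :=
    mod_step hσ hτ (Sum.inl 0) (Sum.inl 11) (Sum.inr 7) h0 h11 (by decide)
  have h8 : σ (Sum.inl 8) = τ (Sum.inl 8) :=
    mod_step hσ hτ (Sum.inr 0) (Sum.inr 12) (Sum.inl 8) h13 h25 (by decide)
  have h16 : σ (Sum.inr 3) = τ (Sum.inr 3) :=
    mod_step hσ hτ (Sum.inl 2) (Sum.inl 11) (Sum.inr 3) h2 h11 (by decide)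
  have h10 : σ (Sum.inl 10) = τ (Sum.inl 10) :=
    mod_step hσ hτ (Sum.inr 4) (Sum.inr 7) (Sum.inl 10) h17 h20 (by decide)
  have h6 : σ (Sum.inl 6) = τ (Sum.inl 6) :=
    mod_step hσ hτ (Sum.inr 1) (Sum.inr 11) (Sum.inl 6) h14 h24 (by decide)
  have h12 : σ (Sum.inl 12) = τ (Sum.inl 12) :=
    mod_step hσ hτ (Sum.inr 8) (Sum.inr 12) (Sum.inl 12) h21 h25 (by decide)
  have h23 : σ (Sum.inr 10) = τ (Sum.inr 10) :=
    mod_step hσ hτ (Sum.inl 7) (Sum.inl 10) (Sum.inr 10) h7 h10 (by decide)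
  have h4 : σ (Sum.inl 4) = τ (Sum.inl 4) :=
    mod_step hσ hτ (Sum.inr 2) (Sum.inr 3) (Sum.inl 4) h15 h16 (by decide)
  have h18 : σ (Sum.inr 5) = τ (Sum.inr 5) :=
    mod_step hσ hτ (Sum.inl 1) (Sum.inl 10) (Sum.inr 5) h1 h10 (by decide)
  have h22 : σ (Sum.inr 9) = τ (Sum.inr 9) :=
    mod_step hσ hτ (Sum.inl 8) (Sum.inl 9) (Sum.inr 9) h8 h9 (by decide)
  refine Equiv.ext ?_
  rintro (i | i) <;> fin_cases i <;> assumption

/-- PIECE MOD: the Levi graph of `PG(2,3)` has at most `11232 = 2 · 5616` automorphisms. -/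
theorem model_bound :
    Nat.card {σ : Equiv.Perm Vtx // ∀ x y : Vtx, R x y ↔ R (σ x) (σ y)} ≤ 11232 := by
  classical
  have hB : modBase.map modCode = [9, 17, 2, 13, 1, 15, 0] := by decide
  have hnd : modBase.Nodup := by decide
  let L := modEnum [9, 17, 2, 13, 1, 15, 0]
  have key : ∀ σ : {σ : Equiv.Perm Vtx // ∀ x y : Vtx, R x y ↔ R (σ x) (σ y)},
      modBase.map (fun v => modCode (σ.1 v)) ∈ L.toFinset := by
    intro σ
    rw [List.mem_toFinset]
    have := mod_mem_enum modCode (fun v => modCode (σ.1 v)) (fun x y => by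
      rw [Bool.eq_iff_iff, ← mod_R_iff, ← mod_R_iff]; exact (σ.2 x y).symm)
      (fun x y h => σ.1.injective (mod_code_inj _ _ h)) (fun x => mod_code_mem _) modBase hnd
    rwa [hB] at this
  let F : {σ : Equiv.Perm Vtx // ∀ x y : Vtx, R x y ↔ R (σ x) (σ y)} → ↥L.toFinset :=
    fun σ => ⟨_, key σ⟩
  have hF : Function.Injective F := by
    intro σ τ h
    have h' : modBase.map (fun v => modCode (σ.1 v)) = modBase.map (fun v => modCode (τ.1 v)) :=
      congrArg Subtype.val h
    rw [List.map_inj_left] at h'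
    exact Subtype.ext (mod_eq_of_base σ.2 τ.2 (fun b hb => mod_code_inj _ _ (h' b hb)))
  calc Nat.card {σ : Equiv.Perm Vtx // ∀ x y : Vtx, R x y ↔ R (σ x) (σ y)}
      ≤ Nat.card ↥L.toFinset := Nat.card_le_card_of_injective F hF
    _ = L.toFinset.card := by rw [Nat.card_eq_fintype_card, Fintype.card_coe]
    _ ≤ L.length := List.toFinset_card_le L
    _ = 11232 := mod_enum_length

end Cfsg.Agent.Lib.helper7.CG33
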