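import Mathlib

set_option autoImplicit false

namespace Cfsg.Agent.Lib.helper7

open Matrix

variable {F : Type*} [Field F]

/-- The upper unitriangular matrix `[[1, b], [0, 1]]`. -/
def uMat (b : F) : Matrix (Fin 2) (Fin 2) F := !![1, b; 0, 1]

lemma uMat_mul (b c : F) : uMat b * uMat c = uMat (b + c) := by
  ext i j
  fin_cases i <;> fin_cases j <;> simp [uMat, Matrix.mul_apply, Fin.sum_univ_two, add_comm]

lemma uMat_zero : uMat (0 : F) = 1 := by
  ext i j
  fin_cases i <;> fin_cases j <;> simp [uMat]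

/-- The upper unitriangular matrix as an element of `GL_2`. -/
def uGL (b : F) : GL (Fin 2) F :=
  ⟨uMat b, uMat (-b), by rw [uMat_mul]; simp [uMat_zero], by rw [uMat_mul]; simp [uMat_zero]⟩

lemma uGL_val (b : F) : (uGL b).val = uMat b := rfl

lemma uGL_injective : Function.Injective (uGL : F → GL (Fin 2) F) := by
  intro b c h
  have := congrArg (fun g : GL (Fin 2) F => g.val 0 1) h
  simpa [uGL, uMat] using this

/-- `b ↦ [[1, b], [0, 1]]` as a group homomorphism. -/
def uHom : Multiplicative F →* GL (Fin 2) F where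
  toFun b := uGL (Multiplicative.toAdd b)
  map_one' := Units.ext uMat_zero
  map_mul' a b := Units.ext (uMat_mul _ _).symm

/-- The group of upper unitriangular matrices in `GL_2(F)`. -/
def unipU : Subgroup (GL (Fin 2) F) := (uHom : Multiplicative F →* GL (Fin 2) F).range

lemma mem_unipU_iff (g : GL (Fin 2) F) : g ∈ (unipU : Subgroup (GL (Fin 2) F)) ↔ ∃ b : F, g = uGL b := by
  constructor
  · rintro ⟨b, rfl⟩
    exact ⟨Multiplicative.toAdd b, rfl⟩
  · rintro ⟨b, rfl⟩
    exact ⟨Multiplicative.ofAdd b, rfl⟩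

lemma card_unipU [Finite F] : Nat.card (unipU : Subgroup (GL (Fin 2) F)) = Nat.card F := by
  have hinj : Function.Injective (uHom : Multiplicative F →* GL (Fin 2) F) := by
    intro a b h
    exact Multiplicative.toAdd.injective (uGL_injective h)
  rw [unipU, ← Nat.card_congr (MonoidHom.ofInjective hinj).toEquiv]
  rfl

/-- Entries of a product with a unitriangular matrix on the right. -/
lemma mul_uMat (M : Matrix (Fin 2) (Fin 2) F) (x : F) :
    M * uMat x = !![M 0 0, M 0 0 * x + M 0 1; M 1 0, M 1 0 * x + M 1 1] := by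
  ext i j
  fin_cases i <;> fin_cases j <;> simp [uMat, Matrix.mul_apply, Fin.sum_univ_two]

/-- Entries of a product with a unitriangular matrix on the left. -/
lemma uMat_mul' (M : Matrix (Fin 2) (Fin 2) F) (x : F) :
    uMat x * M = !![M 0 0 + x * M 1 0, M 0 1 + x * M 1 1; M 1 0, M 1 1] := by
  ext i j
  fin_cases i <;> fin_cases j <;> simp [uMat, Matrix.mul_apply, Fin.sum_univ_two]

/-- The normaliser of the unitriangular group is the group of upper triangular matrices. -/
lemma mem_normalizer_unipU_iff (g : GL (Fin 2) F) :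
    g ∈ Subgroup.normalizer ((unipU : Subgroup (GL (Fin 2) F)) : Set (GL (Fin 2) F))
      ↔ g.val 1 0 = 0 := by
  constructor
  · intro hg
    rw [Subgroup.mem_set_normalizer_iff] at hg
    have h1 : uGL (1 : F) ∈ (unipU : Subgroup (GL (Fin 2) F)) := (mem_unipU_iff _).2 ⟨1, rfl⟩
    have h2 := (hg _).1 h1
    rw [SetLike.mem_coe, mem_unipU_iff] at h2
    obtain ⟨y, hy⟩ := h2
    have h3 : g * uGL (1 : F) = uGL y * g := by
      rw [← hy]; group
    have h4 := congrArg (fun x : GL (Fin 2) F => x.val 1 1) h3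
    simp only [Units.val_mul, uGL_val, mul_uMat, uMat_mul'] at h4
    simp at h4
    exact h4
  · intro hg
    have hdet := Matrix.GeneralLinearGroup.det_ne_zero g
    rw [det_fin_two, hg, mul_zero, sub_zero] at hdet
    have ha : g.val 0 0 ≠ 0 := left_ne_zero_of_mul hdet
    have hd : g.val 1 1 ≠ 0 := right_ne_zero_of_mul hdet
    -- key relation
    have key : ∀ x : F, g * uGL x = uGL (g.val 0 0 * x * (g.val 1 1)⁻¹) * g := by
      intro x
      apply Units.ext
      simp only [Units.val_mul, uGL_val, mul_uMat, uMat_mul']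
      ext i j
      fin_cases i <;> fin_cases j <;> simp [hg]
      field_simp
      ring
    rw [Subgroup.mem_set_normalizer_iff]
    intro n
    rw [SetLike.mem_coe, SetLike.mem_coe, mem_unipU_iff, mem_unipU_iff]
    constructor
    · rintro ⟨x, rfl⟩
      exact ⟨g.val 0 0 * x * (g.val 1 1)⁻¹, by rw [key x]; group⟩
    · rintro ⟨y, hy⟩
      refine ⟨(g.val 0 0)⁻¹ * y * g.val 1 1, ?_⟩
      have h5 := key ((g.val 0 0)⁻¹ * y * g.val 1 1)
      have h6 : g.val 0 0 * ((g.val 0 0)⁻¹ * y * g.val 1 1) * (g.val 1 1)⁻¹ = y := by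
        field_simp
      rw [h6, ← hy] at h5
      have h7 : g * uGL ((g.val 0 0)⁻¹ * y * g.val 1 1) = g * n := by
        rw [h5]; group
      exact (mul_left_cancel h7).symm

/-- The upper triangular matrices in `GL_2(F)` are parametrised by `Fˣ × Fˣ × F`. -/
def borelEquiv : {g : GL (Fin 2) F // g.val 1 0 = 0} ≃ Fˣ × Fˣ × F where
  toFun g :=
    have hdet : g.1.val 0 0 * g.1.val 1 1 ≠ 0 := by
      have := Matrix.GeneralLinearGroup.det_ne_zero g.1
      rwa [det_fin_two, g.2, mul_zero, sub_zero] at this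
    (Units.mk0 (g.1.val 0 0) (left_ne_zero_of_mul hdet),
      Units.mk0 (g.1.val 1 1) (right_ne_zero_of_mul hdet), g.1.val 0 1)
  invFun t :=
    ⟨Matrix.GeneralLinearGroup.mkOfDetNeZero !![(t.1 : F), t.2.2; 0, (t.2.1 : F)] (by
      simp [det_fin_two]), by simp⟩
  left_inv g := by
    apply Subtype.ext
    apply Units.ext
    ext i j
    fin_cases i <;> fin_cases j <;> simp [g.2]
  right_inv t := by
    obtain ⟨a, d, b⟩ := t
    simp

lemma card_borel [Fintype F] :
    Nat.card {g : GL (Fin 2) F // g.val 1 0 = 0}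
      = Fintype.card F * (Fintype.card F - 1) ^ 2 := by
  rw [Nat.card_congr borelEquiv, Nat.card_prod, Nat.card_prod, Nat.card_units,
    Nat.card_eq_fintype_card]
  ring

/-- The centraliser of a non-trivial unitriangular matrix. -/
lemma mem_centralizer_uGL_iff (b : F) (hb : b ≠ 0) (g : GL (Fin 2) F) :
    g ∈ Subgroup.centralizer ({uGL b} : Set (GL (Fin 2) F))
      ↔ g.val 1 0 = 0 ∧ g.val 0 0 = g.val 1 1 := by
  rw [Subgroup.mem_centralizer_iff]
  simp only [Set.mem_singleton_iff, forall_eq]
  constructor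
  · intro h
    have h1 := congrArg (fun x : GL (Fin 2) F => x.val 0 0) h
    have h2 := congrArg (fun x : GL (Fin 2) F => x.val 0 1) h
    simp only [Units.val_mul, uGL_val, mul_uMat, uMat_mul'] at h1 h2
    simp at h1 h2
    have hc : g.val 1 0 = 0 := by
      rcases h1 with h | h
      · exact absurd h hb
      · exact h
    refine ⟨hc, ?_⟩
    have : b * (g.val 0 0 - g.val 1 1) = 0 := by linear_combination -h2
    rcases mul_eq_zero.1 this with h | h
    · exact absurd h hb
    · exact sub_eq_zero.1 h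
  · rintro ⟨hc, had⟩
    apply Units.ext
    simp only [Units.val_mul, uGL_val, mul_uMat, uMat_mul']
    ext i j
    fin_cases i <;> fin_cases j <;> simp [hc, had]
    ring

/-- The centraliser of a non-trivial unitriangular matrix is parametrised by `Fˣ × F`. -/
def centEquiv : {g : GL (Fin 2) F // g.val 1 0 = 0 ∧ g.val 0 0 = g.val 1 1} ≃ Fˣ × F where
  toFun g :=
    have hdet : g.1.val 0 0 * g.1.val 1 1 ≠ 0 := by
      have := Matrix.GeneralLinearGroup.det_ne_zero g.1
      rwa [det_fin_two, g.2.1, mul_zero, sub_zero] at this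
    (Units.mk0 (g.1.val 0 0) (left_ne_zero_of_mul hdet), g.1.val 0 1)
  invFun t :=
    ⟨Matrix.GeneralLinearGroup.mkOfDetNeZero !![(t.1 : F), t.2; 0, (t.1 : F)] (by
      simp [det_fin_two]), by simp⟩
  left_inv g := by
    apply Subtype.ext
    apply Units.ext
    ext i j
    fin_cases i <;> fin_cases j <;> simp [g.2.1, g.2.2]
  right_inv t := by
    obtain ⟨a, b⟩ := t
    simp

lemma card_cent [Fintype F] :
    Nat.card {g : GL (Fin 2) F // g.val 1 0 = 0 ∧ g.val 0 0 = g.val 1 1}
      = Fintype.card F * (Fintype.card F - 1) := by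
  rw [Nat.card_congr centEquiv, Nat.card_prod, Nat.card_units, Nat.card_eq_fintype_card]
  ring

end Cfsg.Agent.Lib.helper7
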