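import Mathlib

/-!
# S4395 sub-split EXB, leaf XF2 (`exb_frob`), spare racer copy by helper7 (`h7_exb_frob`): the involution `x ↦ x ^ (p ^ b)` of a field with
`p ^ (2 * b)` elements: trace onto the fixed field, additive Hilbert 90, and the order of the
kernel of the trace.
-/

set_option autoImplicit false

namespace Cfsg.Agent.Lib.helper3.Gf

universe u

/-- Two numbers bounded by `P` with product `P * P` are both equal to `P`. -/
theorem helper7_eq_of_mul_eq_sq {k r P : ℕ} (hk : k ≤ P) (hr : r ≤ P) (h : k * r = P * P) :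
    k = P ∧ r = P := by
  rcases Nat.eq_zero_or_pos P with h0 | hpos
  · subst h0
    exact ⟨by omega, by omega⟩
  · have h1 : P ≤ k := by
      by_contra hlt
      have hlt' : k < P := by omega
      have h2 : k * r ≤ k * P := Nat.mul_le_mul_left k hr
      have h3 : k * P < P * P := Nat.mul_lt_mul_of_pos_right hlt' hpos
      omega
    have hkP : k = P := le_antisymm hk h1
    subst hkP
    exact ⟨rfl, Nat.eq_of_mul_eq_mul_left hpos h⟩

/-- XF2 : the involution `x ↦ x ^ (p ^ b)` of a field with `p ^ (2 * b)` elements. -/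
theorem h7_exb_frob (p : ℕ) [Fact p.Prime] {L : Type u} [Field L] [Finite L] [CharP L p] (b : ℕ)
    (hcard : Nat.card L = p ^ (2 * b)) :
    ∃ σ : L →+* L, (∀ x, σ x = x ^ (p ^ b)) ∧ (∀ w, σ (σ w) = w) ∧
      (∀ w : L, σ w = w → ∃ z : L, z + σ z = w) ∧
      (∀ z : L, z + σ z = 0 → ∃ x : L, z = x - σ x) ∧
      Nat.card {z : L // z + σ z = 0} = p ^ b := by
  classical
  have hp : p.Prime := Fact.out
  let _iF : Fintype L := Fintype.ofFinite L
  have hcardF : Fintype.card L = p ^ (2 * b) := by rw [← Nat.card_eq_fintype_card, hcard]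
  have hb : 1 ≤ b := by
    by_contra h
    have hb0 : b = 0 := by omega
    have h1 : 1 < Fintype.card L := Fintype.one_lt_card
    rw [hcardF, hb0] at h1
    simp at h1
  have hP : 1 < p ^ b := Nat.one_lt_pow (by omega) hp.one_lt
  have hPP : p ^ (2 * b) = p ^ b * p ^ b := by
    rw [← pow_add]
    congr 1
    omega
  obtain ⟨σ, hσ⟩ : ∃ σ : L →+* L, ∀ x, σ x = x ^ (p ^ b) :=
    ⟨iterateFrobenius L p b, fun x => iterateFrobenius_def p b x⟩
  have hσσ : ∀ w, σ (σ w) = w := by
    intro w
    rw [hσ, hσ, ← pow_mul, ← hPP, ← hcardF, FiniteField.pow_card]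
  -- the two additive maps
  obtain ⟨T, hT⟩ : ∃ T : L →+ L, ∀ x, T x = x + σ x :=
    ⟨AddMonoidHom.id L + σ.toAddMonoidHom, fun x => rfl⟩
  obtain ⟨D, hD⟩ : ∃ D : L →+ L, ∀ x, D x = x - σ x :=
    ⟨AddMonoidHom.id L - σ.toAddMonoidHom, fun x => rfl⟩
  -- root counts
  have hKle : ({z : L | z + σ z = 0} : Set L).ncard ≤ p ^ b := by
    have hdeg : (Polynomial.X ^ (p ^ b) + Polynomial.X : Polynomial L).natDegree = p ^ b := by
      rw [Polynomial.natDegree_add_eq_left_of_natDegree_lt, Polynomial.natDegree_X_pow]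
      rw [Polynomial.natDegree_X_pow, Polynomial.natDegree_X]
      exact hP
    have hQ0 : (Polynomial.X ^ (p ^ b) + Polynomial.X : Polynomial L) ≠ 0 := by
      intro h0
      rw [h0, Polynomial.natDegree_zero] at hdeg
      omega
    have hsub : ({z : L | z + σ z = 0} : Set L) ⊆
        ↑((Polynomial.X ^ (p ^ b) + Polynomial.X : Polynomial L).roots.toFinset) := by
      intro z hz
      rw [Finset.mem_coe, Multiset.mem_toFinset, Polynomial.mem_roots hQ0, Polynomial.IsRoot,
        Polynomial.eval_add, Polynomial.eval_pow, Polynomial.eval_X, ← hσ]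
      have hz' : z + σ z = 0 := hz
      rw [add_comm]
      exact hz'
    calc ({z : L | z + σ z = 0} : Set L).ncard
        ≤ (↑((Polynomial.X ^ (p ^ b) + Polynomial.X : Polynomial L).roots.toFinset) : Set L).ncard :=
          Set.ncard_le_ncard hsub (Finset.finite_toSet _)
      _ = ((Polynomial.X ^ (p ^ b) + Polynomial.X : Polynomial L).roots.toFinset).card :=
          Set.ncard_coe_finset _
      _ ≤ (Polynomial.X ^ (p ^ b) + Polynomial.X : Polynomial L).roots.card :=
          Multiset.toFinset_card_le _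
      _ ≤ (Polynomial.X ^ (p ^ b) + Polynomial.X : Polynomial L).natDegree :=
          Polynomial.card_roots' _
      _ = p ^ b := hdeg
  have hFle : ({w : L | σ w = w} : Set L).ncard ≤ p ^ b := by
    have hdeg : (Polynomial.X ^ (p ^ b) - Polynomial.X : Polynomial L).natDegree = p ^ b :=
      FiniteField.X_pow_card_sub_X_natDegree_eq L hP
    have hQ0 : (Polynomial.X ^ (p ^ b) - Polynomial.X : Polynomial L) ≠ 0 :=
      FiniteField.X_pow_card_sub_X_ne_zero L hP
    have hsub : ({w : L | σ w = w} : Set L) ⊆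
        ↑((Polynomial.X ^ (p ^ b) - Polynomial.X : Polynomial L).roots.toFinset) := by
      intro w hw
      rw [Finset.mem_coe, Multiset.mem_toFinset, Polynomial.mem_roots hQ0, Polynomial.IsRoot,
        Polynomial.eval_sub, Polynomial.eval_pow, Polynomial.eval_X, ← hσ]
      have hw' : σ w = w := hw
      rw [hw', sub_self]
    calc ({w : L | σ w = w} : Set L).ncard
        ≤ (↑((Polynomial.X ^ (p ^ b) - Polynomial.X : Polynomial L).roots.toFinset) : Set L).ncard :=
          Set.ncard_le_ncard hsub (Finset.finite_toSet _)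
      _ = ((Polynomial.X ^ (p ^ b) - Polynomial.X : Polynomial L).roots.toFinset).card :=
          Set.ncard_coe_finset _
      _ ≤ (Polynomial.X ^ (p ^ b) - Polynomial.X : Polynomial L).roots.card :=
          Multiset.toFinset_card_le _
      _ ≤ (Polynomial.X ^ (p ^ b) - Polynomial.X : Polynomial L).natDegree :=
          Polynomial.card_roots' _
      _ = p ^ b := hdeg
  -- kernels and ranges
  have hTker : (T.ker : Set L) = {z : L | z + σ z = 0} := by
    ext z
    rw [SetLike.mem_coe, AddMonoidHom.mem_ker, hT]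
    rfl
  have hDker : (D.ker : Set L) = {w : L | σ w = w} := by
    ext w
    rw [SetLike.mem_coe, AddMonoidHom.mem_ker, hD, sub_eq_zero]
    exact eq_comm
  have hTrange : (T.range : Set L) ⊆ {w : L | σ w = w} := by
    rintro w ⟨x, rfl⟩
    show σ (T x) = T x
    rw [hT, map_add, hσσ, add_comm]
  have hDrange : (D.range : Set L) ⊆ {z : L | z + σ z = 0} := by
    rintro z ⟨x, rfl⟩
    show D x + σ (D x) = 0
    rw [hD, map_sub, hσσ]
    ring
  have hfinF : ({w : L | σ w = w} : Set L).Finite := Set.toFinite _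
  have hfinK : ({z : L | z + σ z = 0} : Set L).Finite := Set.toFinite _
  -- Lagrange for `T` and `D`
  have hLT : (T.ker : Set L).ncard * (T.range : Set L).ncard = p ^ b * p ^ b := by
    rw [← Nat.card_coe_set_eq, ← Nat.card_coe_set_eq, ← hPP, ← hcard]
    have h1 := AddSubgroup.card_mul_index T.ker
    rw [AddSubgroup.index_ker] at h1
    exact h1
  have hLD : (D.ker : Set L).ncard * (D.range : Set L).ncard = p ^ b * p ^ b := by
    rw [← Nat.card_coe_set_eq, ← Nat.card_coe_set_eq, ← hPP, ← hcard]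
    have h1 := AddSubgroup.card_mul_index D.ker
    rw [AddSubgroup.index_ker] at h1
    exact h1
  have hTr_le : (T.range : Set L).ncard ≤ p ^ b :=
    (Set.ncard_le_ncard hTrange hfinF).trans hFle
  have hDr_le : (D.range : Set L).ncard ≤ p ^ b :=
    (Set.ncard_le_ncard hDrange hfinK).trans hKle
  obtain ⟨hk1, hr1⟩ := helper7_eq_of_mul_eq_sq (by rw [hTker]; exact hKle) hTr_le hLT
  obtain ⟨hk2, hr2⟩ := helper7_eq_of_mul_eq_sq (by rw [hDker]; exact hFle) hDr_le hLD
  rw [hTker] at hk1
  rw [hDker] at hk2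
  have hTeq : (T.range : Set L) = {w : L | σ w = w} :=
    Set.eq_of_subset_of_ncard_le hTrange (by rw [hr1, hk2]) hfinF
  have hDeq : (D.range : Set L) = {z : L | z + σ z = 0} :=
    Set.eq_of_subset_of_ncard_le hDrange (by rw [hr2, hk1]) hfinK
  refine ⟨σ, hσ, hσσ, ?_, ?_, ?_⟩
  · intro w hw
    have hmem : w ∈ (T.range : Set L) := by
      rw [hTeq]
      exact hw
    obtain ⟨z, hz⟩ := hmem
    exact ⟨z, by rw [← hT, hz]⟩
  · intro z hz
    have hmem : z ∈ (D.range : Set L) := by
      rw [hDeq]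
      exact hz
    obtain ⟨x, hx⟩ := hmem
    exact ⟨x, by rw [← hD, hx]⟩
  · rw [← hk1, ← Nat.card_coe_set_eq]
    rfl

end Cfsg.Agent.Lib.helper3.Gf
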