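import Mathlib
import Cfsg.Prelude.Def_Classical

/-!
# The Klein correspondence: alternating `4 × 4` matrices and the Pfaffian

The 6-dimensional space `Fin 3 ⊕ Fin 3 → R` is identified with the alternating `4 × 4` matrices
(`toA`, `ofA`); the Pfaffian `pf` corresponds to the hyperbolic quadratic form
`∑ i, v (inl i) * v (inr i)`.  A matrix `g` acts by `M ↦ g * M * gᵀ` (`Λ g`), multiplying the
Pfaffian by `det g` (`pf_conj`).  The map `st` (swap of the two coordinate triples) satisfies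
`gᵀ * st (g * M * gᵀ) * g = det g • st M` (`st_conj`).
-/

set_option autoImplicit false

namespace Cfsg.Agent.Lib.helper7.Klein

open Matrix

variable {R : Type*} [CommRing R]

/-- the Pfaffian of a `4 × 4` matrix (meaningful for alternating matrices) -/
def pf (M : Matrix (Fin 4) (Fin 4) R) : R := M 0 1 * M 2 3 - M 0 2 * M 1 3 + M 0 3 * M 1 2

/-- the alternating matrix attached to a vector of the 6-space -/
def toA (v : Fin 3 ⊕ Fin 3 → R) : Matrix (Fin 4) (Fin 4) R :=
  !![0, v (.inl 0), v (.inl 1), v (.inl 2);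
     - v (.inl 0), 0, v (.inr 2), - v (.inr 1);
     - v (.inl 1), - v (.inr 2), 0, v (.inr 0);
     - v (.inl 2), v (.inr 1), - v (.inr 0), 0]

/-- the vector attached to a matrix -/
def ofA (M : Matrix (Fin 4) (Fin 4) R) : Fin 3 ⊕ Fin 3 → R :=
  Sum.elim ![M 0 1, M 0 2, M 0 3] ![M 2 3, - M 1 3, M 1 2]

/-- alternating matrices -/
def IsAlt (M : Matrix (Fin 4) (Fin 4) R) : Prop := (∀ i, M i i = 0) ∧ ∀ i j, M j i = - M i j

lemma ofA_toA (v : Fin 3 ⊕ Fin 3 → R) : ofA (toA v) = v := by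
  funext i
  rcases i with i | i <;> fin_cases i <;> simp [ofA, toA]

lemma isAlt_toA (v : Fin 3 ⊕ Fin 3 → R) : IsAlt (toA v) := by
  constructor
  · intro i
    fin_cases i <;> simp [toA]
  · intro i j
    fin_cases i <;> fin_cases j <;> simp [toA]

lemma toA_ofA (M : Matrix (Fin 4) (Fin 4) R) (hM : IsAlt M) : toA (ofA M) = M := by
  obtain ⟨h1, h2⟩ := hM
  ext i j
  fin_cases i <;> fin_cases j <;> simp [ofA, toA]
  all_goals first | exact (h1 _).symm | exact (h2 _ _).symm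

lemma toA_add (v w : Fin 3 ⊕ Fin 3 → R) : toA (v + w) = toA v + toA w := by
  ext i j
  fin_cases i <;> fin_cases j <;> simp [toA] <;> ring

lemma toA_smul (c : R) (v : Fin 3 ⊕ Fin 3 → R) : toA (c • v) = c • toA v := by
  ext i j
  fin_cases i <;> fin_cases j <;> simp [toA]

lemma toA_injective : Function.Injective (toA : (Fin 3 ⊕ Fin 3 → R) → _) := by
  intro v w h
  rw [← ofA_toA v, h, ofA_toA]

lemma pf_toA (v : Fin 3 ⊕ Fin 3 → R) : pf (toA v) = ∑ i : Fin 3, v (.inl i) * v (.inr i) := by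
  simp [pf, toA, Fin.sum_univ_three]

lemma det4 (g : Matrix (Fin 4) (Fin 4) R) : g.det =
    g 0 0 * (g 1 1 * (g 2 2 * g 3 3 - g 2 3 * g 3 2) - g 1 2 * (g 2 1 * g 3 3 - g 2 3 * g 3 1)
      + g 1 3 * (g 2 1 * g 3 2 - g 2 2 * g 3 1))
    - g 0 1 * (g 1 0 * (g 2 2 * g 3 3 - g 2 3 * g 3 2) - g 1 2 * (g 2 0 * g 3 3 - g 2 3 * g 3 0)
      + g 1 3 * (g 2 0 * g 3 2 - g 2 2 * g 3 0))
    + g 0 2 * (g 1 0 * (g 2 1 * g 3 3 - g 2 3 * g 3 1) - g 1 1 * (g 2 0 * g 3 3 - g 2 3 * g 3 0)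
      + g 1 3 * (g 2 0 * g 3 1 - g 2 1 * g 3 0))
    - g 0 3 * (g 1 0 * (g 2 1 * g 3 2 - g 2 2 * g 3 1) - g 1 1 * (g 2 0 * g 3 2 - g 2 2 * g 3 0)
      + g 1 2 * (g 2 0 * g 3 1 - g 2 1 * g 3 0)) := by
  rw [Matrix.det_succ_row_zero, Fin.sum_univ_four]
  simp only [Matrix.det_fin_three]
  simp [Fin.succAbove, Matrix.submatrix_apply]
  ring

set_option maxHeartbeats 2000000 in
lemma pf_conj (g : Matrix (Fin 4) (Fin 4) R) (v : Fin 3 ⊕ Fin 3 → R) :
    pf (g * toA v * gᵀ) = g.det * pf (toA v) := by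
  rw [det4]
  simp only [pf, toA, Matrix.mul_apply, Fin.sum_univ_four, Matrix.transpose_apply, Matrix.of_apply,
    Matrix.cons_val', Matrix.cons_val_zero, Matrix.cons_val_one, Matrix.cons_val_fin_one,
    Matrix.cons_val]
  ring

set_option maxHeartbeats 2000000 in
lemma isAlt_conj (g : Matrix (Fin 4) (Fin 4) R) (v : Fin 3 ⊕ Fin 3 → R) :
    IsAlt (g * toA v * gᵀ) := by
  constructor
  · intro i
    simp only [toA, Matrix.mul_apply, Fin.sum_univ_four, Matrix.transpose_apply, Matrix.of_apply,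
      Matrix.cons_val', Matrix.cons_val_zero, Matrix.cons_val_one, Matrix.cons_val_fin_one,
      Matrix.cons_val]
    ring
  · intro i j
    simp only [toA, Matrix.mul_apply, Fin.sum_univ_four, Matrix.transpose_apply, Matrix.of_apply,
      Matrix.cons_val', Matrix.cons_val_zero, Matrix.cons_val_one, Matrix.cons_val_fin_one,
      Matrix.cons_val]
    ring

/-- the duality on alternating matrices -/
def st (M : Matrix (Fin 4) (Fin 4) R) : Matrix (Fin 4) (Fin 4) R :=
  !![0, M 2 3, - M 1 3, M 1 2;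
     - M 2 3, 0, M 0 3, - M 0 2;
     M 1 3, - M 0 3, 0, M 0 1;
     - M 1 2, M 0 2, - M 0 1, 0]

lemma st_toA (v : Fin 3 ⊕ Fin 3 → R) : st (toA v) = toA (v ∘ Sum.swap) := by
  ext i j
  fin_cases i <;> fin_cases j <;> simp [st, toA]

set_option maxHeartbeats 4000000 in
lemma st_conj (g : Matrix (Fin 4) (Fin 4) R) (v : Fin 3 ⊕ Fin 3 → R) :
    gᵀ * st (g * toA v * gᵀ) * g = g.det • st (toA v) := by
  rw [det4]
  ext i j
  fin_cases i <;> fin_cases j <;>
  · simp only [st, toA, Matrix.mul_apply, Fin.sum_univ_four, Matrix.transpose_apply,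
      Matrix.of_apply, Matrix.cons_val', Matrix.cons_val_zero, Matrix.cons_val_one,
      Matrix.cons_val_fin_one, Matrix.cons_val, Matrix.smul_apply, smul_eq_mul, Fin.zero_eta,
      Fin.mk_one, Fin.reduceFinMk]
    ring

/-- the exterior square of `g`, as a linear map of the 6-space -/
def Λ (g : Matrix (Fin 4) (Fin 4) R) : (Fin 3 ⊕ Fin 3 → R) →ₗ[R] (Fin 3 ⊕ Fin 3 → R) where
  toFun v := ofA (g * toA v * gᵀ)
  map_add' v w := by
    apply toA_injective
    rw [toA_ofA _ (isAlt_conj g _), toA_add (ofA _) (ofA _), toA_ofA _ (isAlt_conj g _),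
      toA_ofA _ (isAlt_conj g _), toA_add, mul_add, add_mul]
  map_smul' c v := by
    apply toA_injective
    rw [RingHom.id_apply, toA_ofA _ (isAlt_conj g _), toA_smul c (ofA _),
      toA_ofA _ (isAlt_conj g _), toA_smul, Matrix.mul_smul, Matrix.smul_mul]

lemma toA_Λ (g : Matrix (Fin 4) (Fin 4) R) (v : Fin 3 ⊕ Fin 3 → R) :
    toA (Λ g v) = g * toA v * gᵀ :=
  toA_ofA _ (isAlt_conj g _)

lemma Λ_one : Λ (1 : Matrix (Fin 4) (Fin 4) R) = LinearMap.id := by
  apply LinearMap.ext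
  intro v
  apply toA_injective
  rw [toA_Λ]
  simp

lemma Λ_mul (g h : Matrix (Fin 4) (Fin 4) R) : Λ (g * h) = (Λ g).comp (Λ h) := by
  apply LinearMap.ext
  intro v
  apply toA_injective
  rw [LinearMap.comp_apply, toA_Λ, toA_Λ, toA_Λ, Matrix.transpose_mul]
  simp only [mul_assoc]

lemma Q_Λ (g : Matrix (Fin 4) (Fin 4) R) (v : Fin 3 ⊕ Fin 3 → R) :
    ∑ i : Fin 3, Λ g v (.inl i) * Λ g v (.inr i) = g.det * ∑ i : Fin 3, v (.inl i) * v (.inr i) := by
  rw [← pf_toA, ← pf_toA, toA_Λ, pf_conj]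

/-- the elementary alternating matrix `e_i ∧ e_j` -/
def El (i j : Fin 4) : Matrix (Fin 4) (Fin 4) R := Matrix.single i j 1 - Matrix.single j i 1

lemma conj_El_apply (g : Matrix (Fin 4) (Fin 4) R) (i j k l : Fin 4) :
    (g * (El i j : Matrix (Fin 4) (Fin 4) R) * gᵀ) k l = g k i * g l j - g k j * g l i := by
  have h : ∀ (a b : Fin 4), (g * Matrix.single a b (1 : R) * gᵀ) k l = g k a * g l b := by
    intro a b
    rw [Matrix.mul_apply, Finset.sum_eq_single b]
    · rw [Matrix.mul_single_apply_same, Matrix.transpose_apply, mul_one]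
    · intro m _ hm
      rw [Matrix.mul_single_apply_of_ne _ _ _ _ _ hm, zero_mul]
    · intro hb
      exact absurd (Finset.mem_univ b) hb
  rw [El, Matrix.mul_sub, Matrix.sub_mul, Matrix.sub_apply, h, h]

lemma isAlt_El (i j : Fin 4) : IsAlt (El i j : Matrix (Fin 4) (Fin 4) R) := by
  constructor
  · intro k
    simp [El, Matrix.single_apply, and_comm]
  · intro k l
    simp [El, Matrix.single_apply, and_comm]

/-- the three-term (Plücker) relation for the columns of `g` -/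
lemma three_term (g : Matrix (Fin 4) (Fin 4) R) (i j a b c : Fin 4) :
    g a i * (g * (El i j : Matrix (Fin 4) (Fin 4) R) * gᵀ) b c
      - g b i * (g * (El i j : Matrix (Fin 4) (Fin 4) R) * gᵀ) a c
      + g c i * (g * (El i j : Matrix (Fin 4) (Fin 4) R) * gᵀ) a b = 0 := by
  rw [conj_El_apply, conj_El_apply, conj_El_apply]
  ring

end Cfsg.Agent.Lib.helper7.Klein
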