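import Mathlib
import Cfsg.Prelude.Def_LieTypeChar
import Cfsg.Agent.Lib.helper44.LODefs
import Cfsg.Agent.Lib.helper6.LOARITH
import Cfsg.Agent.S0245
import Cfsg.Agent.S0246

/-!
helper7: S2363 piece PSP (`h7_lo_psp`, racer copy): the order bound for `PSp_{2m}(q)`, `m ≥ 2`.
-/

set_option autoImplicit false

namespace Cfsg.Agent.Lib.helper44.LO

open Cfsg

theorem h7_sum_two_mul_succ (m : ℕ) : ∑ i ∈ Finset.range m, 2 * (i + 1) = m ^ 2 + m := by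
  induction m with
  | zero => simp
  | succ k ih =>
    rw [Finset.sum_range_succ, ih]
    ring

theorem h7_prod_pred_lt (q m : ℕ) (hq : 2 ≤ q) (hm : 1 ≤ m) :
    ∏ i ∈ Finset.range m, (q ^ (2 * (i + 1)) - 1) < q ^ (m ^ 2 + m) := by
  have h1 : ∏ i ∈ Finset.range m, (q ^ (2 * (i + 1)) - 1)
      < ∏ i ∈ Finset.range m, q ^ (2 * (i + 1)) := by
    apply Finset.prod_lt_prod_of_nonempty
    · intro i _
      have h2 : 2 ≤ q ^ (2 * (i + 1)) := by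
        calc 2 ≤ q := hq
          _ = q ^ 1 := (pow_one q).symm
          _ ≤ q ^ (2 * (i + 1)) := Nat.pow_le_pow_right (by omega) (by omega)
      omega
    · intro i _
      have h2 : 0 < q ^ (2 * (i + 1)) := pow_pos (by omega) _
      omega
    · exact ⟨0, Finset.mem_range.2 (by omega)⟩
  rw [Finset.prod_pow_eq_pow_sum, h7_sum_two_mul_succ] at h1
  exact h1

theorem h7_not_dvd_pred_pow {p : ℕ} (hp : p.Prime) (f : ℕ) (hf : 1 ≤ f) (j : ℕ) (hj : 1 ≤ j) :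
    ¬ p ∣ (p ^ f) ^ j - 1 := by
  intro h
  have h1 : p ∣ (p ^ f) ^ j := by
    rw [← pow_mul]
    exact dvd_pow_self p (by positivity)
  have h2 : 1 ≤ (p ^ f) ^ j := Nat.one_le_pow _ _ (pow_pos hp.pos _)
  have h3 : p ∣ 1 := by
    have h4 : (p ^ f) ^ j - 1 + 1 = (p ^ f) ^ j := Nat.sub_add_cancel h2
    have h5 : p ∣ (p ^ f) ^ j - 1 + 1 := by rw [h4]; exact h1
    exact (Nat.dvd_add_right h).1 h5
  exact hp.one_lt.ne' (Nat.dvd_one.1 h3)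

/-- PSP, racer copy (helper7). -/
theorem h7_lo_psp {F : Type} [Field F] [Fintype F] (p : ℕ) (hp : p.Prime) [CharP F p] (m : ℕ) (hm : 2 ≤ m) :
    LOGood p (Nat.card (Cfsg.PSp m F)) := by
  have : Fact p.Prime := ⟨hp⟩
  obtain ⟨f, -, hq⟩ := FiniteField.card F p
  have hf : 1 ≤ (f : ℕ) := f.pos
  have hq2 : 2 ≤ p ^ (f : ℕ) := by
    calc 2 ≤ p := hp.two_le
      _ = p ^ 1 := (pow_one p).symm
      _ ≤ p ^ (f : ℕ) := Nat.pow_le_pow_right hp.pos hf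
  have hSp := Cfsg.Agent.S0245.result (F := F) hq m
  have hZ := Cfsg.Agent.S0246.result (F := F) hq m (by omega)
  have hL := Subgroup.card_eq_card_quotient_mul_card_subgroup
    (Subgroup.center (Matrix.symplecticGroup (Fin m) F))
  have hc : Nat.gcd 2 (p ^ (f : ℕ) - 1) * Nat.card (Cfsg.PSp m F)
      = (p ^ (f : ℕ)) ^ (m ^ 2) * ∏ i ∈ Finset.range m, ((p ^ (f : ℕ)) ^ (2 * (i + 1)) - 1) := by
    rw [← hSp, hL, hZ, mul_comm]
  have hcp : ¬ p ∣ Nat.gcd 2 (p ^ (f : ℕ) - 1) := by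
    intro h
    have h1 : p ∣ p ^ (f : ℕ) - 1 := h.trans (Nat.gcd_dvd_right _ _)
    have h2 := h7_not_dvd_pred_pow hp f hf 1 le_rfl
    rw [pow_one] at h2
    exact h2 h1
  have hMp : ¬ p ∣ ∏ i ∈ Finset.range m, ((p ^ (f : ℕ)) ^ (2 * (i + 1)) - 1) := by
    intro h
    obtain ⟨i, _, hi⟩ := (Prime.dvd_finsetProd_iff hp.prime _).1 h
    exact h7_not_dvd_pred_pow hp f hf (2 * (i + 1)) (by omega) hi
  have hM : ∏ i ∈ Finset.range m, ((p ^ (f : ℕ)) ^ (2 * (i + 1)) - 1)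
      < Nat.gcd 2 (p ^ (f : ℕ) - 1) * (p ^ (f : ℕ)) ^ (m ^ 2 + m) := by
    have h1 := h7_prod_pred_lt (p ^ (f : ℕ)) m hq2 (by omega)
    have h2 : 1 ≤ Nat.gcd 2 (p ^ (f : ℕ) - 1) := Nat.gcd_pos_of_pos_left _ (by norm_num)
    calc ∏ i ∈ Finset.range m, ((p ^ (f : ℕ)) ^ (2 * (i + 1)) - 1)
        < (p ^ (f : ℕ)) ^ (m ^ 2 + m) := h1
      _ = 1 * (p ^ (f : ℕ)) ^ (m ^ 2 + m) := (one_mul _).symm
      _ ≤ Nat.gcd 2 (p ^ (f : ℕ) - 1) * (p ^ (f : ℕ)) ^ (m ^ 2 + m) :=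
          Nat.mul_le_mul_right _ h2
  exact lo_good hp f hf _ _ (m ^ 2) _ (m ^ 2 + m) hc hcp hMp hM (by nlinarith) (by nlinarith)

end Cfsg.Agent.Lib.helper44.LO
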