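import Mathlib
import Cfsg.Agent.Lib.helper54.MetaIdxDefs

set_option autoImplicit false

/-!
# S4245, pieces C1 and C5 (racing copies, prefixed names)
-/

namespace Cfsg.Agent.Lib.helper54.MetaIdx

universe u

/-- **C1**. `p = 2`, `B ≠ 1`: a non-identity element of `B` has a conjugacy class of `2`-power
size. -/
theorem h7_case_two {G : Type u} [Group G] [Finite G] (A : Subgroup G) (B : Subgroup A) [B.Normal]
    (hB : IsCyclic B) (s r : ℕ) (hA : A.index = 2 ^ s) (hr : Nat.card (A ⧸ B) = 2 ^ r)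
    (hne : B ≠ ⊥) :
    ∃ x : G, x ≠ 1 ∧ ∃ k : ℕ, (Subgroup.centralizer ({x} : Set G)).index = 2 ^ k := by
  obtain ⟨b, hb⟩ := (Subgroup.ne_bot_iff_exists_ne_one).mp hne
  refine ⟨((b : A) : G), ?_, ?_⟩
  · intro h1
    apply hb
    apply Subtype.ext
    apply Subtype.ext
    simpa using h1
  · have hle : B.map A.subtype ≤ Subgroup.centralizer ({((b : A) : G)} : Set G) := by
      intro y hy
      obtain ⟨c, hc, rfl⟩ := Subgroup.mem_map.mp hy
      rw [Subgroup.mem_centralizer_iff]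
      intro h hh
      rw [Set.mem_singleton_iff] at hh
      subst hh
      have hcomm : (⟨c, hc⟩ : B) * b = b * ⟨c, hc⟩ := by
        obtain ⟨g, hg⟩ := hB.exists_generator
        obtain ⟨m, hm⟩ := Subgroup.mem_zpowers_iff.mp (hg ⟨c, hc⟩)
        obtain ⟨k, hk⟩ := Subgroup.mem_zpowers_iff.mp (hg b)
        rw [← hm, ← hk, ← zpow_add, ← zpow_add, add_comm]
      have h2 := congrArg (fun t : B => ((t : A) : G)) hcomm
      simpa using h2.symm
    have hidx : (B.map A.subtype).index = 2 ^ (r + s) := by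
      rw [Subgroup.index_map_subtype, hA, Subgroup.index_eq_card, hr, pow_add]
    have hdvd := Subgroup.index_dvd_of_le hle
    rw [hidx] at hdvd
    obtain ⟨k, -, hk⟩ := (Nat.dvd_prime_pow Nat.prime_two).mp hdvd
    exact ⟨k, hk⟩

/-- **C5**. `p = 2`, `B = 1`: `G` is a `2`-group. -/
theorem h7_case_two_bot {G : Type u} [Group G] [Finite G] (A : Subgroup G) (B : Subgroup A)
    [B.Normal] (s r : ℕ) (hA : A.index = 2 ^ s) (hr : Nat.card (A ⧸ B) = 2 ^ r) (hB : B = ⊥) :
    ∃ n : ℕ, Nat.card G = 2 ^ n := by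
  refine ⟨r + s, ?_⟩
  have h1 : (B.map A.subtype).index = 2 ^ (r + s) := by
    rw [Subgroup.index_map_subtype, hA, Subgroup.index_eq_card, hr, pow_add]
  have h2 : B.map A.subtype = ⊥ := by
    rw [hB, Subgroup.map_bot]
  rw [h2, Subgroup.index_bot] at h1
  exact h1

end Cfsg.Agent.Lib.helper54.MetaIdx
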