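import Mathlib
import Cfsg.Agent.Lib.helper79.PearlX
import Cfsg.Agent.Lib.helper4.P3N4core
import Cfsg.Agent.Lib.helper6.P3P2AB
import Cfsg.Agent.Lib.helper46.P3NUA
import Cfsg.Agent.Lib.helper68.P3NUB
import Cfsg.Agent.Lib.helper15.P3UNIF
import Cfsg.Agent.Lib.helper58.P3FRAT

/-!
S5239 split (architect helper79), piece N4, prefixed racer copy (helper7): assembled from the landed core
`h4_p3_n4_core` and the landed leaves UNIF, FRAT, P2AB, NUA, NUB.  Only the first conjunct of NONUNIF is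
needed for `n = 4`, so this does not wait for NUC.
-/

set_option autoImplicit false

namespace Cfsg.Agent.Lib.helper79.P3

open Cfsg.Agent.Lib.helper68

/-- N4 (L; uses UNIF, NONUNIF, FRAT). -/
theorem h7_p3_n4 {G : Type*} [Group G] [Finite G] (hG : Nat.card G = 3 ^ 4) (x : G)
    (hx : x ^ 3 = 1) (hC : Nat.card (Subgroup.centralizer ({x} : Set G)) = 3 ^ 2) :
    (∀ H : Subgroup G, ∃ T : Finset G, T.card ≤ 2 ∧ Subgroup.closure (T : Set G) = H) ∨
      ∃ M : Subgroup G, Nat.card M = 27 ∧ (∀ a ∈ M, ∀ b ∈ M, a * b = b * a) ∧ ∀ a ∈ M, a ^ 3 = 1 := by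
  have hab := p3_gam2_comm 4 (by norm_num) hG x hx hC
  refine h4_p3_n4_core hG x hC
    (fun h hCh H hhH => p3_gen_uniform 4 (by norm_num) hG h hCh H hhH) ?_
    (fun H hH => p3_frat 4 (by norm_num) hG H hH)
  intro h hh hCh v hv
  obtain ⟨u, hu2, hun, huh⟩ := p3_nu_a 4 le_rfl hG x hx hC h hh hCh
  exact p3_nu_b 4 le_rfl hG x hx hC hab h u hu2 hun huh 2 le_rfl v hv

end Cfsg.Agent.Lib.helper79.P3
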