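import Mathlib
import Cfsg.Agent.Lib.helper24.SfoDefs

/-!
# S5981 piece BINCNT (`sfo_bin_count`): racer copy by helper7

The number of solutions of `a x² + b y² = t` over a finite field of odd order `q` is
`q - e` for `t ≠ 0` and `q + (q - 1) e` for `t = 0`, with `e = χ(-ab)` (quadratic character).
-/

set_option autoImplicit false

namespace Cfsg.Agent.Lib.helper24

open Finset

section
variable {F : Type*} [Field F] [Fintype F] [DecidableEq F]

theorem h7_card_sqrts (hF : ringChar F ≠ 2) (u : F) :
    ((univ.filter (fun x : F => x ^ 2 = u)).card : ℤ) = quadraticChar F u + 1 := by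
  rw [← quadraticChar_card_sqrts hF u]
  congr 2
  ext x
  simp

theorem h7_bin_fiber (hF : ringChar F ≠ 2) (a b t : F) (hb : b ≠ 0) :
    ((univ.filter (fun p : F × F => a * p.1 ^ 2 + b * p.2 ^ 2 = t)).card : ℤ) =
      ∑ u : F, (quadraticChar F u + 1) * (quadraticChar F ((t - a * u) / b) + 1) := by
  rw [Finset.card_eq_sum_card_fiberwise (f := fun p : F × F => p.1 ^ 2) (t := univ)
    (fun _ _ => mem_univ _)]
  push_cast
  apply Finset.sum_congr rfl
  intro u _
  have hfib : (univ.filter (fun p : F × F => a * p.1 ^ 2 + b * p.2 ^ 2 = t)).filter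
      (fun p => p.1 ^ 2 = u) =
      (univ.filter (fun x : F => x ^ 2 = u)) ×ˢ
        (univ.filter (fun y : F => y ^ 2 = (t - a * u) / b)) := by
    ext ⟨x, y⟩
    simp only [mem_filter, mem_univ, true_and, mem_product]
    constructor
    · rintro ⟨h1, h2⟩
      refine ⟨h2, ?_⟩
      rw [eq_div_iff hb, ← h2]
      linear_combination h1
    · rintro ⟨h1, h2⟩
      refine ⟨?_, h1⟩
      rw [eq_div_iff hb] at h2
      rw [h1]
      linear_combination h2
  rw [hfib, card_product]
  push_cast
  rw [h7_card_sqrts hF, h7_card_sqrts hF]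

theorem h7_sum_affine (hF : ringChar F ≠ 2) (c d : F) (hc : c ≠ 0) :
    ∑ u : F, quadraticChar F (c * u + d) = 0 := by
  rw [← quadraticChar_sum_zero hF]
  exact Fintype.sum_equiv ((Equiv.mulLeft₀ c hc).trans (Equiv.addRight d)) _ _ (fun u => by simp)

theorem h7_chi_div (b w : F) :
    quadraticChar F (w / b) = quadraticChar F b * quadraticChar F w := by
  rw [div_eq_mul_inv, map_mul, ← MulChar.inv_apply', MulChar.IsQuadratic.inv (quadraticChar_isQuadratic F),
    mul_comm]

theorem h7_K_ne (hF : ringChar F ≠ 2) (a t : F) (ht : t ≠ 0) :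
    ∑ u : F, quadraticChar F u * quadraticChar F (t - a * u) = -quadraticChar F (-a) := by
  have h1 : ∀ u : F, quadraticChar F u * quadraticChar F (t - a * u) =
      if u = 0 then 0 else quadraticChar F (t * u⁻¹ + -a) := by
    intro u
    by_cases hu : u = 0
    · rw [if_pos hu, hu, quadraticChar_zero, zero_mul]
    · rw [if_neg hu]
      have e1 : t - a * u = u * (t * u⁻¹ + -a) := by
        field_simp
        ring
      rw [e1, map_mul, ← mul_assoc, ← pow_two, quadraticChar_sq_one hu, one_mul]
  rw [Finset.sum_congr rfl (fun u _ => h1 u)]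
  have h2 : ∑ u : F, (if u = 0 then (0 : ℤ) else quadraticChar F (t * u⁻¹ + -a)) =
      ∑ u : F, (if u = 0 then (0 : ℤ) else quadraticChar F (t * u + -a)) := by
    have hinv : Function.Involutive (fun u : F => u⁻¹) := fun u => inv_inv u
    refine Fintype.sum_equiv (Function.Involutive.toPerm (fun u : F => u⁻¹) hinv) _ _
      (fun u => ?_)
    show (if u = 0 then (0 : ℤ) else quadraticChar F (t * u⁻¹ + -a)) =
      if u⁻¹ = 0 then (0 : ℤ) else quadraticChar F (t * u⁻¹ + -a)
    by_cases hu : u = 0
    · rw [if_pos hu, if_pos (inv_eq_zero.2 hu)]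
    · rw [if_neg hu, if_neg (fun h => hu (inv_eq_zero.1 h))]
  rw [h2]
  have h3 : ∀ u : F, (if u = 0 then (0 : ℤ) else quadraticChar F (t * u + -a)) =
      quadraticChar F (t * u + -a) - if u = 0 then quadraticChar F (-a) else 0 := by
    intro u
    by_cases hu : u = 0
    · rw [if_pos hu, if_pos hu, hu, mul_zero, zero_add, sub_self]
    · rw [if_neg hu, if_neg hu, sub_zero]
  rw [Finset.sum_congr rfl (fun u _ => h3 u), Finset.sum_sub_distrib, h7_sum_affine hF t (-a) ht,
    Finset.sum_ite_eq' univ (0 : F) (fun _ => quadraticChar F (-a)), if_pos (mem_univ _), zero_sub]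

theorem h7_K_zero (a : F) :
    ∑ u : F, quadraticChar F u * quadraticChar F (0 - a * u) =
      quadraticChar F (-a) * ((Fintype.card F : ℤ) - 1) := by
  have h1 : ∀ u : F, quadraticChar F u * quadraticChar F (0 - a * u) =
      quadraticChar F (-a) * (1 - if u = 0 then (1 : ℤ) else 0) := by
    intro u
    have e1 : 0 - a * u = -a * u := by ring
    by_cases hu : u = 0
    · rw [if_pos hu, hu, quadraticChar_zero, zero_mul, sub_self, mul_zero]
    · rw [if_neg hu, e1, map_mul, sub_zero, mul_one, mul_comm (quadraticChar F (-a)), ← mul_assoc,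
        ← pow_two, quadraticChar_sq_one hu, one_mul]
  rw [Finset.sum_congr rfl (fun u _ => h1 u), ← Finset.mul_sum, Finset.sum_sub_distrib,
    Finset.sum_ite_eq' univ (0 : F) (fun _ => (1 : ℤ)), if_pos (mem_univ _), Finset.sum_const,
    Finset.card_univ, nsmul_eq_mul, mul_one]

/-- BINCNT, racer copy (helper7). -/
theorem h7_sfo_bin_count {F : Type*} [Field F] [Fintype F] [DecidableEq F] (h2 : (2 : F) ≠ 0)
    (a b : F) (ha : a ≠ 0) (hb : b ≠ 0) :
    ∃ e : ℤ, (e = 1 ∨ e = -1) ∧
      (∀ t : F, t ≠ 0 →
        ((Finset.univ.filter (fun p : F × F => a * p.1 ^ 2 + b * p.2 ^ 2 = t)).card : ℤ) =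
          (Fintype.card F : ℤ) - e) ∧
      ((Finset.univ.filter (fun p : F × F => a * p.1 ^ 2 + b * p.2 ^ 2 = 0)).card : ℤ) =
        (Fintype.card F : ℤ) + ((Fintype.card F : ℤ) - 1) * e := by
  have hF : ringChar F ≠ 2 := by
    intro h
    apply h2
    have h3 := ringChar.Nat.cast_ringChar (R := F)
    rw [h] at h3
    exact_mod_cast h3
  have hab : -(a * b) ≠ 0 := neg_ne_zero.2 (mul_ne_zero ha hb)
  have hmul : quadraticChar F b * quadraticChar F (-a) = quadraticChar F (-(a * b)) := by
    rw [← map_mul]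
    congr 1
    ring
  -- expansion of the fibre sum
  have hexp : ∀ t : F, ((Finset.univ.filter (fun p : F × F => a * p.1 ^ 2 + b * p.2 ^ 2 = t)).card : ℤ) =
      quadraticChar F b * (∑ u : F, quadraticChar F u * quadraticChar F (t - a * u)) +
        (Fintype.card F : ℤ) := by
    intro t
    rw [h7_bin_fiber hF a b t hb]
    have h1 : ∀ u : F, (quadraticChar F u + 1) * (quadraticChar F ((t - a * u) / b) + 1) =
        quadraticChar F b * (quadraticChar F u * quadraticChar F (t - a * u)) + quadraticChar F u +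
          quadraticChar F ((-a / b) * u + t / b) + 1 := by
      intro u
      have e1 : (t - a * u) / b = (-a / b) * u + t / b := by
        field_simp
        ring
      rw [← e1, h7_chi_div]
      ring
    rw [Finset.sum_congr rfl (fun u _ => h1 u), Finset.sum_add_distrib, Finset.sum_add_distrib,
      Finset.sum_add_distrib, ← Finset.mul_sum, quadraticChar_sum_zero hF,
      h7_sum_affine hF (-a / b) (t / b) (div_ne_zero (neg_ne_zero.2 ha) hb), Finset.sum_const,
      Finset.card_univ, nsmul_eq_mul, mul_one, add_zero, add_zero]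
  refine ⟨quadraticChar F (-(a * b)), quadraticChar_dichotomy hab, ?_, ?_⟩
  · intro t ht
    rw [hexp t, h7_K_ne hF a t ht, mul_neg, hmul]
    ring
  · rw [hexp 0, h7_K_zero a, ← mul_assoc, hmul]
    ring

end

end Cfsg.Agent.Lib.helper24
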