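import Mathlib
import Cfsg.Agent.Lib.helper7.SfoBINCNT

/-!
helper7: S5977C piece BINM (`h7_qfc_bin_minus_count`, racer copy): an anisotropic binary form
`x² + a x y + b y²` over a finite field of odd characteristic takes the value `1` exactly `q + 1`
times (complete the square and use `h7_sfo_bin_count`).
-/

set_option autoImplicit false

namespace Cfsg.Agent.Lib.helper2

open Cfsg.Geo Matrix

/-- BINM, racer copy (helper7). -/
theorem h7_qfc_bin_minus_count {F : Type*} [Field F] [Fintype F] (h2 : (2 : F) ≠ 0) (a b : F)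
    (hab : ∀ x y : F, x ^ 2 + a * x * y + b * y ^ 2 = 0 → x = 0 ∧ y = 0) :
    Nat.card {z : Fin 2 → F // z 0 ^ 2 + a * z 0 * z 1 + b * z 1 ^ 2 = 1} = Fintype.card F + 1 := by
  classical
  obtain ⟨h, hh⟩ : ∃ h : F, 2 * h = 1 := ⟨2⁻¹, mul_inv_cancel₀ h2⟩
  have hc0 : b - a ^ 2 * h ^ 2 ≠ 0 := by
    intro h0
    have h1 := hab (-(a * h)) 1 (by linear_combination h0 + (a ^ 2 * h) * hh)
    exact one_ne_zero h1.2
  obtain ⟨e, he, ht, h0⟩ := Cfsg.Agent.Lib.helper24.h7_sfo_bin_count h2 1 (b - a ^ 2 * h ^ 2)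
    one_ne_zero hc0
  have hz : (Finset.univ.filter
      (fun p : F × F => 1 * p.1 ^ 2 + (b - a ^ 2 * h ^ 2) * p.2 ^ 2 = 0)) = {(0, 0)} := by
    ext ⟨u, v⟩
    simp only [Finset.mem_filter, Finset.mem_univ, true_and, Finset.mem_singleton, Prod.mk.injEq]
    constructor
    · intro hu
      have h1 := hab (u - a * h * v) v
        (by linear_combination hu + (a ^ 2 * h * v ^ 2 - a * u * v) * hh)
      obtain ⟨h1, h3⟩ := h1
      subst h3
      simp at h1
      exact ⟨h1, rfl⟩
    · rintro ⟨rfl, rfl⟩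
      simp
  rw [hz] at h0
  have hq : 2 ≤ Fintype.card F := Fintype.one_lt_card
  have he' : e = -1 := by
    rcases he with rfl | rfl
    · exfalso
      simp at h0
      have hq' : (2 : ℤ) ≤ (Fintype.card F : ℤ) := by exact_mod_cast hq
      omega
    · rfl
  have h1 := ht 1 one_ne_zero
  rw [he'] at h1
  let E : {z : Fin 2 → F // z 0 ^ 2 + a * z 0 * z 1 + b * z 1 ^ 2 = 1}
      ≃ {p : F × F // 1 * p.1 ^ 2 + (b - a ^ 2 * h ^ 2) * p.2 ^ 2 = 1} :=
    { toFun := fun z => ⟨(z.1 0 + a * h * z.1 1, z.1 1), by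
        have hz1 := z.2
        simp only
        linear_combination hz1 + (a * z.1 0 * z.1 1) * hh⟩
      invFun := fun p => ⟨![p.1.1 - a * h * p.1.2, p.1.2], by
        have hp1 := p.2
        simp only [Matrix.cons_val_zero, Matrix.cons_val_one]
        linear_combination hp1 + (a ^ 2 * h * p.1.2 ^ 2 - a * p.1.1 * p.1.2) * hh⟩
      left_inv := fun z => by
        apply Subtype.ext
        funext i
        fin_cases i <;> simp
      right_inv := fun p => by
        apply Subtype.ext
        ext <;> simp }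
  rw [Nat.card_congr E, Nat.card_eq_fintype_card, Fintype.card_subtype]
  have h5 : ((Finset.univ.filter
      (fun p : F × F => 1 * p.1 ^ 2 + (b - a ^ 2 * h ^ 2) * p.2 ^ 2 = 1)).card : ℤ)
      = ((Fintype.card F + 1 : ℕ) : ℤ) := by
    rw [h1]
    push_cast
    ring
  exact_mod_cast h5

end Cfsg.Agent.Lib.helper2
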