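import Mathlib
import Cfsg.Prelude.Def_GeometricClasses
import Cfsg.Agent.Lib.helper24.SfoDefs
import Cfsg.Agent.Lib.helper7.SfoBINCNT

/-!
helper7: S5977U piece SUMD (`h7_qfu_diag_count_sum`, racer copy): for `c / c'` a nonsquare,
`N₁⟨1,…,1,c⟩ + N₁⟨1,…,1,c'⟩ = 2 q^m`.
-/

set_option autoImplicit false

namespace Cfsg.Agent.Lib.helper2

open Cfsg.Geo Matrix Cfsg.Agent.Lib.helper24

theorem h7_qfu_diag_count_one {E : Type*} [Field E] [Fintype E] [DecidableEq E] {m : ℕ}
    (hF : ringChar E ≠ 2) (a : E) (ha : a ≠ 0) :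
    (sfoCount (fun x : Fin (m + 1) → E => ∑ j, (if j = Fin.last m then a else 1) * x j ^ 2) 1 : ℤ)
      = ∑ y : Fin m → E, (quadraticChar E a * quadraticChar E (1 - ∑ i, y i ^ 2) + 1) := by
  unfold sfoCount
  rw [Nat.card_eq_fintype_card, Fintype.card_subtype, Finset.card_filter,
    ← (Equiv.sum_comp (Fin.snocEquiv (fun _ : Fin (m + 1) => E)) _), Fintype.sum_prod_type_right]
  push_cast
  apply Finset.sum_congr rfl
  intro y _
  rw [← h7_chi_div, ← h7_card_sqrts hF, Finset.card_filter]
  push_cast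
  apply Finset.sum_congr rfl
  intro t _
  have key : (∑ j, (if j = Fin.last m then a else 1)
      * (Fin.snocEquiv (fun _ : Fin (m + 1) => E)) (t, y) j ^ 2 = 1)
      ↔ t ^ 2 = (1 - ∑ i, y i ^ 2) / a := by
    rw [Fin.sum_univ_castSucc]
    simp only [Fin.snocEquiv_apply, Fin.snoc_castSucc, Fin.snoc_last, if_true,
      Fin.castSucc_ne_last, if_false, one_mul]
    rw [eq_div_iff ha]
    constructor
    · intro h
      linear_combination h
    · intro h
      linear_combination h
  by_cases h : t ^ 2 = (1 - ∑ i, y i ^ 2) / a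
  · rw [if_pos h, if_pos (key.2 h)]
  · rw [if_neg h, if_neg (fun h' => h (key.1 h'))]

/-- SUMD, racer copy (helper7). -/
theorem h7_qfu_diag_count_sum {E : Type*} [Field E] [Fintype E] {m : ℕ} (h2 : (2 : E) ≠ 0)
    (c c' : E) (hc : c ≠ 0) (hc' : c' ≠ 0) (hns : ∀ s : E, c ≠ s ^ 2 * c') :
    sfoCount (fun x : Fin (m + 1) → E => ∑ j, (if j = Fin.last m then c else 1) * x j ^ 2) 1 +
      sfoCount (fun x : Fin (m + 1) → E => ∑ j, (if j = Fin.last m then c' else 1) * x j ^ 2) 1 =
      2 * Fintype.card E ^ m := by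
  classical
  have hF : ringChar E ≠ 2 := by
    intro h
    apply h2
    have h3 := ringChar.Nat.cast_ringChar (R := E)
    rw [h] at h3
    exact_mod_cast h3
  have hnsq : ¬ IsSquare (c / c') := by
    rintro ⟨r, hr⟩
    apply hns r
    rw [div_eq_iff hc'] at hr
    rw [hr]
    ring
  have h1 : quadraticChar E (c / c') = -1 := quadraticChar_neg_one_iff_not_isSquare.2 hnsq
  rw [h7_chi_div] at h1
  have h3 : quadraticChar E c' ^ 2 = 1 := quadraticChar_sq_one hc'
  have h4 : quadraticChar E c + quadraticChar E c' = 0 := by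
    have h5 : quadraticChar E c = quadraticChar E c' ^ 2 * quadraticChar E c := by
      rw [h3, one_mul]
    have h6 : quadraticChar E c' ^ 2 * quadraticChar E c
        = quadraticChar E c' * (quadraticChar E c' * quadraticChar E c) := by ring
    rw [h5, h6, h1]
    ring
  have hZ : ((sfoCount (fun x : Fin (m + 1) → E =>
        ∑ j, (if j = Fin.last m then c else 1) * x j ^ 2) 1 +
      sfoCount (fun x : Fin (m + 1) → E =>
        ∑ j, (if j = Fin.last m then c' else 1) * x j ^ 2) 1 : ℕ) : ℤ)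
      = ((2 * Fintype.card E ^ m : ℕ) : ℤ) := by
    push_cast
    rw [h7_qfu_diag_count_one hF c hc, h7_qfu_diag_count_one hF c' hc', ← Finset.sum_add_distrib]
    have h7 : ∀ y : Fin m → E,
        quadraticChar E c * quadraticChar E (1 - ∑ i, y i ^ 2) + 1 +
          (quadraticChar E c' * quadraticChar E (1 - ∑ i, y i ^ 2) + 1) = 2 := by
      intro y
      have h8 : quadraticChar E c * quadraticChar E (1 - ∑ i, y i ^ 2) + 1 +
          (quadraticChar E c' * quadraticChar E (1 - ∑ i, y i ^ 2) + 1)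
          = (quadraticChar E c + quadraticChar E c') * quadraticChar E (1 - ∑ i, y i ^ 2) + 2 := by
        ring
      rw [h8, h4, zero_mul, zero_add]
    rw [Finset.sum_congr rfl (fun y _ => h7 y)]
    simp [Finset.sum_const, Finset.card_univ]
    ring
  exact_mod_cast hZ

end Cfsg.Agent.Lib.helper2
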