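import Mathlib

set_option autoImplicit false

/-! # Abstract group theory behind `²G₂(3)' ≅ PSL₂(8)`

A group of order `1512` with a maximal core-free subgroup `B` of order `54` whose normal Sylow
`3`-subgroup `U` is a TI-subgroup, and with `B` having a quotient of order `3` not killed on `U`,
has a simple commutator subgroup of order `504`. -/

namespace Cfsg.Agent.Lib.helper7.Ree3Abs

open Subgroup
open scoped commutatorElement

section Basic

variable {G : Type*} [Group G]

theorem card_eq_card_mul_relIndex [Finite G] {H K : Subgroup G} (h : H ≤ K) :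
    Nat.card K = Nat.card H * H.relIndex K := by
  have h1 := Subgroup.card_mul_index (H.subgroupOf K)
  rw [Nat.card_congr (Subgroup.subgroupOfEquivOfLe h).toEquiv] at h1
  exact h1.symm

/-- `B` is maximal when `G = B ∪ B n U`. -/
theorem max_of_dc (B U : Subgroup G) (n : G) (hUB : U ≤ B)
    (hdc : ∀ g, g ∉ B → ∃ b ∈ B, ∃ u ∈ U, g = b * n * u)
    (M : Subgroup G) (hBM : B ≤ M) (hne : ¬ M ≤ B) : M = ⊤ := by
  obtain ⟨g, hgM, hgB⟩ := SetLike.not_le_iff_exists.mp hne
  obtain ⟨b, hb, u, hu, rfl⟩ := hdc g hgB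
  have hnM : n ∈ M := by
    have e : n = b⁻¹ * (b * n * u) * u⁻¹ := by group
    rw [e]
    exact mul_mem (mul_mem (inv_mem (hBM hb)) hgM) (inv_mem (hBM (hUB hu)))
  rw [eq_top_iff]
  intro x _
  by_cases hx : x ∈ B
  · exact hBM hx
  · obtain ⟨b', hb', u', hu', rfl⟩ := hdc x hx
    exact mul_mem (mul_mem (hBM hb') hnM) (hBM (hUB hu'))

/-- A nontrivial normal subgroup is transitive on the cosets of a maximal core-free subgroup. -/
theorem index_dvd_card_normal [Finite G] (B : Subgroup G)
    (hmax : ∀ M : Subgroup G, B ≤ M → ¬ M ≤ B → M = ⊤)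
    (hcore : B.normalCore = ⊥) (N : Subgroup G) [N.Normal] (hN : N ≠ ⊥) :
    B.index ∣ Nat.card N := by
  have hNB : ¬ N ≤ B := by
    intro h
    have h1 := (Subgroup.normal_le_normalCore (H := B)).mpr h
    rw [hcore] at h1
    exact hN (le_bot_iff.mp h1)
  have htop : B ⊔ N = ⊤ := hmax (B ⊔ N) le_sup_left (fun h => hNB (le_trans le_sup_right h))
  have h1 : N.relIndex (B ⊔ N) = N.relIndex B := Subgroup.relIndex_sup_right B N
  rw [htop, Subgroup.relIndex_top_right] at h1
  obtain ⟨c, hc⟩ := Subgroup.relIndex_dvd_card N B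
  have h2 := Subgroup.card_mul_index N
  have h3 := Subgroup.card_mul_index B
  have hpos : 0 < N.relIndex B := by
    rw [← h1]
    exact Nat.pos_of_ne_zero Subgroup.index_ne_zero_of_finite
  refine ⟨c, ?_⟩
  have h4 : Nat.card N * N.relIndex B = (B.index * c) * N.relIndex B := by
    rw [← h1, h2, ← h3, hc, h1]
    ring
  exact Nat.eq_of_mul_eq_mul_right hpos h4

/-- The transfer into `B` of an element of the TI Sylow subgroup `U`. -/
theorem transfer_eq [Finite G] (B U : Subgroup G)
    (hU3 : ∀ b ∈ B, b ^ 27 = 1 → b ∈ U)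
    (hU27 : ∀ x ∈ U, x ^ 27 = 1)
    (hTI : ∀ g, g ∉ B → ∀ x ∈ U, g * x * g⁻¹ ∈ U → x = 1)
    {A : Type*} [CommGroup A] (φ : B →* A) (x : B) (hx : (x : G) ∈ U) :
    MonoidHom.transfer φ (x : G) = φ x := by
  classical
  let _ : Fintype (Quotient (MulAction.orbitRel (zpowers (x : G)) (G ⧸ B))) := Fintype.ofFinite _
  rw [MonoidHom.transfer_eq_prod_quotient_orbitRel_zpowers_quot]
  have key : ∀ (y : G) (k : ℕ) (hmem : y⁻¹ * (x : G) ^ k * y ∈ B),
      (y ∈ B → k = 1 → φ ⟨y⁻¹ * (x : G) ^ k * y, hmem⟩ = φ x) ∧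
      (y ∉ B → φ ⟨y⁻¹ * (x : G) ^ k * y, hmem⟩ = 1) := by
    intro y k hmem
    constructor
    · intro hy hk
      subst hk
      have e : (⟨y⁻¹ * (x : G) ^ 1 * y, hmem⟩ : B) = (⟨y, hy⟩ : B)⁻¹ * x * ⟨y, hy⟩ := by
        apply Subtype.ext
        simp
      rw [e, map_mul, map_mul, map_inv, mul_right_comm, inv_mul_cancel, one_mul]
    · intro hy
      have hzU : y⁻¹ * (x : G) ^ k * y ∈ U := by
        apply hU3 _ hmem
        have e : y⁻¹ * (x : G) ^ k * y = y⁻¹ * (x : G) ^ k * y⁻¹⁻¹ := by rw [inv_inv]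
        rw [e, conj_pow, ← pow_mul, mul_comm k 27, pow_mul, hU27 _ hx, one_pow, mul_one, inv_inv,
          inv_mul_cancel]
      have hy' : y⁻¹ ∉ B := fun h => hy (by simpa using inv_mem h)
      have h1 : (x : G) ^ k = 1 := by
        apply hTI y⁻¹ hy' _ (pow_mem hx k)
        rw [inv_inv]
        exact hzU
      have e : (⟨y⁻¹ * (x : G) ^ k * y, hmem⟩ : B) = 1 := by
        apply Subtype.ext
        simp [h1]
      rw [e, map_one]
  have hfix : ∀ z : zpowers (x : G), z • ((1 : G) : G ⧸ B) = ((1 : G) : G ⧸ B) := by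
    rintro ⟨z, hz⟩
    have hzB : z ∈ B := (zpowers_le.mpr x.2) hz
    show ((z * 1 : G) : G ⧸ B) = _
    rw [QuotientGroup.eq]
    simpa using hzB
  set q0 : Quotient (MulAction.orbitRel (zpowers (x : G)) (G ⧸ B)) :=
    Quotient.mk'' ((1 : G) : G ⧸ B) with hq0
  have houtB : ∀ q : Quotient (MulAction.orbitRel (zpowers (x : G)) (G ⧸ B)),
      q.out.out ∈ B → q.out = ((1 : G) : G ⧸ B) := by
    intro q hq
    rw [← QuotientGroup.out_eq' q.out, QuotientGroup.eq]
    simpa using hq
  have hq0B : q0.out.out ∈ B := by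
    have h1 : (MulAction.orbitRel (zpowers (x : G)) (G ⧸ B)) q0.out ((1 : G) : G ⧸ B) :=
      Quotient.mk_out' _
    rw [MulAction.orbitRel_apply] at h1
    obtain ⟨z, hz⟩ := h1
    have hz' : z • ((1 : G) : G ⧸ B) = q0.out := hz
    rw [hfix z] at hz'
    have h2 : ((q0.out.out : G) : G ⧸ B) = ((1 : G) : G ⧸ B) :=
      (QuotientGroup.out_eq' q0.out).trans hz'.symm
    rw [QuotientGroup.eq] at h2
    simpa using h2
  have hper : Function.minimalPeriod (fun t : G ⧸ B => (x : G) • t) q0.out = 1 := by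
    rw [Function.minimalPeriod_eq_one_iff_isFixedPt, houtB q0 hq0B]
    show ((x : G) * 1 : G) = ((1 : G) : G ⧸ B)
    rw [QuotientGroup.eq]
    simpa using x.2
  rw [Fintype.prod_eq_single q0]
  · exact (key _ _ _).1 hq0B hper
  · intro q hq
    apply (key _ _ _).2
    intro h
    apply hq
    rw [← Quotient.out_eq' q, houtB q h]

/-- The kernel of a nontrivial homomorphism onto a group of order `3`. -/
theorem card_ker_zmod3 [Finite G] (V : G →* Multiplicative (ZMod 3)) (x : G) (hx : V x ≠ 1) :
    Nat.card V.ker * 3 = Nat.card G := by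
  have hcard : Nat.card (Multiplicative (ZMod 3)) = 3 := by
    rw [Nat.card_eq_fintype_card, Fintype.card_multiplicative, ZMod.card]
  have h1 : V.range = ⊤ := by
    have h2 := Subgroup.card_subgroup_dvd_card V.range
    rw [hcard] at h2
    rcases (Nat.dvd_prime Nat.prime_three).mp h2 with h | h
    · exfalso
      have h3 := Subgroup.card_eq_one.mp h
      apply hx
      have hm : V x ∈ V.range := ⟨x, rfl⟩
      rw [h3] at hm
      exact Subgroup.mem_bot.mp hm
    · exact Subgroup.eq_top_of_card_eq _ (by rw [h, hcard])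
  have h2 := Subgroup.index_ker V
  rw [h1, Subgroup.card_top, hcard] at h2
  have h3 := Subgroup.card_mul_index V.ker
  rw [h2] at h3
  exact h3

end Basic

section Simple

variable {G : Type*} [Group G]

/-- A minimal normal subgroup whose order is divisible by `p` but not by `p ^ 2` is simple. -/
theorem simple_of_min_normal [Finite G] (K : Subgroup G) [hKn : K.Normal] (p : ℕ) [hpp : Fact p.Prime]
    (hmin : ∀ M : Subgroup G, M.Normal → M ≤ K → M = ⊥ ∨ M = K) (hK : K ≠ ⊥)
    (hp : p ∣ Nat.card K) (hp2 : ¬ p ^ 2 ∣ Nat.card K) : IsSimpleGroup K := by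
  classical
  have : Nontrivial K := (Subgroup.nontrivial_iff_ne_bot K).mpr hK
  have hconj : ∀ (g : G) (a : K), ((MulAut.conjNormal g a : K) : G) = g * a * g⁻¹ :=
    fun g a => MulAut.conjNormal_apply g a
  -- every nontrivial normal subgroup of `K` has order divisible by `p`
  have hA : ∀ A : Subgroup K, A.Normal → ¬ p ∣ Nat.card A → A = ⊥ := by
    let _ : Fintype (Subgroup K) := Fintype.ofFinite _
    let S : Finset (Subgroup K) := Finset.univ.filter (fun A => A.Normal ∧ ¬ p ∣ Nat.card A)
    have hS : S.Nonempty := by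
      refine ⟨⊥, Finset.mem_filter.mpr ⟨Finset.mem_univ _, inferInstance, ?_⟩⟩
      rw [Subgroup.card_bot]
      exact fun h => hpp.out.one_lt.ne' (Nat.dvd_one.mp h)
    obtain ⟨L, hL, hLmax⟩ := Finset.exists_max_image S (fun A => Nat.card A) hS
    have hLn : L.Normal := (Finset.mem_filter.mp hL).2.1
    have hLp : ¬ p ∣ Nat.card L := (Finset.mem_filter.mp hL).2.2
    have hle : ∀ A : Subgroup K, A.Normal → ¬ p ∣ Nat.card A → A ≤ L := by
      intro A hAn hAp
      have := hAn
      have := hLn
      have hsup : (A ⊔ L) ∈ S := by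
        refine Finset.mem_filter.mpr ⟨Finset.mem_univ _, inferInstance, ?_⟩
        have h1 : Nat.card ↥(A ⊔ L) = Nat.card L * L.relIndex (A ⊔ L) :=
          card_eq_card_mul_relIndex le_sup_right
        rw [Subgroup.relIndex_sup_right A L] at h1
        rw [h1]
        intro h
        rcases (Nat.Prime.dvd_mul hpp.out).mp h with h2 | h2
        · exact hLp h2
        · exact hAp (h2.trans (Subgroup.relIndex_dvd_card L A))
      have h1 := hLmax _ hsup
      have h2 : L = A ⊔ L := Subgroup.eq_of_le_of_card_ge le_sup_right h1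
      rw [h2]
      exact le_sup_left
    have hLG : (L.map K.subtype).Normal := by
      refine ⟨fun x hx g => ?_⟩
      obtain ⟨a, ha, rfl⟩ := hx
      have h3 : L.map (MulAut.conjNormal g : K ≃* K).toMonoidHom ≤ L := by
        apply hle
        · exact hLn.map _ (MulEquiv.surjective _)
        · rw [Subgroup.card_map_of_injective (MulEquiv.injective _)]
          exact hLp
      exact ⟨MulAut.conjNormal g a, h3 ⟨a, ha, rfl⟩, hconj g a⟩
    have hL0 : L = ⊥ := by
      rcases hmin _ hLG (Subgroup.map_subtype_le L) with h | h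
      · exact (Subgroup.map_eq_bot_iff_of_injective L K.subtype_injective).mp h
      · exfalso
        apply hLp
        have h4 : Nat.card ↥(L.map K.subtype) = Nat.card K := by rw [h]
        rw [Subgroup.card_map_of_injective K.subtype_injective] at h4
        rw [h4]
        exact hp
    intro A hAn hAp
    have := hle A hAn hAp
    rw [hL0] at this
    exact le_bot_iff.mp this
  refine ⟨fun H hHn => ?_⟩
  by_cases hH : H = ⊥
  · left
    exact hH
  right
  have := hHn
  have hpH : p ∣ Nat.card H := by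
    by_contra h
    exact hH (hA H hHn h)
  have hidx : ¬ p ∣ H.index := by
    intro h
    apply hp2
    rw [← Subgroup.card_mul_index H, pow_two]
    exact mul_dvd_mul hpH h
  have hpel : ∀ a : K, a ^ p = 1 → a ∈ H := by
    intro a ha
    rw [← QuotientGroup.eq_one_iff]
    have h1 : ((a : K ⧸ H)) ^ p = 1 := by
      rw [← QuotientGroup.mk_pow, ha]
      rfl
    have h2 : orderOf (a : K ⧸ H) ∣ p := orderOf_dvd_of_pow_eq_one h1
    have h3 : orderOf (a : K ⧸ H) ∣ H.index := by
      rw [Subgroup.index_eq_card]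
      exact orderOf_dvd_natCard _
    rcases (Nat.dvd_prime hpp.out).mp h2 with h | h
    · exact orderOf_eq_one_iff.mp h
    · exact absurd (h ▸ h3) hidx
  obtain ⟨z, hz⟩ := exists_prime_orderOf_dvd_card' (G := K) p hp
  have hNC : Subgroup.normalClosure {(z : G)} ≤ H.map K.subtype := by
    show Subgroup.closure (Group.conjugatesOfSet {(z : G)}) ≤ H.map K.subtype
    rw [Subgroup.closure_le]
    intro c hc
    obtain ⟨a, ha, hac⟩ := Group.mem_conjugatesOfSet_iff.mp hc
    rw [Set.mem_singleton_iff] at ha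
    subst ha
    obtain ⟨g, rfl⟩ := isConj_iff.mp hac
    refine ⟨MulAut.conjNormal g z, hpel _ ?_, hconj g z⟩
    rw [← map_pow, ← hz, pow_orderOf_eq_one, map_one]
  have hNC2 : Subgroup.normalClosure {(z : G)} = K := by
    have hsub : ({(z : G)} : Set G) ⊆ (K : Set G) := by
      intro w hw
      rw [Set.mem_singleton_iff] at hw
      rw [hw]
      exact z.2
    rcases hmin _ Subgroup.normalClosure_normal (Subgroup.normalClosure_le_normal hsub) with h | h
    · exfalso
      have h5 : (z : G) ∈ Subgroup.normalClosure {(z : G)} := Subgroup.subset_normalClosure rfl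
      rw [h, Subgroup.mem_bot] at h5
      have h6 : z = 1 := Subtype.ext h5
      rw [h6, orderOf_one] at hz
      exact hpp.out.one_lt.ne hz
    · exact h
  rw [eq_top_iff]
  intro a _
  have h7 : (a : G) ∈ H.map K.subtype := by
    apply hNC
    rw [hNC2]
    exact a.2
  obtain ⟨b, hb, hba⟩ := h7
  have h8 : b = a := Subtype.ext hba
  exact h8 ▸ hb

end Simple

section Main

variable {G : Type*} [Group G] [Finite G]

theorem card_sylow7 (hG : Nat.card G = 1512) (P : Sylow 7 G) : Nat.card (P : Subgroup G) = 7 := by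
  have : Fact (Nat.Prime 7) := ⟨by norm_num⟩
  obtain ⟨k, hk⟩ := IsPGroup.iff_card.mp P.2
  have h1 := Subgroup.card_mul_index (P : Subgroup G)
  rw [hG] at h1
  have h2 := P.not_dvd_index
  rw [hk] at h1 ⊢
  rcases k with _ | _ | k
  · exfalso
    apply h2
    rw [pow_zero, one_mul] at h1
    rw [h1]
    decide
  · norm_num
  · exfalso
    have h3 : (49 : ℕ) ∣ 1512 := by
      rw [← h1]
      exact Dvd.dvd.mul_right ⟨7 ^ k, by ring⟩ _
    omega

theorem sylow7_le (hG : Nat.card G = 1512) (N : Subgroup G) [N.Normal] (h28 : 28 ∣ Nat.card N)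
    (P : Sylow 7 G) : (P : Subgroup G) ≤ N := by
  have hP := card_sylow7 hG P
  have hmul := Subgroup.card_mul_index N
  rw [hG] at hmul
  intro w hw
  have hw7 : w ^ 7 = 1 := by
    have h0 := pow_card_eq_one' (G := (P : Subgroup G)) (x := ⟨w, hw⟩)
    rw [hP] at h0
    exact congrArg Subtype.val h0
  rw [← QuotientGroup.eq_one_iff (N := N)]
  have h1 : ((w : G ⧸ N)) ^ 7 = 1 := by
    rw [← QuotientGroup.mk_pow, hw7]
    rfl
  have h2 : orderOf (w : G ⧸ N) ∣ 7 := orderOf_dvd_of_pow_eq_one h1
  have h3 : orderOf (w : G ⧸ N) ∣ N.index := by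
    rw [Subgroup.index_eq_card]
    exact orderOf_dvd_natCard _
  rcases (Nat.dvd_prime (by norm_num : Nat.Prime 7)).mp h2 with h | h
  · exact orderOf_eq_one_iff.mp h
  · exfalso
    rw [h] at h3
    obtain ⟨a, ha⟩ := h28
    obtain ⟨b, hb⟩ := h3
    rw [ha, hb] at hmul
    have h4 : 196 * (a * b) = 1512 := by
      rw [← hmul]
      ring
    omega

variable (hG : Nat.card G = 1512)
  (hF1 : ∀ N : Subgroup G, N.Normal → N ≠ ⊥ → 28 ∣ Nat.card N)

include hG hF1

theorem card_sylow_set : Nat.card (Sylow 7 G) = 36 := by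
  have : Fact (Nat.Prime 7) := ⟨by norm_num⟩
  obtain ⟨P⟩ : Nonempty (Sylow 7 G) := inferInstance
  have hP := card_sylow7 hG P
  have hidx : (P : Subgroup G).index = 216 := by
    have h1 := Subgroup.card_mul_index (P : Subgroup G)
    rw [hG, hP] at h1
    omega
  have hdvd := Sylow.card_dvd_index P
  rw [hidx] at hdvd
  have hmod := card_sylow_modEq_one 7 G
  have hker : (MulAction.toPermHom G (Sylow 7 G)).ker = ⊥ := by
    by_contra hne
    have h28 := hF1 _ (MonoidHom.normal_ker _) hne
    have h7 : 7 ∣ Nat.card (MulAction.toPermHom G (Sylow 7 G)).ker := Dvd.dvd.trans ⟨4, by norm_num⟩ h28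
    obtain ⟨z, hz⟩ := exists_prime_orderOf_dvd_card' 7 h7
    have hz' : orderOf (z : G) = 7 := by
      rw [Subgroup.orderOf_coe]
      exact hz
    have hQ : IsPGroup 7 (zpowers (z : G)) :=
      IsPGroup.of_card (n := 1) (by rw [Nat.card_zpowers, hz', pow_one])
    obtain ⟨P0, hP0⟩ := hQ.exists_le_sylow
    have hP0c := card_sylow7 hG P0
    have hcl : Subgroup.normalClosure {(z : G)} ≤ (P0 : Subgroup G) := by
      show Subgroup.closure (Group.conjugatesOfSet {(z : G)}) ≤ _
      rw [Subgroup.closure_le]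
      intro c hc
      obtain ⟨a, ha, hac⟩ := Group.mem_conjugatesOfSet_iff.mp hc
      rw [Set.mem_singleton_iff] at ha
      subst ha
      obtain ⟨g, rfl⟩ := isConj_iff.mp hac
      have hck : g * (z : G) * g⁻¹ ∈ (MulAction.toPermHom G (Sylow 7 G)).ker :=
        (MonoidHom.normal_ker _).conj_mem _ z.2 g
      have hfix : (g * (z : G) * g⁻¹) • P0 = P0 := by
        have h1 := MonoidHom.mem_ker.mp hck
        have h2 := congrArg (fun σ : Equiv.Perm (Sylow 7 G) => σ P0) h1
        simpa using h2
      have hnorm : g * (z : G) * g⁻¹ ∈ normalizer ((P0 : Subgroup G) : Set G) :=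
        Sylow.smul_eq_iff_mem_normalizer.mp hfix
      have hord : orderOf (g * (z : G) * g⁻¹) = 7 := by
        rw [← MulAut.conj_apply, MulEquiv.orderOf_eq, hz']
      have hc7 : IsPGroup 7 (zpowers (g * (z : G) * g⁻¹)) :=
        IsPGroup.of_card (n := 1) (by rw [Nat.card_zpowers, hord, pow_one])
      have hsup : IsPGroup 7 ↥(zpowers (g * (z : G) * g⁻¹) ⊔ (P0 : Subgroup G)) :=
        IsPGroup.to_sup_of_normal_right' hc7 P0.2 (zpowers_le.mpr hnorm)
      have h3 := P0.is_maximal' hsup le_sup_right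
      have h4 : zpowers (g * (z : G) * g⁻¹) ≤ (P0 : Subgroup G) := by
        rw [← h3]
        exact le_sup_left
      exact h4 (mem_zpowers _)
    have hne2 : Subgroup.normalClosure {(z : G)} ≠ ⊥ := by
      intro h
      have h5 : (z : G) ∈ Subgroup.normalClosure {(z : G)} := Subgroup.subset_normalClosure rfl
      rw [h, Subgroup.mem_bot] at h5
      rw [h5, orderOf_one] at hz'
      norm_num at hz'
    have h28' := hF1 _ Subgroup.normalClosure_normal hne2
    have h9 := Subgroup.card_dvd_of_le hcl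
    rw [hP0c] at h9
    have h10 : (28 : ℕ) ∣ 7 := h28'.trans h9
    omega
  have hinj : Function.Injective (MulAction.toPermHom G (Sylow 7 G)) :=
    (MonoidHom.ker_eq_bot_iff _).mp hker
  have hfac := Subgroup.card_dvd_of_injective _ hinj
  rw [hG, Nat.card_perm] at hfac
  generalize Nat.card (Sylow 7 G) = n at *
  have hn : n ∈ Nat.divisors 216 := Nat.mem_divisors.mpr ⟨hdvd, by norm_num⟩
  have hd : Nat.divisors 216 = {1, 2, 3, 4, 6, 8, 9, 12, 18, 24, 27, 36, 54, 72, 108, 216} := by
    decide
  rw [hd] at hn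
  simp only [Finset.mem_insert, Finset.mem_singleton] at hn
  rcases hn with rfl | rfl | rfl | rfl | rfl | rfl | rfl | rfl | rfl | rfl | rfl | rfl | rfl | rfl |
    rfl | rfl
  all_goals first | rfl | (exfalso; revert hmod; decide) | (exfalso; revert hfac; decide)

theorem normal_cases (N : Subgroup G) [N.Normal] (hN : N ≠ ⊥) :
    Nat.card N = 252 ∨ Nat.card N = 504 ∨ Nat.card N = 756 ∨ Nat.card N = 1512 := by
  have : Fact (Nat.Prime 7) := ⟨by norm_num⟩
  have h28 := hF1 N inferInstance hN
  have hmul := Subgroup.card_mul_index N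
  rw [hG] at hmul
  obtain ⟨P⟩ : Nonempty (Sylow 7 G) := inferInstance
  have hPN := sylow7_le hG N h28 P
  have hfr := Sylow.normalizer_sup_eq_top' P hPN
  have h1 := Subgroup.relIndex_sup_right (normalizer (P : Set G)) N
  rw [hfr, Subgroup.relIndex_top_right] at h1
  have h2 : N.index ∣ Nat.card (normalizer (P : Set G)) :=
    h1 ▸ Subgroup.relIndex_dvd_card N _
  have h3 : Nat.card (normalizer (P : Set G)) = 42 := by
    have h4 := Subgroup.card_mul_index (normalizer (P : Set G))
    rw [← Sylow.card_eq_index_normalizer P, card_sylow_set hG hF1, hG] at h4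
    omega
  rw [h3] at h2
  obtain ⟨a, ha⟩ := h28
  have hidx : N.index ∈ Nat.divisors 42 := Nat.mem_divisors.mpr ⟨h2, by norm_num⟩
  have hd : Nat.divisors 42 = {1, 2, 3, 6, 7, 14, 21, 42} := by decide
  rw [hd] at hidx
  simp only [Finset.mem_insert, Finset.mem_singleton] at hidx
  rcases hidx with h | h | h | h | h | h | h | h <;> rw [h] at hmul <;> omega

theorem no_normal_252 (N : Subgroup G) [hNn : N.Normal] (h : Nat.card N = 252) : False := by
  have : Fact (Nat.Prime 7) := ⟨by norm_num⟩
  obtain ⟨P⟩ : Nonempty (Sylow 7 G) := inferInstance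
  have hP := card_sylow7 hG P
  have hPN := sylow7_le hG N ⟨9, by rw [h]⟩ P
  have hfr := Sylow.normalizer_sup_eq_top' P hPN
  have hNPc : Nat.card (normalizer (P : Set G)) = 42 := by
    have h4 := Subgroup.card_mul_index (normalizer (P : Set G))
    rw [← Sylow.card_eq_index_normalizer P, card_sylow_set hG hF1, hG] at h4
    omega
  have hrel : N.relIndex (normalizer (P : Set G)) = 6 := by
    have h1 := Subgroup.relIndex_sup_right (normalizer (P : Set G)) N
    rw [hfr, Subgroup.relIndex_top_right] at h1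
    rw [← h1]
    have hmul := Subgroup.card_mul_index N
    rw [hG, h] at hmul
    omega
  have hinf : Nat.card ↥(N ⊓ normalizer (P : Set G)) = 7 := by
    have h1 := card_eq_card_mul_relIndex
      (inf_le_right : N ⊓ normalizer (P : Set G) ≤ normalizer (P : Set G))
    rw [Subgroup.inf_relIndex_right, hrel, hNPc] at h1
    omega
  have hinfP : (P : Subgroup G) = N ⊓ normalizer (P : Set G) :=
    Subgroup.eq_of_le_of_card_ge (le_inf hPN le_normalizer) (by rw [hinf, hP])
  let P' : Sylow 7 N := P.subtype hPN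
  have hP'mem : ∀ a : N, a ∈ (P' : Subgroup N) ↔ (a : G) ∈ (P : Subgroup G) := fun a => Iff.rfl
  have hP'c : Nat.card (P' : Subgroup N) = 7 := by
    have e : (P' : Subgroup N) = (P : Subgroup G).subgroupOf N := rfl
    rw [e, Nat.card_congr (Subgroup.subgroupOfEquivOfLe hPN).toEquiv, hP]
  have hnormP' : normalizer ((P' : Subgroup N) : Set N) ≤ (P' : Subgroup N) := by
    intro a ha
    rw [hP'mem, hinfP]
    refine ⟨a.2, ?_⟩
    rw [Subgroup.mem_normalizer_iff] at ha
    show (a : G) ∈ normalizer ((P : Subgroup G) : Set G)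
    rw [Subgroup.mem_normalizer_iff]
    intro w
    constructor
    · intro hw
      have h1 := (ha ⟨w, hPN hw⟩).mp ((hP'mem _).mpr hw)
      exact (hP'mem _).mp h1
    · intro hw
      have hwN : w ∈ N := by
        have h1 : (a : G) * w * (a : G)⁻¹ ∈ N := hPN hw
        have e : w = (a : G)⁻¹ * ((a : G) * w * (a : G)⁻¹) * (a : G) := by group
        rw [e]
        exact mul_mem (mul_mem (inv_mem a.2) h1) a.2
      have h1 := (ha ⟨w, hwN⟩).mpr ((hP'mem _).mpr hw)
      exact (hP'mem _).mp h1
  have hcomm : ∀ a b : N, a ∈ (P' : Subgroup N) → b ∈ (P' : Subgroup N) → a * b = b * a := by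
    haveI : IsCyclic ↥(P' : Subgroup N) := isCyclic_of_prime_card hP'c
    intro a b ha hb
    obtain ⟨g, hg⟩ := IsCyclic.exists_generator (α := ↥(P' : Subgroup N))
    obtain ⟨i, hi⟩ := Subgroup.mem_zpowers_iff.mp (hg ⟨a, ha⟩)
    obtain ⟨j, hj⟩ := Subgroup.mem_zpowers_iff.mp (hg ⟨b, hb⟩)
    have e1 : a = (g : N) ^ i := by
      have := congrArg Subtype.val hi
      simpa using this.symm
    have e2 : b = (g : N) ^ j := by
      have := congrArg Subtype.val hj
      simpa using this.symm
    rw [e1, e2, ← zpow_add, ← zpow_add, add_comm]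
  have hPc : normalizer ((P' : Subgroup N) : Set N) ≤ centralizer ((P' : Subgroup N) : Set N) := by
    intro a ha
    rw [Subgroup.mem_centralizer_iff]
    intro b hb
    exact hcomm b a hb (hnormP' ha)
  have hc := MonoidHom.ker_transferSylow_isComplement' P' hPc
  have hQc : Nat.card (MonoidHom.transferSylow P' hPc).ker = 36 := by
    have h1 := hc.card_mul_card
    rw [hP'c, h] at h1
    omega
  have hQidx : (MonoidHom.transferSylow P' hPc).ker.index = 7 := by
    have h1 := Subgroup.card_mul_index (MonoidHom.transferSylow P' hPc).ker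
    rw [hQc, h] at h1
    omega
  have hmem : ∀ x : G, x ∈ (MonoidHom.transferSylow P' hPc).ker.map N.subtype ↔ x ∈ N ∧ x ^ 36 = 1 := by
    intro x
    constructor
    · rintro ⟨q, hq, rfl⟩
      refine ⟨q.2, ?_⟩
      have h0 := pow_card_eq_one' (G := (MonoidHom.transferSylow P' hPc).ker) (x := ⟨q, hq⟩)
      rw [hQc] at h0
      have h2 : q ^ 36 = 1 := congrArg Subtype.val h0
      exact congrArg Subtype.val h2
    · rintro ⟨hxN, hx36⟩
      refine ⟨⟨x, hxN⟩, ?_, rfl⟩
      show (⟨x, hxN⟩ : N) ∈ (MonoidHom.transferSylow P' hPc).ker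
      rw [← QuotientGroup.eq_one_iff (N := (MonoidHom.transferSylow P' hPc).ker)]
      have h0 : (⟨x, hxN⟩ : N) ^ 36 = 1 := Subtype.ext hx36
      have h1 : ((⟨x, hxN⟩ : N) : N ⧸ (MonoidHom.transferSylow P' hPc).ker) ^ 36 = 1 := by
        rw [← QuotientGroup.mk_pow, h0]
        rfl
      have h2 := orderOf_dvd_of_pow_eq_one h1
      have h3 : orderOf (((⟨x, hxN⟩ : N) : N ⧸ (MonoidHom.transferSylow P' hPc).ker)) ∣
          (MonoidHom.transferSylow P' hPc).ker.index := by
        rw [Subgroup.index_eq_card]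
        exact orderOf_dvd_natCard _
      rw [hQidx] at h3
      have h4 := Nat.dvd_gcd h2 h3
      have h5 : Nat.gcd 36 7 = 1 := by norm_num
      rw [h5] at h4
      exact orderOf_eq_one_iff.mp (Nat.dvd_one.mp h4)
  have hQn : ((MonoidHom.transferSylow P' hPc).ker.map N.subtype).Normal := by
    refine ⟨fun x hx g => ?_⟩
    rw [hmem] at hx ⊢
    refine ⟨hNn.conj_mem x hx.1 g, ?_⟩
    rw [conj_pow, hx.2, mul_one, mul_inv_cancel]
  have hQ0 : (MonoidHom.transferSylow P' hPc).ker.map N.subtype ≠ ⊥ := by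
    intro h0
    have h1 : Nat.card ↥((MonoidHom.transferSylow P' hPc).ker.map N.subtype) = 36 := by
      rw [Subgroup.card_map_of_injective N.subtype_injective, hQc]
    rw [h0, Subgroup.card_bot] at h1
    omega
  have h28 := hF1 _ hQn hQ0
  rw [Subgroup.card_map_of_injective N.subtype_injective, hQc] at h28
  omega

end Main

section Final

variable {G : Type*} [Group G] [Finite G]

/-- The abstract form of `²G₂(3)' ≅ PSL₂(8)`: the commutator subgroup is simple of order `504`. -/
theorem main (B U : Subgroup G) (n : G)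
    (hG : Nat.card G = 1512) (hB : Nat.card B = 54) (hU : Nat.card U = 27) (hUB : U ≤ B)
    (hnorm : ∀ b ∈ B, ∀ x ∈ U, b * x * b⁻¹ ∈ U)
    (hTI : ∀ g, g ∉ B → ∀ x ∈ U, g * x * g⁻¹ ∈ U → x = 1)
    (hcore : B.normalCore = ⊥)
    (hdc : ∀ g, g ∉ B → ∃ b ∈ B, ∃ u ∈ U, g = b * n * u)
    (φ : B →* Multiplicative (ZMod 3)) (hφ : ∃ x : B, (x : G) ∈ U ∧ φ x ≠ 1) :
    Nat.card (commutator G) = 504 ∧ IsSimpleGroup (commutator G) := by
  have hmax := max_of_dc B U n hUB hdc
  have hidx : B.index = 28 := by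
    have h1 := Subgroup.card_mul_index B
    rw [hG, hB] at h1
    omega
  have hF1 : ∀ N : Subgroup G, N.Normal → N ≠ ⊥ → 28 ∣ Nat.card N := by
    intro N hN hN0
    have := hN
    rw [← hidx]
    exact index_dvd_card_normal B hmax hcore N hN0
  have hU27 : ∀ x ∈ U, x ^ 27 = 1 := by
    intro x hx
    have h0 := pow_card_eq_one' (G := U) (x := ⟨x, hx⟩)
    rw [hU] at h0
    exact congrArg Subtype.val h0
  have hU3 : ∀ b ∈ B, b ^ 27 = 1 → b ∈ U := by
    intro b hb hb27
    have hUn : (U.subgroupOf B).Normal := by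
      refine ⟨fun x hx g => ?_⟩
      rw [Subgroup.mem_subgroupOf] at hx ⊢
      exact hnorm g g.2 x hx
    have hi : (U.subgroupOf B).index = 2 := by
      have h1 := Subgroup.card_mul_index (U.subgroupOf B)
      rw [Nat.card_congr (Subgroup.subgroupOfEquivOfLe hUB).toEquiv, hU, hB] at h1
      omega
    have hmem : (⟨b, hb⟩ : B) ∈ U.subgroupOf B := by
      rw [← QuotientGroup.eq_one_iff (N := U.subgroupOf B)]
      have h0 : (⟨b, hb⟩ : B) ^ 27 = 1 := Subtype.ext hb27
      have h1 : ((⟨b, hb⟩ : B) : B ⧸ U.subgroupOf B) ^ 27 = 1 := by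
        rw [← QuotientGroup.mk_pow, h0]
        rfl
      have h2 := orderOf_dvd_of_pow_eq_one h1
      have h3 : orderOf ((⟨b, hb⟩ : B) : B ⧸ U.subgroupOf B) ∣ (U.subgroupOf B).index := by
        rw [Subgroup.index_eq_card]
        exact orderOf_dvd_natCard _
      rw [hi] at h3
      have h4 := Nat.dvd_gcd h2 h3
      have h5 : Nat.gcd 27 2 = 1 := by norm_num
      rw [h5] at h4
      exact orderOf_eq_one_iff.mp (Nat.dvd_one.mp h4)
    exact Subgroup.mem_subgroupOf.mp hmem
  obtain ⟨x, hxU, hxφ⟩ := hφ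
  have hV : MonoidHom.transfer φ (x : G) ≠ 1 := by
    rw [transfer_eq B U hU3 hU27 hTI φ x hxU]
    exact hxφ
  have hker := card_ker_zmod3 (MonoidHom.transfer φ) (x : G) hV
  rw [hG] at hker
  have hKle : commutator G ≤ (MonoidHom.transfer φ).ker := Abelianization.commutator_subset_ker _
  have hKdvd : Nat.card (commutator G) ∣ 504 := by
    have h1 := Subgroup.card_dvd_of_le hKle
    have h504 : Nat.card (MonoidHom.transfer φ).ker = 504 := by omega
    rwa [h504] at h1
  have hKne : commutator G ≠ ⊥ := by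
    intro h0
    have hcomm : ∀ a b : G, a * b = b * a := by
      intro a b
      have h1 : ⁅a, b⁆ ∈ commutator G :=
        Subgroup.commutator_mem_commutator (Subgroup.mem_top a) (Subgroup.mem_top b)
      rw [h0, Subgroup.mem_bot] at h1
      exact commutatorElement_eq_one_iff_mul_comm.mp h1
    have hBn : B.Normal := ⟨fun x hx g => by rw [hcomm g x, mul_inv_cancel_right]; exact hx⟩
    have h2 := (Subgroup.normal_le_normalCore (H := B) (N := B)).mpr le_rfl
    rw [hcore] at h2
    have hB1 : B = ⊥ := le_bot_iff.mp h2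
    rw [hB1, Subgroup.card_bot] at hB
    omega
  have hK504 : Nat.card (commutator G) = 504 := by
    rcases normal_cases hG hF1 (commutator G) hKne with h | h | h | h
    · exact (no_normal_252 hG hF1 (commutator G) h).elim
    · exact h
    · rw [h] at hKdvd
      omega
    · rw [h] at hKdvd
      omega
  refine ⟨hK504, ?_⟩
  have : Fact (Nat.Prime 7) := ⟨by norm_num⟩
  apply simple_of_min_normal (commutator G) 7 _ hKne
  · rw [hK504]
    norm_num
  · rw [hK504]
    norm_num
  · intro M hM hMK
    by_cases hM0 : M = ⊥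
    · left
      exact hM0
    right
    have := hM
    have hd := Subgroup.card_dvd_of_le hMK
    rw [hK504] at hd
    rcases normal_cases hG hF1 M hM0 with h | h | h | h
    · exact (no_normal_252 hG hF1 M h).elim
    · exact Subgroup.eq_of_le_of_card_ge hMK (by rw [h, hK504])
    · rw [h] at hd
      omega
    · rw [h] at hd
      omega

end Final

end Cfsg.Agent.Lib.helper7.Ree3Abs
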