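import Cfsg.Agent.Lib.helper23.ChevReeSimple
import Cfsg.Agent.Lib.helper23.ChevReeSyl
import Cfsg.Agent.Lib.helper23.ChevReeO
import Cfsg.Agent.Lib.helper7.Ree3Abs

set_option autoImplicit false
set_option maxRecDepth 100000

/-! # `²G₂(3)`: the derived subgroup is simple of order `504`

Model-specific input for `Ree3Abs.main`: the homomorphism `B¹ → Z₃` read off the matrix entries
two steps above the diagonal. -/

namespace Cfsg.Agent.Lib.helper7.Ree3Model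

open Cfsg Cfsg.Lie Cfsg.Agent.Lib.helper41 Cfsg.Agent.Lib.helper22 Cfsg.Agent.Lib.helper23

theorem chainStep2_G2 : ∀ r : Fin 12, 6 ≤ r.val →
    chevG2.chainCoeff r.val 0 2 = (if r.val = 8 then [(1, -1)] else []) := by decide +kernel

section Step2

variable {K : Type*} [Field K]

/-- The entry two steps above the lowest root in a product of elements of `U`. -/
theorem step2_mul {g g' : GL chevG2.Idx K} (hg : g ∈ chevG2.posUnipotent K)
    (hg' : g' ∈ chevG2.posUnipotent K) :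
    ((g * g' : GL chevG2.Idx K) : Matrix chevG2.Idx chevG2.Idx K)
        (Sum.inr ⟨2, by decide⟩) (Sum.inr ⟨0, by decide⟩) =
      (g : Matrix chevG2.Idx chevG2.Idx K) (Sum.inr ⟨2, by decide⟩) (Sum.inr ⟨0, by decide⟩) +
      (g' : Matrix chevG2.Idx chevG2.Idx K) (Sum.inr ⟨2, by decide⟩) (Sum.inr ⟨0, by decide⟩) +
      (g : Matrix chevG2.Idx chevG2.Idx K) (Sum.inr ⟨2, by decide⟩) (Sum.inr ⟨1, by decide⟩) *
      (g' : Matrix chevG2.Idx chevG2.Idx K) (Sum.inr ⟨1, by decide⟩) (Sum.inr ⟨0, by decide⟩) := by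
  rw [Units.val_mul, Matrix.mul_apply]
  have r2 : rho chevG2 (Sum.inr ⟨2, by decide⟩) = 2 := by decide
  have r0 : rho chevG2 (Sum.inr ⟨0, by decide⟩) = 0 := by decide
  have n20 : (Sum.inr ⟨2, by decide⟩ : chevG2.Idx) ≠ Sum.inr ⟨0, by decide⟩ := by decide
  have n10 : (Sum.inr ⟨1, by decide⟩ : chevG2.Idx) ≠ Sum.inr ⟨0, by decide⟩ := by decide
  have n12 : (Sum.inr ⟨1, by decide⟩ : chevG2.Idx) ≠ Sum.inr ⟨2, by decide⟩ := by decide
  have key : ∀ k : chevG2.Idx,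
      (g : Matrix chevG2.Idx chevG2.Idx K) (Sum.inr ⟨2, by decide⟩) k *
        (g' : Matrix chevG2.Idx chevG2.Idx K) k (Sum.inr ⟨0, by decide⟩) =
      (if k = Sum.inr ⟨0, by decide⟩ then
        (g : Matrix chevG2.Idx chevG2.Idx K) (Sum.inr ⟨2, by decide⟩) (Sum.inr ⟨0, by decide⟩) else 0) +
      (if k = Sum.inr ⟨2, by decide⟩ then
        (g' : Matrix chevG2.Idx chevG2.Idx K) (Sum.inr ⟨2, by decide⟩) (Sum.inr ⟨0, by decide⟩) else 0) +
      (if k = Sum.inr ⟨1, by decide⟩ then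
        (g : Matrix chevG2.Idx chevG2.Idx K) (Sum.inr ⟨2, by decide⟩) (Sum.inr ⟨1, by decide⟩) *
        (g' : Matrix chevG2.Idx chevG2.Idx K) (Sum.inr ⟨1, by decide⟩) (Sum.inr ⟨0, by decide⟩) else 0) := by
    intro k
    by_cases h0 : k = Sum.inr ⟨0, by decide⟩
    · rw [h0, if_pos rfl, if_neg n20.symm, if_neg n10.symm, uni_diag hg', mul_one, add_zero, add_zero]
    · by_cases h2 : k = Sum.inr ⟨2, by decide⟩
      · rw [h2, if_neg n20, if_pos rfl, if_neg n12.symm, uni_diag hg, one_mul, zero_add, add_zero]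
      · by_cases h1 : k = Sum.inr ⟨1, by decide⟩
        · rw [h1, if_neg n10, if_neg n12, if_pos rfl, zero_add, zero_add]
        · rw [if_neg h0, if_neg h2, if_neg h1, add_zero, add_zero]
          by_contra hne
          obtain ⟨ha, hb⟩ := mul_ne_zero_iff.mp hne
          have h3 := uni_off hg (Ne.symm h2) ha
          have h4 := uni_off hg' h0 hb
          exact h1 (rho_eq_one_G2 k (by omega))
  rw [Finset.sum_congr rfl fun k _ => key k, Finset.sum_add_distrib, Finset.sum_add_distrib,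
    Finset.sum_ite_eq', Finset.sum_ite_eq', Finset.sum_ite_eq', if_pos (Finset.mem_univ _),
    if_pos (Finset.mem_univ _), if_pos (Finset.mem_univ _)]

/-- The entry of a positive root element two steps above the lowest root. -/
theorem step2_x {r : ℕ} (hr6 : 6 ≤ r) (hr : r < 12) (c : K) {g : GL chevG2.Idx K}
    (hg : (g : Matrix chevG2.Idx chevG2.Idx K) = chevG2.x K r c) :
    (g : Matrix chevG2.Idx chevG2.Idx K) (Sum.inr ⟨2, by decide⟩) (Sum.inr ⟨0, by decide⟩) =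
      (if r = 8 then -c else 0) := by
  have h1 := chainStep2_G2 ⟨r, hr⟩ hr6
  have hn := negStep_G2 ⟨r, hr⟩
  simp only at h1 hn
  rw [hg, x_eq chevG2 K ⟨r, hr⟩, xMat_inr_inr]
  simp only [h1, hn, Fin.mk.injEq]
  interval_cases r <;> simp [Fin.ext_iff]

/-- The invariant of `U` giving the homomorphism onto `Z₃`. -/
def psi0 (g : GL chevG2.Idx K) : K :=
  (g : Matrix chevG2.Idx chevG2.Idx K) (Sum.inr ⟨2, by decide⟩) (Sum.inr ⟨0, by decide⟩) +
    (g : Matrix chevG2.Idx chevG2.Idx K) (Sum.inr ⟨1, by decide⟩) (Sum.inr ⟨0, by decide⟩) ^ 2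

/-- The same invariant for elements of `B = U H`. -/
noncomputable def psi (g : GL chevG2.Idx K) : K :=
  (g : Matrix chevG2.Idx chevG2.Idx K) (Sum.inr ⟨2, by decide⟩) (Sum.inr ⟨0, by decide⟩) /
      (g : Matrix chevG2.Idx chevG2.Idx K) (Sum.inr ⟨0, by decide⟩) (Sum.inr ⟨0, by decide⟩) +
    ((g : Matrix chevG2.Idx chevG2.Idx K) (Sum.inr ⟨1, by decide⟩) (Sum.inr ⟨0, by decide⟩) /
      (g : Matrix chevG2.Idx chevG2.Idx K) (Sum.inr ⟨0, by decide⟩) (Sum.inr ⟨0, by decide⟩)) ^ 2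

theorem psi_uh {u h : GL chevG2.Idx K} (hu : u ∈ chevG2.posUnipotent K)
    (hh : h ∈ chevG2.diagonalSubgroup K) : psi (u * h) = psi0 u := by
  have I := bnInput_G2 K
  obtain ⟨c, hc, hv⟩ := diagonalSubgroup_le_torus I.hSD' hh
  have hent : ∀ i j : chevG2.Idx, ((u * h : GL chevG2.Idx K) : Matrix chevG2.Idx chevG2.Idx K) i j =
      (u : Matrix chevG2.Idx chevG2.Idx K) i j * torusMat chevG2 K c j j := by
    intro i j
    rw [Units.val_mul, hv]
    unfold torusMat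
    rw [Matrix.mul_diagonal, Matrix.diagonal_apply_eq]
  have hne : torusMat chevG2 K c (Sum.inr ⟨0, by decide⟩) (Sum.inr ⟨0, by decide⟩) ≠ 0 := by
    rw [torusMat_entry]
    exact torusChar_ne_zero chevG2 K c hc _
  unfold psi psi0
  rw [hent, hent, hent, uni_diag hu, one_mul]
  field_simp

end Step2

section Ree

variable {K : Type*} [Field K] (R : ReeData K 1)

include R

/-- For `θ = id` the two entries one step above the lowest roots of an element of `U¹` agree. -/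
theorem ree_entries {x : GL chevG2.Idx K} (hx : x ∈ chevG2.posUnipotent K ⊓ twistedG2 K 1) :
    (x : Matrix chevG2.Idx chevG2.Idx K) (Sum.inr ⟨2, by decide⟩) (Sum.inr ⟨1, by decide⟩) =
      (x : Matrix chevG2.Idx chevG2.Idx K) (Sum.inr ⟨1, by decide⟩) (Sum.inr ⟨0, by decide⟩) := by
  obtain ⟨t, u, v, hxv⟩ := (R.pos_inf_twisted x).mp hx
  obtain ⟨s1, s2, s3⟩ := step_word6 _ _ _ _ _ _ hxv
  rw [s1, s2, pow_one]

theorem psi0_mul {x y : GL chevG2.Idx K} (hx : x ∈ chevG2.posUnipotent K ⊓ twistedG2 K 1)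
    (hy : y ∈ chevG2.posUnipotent K ⊓ twistedG2 K 1) : psi0 (x * y) = psi0 x + psi0 y := by
  haveI := R.char3
  have r10 : rho chevG2 (Sum.inr ⟨1, by decide⟩) = rho chevG2 (Sum.inr ⟨0, by decide⟩) + 1 := by decide
  have hx1 := (Subgroup.mem_inf.mp hx).1
  have hy1 := (Subgroup.mem_inf.mp hy).1
  unfold psi0
  rw [step2_mul hx1 hy1, step_mul hx1 hy1 r10, ree_entries R hx]
  linear_combination ((x : Matrix chevG2.Idx chevG2.Idx K) (Sum.inr ⟨1, by decide⟩) (Sum.inr ⟨0, by decide⟩) *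
    (y : Matrix chevG2.Idx chevG2.Idx K) (Sum.inr ⟨1, by decide⟩) (Sum.inr ⟨0, by decide⟩)) *
    (three_eq_zero : (3 : K) = 0)

theorem psi0_conj (hK : ∀ μ : K, μ ≠ 0 → μ * μ = 1) {h x : GL chevG2.Idx K}
    (hh : h ∈ chevG2.diagonalSubgroup K ⊓ twistedG2 K 1)
    (hx : x ∈ chevG2.posUnipotent K ⊓ twistedG2 K 1) : psi0 (h * x * h⁻¹) = psi0 x := by
  have I := bnInput_G2 K
  obtain ⟨c, hc, hv⟩ := diagonalSubgroup_le_torus I.hSD' (Subgroup.mem_inf.mp hh).1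
  have hc0 := R.fix_c0 (R.twisted_le_fix (Subgroup.mem_inf.mp hh).2) c hc hv
  rw [pow_one] at hc0
  have hμ := hK _ (hc ⟨1, by decide⟩)
  have hμ0 := hc ⟨1, by decide⟩
  have hmul : ((h * x * h⁻¹ : GL chevG2.Idx K) : Matrix chevG2.Idx chevG2.Idx K) *
      (h : Matrix chevG2.Idx chevG2.Idx K) =
      (h : Matrix chevG2.Idx chevG2.Idx K) * (x : Matrix chevG2.Idx chevG2.Idx K) := by
    rw [← Units.val_mul, ← Units.val_mul]
    congr 1
    group
  have hent : ∀ i j : chevG2.Idx,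
      ((h * x * h⁻¹ : GL chevG2.Idx K) : Matrix chevG2.Idx chevG2.Idx K) i j * torusMat chevG2 K c j j =
      torusMat chevG2 K c i i * (x : Matrix chevG2.Idx chevG2.Idx K) i j := by
    intro i j
    have h1 := congrFun (congrFun hmul i) j
    rw [hv] at h1
    unfold torusMat at h1 ⊢
    rw [Matrix.mul_diagonal, Matrix.diagonal_mul] at h1
    rw [Matrix.diagonal_apply_eq, Matrix.diagonal_apply_eq]
    exact h1
  have e0 : torusMat chevG2 K c (Sum.inr ⟨0, by decide⟩) (Sum.inr ⟨0, by decide⟩) =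
      (c ⟨1, by decide⟩)⁻¹ := by
    rw [torusMat_entry, torusChar_two]
    have h0 : cartanZ chevG2 0 0 = 0 := by decide
    have h1 : cartanZ chevG2 1 0 = -1 := by decide
    show c ⟨0, by decide⟩ ^ cartanZ chevG2 0 0 * c ⟨1, by decide⟩ ^ cartanZ chevG2 1 0 = _
    rw [h0, h1, zpow_zero, one_mul, zpow_neg_one]
  have e1 : torusMat chevG2 K c (Sum.inr ⟨1, by decide⟩) (Sum.inr ⟨1, by decide⟩) = 1 := by
    rw [torusMat_entry, torusChar_two]
    have h0 : cartanZ chevG2 0 1 = -3 := by decide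
    have h1 : cartanZ chevG2 1 1 = 1 := by decide
    show c ⟨0, by decide⟩ ^ cartanZ chevG2 0 1 * c ⟨1, by decide⟩ ^ cartanZ chevG2 1 1 = _
    rw [h0, h1, hc0, zpow_one, zpow_neg, zpow_ofNat]
    have h3 : c ⟨1, by decide⟩ ^ 3 = c ⟨1, by decide⟩ := by
      linear_combination (c ⟨1, by decide⟩) * hμ
    rw [h3, inv_mul_cancel₀ hμ0]
  have hy20 : ((h * x * h⁻¹ : GL chevG2.Idx K) : Matrix chevG2.Idx chevG2.Idx K)
      (Sum.inr ⟨2, by decide⟩) (Sum.inr ⟨0, by decide⟩) =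
      (x : Matrix chevG2.Idx chevG2.Idx K) (Sum.inr ⟨2, by decide⟩) (Sum.inr ⟨0, by decide⟩) := by
    have e2 : torusMat chevG2 K c (Sum.inr ⟨2, by decide⟩) (Sum.inr ⟨2, by decide⟩) =
        (c ⟨1, by decide⟩)⁻¹ := by
      rw [torusMat_entry, torusChar_two]
      have h0 : cartanZ chevG2 0 2 = -1 := by decide
      have h1 : cartanZ chevG2 1 2 = 0 := by decide
      show c ⟨0, by decide⟩ ^ cartanZ chevG2 0 2 * c ⟨1, by decide⟩ ^ cartanZ chevG2 1 2 = _
      rw [h0, h1, hc0, zpow_zero, mul_one, zpow_neg_one]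
    have h1 := hent (Sum.inr ⟨2, by decide⟩) (Sum.inr ⟨0, by decide⟩)
    rw [e0, e2, mul_comm] at h1
    exact mul_left_cancel₀ (inv_ne_zero hμ0) h1
  have hy10 : ((h * x * h⁻¹ : GL chevG2.Idx K) : Matrix chevG2.Idx chevG2.Idx K)
      (Sum.inr ⟨1, by decide⟩) (Sum.inr ⟨0, by decide⟩) =
      (x : Matrix chevG2.Idx chevG2.Idx K) (Sum.inr ⟨1, by decide⟩) (Sum.inr ⟨0, by decide⟩) *
        c ⟨1, by decide⟩ := by
    have h1 := hent (Sum.inr ⟨1, by decide⟩) (Sum.inr ⟨0, by decide⟩)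
    rw [e0, e1, one_mul] at h1
    exact (mul_inv_eq_iff_eq_mul₀ hμ0).mp h1
  unfold psi0
  rw [hy20, hy10]
  linear_combination ((x : Matrix chevG2.Idx chevG2.Idx K) (Sum.inr ⟨1, by decide⟩)
    (Sum.inr ⟨0, by decide⟩)) ^ 2 * hμ

end Ree

section Three

/-- The homomorphism `B¹ → Z₃` for `²G₂(3)`, nontrivial on `U¹`. -/
theorem exists_phi (R : ReeData (ZMod 3) 1) :
    ∃ φ : ↥((chevG2.borelSubgroup (ZMod 3) ⊓ twistedG2 (ZMod 3) 1).subgroupOf (twistedG2 (ZMod 3) 1)) →*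
        Multiplicative (ZMod 3),
      ∃ x : ↥((chevG2.borelSubgroup (ZMod 3) ⊓ twistedG2 (ZMod 3) 1).subgroupOf (twistedG2 (ZMod 3) 1)),
        (x : ↥(twistedG2 (ZMod 3) 1)) ∈
          (chevG2.posUnipotent (ZMod 3) ⊓ twistedG2 (ZMod 3) 1).subgroupOf (twistedG2 (ZMod 3) 1) ∧
        φ x ≠ 1 := by
  have hK : ∀ μ : ZMod 3, μ ≠ 0 → μ * μ = 1 := by decide
  have hadd : ∀ b b' : GL chevG2.Idx (ZMod 3),
      b ∈ chevG2.borelSubgroup (ZMod 3) ⊓ twistedG2 (ZMod 3) 1 →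
      b' ∈ chevG2.borelSubgroup (ZMod 3) ⊓ twistedG2 (ZMod 3) 1 → psi (b * b') = psi b + psi b' := by
    intro b b' hb hb'
    obtain ⟨u, hu, h, hh, rfl⟩ := R.borel_twisted (Subgroup.mem_inf.mp hb).1 (Subgroup.mem_inf.mp hb).2
    obtain ⟨u', hu', h', hh', rfl⟩ :=
      R.borel_twisted (Subgroup.mem_inf.mp hb').1 (Subgroup.mem_inf.mp hb').2
    obtain ⟨hu1, hu2⟩ := Subgroup.mem_inf.mp hu
    obtain ⟨hu'1, hu'2⟩ := Subgroup.mem_inf.mp hu'
    obtain ⟨hh1, hh2⟩ := Subgroup.mem_inf.mp hh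
    obtain ⟨hh'1, hh'2⟩ := Subgroup.mem_inf.mp hh'
    have hy1 : h * u' * h⁻¹ ∈ chevG2.posUnipotent (ZMod 3) :=
      (Subgroup.mem_normalizer_iff.mp
        (borel_normalizes_pos (ZMod 3) (Subgroup.mem_sup_right hh1)) _).mp hu'1
    have hy : h * u' * h⁻¹ ∈ chevG2.posUnipotent (ZMod 3) ⊓ twistedG2 (ZMod 3) 1 :=
      Subgroup.mem_inf.mpr ⟨hy1, mul_mem (mul_mem hh2 hu'2) (inv_mem hh2)⟩
    have e3 : u * h * (u' * h') = (u * (h * u' * h⁻¹)) * (h * h') := by group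
    rw [e3, psi_uh (mul_mem hu1 hy1) (mul_mem hh1 hh'1), psi_uh hu1 hh1, psi_uh hu'1 hh'1,
      psi0_mul R hu hy, psi0_conj R hK hh hu']
  refine ⟨{ toFun := fun b => Multiplicative.ofAdd
              (psi ((b : ↥(twistedG2 (ZMod 3) 1)) : GL chevG2.Idx (ZMod 3)))
            map_one' := ?_
            map_mul' := ?_ }, ?_⟩
  · show Multiplicative.ofAdd (psi (1 : GL chevG2.Idx (ZMod 3))) = 1
    have h0 : psi (1 : GL chevG2.Idx (ZMod 3)) = 0 := by
      unfold psi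
      rw [Units.val_one]
      simp [Matrix.one_apply]
    rw [h0]
    rfl
  · intro b b'
    show Multiplicative.ofAdd (psi (((b : ↥(twistedG2 (ZMod 3) 1)) : GL chevG2.Idx (ZMod 3)) *
      ((b' : ↥(twistedG2 (ZMod 3) 1)) : GL chevG2.Idx (ZMod 3)))) = _
    rw [hadd _ _ (Subgroup.mem_subgroupOf.mp b.2) (Subgroup.mem_subgroupOf.mp b'.2)]
    rfl
  · obtain ⟨g, hg⟩ := exists_word (reeWordU 1 (0 : ZMod 3) 1 0)
    have hmem : g ∈ chevG2.posUnipotent (ZMod 3) ⊓ twistedG2 (ZMod 3) 1 :=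
      (R.pos_inf_twisted g).mpr ⟨_, _, _, hg⟩
    obtain ⟨hm1, hm2⟩ := Subgroup.mem_inf.mp hmem
    refine ⟨⟨⟨g, hm2⟩, Subgroup.mem_subgroupOf.mpr
      (Subgroup.mem_inf.mpr ⟨Subgroup.mem_sup_left hm1, hm2⟩)⟩,
      Subgroup.mem_subgroupOf.mpr hmem, ?_⟩
    show Multiplicative.ofAdd (psi g) ≠ 1
    have h1 : psi g = psi0 g := by
      have h2 := psi_uh (u := g) (h := 1) hm1 (one_mem _)
      rwa [mul_one] at h2
    have h2 : psi0 g = -1 := by
      obtain ⟨g8, h8⟩ := exists_x (F := ZMod 3) stringData_G2 8 (by decide) (1 : ZMod 3)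
      obtain ⟨g10, h10⟩ := exists_x (F := ZMod 3) stringData_G2 10 (by decide) (1 : ZMod 3)
      have m8 : g8 ∈ chevG2.posUnipotent (ZMod 3) := Subgroup.subset_closure ⟨8, 1, by decide, h8⟩
      have m10 : g10 ∈ chevG2.posUnipotent (ZMod 3) := Subgroup.subset_closure ⟨10, 1, by decide, h10⟩
      have e1 : g = g8 * g10 := by
        apply Units.ext
        rw [hg, wordMat_reeU_mid (by norm_num), Units.val_mul, h8, h10, one_pow]
      have r10 : rho chevG2 (Sum.inr ⟨1, by decide⟩) = rho chevG2 (Sum.inr ⟨0, by decide⟩) + 1 := by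
        decide
      unfold psi0
      rw [e1, step2_mul m8 m10, step_mul m8 m10 r10, step2_x (by norm_num) (by norm_num) 1 h8,
        step2_x (by norm_num) (by norm_num) 1 h10, (step_x (by norm_num) (by norm_num) 1 h8).1,
        (step_x (by norm_num) (by norm_num) 1 h10).1]
      simp
    rw [h1, h2]
    decide

/-- The derived subgroup of `²G₂(3)` is simple of order `504`. -/
theorem comm_simple : Nat.card (commutator ↥(twistedG2 (ZMod 3) 1)) = 504 ∧
    IsSimpleGroup (commutator ↥(twistedG2 (ZMod 3) 1)) := by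
  obtain ⟨R⟩ : Nonempty (ReeData (ZMod 3) 1) := by
    have h := exists_reeData (K := ZMod 3) (m := 0) (by rw [ZMod.card]; norm_num)
    rw [pow_zero] at h
    exact h
  obtain ⟨n, hn⟩ := R.exists_w0
  obtain ⟨φ, hφ⟩ := exists_phi R
  have hcardK : Fintype.card (ZMod 3) = 3 := ZMod.card 3
  have hb : Nat.card ↥(chevG2.borelSubgroup (ZMod 3) ⊓ twistedG2 (ZMod 3) 1) = 54 := by
    let f : ↥(chevG2.posUnipotent (ZMod 3) ⊓ twistedG2 (ZMod 3) 1) ×
        ↥(chevG2.diagonalSubgroup (ZMod 3) ⊓ twistedG2 (ZMod 3) 1) →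
        ↥(chevG2.borelSubgroup (ZMod 3) ⊓ twistedG2 (ZMod 3) 1) := fun p =>
      ⟨p.1.1 * p.2.1, Subgroup.mem_inf.mpr
        ⟨mul_mem (Subgroup.mem_sup_left (Subgroup.mem_inf.mp p.1.2).1)
          (Subgroup.mem_sup_right (Subgroup.mem_inf.mp p.2.2).1),
        mul_mem (Subgroup.mem_inf.mp p.1.2).2 (Subgroup.mem_inf.mp p.2.2).2⟩⟩
    have hbij : Function.Bijective f := by
      constructor
      · rintro ⟨u, h⟩ ⟨u', h'⟩ hxy
        have e1 : (u : GL chevG2.Idx (ZMod 3)) * h = u' * h' := congrArg Subtype.val hxy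
        obtain ⟨e2, e3⟩ := uh_unique (Subgroup.mem_inf.mp u.2).1 (Subgroup.mem_inf.mp u'.2).1
          (Subgroup.mem_inf.mp h.2).1 (Subgroup.mem_inf.mp h'.2).1 e1
        exact Prod.ext (Subtype.ext e2) (Subtype.ext e3)
      · rintro ⟨b, hb⟩
        obtain ⟨u, hu, h, hh, rfl⟩ :=
          R.borel_twisted (Subgroup.mem_inf.mp hb).1 (Subgroup.mem_inf.mp hb).2
        exact ⟨(⟨u, hu⟩, ⟨h, hh⟩), rfl⟩
    rw [← Nat.card_congr (Equiv.ofBijective f hbij), Nat.card_prod, R.card_pos_inf_twisted,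
      R.card_diag_inf_twisted, hcardK]
    norm_num
  have hcardG : Nat.card ↥(twistedG2 (ZMod 3) 1) = 1512 := by
    rw [R.card_twisted, hcardK]
    norm_num
  haveI : Finite ↥(twistedG2 (ZMod 3) 1) :=
    Nat.finite_of_card_ne_zero (by rw [hcardG]; norm_num)
  refine Ree3Abs.main
    ((chevG2.borelSubgroup (ZMod 3) ⊓ twistedG2 (ZMod 3) 1).subgroupOf (twistedG2 (ZMod 3) 1))
    ((chevG2.posUnipotent (ZMod 3) ⊓ twistedG2 (ZMod 3) 1).subgroupOf (twistedG2 (ZMod 3) 1))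
    ⟨n, hn.tw⟩ ?_ ?_ ?_ ?_ ?_ ?_ ?_ ?_ φ hφ
  · exact hcardG
  · rw [Nat.card_congr (Subgroup.subgroupOfEquivOfLe inf_le_right).toEquiv, hb]
  · rw [R.card_pos_sub, hcardK]
    norm_num
  · intro x hx
    rw [Subgroup.mem_subgroupOf] at hx ⊢
    obtain ⟨hx1, hx2⟩ := Subgroup.mem_inf.mp hx
    exact Subgroup.mem_inf.mpr ⟨Subgroup.mem_sup_left hx1, hx2⟩
  · intro b hb x hx
    rw [Subgroup.mem_subgroupOf] at hb hx ⊢
    obtain ⟨hx1, hx2⟩ := Subgroup.mem_inf.mp hx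
    obtain ⟨hb1, hb2⟩ := Subgroup.mem_inf.mp hb
    exact Subgroup.mem_inf.mpr
      ⟨(Subgroup.mem_normalizer_iff.mp (borel_normalizes_pos (ZMod 3) hb1) _).mp hx1,
        (b * x * b⁻¹).2⟩
  · intro g hg x hx hgx
    rw [Subgroup.mem_subgroupOf] at hx hgx
    have hgB : (g : GL chevG2.Idx (ZMod 3)) ∉ chevG2.borelSubgroup (ZMod 3) :=
      fun h => hg (Subgroup.mem_subgroupOf.mpr (Subgroup.mem_inf.mpr ⟨h, g.2⟩))
    exact Subtype.ext (R.conj_pos_trivial hn g.2 hgB (Subgroup.mem_inf.mp hx).1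
      (Subgroup.mem_inf.mp hgx).1)
  · exact R.core_eq_bot hn
  · intro g hg
    rcases R.twisted_cases hn g.2 with ⟨u, hu, h, hh, e⟩ | ⟨u, hu, h, hh, u', hu', e⟩
    · exfalso
      apply hg
      obtain ⟨hu1, hu2⟩ := Subgroup.mem_inf.mp hu
      obtain ⟨hh1, hh2⟩ := Subgroup.mem_inf.mp hh
      rw [Subgroup.mem_subgroupOf, e]
      exact Subgroup.mem_inf.mpr
        ⟨mul_mem (Subgroup.mem_sup_left hu1) (Subgroup.mem_sup_right hh1), mul_mem hu2 hh2⟩
    · obtain ⟨hu1, hu2⟩ := Subgroup.mem_inf.mp hu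
      obtain ⟨hh1, hh2⟩ := Subgroup.mem_inf.mp hh
      exact ⟨⟨u * h, mul_mem hu2 hh2⟩,
        Subgroup.mem_subgroupOf.mpr (Subgroup.mem_inf.mpr
          ⟨mul_mem (Subgroup.mem_sup_left hu1) (Subgroup.mem_sup_right hh1), mul_mem hu2 hh2⟩),
        ⟨u', (Subgroup.mem_inf.mp hu').2⟩, Subgroup.mem_subgroupOf.mpr hu', Subtype.ext e⟩

end Three

end Cfsg.Agent.Lib.helper7.Ree3Model
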