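import Mathlib
import Cfsg.Agent.Lib.helper50.FiniteFieldEmb
import Cfsg.Agent.Lib.helper50.QuadExt
import Cfsg.Agent.Lib.helper7.Herm
import Cfsg.Prelude.Def_LieClassical

/-!
# Restriction of scalars for a quadratic extension of finite fields

`QD F K a b` packages an embedding `i : F → K`, the involution `σ` of `K` over `F`, and the two
conjugate roots `α, β` of `X² + aX + b`.  Every element of `K` is uniquely `i x - i y * α`
(`emb`, `c₁`, `c₂`), with norm `i (x² + a x y + b y²)`.

A `SemiEquiv D I ι` is an `F`-semilinear bijection `(I → F) ≃ (ι → K)`; it turns `K`-matrices on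
`ι` into `F`-matrices on `I` (`SemiEquiv.R`, an injective monoid homomorphism).

Three instances: `Tstd` (coordinatewise `emb`), `Tpair` (a hyperbolic pairing, needing `c` of
norm `-1`) and `Tminus`.
-/

set_option autoImplicit false
set_option linter.unusedSectionVars false

namespace Cfsg.Agent.Lib.helper7.ResScal

/-- the field-theoretic data: an embedding `F → K`, the involution of `K` over `F`, and the two
conjugate roots of `X² + aX + b`. -/
structure QD (F K : Type*) [Field F] [Field K] (a b : F) where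
  /-- the embedding -/
  i : F →+* K
  /-- the involution -/
  σ : K →+* K
  /-- first root -/
  α : K
  /-- second root -/
  β : K
  hne : α ≠ β
  hsum : α + β = - i a
  hprod : α * β = i b
  hσi : ∀ x, σ (i x) = i x
  hσα : σ α = β
  hσβ : σ β = α
  hσσ : ∀ z, σ (σ z) = z
  hfix : ∀ z, σ z = z → ∃ x, i x = z

/-- existence of the data for a given anisotropic form -/
lemma exists_qd {F K : Type*} [Field F] [Fintype F] [Field K] [Fintype K]
    (hK : Fintype.card K = Fintype.card F ^ 2) (a b : F)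
    (hab : ∀ z₁ z₂ : F, z₁ ^ 2 + a * z₁ * z₂ + b * z₂ ^ 2 = 0 → z₁ = 0 ∧ z₂ = 0) :
    ∃ D : QD F K a b, ∀ z, D.σ z = z ^ Fintype.card F := by
  obtain ⟨i⟩ := Cfsg.Agent.Lib.helper50.exists_ringHom_of_card_sq (F := F) (K := K) rfl hK
  obtain ⟨σ, hσ⟩ := Cfsg.Agent.Lib.helper50.exists_frob (F := F) (K := K) hK
  obtain ⟨α, β, hne, hsum, hprod⟩ :=
    Cfsg.Agent.Lib.helper50.exists_roots_of_anisotropic hK i a b hab
  refine ⟨⟨i, σ, α, β, hne, hsum, hprod, ?_, ?_, ?_, ?_, ?_⟩, hσ⟩
  · intro x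
    rw [hσ, Cfsg.Agent.Lib.helper50.frob_fixed]
  · rw [hσ]
    exact Cfsg.Agent.Lib.helper50.conj_root hK i a b hab α β hsum hprod
  · rw [hσ]
    exact Cfsg.Agent.Lib.helper50.conj_root hK i a b hab β α (by rw [add_comm, hsum])
      (by rw [mul_comm, hprod])
  · intro z
    rw [hσ, hσ]
    exact Cfsg.Agent.Lib.helper7.frob_frob hK z
  · intro z hz
    rw [hσ] at hz
    exact Cfsg.Agent.Lib.helper50.mem_range_of_pow_card_eq i z hz

/-- existence of the data for some form -/
lemma exists_qd_free {F K : Type*} [Field F] [Fintype F] [Field K] [Fintype K]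
    (hK : Fintype.card K = Fintype.card F ^ 2) :
    ∃ (a b : F) (D : QD F K a b), ∀ z, D.σ z = z ^ Fintype.card F := by
  obtain ⟨i⟩ := Cfsg.Agent.Lib.helper50.exists_ringHom_of_card_sq (F := F) (K := K) rfl hK
  obtain ⟨σ, hσ⟩ := Cfsg.Agent.Lib.helper50.exists_frob (F := F) (K := K) hK
  have hσσ : ∀ z, σ (σ z) = z := by
    intro z
    rw [hσ, hσ]
    exact Cfsg.Agent.Lib.helper7.frob_frob hK z
  have hfix : ∀ z, σ z = z → ∃ x, i x = z := by
    intro z hz
    rw [hσ] at hz
    exact Cfsg.Agent.Lib.helper50.mem_range_of_pow_card_eq i z hz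
  obtain ⟨α, hα⟩ : ∃ α : K, α ∉ Set.range i := by
    by_contra hall
    push Not at hall
    have hsurj : Function.Surjective i := hall
    have h1 := Fintype.card_le_of_surjective i hsurj
    have h2 : 1 < Fintype.card F := Fintype.one_lt_card
    rw [hK] at h1
    nlinarith
  have hne : α ≠ σ α := by
    intro h
    exact hα (hfix α h.symm)
  obtain ⟨a', ha'⟩ := hfix (α + σ α) (by rw [map_add, hσσ, add_comm])
  obtain ⟨b, hb⟩ := hfix (α * σ α) (by rw [map_mul, hσσ, mul_comm])
  refine ⟨-a', b, ⟨i, σ, α, σ α, hne, ?_, hb.symm, ?_, rfl, hσσ α, hσσ, hfix⟩, hσ⟩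
  · rw [map_neg, neg_neg, ha']
  · intro x
    rw [hσ, Cfsg.Agent.Lib.helper50.frob_fixed]

section model

variable {F K : Type*} [Field F] [Field K] {a b : F} (D : QD F K a b)

lemma sub_ne : D.α - D.β ≠ 0 := sub_ne_zero.mpr D.hne

/-- the element `x - y α` -/
def emb (x y : F) : K := D.i x - D.i y * D.α

lemma σ_emb (x y : F) : D.σ (emb D x y) = D.i x - D.i y * D.β := by
  rw [emb, map_sub, map_mul, D.hσi, D.hσi, D.hσα]

lemma norm_emb (x y : F) :
    emb D x y * D.σ (emb D x y) = D.i (x ^ 2 + a * x * y + b * y ^ 2) := by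
  rw [σ_emb, emb]
  simp only [map_add, map_mul, map_pow]
  linear_combination (-(D.i x * D.i y)) * D.hsum + (D.i y) ^ 2 * D.hprod

lemma emb_add (x y x' y' : F) : emb D (x + x') (y + y') = emb D x y + emb D x' y' := by
  simp only [emb, map_add]
  ring

lemma emb_smul (c x y : F) : emb D (c * x) (c * y) = D.i c * emb D x y := by
  simp only [emb, map_mul]
  ring

lemma emb_injective {x y x' y' : F} (h : emb D x y = emb D x' y') : x = x' ∧ y = y' := by
  have h' := congrArg D.σ h
  rw [σ_emb, σ_emb] at h'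
  rw [emb, emb] at h
  have e2 : D.i y = D.i y' := by
    have : (D.i y - D.i y') * (D.α - D.β) = 0 := by linear_combination h' - h
    rcases mul_eq_zero.mp this with h0 | h0
    · exact sub_eq_zero.mp h0
    · exact absurd h0 (sub_ne D)
  have e1 : D.i x = D.i x' := by
    rw [e2] at h
    linear_combination h
  exact ⟨D.i.injective e1, D.i.injective e2⟩

lemma exists_emb (z : K) : ∃ x y : F, emb D x y = z := by
  have hne := sub_ne D
  obtain ⟨y, hy⟩ := D.hfix ((D.σ z - z) / (D.α - D.β)) (by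
    rw [map_div₀, map_sub, map_sub, D.hσσ, D.hσα, D.hσβ]
    rw [div_eq_div_iff (sub_ne_zero.mpr (Ne.symm D.hne)) hne]
    ring)
  obtain ⟨x, hx⟩ := D.hfix (z + (D.σ z - z) / (D.α - D.β) * D.α) (by
    rw [map_add, map_mul, map_div₀, map_sub, map_sub, D.hσσ, D.hσα, D.hσβ]
    have h1 : D.β - D.α ≠ 0 := sub_ne_zero.mpr (Ne.symm D.hne)
    field_simp
    ring)
  refine ⟨x, y, ?_⟩
  rw [emb, hx, hy]
  ring

/-- first coordinate -/
noncomputable def c₁ (z : K) : F := Classical.choose (exists_emb D z)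

/-- second coordinate -/
noncomputable def c₂ (z : K) : F := Classical.choose (Classical.choose_spec (exists_emb D z))

lemma emb_c (z : K) : emb D (c₁ D z) (c₂ D z) = z :=
  Classical.choose_spec (Classical.choose_spec (exists_emb D z))

lemma c₁_emb (x y : F) : c₁ D (emb D x y) = x := (emb_injective D (emb_c D (emb D x y))).1

lemma c₂_emb (x y : F) : c₂ D (emb D x y) = y := (emb_injective D (emb_c D (emb D x y))).2

lemma c₁_add (z w : K) : c₁ D (z + w) = c₁ D z + c₁ D w := by
  have h : emb D (c₁ D (z + w)) (c₂ D (z + w)) = emb D (c₁ D z + c₁ D w) (c₂ D z + c₂ D w) := by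
    rw [emb_add, emb_c, emb_c, emb_c]
  exact (emb_injective D h).1

lemma c₂_add (z w : K) : c₂ D (z + w) = c₂ D z + c₂ D w := by
  have h : emb D (c₁ D (z + w)) (c₂ D (z + w)) = emb D (c₁ D z + c₁ D w) (c₂ D z + c₂ D w) := by
    rw [emb_add, emb_c, emb_c, emb_c]
  exact (emb_injective D h).2

lemma c₁_smul (c : F) (z : K) : c₁ D (D.i c * z) = c * c₁ D z := by
  have h : emb D (c₁ D (D.i c * z)) (c₂ D (D.i c * z)) = emb D (c * c₁ D z) (c * c₂ D z) := by
    rw [emb_smul, emb_c, emb_c]
  exact (emb_injective D h).1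

lemma c₂_smul (c : F) (z : K) : c₂ D (D.i c * z) = c * c₂ D z := by
  have h : emb D (c₁ D (D.i c * z)) (c₂ D (D.i c * z)) = emb D (c * c₁ D z) (c * c₂ D z) := by
    rw [emb_smul, emb_c, emb_c]
  exact (emb_injective D h).2

/-- the abstract Hermitian form `∑ u_j σ(v_j)` -/
def hσ {ι : Type*} [Fintype ι] (u v : ι → K) : K := ∑ j, u j * D.σ (v j)

/-- an `F`-semilinear bijection `(I → F) ≃ (ι → K)` -/
structure SemiEquiv (I ι : Type*) where
  /-- the map -/
  toFun : (I → F) → (ι → K)
  /-- its inverse -/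
  invFun : (ι → K) → (I → F)
  left_inv : ∀ v, invFun (toFun v) = v
  right_inv : ∀ w, toFun (invFun w) = w
  map_add : ∀ v w, toFun (v + w) = toFun v + toFun w
  map_smul : ∀ (c : F) v, toFun (c • v) = D.i c • toFun v

namespace SemiEquiv

variable {D}
variable {I ι : Type*}

lemma injective (T : SemiEquiv D I ι) : Function.Injective T.toFun := by
  intro v w h
  rw [← T.left_inv v, h, T.left_inv]

/-- reindexing -/
def reindex (T : SemiEquiv D I ι) {I' ι' : Type*} (eI : I ≃ I') (eι : ι ≃ ι') :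
    SemiEquiv D I' ι' where
  toFun v := fun j => T.toFun (fun k => v (eI k)) (eι.symm j)
  invFun w := fun k => T.invFun (fun j => w (eι j)) (eI.symm k)
  left_inv v := by
    funext k
    have : (fun j => T.toFun (fun k => v (eI k)) (eι.symm (eι j))) = T.toFun (fun k => v (eI k)) := by
      funext j
      rw [Equiv.symm_apply_apply]
    simp only [this, T.left_inv, Equiv.apply_symm_apply]
  right_inv w := by
    funext j
    have : (fun k => T.invFun (fun j => w (eι j)) (eI.symm (eI k))) = T.invFun (fun j => w (eι j)) := by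
      funext k
      rw [Equiv.symm_apply_apply]
    simp only [this, T.right_inv, Equiv.apply_symm_apply]
  map_add v w := by
    funext j
    exact congrFun (T.map_add (fun k => v (eI k)) (fun k => w (eI k))) (eι.symm j)
  map_smul c v := by
    funext j
    exact congrFun (T.map_smul c (fun k => v (eI k))) (eι.symm j)

lemma reindex_toFun (T : SemiEquiv D I ι) {I' ι' : Type*} (eI : I ≃ I') (eι : ι ≃ ι')
    (v : I' → F) (j : ι) :
    (T.reindex eI eι).toFun v (eι j) = T.toFun (fun k => v (eI k)) j := by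
  show T.toFun (fun k => v (eI k)) (eι.symm (eι j)) = _
  rw [Equiv.symm_apply_apply]

variable [Fintype ι] [DecidableEq ι]
variable (T : SemiEquiv D I ι)

/-- the `F`-linear map attached to a `K`-matrix -/
def L (g : Matrix ι ι K) : (I → F) →ₗ[F] (I → F) where
  toFun v := T.invFun (g.mulVec (T.toFun v))
  map_add' v w := by
    apply T.injective
    rw [T.right_inv, T.map_add, Matrix.mulVec_add, T.map_add, T.right_inv, T.right_inv]
  map_smul' c v := by
    apply T.injective
    rw [T.right_inv, T.map_smul, Matrix.mulVec_smul, RingHom.id_apply, T.map_smul, T.right_inv]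

lemma toFun_L (g : Matrix ι ι K) (v : I → F) : T.toFun (T.L g v) = g.mulVec (T.toFun v) :=
  T.right_inv _

lemma L_one : T.L (1 : Matrix ι ι K) = LinearMap.id := by
  apply LinearMap.ext
  intro v
  apply T.injective
  rw [toFun_L, Matrix.one_mulVec]
  rfl

lemma L_mul (g h : Matrix ι ι K) : T.L (g * h) = (T.L g).comp (T.L h) := by
  apply LinearMap.ext
  intro v
  apply T.injective
  rw [toFun_L, LinearMap.comp_apply, toFun_L, toFun_L, Matrix.mulVec_mulVec]

variable [Fintype I] [DecidableEq I]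

/-- the matrix version -/
def R : Matrix ι ι K →* Matrix I I F where
  toFun g := LinearMap.toMatrix' (T.L g)
  map_one' := by rw [L_one, LinearMap.toMatrix'_id]
  map_mul' g h := by rw [L_mul, LinearMap.toMatrix'_comp]

lemma toFun_R_mulVec (g : Matrix ι ι K) (v : I → F) :
    T.toFun ((T.R g).mulVec v) = g.mulVec (T.toFun v) := by
  show T.toFun ((LinearMap.toMatrix' (T.L g)).mulVec v) = _
  rw [LinearMap.toMatrix'_mulVec, toFun_L]

lemma R_injective : Function.Injective (T.R : Matrix ι ι K →* Matrix I I F) := by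
  intro g h hgh
  apply Matrix.toLin'.injective
  apply LinearMap.ext
  intro w
  have h1 := toFun_R_mulVec T g (T.invFun w)
  rw [hgh, toFun_R_mulVec, T.right_inv] at h1
  exact h1.symm


/-- the matrices `R g` of a form-preserving `g` preserve every `F`-form read off the Hermitian form -/
lemma R_preserves (g : Matrix ι ι K)
    (hg : ∀ u v : ι → K, hσ D (g.mulVec u) (g.mulVec v) = hσ D u v)
    (Q : (I → F) → F) (hQ : ∀ v, D.i (Q v) = hσ D (T.toFun v) (T.toFun v)) (v : I → F) :
    Q ((T.R g).mulVec v) = Q v := by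
  apply D.i.injective
  rw [hQ, hQ, toFun_R_mulVec, hg]

/-- direct sum -/
def sum {I₁ I₂ ι₁ ι₂ : Type*} (T₁ : SemiEquiv D I₁ ι₁) (T₂ : SemiEquiv D I₂ ι₂) :
    SemiEquiv D (I₁ ⊕ I₂) (ι₁ ⊕ ι₂) where
  toFun v := Sum.elim (T₁.toFun (fun k => v (.inl k))) (T₂.toFun (fun k => v (.inr k)))
  invFun w := Sum.elim (T₁.invFun (fun j => w (.inl j))) (T₂.invFun (fun j => w (.inr j)))
  left_inv v := by
    funext k
    rcases k with k | k
    · simp only [Sum.elim_inl]
      rw [T₁.left_inv]
    · simp only [Sum.elim_inr]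
      rw [T₂.left_inv]
  right_inv w := by
    funext j
    rcases j with j | j
    · simp only [Sum.elim_inl]
      rw [T₁.right_inv]
    · simp only [Sum.elim_inr]
      rw [T₂.right_inv]
  map_add v w := by
    funext j
    rcases j with j | j
    · exact congrFun (T₁.map_add (fun k => v (.inl k)) (fun k => w (.inl k))) j
    · exact congrFun (T₂.map_add (fun k => v (.inr k)) (fun k => w (.inr k))) j
  map_smul c v := by
    funext j
    rcases j with j | j
    · exact congrFun (T₁.map_smul c (fun k => v (.inl k))) j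
    · exact congrFun (T₂.map_smul c (fun k => v (.inr k))) j

lemma sum_toFun_inl {I₁ I₂ ι₁ ι₂ : Type*} (T₁ : SemiEquiv D I₁ ι₁) (T₂ : SemiEquiv D I₂ ι₂)
    (v : I₁ ⊕ I₂ → F) (j : ι₁) :
    (T₁.sum T₂).toFun v (.inl j) = T₁.toFun (fun k => v (.inl k)) j := rfl

lemma sum_toFun_inr {I₁ I₂ ι₁ ι₂ : Type*} (T₁ : SemiEquiv D I₁ ι₁) (T₂ : SemiEquiv D I₂ ι₂)
    (v : I₁ ⊕ I₂ → F) (j : ι₂) :
    (T₁.sum T₂).toFun v (.inr j) = T₂.toFun (fun k => v (.inr k)) j := rfl

end SemiEquiv

/-- coordinatewise `emb` -/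
noncomputable def Tstd (κ : Type*) : SemiEquiv D (κ ⊕ κ) κ where
  toFun v := fun j => emb D (v (.inl j)) (v (.inr j))
  invFun w := Sum.elim (fun j => c₁ D (w j)) (fun j => c₂ D (w j))
  left_inv v := by
    funext k
    rcases k with k | k
    · simp only [Sum.elim_inl]
      rw [c₁_emb]
    · simp only [Sum.elim_inr]
      rw [c₂_emb]
  right_inv w := by
    funext j
    simp only [Sum.elim_inl, Sum.elim_inr]
    rw [emb_c]
  map_add v w := by
    funext j
    exact emb_add D _ _ _ _
  map_smul c v := by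
    funext j
    exact emb_smul D _ _ _

lemma Tstd_toFun (κ : Type*) (v : κ ⊕ κ → F) (j : κ) :
    (Tstd D κ).toFun v j = emb D (v (.inl j)) (v (.inr j)) := rfl

/-- the binary anisotropic block -/
noncomputable def Tone : SemiEquiv D (Fin 2) Unit where
  toFun v := fun _ => emb D (v 0) (v 1)
  invFun w := ![c₁ D (w ()), c₂ D (w ())]
  left_inv v := by
    funext k
    fin_cases k
    · simp [c₁_emb]
    · simp [c₂_emb]
  right_inv w := by
    funext j
    simp [emb_c]
  map_add v w := by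
    funext j
    exact emb_add D _ _ _ _
  map_smul c v := by
    funext j
    exact emb_smul D _ _ _

lemma Tone_toFun (v : Fin 2 → F) (j : Unit) : (Tone D).toFun v j = emb D (v 0) (v 1) := rfl

/-- `(α - β)⁻¹` -/
noncomputable def δ : K := (D.α - D.β)⁻¹

lemma hδ : (D.α - D.β) * δ D = 1 := mul_inv_cancel₀ (sub_ne D)

lemma σ_δ : D.σ (δ D) = - δ D := by
  rw [δ, map_inv₀, map_sub, D.hσα, D.hσβ, ← neg_sub, neg_inv]

/-- the second half of the hyperbolic pairing -/
noncomputable def pw (x1 x2 y1 y2 : F) : K :=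
  (D.i y1 * D.α + D.i y2) * δ D - D.α * δ D * emb D x1 x2

lemma σ_pw (x1 x2 y1 y2 : F) : D.σ (pw D x1 x2 y1 y2) =
    - ((D.i y1 * D.β + D.i y2) * δ D) + D.β * δ D * (D.i x1 - D.i x2 * D.β) := by
  rw [pw, map_sub, map_mul, map_add, map_mul, map_mul, map_mul, σ_emb, σ_δ, D.hσi, D.hσi, D.hσα]
  ring

lemma pw_add (x1 x2 y1 y2 x1' x2' y1' y2' : F) :
    pw D (x1 + x1') (x2 + x2') (y1 + y1') (y2 + y2') = pw D x1 x2 y1 y2 + pw D x1' x2' y1' y2' := by
  simp only [pw, emb, map_add]
  ring

lemma pw_smul (t x1 x2 y1 y2 : F) :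
    pw D (t * x1) (t * x2) (t * y1) (t * y2) = D.i t * pw D x1 x2 y1 y2 := by
  simp only [pw, emb, map_mul]
  ring

/-- the key norm identity of the hyperbolic pairing -/
lemma norm_pair (c : K) (hc : c * D.σ c = -1) (x1 x2 y1 y2 : F) :
    (emb D x1 x2 + pw D x1 x2 y1 y2) * D.σ (emb D x1 x2 + pw D x1 x2 y1 y2)
      + (c * pw D x1 x2 y1 y2) * D.σ (c * pw D x1 x2 y1 y2) = D.i (x1 * y1 + x2 * y2) := by
  have e1 : (c * pw D x1 x2 y1 y2) * D.σ (c * pw D x1 x2 y1 y2)
      = - (pw D x1 x2 y1 y2 * D.σ (pw D x1 x2 y1 y2)) := by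
    rw [map_mul]
    linear_combination (pw D x1 x2 y1 y2 * D.σ (pw D x1 x2 y1 y2)) * hc
  rw [e1, map_add, σ_emb, σ_pw]
  simp only [pw, emb, map_add, map_mul]
  linear_combination (D.i x1 * D.i y1 + D.i x2 * D.i y2
    - (D.i x1 - D.i x2 * D.α) * (D.i x1 - D.i x2 * D.β)) * hδ D

/-- the hyperbolic pairing `F⁴ ≃ K²` on each pair of coordinates -/
noncomputable def Tpair (c : K) (hc : c * D.σ c = -1) (κ : Type*) :
    SemiEquiv D ((κ ⊕ κ) ⊕ (κ ⊕ κ)) (κ ⊕ κ) where
  toFun v := Sum.elim
    (fun j => emb D (v (.inl (.inl j))) (v (.inl (.inr j)))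
      + pw D (v (.inl (.inl j))) (v (.inl (.inr j))) (v (.inr (.inl j))) (v (.inr (.inr j))))
    (fun j => c * pw D (v (.inl (.inl j))) (v (.inl (.inr j))) (v (.inr (.inl j))) (v (.inr (.inr j))))
  invFun z := Sum.elim
    (Sum.elim (fun j => c₁ D (z (.inl j) + D.σ c * z (.inr j)))
      (fun j => c₂ D (z (.inl j) + D.σ c * z (.inr j))))
    (Sum.elim
      (fun j => - c₂ D ((- D.σ c * z (.inr j)
        + D.α * δ D * (z (.inl j) + D.σ c * z (.inr j))) * (D.α - D.β)))
      (fun j => c₁ D ((- D.σ c * z (.inr j)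
        + D.α * δ D * (z (.inl j) + D.σ c * z (.inr j))) * (D.α - D.β))))
  left_inv v := by
    have hu : ∀ j, emb D (v (.inl (.inl j))) (v (.inl (.inr j)))
        + pw D (v (.inl (.inl j))) (v (.inl (.inr j))) (v (.inr (.inl j))) (v (.inr (.inr j)))
        + D.σ c * (c * pw D (v (.inl (.inl j))) (v (.inl (.inr j))) (v (.inr (.inl j)))
          (v (.inr (.inr j)))) = emb D (v (.inl (.inl j))) (v (.inl (.inr j))) := by
      intro j
      linear_combination (pw D (v (.inl (.inl j))) (v (.inl (.inr j))) (v (.inr (.inl j)))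
          (v (.inr (.inr j)))) * hc
    have ht : ∀ j, (- D.σ c * (c * pw D (v (.inl (.inl j))) (v (.inl (.inr j))) (v (.inr (.inl j)))
          (v (.inr (.inr j))))
        + D.α * δ D * (emb D (v (.inl (.inl j))) (v (.inl (.inr j))))) * (D.α - D.β)
        = emb D (v (.inr (.inr j))) (- v (.inr (.inl j))) := by
      intro j
      have h1 : - D.σ c * (c * pw D (v (.inl (.inl j))) (v (.inl (.inr j))) (v (.inr (.inl j)))
          (v (.inr (.inr j)))) = pw D (v (.inl (.inl j))) (v (.inl (.inr j))) (v (.inr (.inl j)))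
          (v (.inr (.inr j))) := by
        linear_combination (- pw D (v (.inl (.inl j))) (v (.inl (.inr j))) (v (.inr (.inl j)))
          (v (.inr (.inr j)))) * hc
      rw [h1]
      simp only [pw, emb, map_neg]
      linear_combination (D.i (v (.inr (.inl j))) * D.α + D.i (v (.inr (.inr j)))) * hδ D
    funext k
    rcases k with (k | k) | (k | k)
    · simp only [Sum.elim_inl, Sum.elim_inr]
      rw [hu, c₁_emb]
    · simp only [Sum.elim_inl, Sum.elim_inr]
      rw [hu, c₂_emb]
    · simp only [Sum.elim_inl, Sum.elim_inr]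
      rw [hu, ht, c₂_emb, neg_neg]
    · simp only [Sum.elim_inl, Sum.elim_inr]
      rw [hu, ht, c₁_emb]
  right_inv z := by
    funext j
    rcases j with j | j
    · simp only [Sum.elim_inl, Sum.elim_inr]
      rw [pw, emb_c]
      have h2 : D.i (- c₂ D ((- D.σ c * z (.inr j)
          + D.α * δ D * (z (.inl j) + D.σ c * z (.inr j))) * (D.α - D.β))) * D.α
          + D.i (c₁ D ((- D.σ c * z (.inr j)
          + D.α * δ D * (z (.inl j) + D.σ c * z (.inr j))) * (D.α - D.β)))
          = (- D.σ c * z (.inr j)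
          + D.α * δ D * (z (.inl j) + D.σ c * z (.inr j))) * (D.α - D.β) := by
        have := emb_c D ((- D.σ c * z (.inr j)
          + D.α * δ D * (z (.inl j) + D.σ c * z (.inr j))) * (D.α - D.β))
        rw [emb] at this
        rw [map_neg]
        linear_combination this
      rw [h2]
      linear_combination (- D.σ c * z (.inr j)
          + D.α * δ D * (z (.inl j) + D.σ c * z (.inr j))) * hδ D
    · simp only [Sum.elim_inl, Sum.elim_inr]
      rw [pw, emb_c]
      have h2 : D.i (- c₂ D ((- D.σ c * z (.inr j)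
          + D.α * δ D * (z (.inl j) + D.σ c * z (.inr j))) * (D.α - D.β))) * D.α
          + D.i (c₁ D ((- D.σ c * z (.inr j)
          + D.α * δ D * (z (.inl j) + D.σ c * z (.inr j))) * (D.α - D.β)))
          = (- D.σ c * z (.inr j)
          + D.α * δ D * (z (.inl j) + D.σ c * z (.inr j))) * (D.α - D.β) := by
        have := emb_c D ((- D.σ c * z (.inr j)
          + D.α * δ D * (z (.inl j) + D.σ c * z (.inr j))) * (D.α - D.β))
        rw [emb] at this
        rw [map_neg]
        linear_combination this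
      rw [h2]
      linear_combination (c * (- D.σ c * z (.inr j)
          + D.α * δ D * (z (.inl j) + D.σ c * z (.inr j)))) * hδ D - z (.inr j) * hc
  map_add v w := by
    funext j
    rcases j with j | j
    · simp only [Sum.elim_inl, Pi.add_apply]
      rw [emb_add, pw_add]
      ring
    · simp only [Sum.elim_inr, Pi.add_apply]
      rw [pw_add]
      ring
  map_smul t v := by
    funext j
    rcases j with j | j
    · simp only [Sum.elim_inl, Pi.smul_apply, smul_eq_mul]
      rw [emb_smul, pw_smul]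
      ring
    · simp only [Sum.elim_inr, Pi.smul_apply, smul_eq_mul]
      rw [pw_smul]
      ring

lemma hσ_Tpair (c : K) (hc : c * D.σ c = -1) (κ : Type*) [Fintype κ]
    (v : (κ ⊕ κ) ⊕ (κ ⊕ κ) → F) :
    hσ D ((Tpair D c hc κ).toFun v) ((Tpair D c hc κ).toFun v)
      = D.i (∑ j : κ ⊕ κ, v (.inl j) * v (.inr j)) := by
  rw [hσ, Fintype.sum_sum_type, Fintype.sum_sum_type, ← Finset.sum_add_distrib,
    ← Finset.sum_add_distrib, map_sum]
  apply Finset.sum_congr rfl
  intro j _
  exact norm_pair D c hc _ _ _ _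

lemma hσ_Tstd (κ : Type*) [Fintype κ] (v : κ ⊕ κ → F) :
    hσ D ((Tstd D κ).toFun v) ((Tstd D κ).toFun v)
      = D.i (∑ j : κ, (v (.inl j) ^ 2 + a * v (.inl j) * v (.inr j) + b * v (.inr j) ^ 2)) := by
  rw [hσ, map_sum]
  apply Finset.sum_congr rfl
  intro j _
  exact norm_emb D _ _

lemma hσ_Tstd_sub (κ : Type*) [Fintype κ] (u v : κ ⊕ κ → F) :
    hσ D ((Tstd D κ).toFun u) ((Tstd D κ).toFun v)
      - D.σ (hσ D ((Tstd D κ).toFun u) ((Tstd D κ).toFun v))
      = (D.α - D.β) * D.i (∑ j : κ, (u (.inl j) * v (.inr j) - u (.inr j) * v (.inl j))) := by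
  rw [hσ, map_sum, map_sum, ← Finset.sum_sub_distrib, Finset.mul_sum]
  apply Finset.sum_congr rfl
  intro j _
  rw [map_mul, D.hσσ, Tstd_toFun, Tstd_toFun, σ_emb, σ_emb]
  simp only [emb, map_sub, map_mul]
  ring


lemma hσ_Tone (v : Fin 2 → F) :
    hσ D ((Tone D).toFun v) ((Tone D).toFun v) = D.i (v 0 ^ 2 + a * v 0 * v 1 + b * v 1 ^ 2) := by
  rw [hσ, Fintype.sum_unique]
  exact norm_emb D _ _

lemma hσ_reindex {I ι I' ι' : Type*} [Fintype ι] [Fintype ι'] (T : SemiEquiv D I ι)
    (eI : I ≃ I') (eι : ι ≃ ι') (v : I' → F) :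
    hσ D ((T.reindex eI eι).toFun v) ((T.reindex eI eι).toFun v)
      = hσ D (T.toFun (fun k => v (eI k))) (T.toFun (fun k => v (eI k))) := by
  rw [hσ, hσ, ← Equiv.sum_comp eι]
  apply Finset.sum_congr rfl
  intro j _
  rw [SemiEquiv.reindex_toFun]

lemma hσ_sum {I₁ I₂ ι₁ ι₂ : Type*} [Fintype ι₁] [Fintype ι₂] (T₁ : SemiEquiv D I₁ ι₁)
    (T₂ : SemiEquiv D I₂ ι₂) (v : I₁ ⊕ I₂ → F) :
    hσ D ((T₁.sum T₂).toFun v) ((T₁.sum T₂).toFun v)
      = hσ D (T₁.toFun (fun k => v (.inl k))) (T₁.toFun (fun k => v (.inl k)))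
        + hσ D (T₂.toFun (fun k => v (.inr k))) (T₂.toFun (fun k => v (.inr k))) := by
  rw [hσ, Fintype.sum_sum_type]
  rfl

/-- the homomorphism from the unitary group attached to a semilinear identification -/
lemma exists_gu_hom {I : Type} [Fintype I] [DecidableEq I] {m q : ℕ} (T : SemiEquiv D I (Fin m))
    (hσq : ∀ z, D.σ z = z ^ q) (Q : (I → F) → F)
    (hQ : ∀ v, D.i (Q v) = hσ D (T.toFun v) (T.toFun v)) :
    ∃ φ : ↥(Cfsg.GU m K q) →* ↥(Cfsg.isometryGroup F Q), Function.Injective φ := by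
  classical
  have hherm : ∀ u v : Fin m → K, Cfsg.hermForm m K q u v = hσ D u v := by
    intro u v
    rw [Cfsg.hermForm, hσ]
    apply Finset.sum_congr rfl
    intro j _
    rw [hσq]
  have hpres : ∀ g : Cfsg.GU m K q, ∀ u v : Fin m → K,
      hσ D (g.1.1.mulVec u) (g.1.1.mulVec v) = hσ D u v := by
    intro g u v
    rw [← hherm, ← hherm]
    exact g.2 u v
  let φ₀ : Cfsg.GU m K q →* Matrix I I F :=
    (T.R.comp (Units.coeHom (Matrix (Fin m) (Fin m) K))).comp (Cfsg.GU m K q).subtype
  refine ⟨φ₀.toHomUnits.codRestrict (Cfsg.isometryGroup F Q) ?_, ?_⟩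
  · intro g u _
    show Q ((T.R g.1.1).mulVec u) = Q u
    exact SemiEquiv.R_preserves T g.1.1 (hpres g) Q hQ u
  · intro g h hgh
    have h1 : T.R g.1.1 = T.R h.1.1 :=
      congrArg (fun x : ↥(Cfsg.isometryGroup F Q) => (x.1 : Matrix I I F)) hgh
    exact Subtype.ext (Units.ext (T.R_injective h1))

end model

/-- an element of norm `-1` -/
lemma exists_norm_neg_one {F K : Type*} [Field F] [Fintype F] [Field K] [Fintype K] {a b : F}
    (hK : Fintype.card K = Fintype.card F ^ 2) (D : QD F K a b)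
    (hσq : ∀ z, D.σ z = z ^ Fintype.card F) : ∃ c : K, c * D.σ c = -1 := by
  classical
  have h1 := Cfsg.Agent.Lib.helper7.card_norm_fiber hK (-1 : K) (by simp) (by
    have := Cfsg.Agent.Lib.helper50.frob_fixed D.i (-1 : F)
    rw [map_neg, map_one] at this
    exact this)
  have h2 : (Finset.univ.filter (fun x : K => x * x ^ Fintype.card F = -1)).Nonempty := by
    rw [← Finset.card_pos, h1]
    omega
  obtain ⟨c, hc⟩ := h2
  rw [Finset.mem_filter] at hc
  exact ⟨c, by rw [hσq]; exact hc.2⟩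

end Cfsg.Agent.Lib.helper7.ResScal
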