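/-
helper7: Siegel transformations `x ↦ x + f(v,x) u - f(u,x) v - Q(v) f(u,x) u` (`u` singular, `v ⊥ u`) in the
isometry group of a quadratic form, relative to a subgroup `H`: the set of `v` whose Siegel
transformations at `u` lie in `H` is a subspace; if `H` contains all Siegel transformations at two
non-orthogonal singular vectors, it contains the subgroup generated by the long root elements.
-/
import Mathlib
import Cfsg.Agent.Lib.helper7.RootParab

set_option autoImplicit false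

namespace Cfsg.Agent.Lib.helper7.RootElt

open Matrix Cfsg Cfsg.Agent.Lib.helper17 Cfsg.Agent.Lib.helper49 Module
open scoped commutatorElement

section

variable {ι : Type} [Fintype ι] [DecidableEq ι] {F : Type*} [Field F]
  (Q : QuadraticForm F (ι → F))

local notation "⟪" x ", " y "⟫" => QuadraticMap.polar (DFunLike.coe Q) x y

/-- `g` acts as the Siegel transformation with centre `u` and vector `v`. -/
def IsSieg (g : ↥(isometryGroup F ⇑Q)) (u v : ι → F) : Prop :=
  ∀ x, act Q g x = x + ⟪v, x⟫ • u + (-⟪u, x⟫) • v + (-(Q v * ⟪u, x⟫)) • u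

theorem isSieg_unique {g g' : ↥(isometryGroup F ⇑Q)} {u v : ι → F} (h : IsSieg Q g u v)
    (h' : IsSieg Q g' u v) : g = g' :=
  act_ext Q (fun x => by rw [h x, h' x])

theorem isSieg_one_zero (u : ι → F) : IsSieg Q 1 u 0 := by
  intro x
  rw [act_one]
  simp

theorem isSieg_one_smul_self {u : ι → F} (hu : Q u = 0) (c : F) : IsSieg Q 1 u (c • u) := by
  intro x
  rw [act_one, QuadraticMap.map_smul, hu, QuadraticMap.polar_smul_left]
  simp only [smul_eq_mul, mul_zero, zero_mul, neg_zero, zero_smul, add_zero]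
  module

theorem isSieg_mul {g g' : ↥(isometryGroup F ⇑Q)} {u v v' : ι → F} (hu : Q u = 0) (huv : ⟪u, v⟫ = 0)
    (huv' : ⟪u, v'⟫ = 0) (h : IsSieg Q g u v) (h' : IsSieg Q g' u v') :
    IsSieg Q (g * g') u (v + v') := by
  intro x
  have hvu : ⟪v, u⟫ = 0 := by rw [QuadraticMap.polar_comm]; exact huv
  have hv'u : ⟪v', u⟫ = 0 := by rw [QuadraticMap.polar_comm]; exact huv'
  rw [act_mul, h' x, map_add, map_add, map_add, map_smul, map_smul, map_smul, h x, h u, h v']
  simp only [QuadraticMap.polar_add_left, QuadraticMap.map_add (⇑Q),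
    QGeom.polar_self_sing Q hu, huv, huv', hvu, hv'u]
  module

theorem isSieg_conj (h : ↥(isometryGroup F ⇑Q)) {g : ↥(isometryGroup F ⇑Q)} {u v : ι → F}
    (hg : IsSieg Q g u v) : IsSieg Q (h * g * h⁻¹) (act Q h u) (act Q h v) := by
  intro x
  rw [act_mul, act_mul, hg, map_add, map_add, map_add, map_smul, map_smul, map_smul, act_act_inv,
    polar_act_left, polar_act_left, Q_act]

theorem isSieg_smul_iff (g : ↥(isometryGroup F ⇑Q)) (u v : ι → F) (s : F) :
    IsSieg Q g (s • u) v ↔ IsSieg Q g u (s • v) := by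
  unfold IsSieg
  refine forall_congr' (fun x => ?_)
  have : x + ⟪v, x⟫ • (s • u) + (-⟪s • u, x⟫) • v + (-(Q v * ⟪s • u, x⟫)) • (s • u) =
      x + ⟪s • v, x⟫ • u + (-⟪u, x⟫) • (s • v) + (-(Q (s • v) * ⟪u, x⟫)) • u := by
    simp only [QuadraticMap.polar_smul_left, QuadraticMap.map_smul, smul_eq_mul]
    module
  rw [this]

variable (hQ : (QuadraticMap.polarBilin Q).Nondegenerate)

theorem isSieg_rootElt {u v : ι → F} (hu : Q u = 0) (hv : Q v = 0) (huv : ⟪u, v⟫ = 0) (c : F) :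
    IsSieg Q (rootElt Q hQ u v c) u ((-c) • v) := by
  intro x
  rw [rootElt_act Q hQ hu hv huv, QuadraticMap.map_smul, hv, QuadraticMap.polar_smul_left]
  simp only [smul_eq_mul, mul_zero, zero_mul, neg_zero, zero_smul, add_zero]
  module

variable [Finite F]

include hQ in
theorem exists_isSieg (hd : 5 ≤ Fintype.card ι) {u v : ι → F} (hu0 : u ≠ 0) (hu : Q u = 0)
    (huv : ⟪u, v⟫ = 0) : ∃ g ∈ rootSubgroup Q, IsSieg Q g u v := by
  obtain ⟨g, hg, h⟩ := exists_siegel Q hQ hd hu0 hu huv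
  exact ⟨g, rootGrp_le Q hQ hu hg, h⟩

end

section

variable {ι : Type} [Fintype ι] [DecidableEq ι] {F : Type*} [Field F] [Finite F]
  (Q : QuadraticForm F (ι → F)) (hQ : (QuadraticMap.polarBilin Q).Nondegenerate)
  (H : Subgroup ↥(isometryGroup F ⇑Q))

local notation "⟪" x ", " y "⟫" => QuadraticMap.polar (DFunLike.coe Q) x y

/-- all Siegel transformations with centre `u` and vector a multiple of `y` lie in `H` -/
def SiegIn (u y : ι → F) : Prop :=
  ⟪u, y⟫ = 0 ∧ ∀ (c : F) (g : ↥(isometryGroup F ⇑Q)), IsSieg Q g u (c • y) → g ∈ H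

omit [Finite F] in
theorem siegIn_zero (u : ι → F) : SiegIn Q H u 0 := by
  refine ⟨by simp, fun c g hg => ?_⟩
  rw [smul_zero] at hg
  rw [isSieg_unique Q hg (isSieg_one_zero Q u)]
  exact H.one_mem

omit [Finite F] in
theorem siegIn_self {u : ι → F} (hu : Q u = 0) : SiegIn Q H u u := by
  refine ⟨QGeom.polar_self_sing Q hu, fun c g hg => ?_⟩
  rw [isSieg_unique Q hg (isSieg_one_smul_self Q hu c)]
  exact H.one_mem

omit [Finite F] in
theorem siegIn_smul {u y : ι → F} (t : F) (h : SiegIn Q H u y) : SiegIn Q H u (t • y) := by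
  refine ⟨by rw [QuadraticMap.polar_smul_right, h.1, smul_zero], fun c g hg => ?_⟩
  rw [smul_smul] at hg
  exact h.2 _ g hg

include hQ in
theorem siegIn_add (hd : 5 ≤ Fintype.card ι) {u y y' : ι → F} (hu0 : u ≠ 0) (hu : Q u = 0)
    (h : SiegIn Q H u y) (h' : SiegIn Q H u y') : SiegIn Q H u (y + y') := by
  refine ⟨by rw [QuadraticMap.polar_add_right, h.1, h'.1, add_zero], fun c g hg => ?_⟩
  have h1 : ⟪u, c • y⟫ = 0 := by rw [QuadraticMap.polar_smul_right, h.1, smul_zero]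
  have h2 : ⟪u, c • y'⟫ = 0 := by rw [QuadraticMap.polar_smul_right, h'.1, smul_zero]
  obtain ⟨g₁, -, hg₁⟩ := exists_isSieg Q hQ hd hu0 hu h1
  obtain ⟨g₂, -, hg₂⟩ := exists_isSieg Q hQ hd hu0 hu h2
  have h3 := isSieg_mul Q hu h1 h2 hg₁ hg₂
  rw [← smul_add] at h3
  rw [isSieg_unique Q hg h3]
  exact H.mul_mem (h.2 c g₁ hg₁) (h'.2 c g₂ hg₂)

include hQ in
theorem siegIn_sub (hd : 5 ≤ Fintype.card ι) {u y y' : ι → F} (hu0 : u ≠ 0) (hu : Q u = 0)
    (h : SiegIn Q H u y) (h' : SiegIn Q H u y') : SiegIn Q H u (y - y') := by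
  have := siegIn_add Q hQ H hd hu0 hu h (siegIn_smul Q H (-1) h')
  rwa [neg_one_smul, ← sub_eq_add_neg] at this

omit [Finite F] in
theorem siegIn_conj {h : ↥(isometryGroup F ⇑Q)} (hh : h ∈ H) {u y : ι → F} (hs : SiegIn Q H u y) :
    SiegIn Q H (act Q h u) (act Q h y) := by
  refine ⟨by rw [polar_act]; exact hs.1, fun c g hg => ?_⟩
  have h1 := isSieg_conj Q h⁻¹ hg
  rw [act_inv_act, map_smul, act_inv_act, inv_inv] at h1
  have h2 := hs.2 c _ h1
  have h3 : g = h * (h⁻¹ * g * h) * h⁻¹ := by group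
  rw [h3]
  exact H.mul_mem (H.mul_mem hh h2) (H.inv_mem hh)

omit [Finite F] in
/-- Siegel transformations with singular vector are the root elements. -/
theorem siegIn_of_rootElt {u v : ι → F} (hu : Q u = 0) (hv : Q v = 0) (huv : ⟪u, v⟫ = 0)
    (h : ∀ c : F, rootElt Q hQ u v c ∈ H) : SiegIn Q H u v := by
  refine ⟨huv, fun c g hg => ?_⟩
  have h1 := isSieg_rootElt Q hQ hu hv huv (-c)
  rw [neg_neg] at h1
  rw [isSieg_unique Q hg h1]
  exact h _

omit [Finite F] in
theorem rootElt_mem_of_siegIn {u v : ι → F} (hu : Q u = 0) (hv : Q v = 0) (huv : ⟪u, v⟫ = 0)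
    (h : SiegIn Q H u v) (c : F) : rootElt Q hQ u v c ∈ H :=
  h.2 (-c) _ (isSieg_rootElt Q hQ hu hv huv c)

/-- all Siegel transformations with centre `u` lie in `H` -/
def FullAt (u : ι → F) : Prop :=
  u ≠ 0 ∧ Q u = 0 ∧ ∀ y, ⟪u, y⟫ = 0 → SiegIn Q H u y

omit [Finite F] in
theorem fullAt_conj {h : ↥(isometryGroup F ⇑Q)} (hh : h ∈ H) {u : ι → F} (hu : FullAt Q H u) :
    FullAt Q H (act Q h u) := by
  refine ⟨fun h0 => hu.1 ((act_eq_zero_iff Q h u).mp h0), by rw [Q_act]; exact hu.2.1, fun y hy => ?_⟩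
  have h1 : ⟪u, act Q h⁻¹ y⟫ = 0 := by rw [← polar_act_left]; exact hy
  have h2 := siegIn_conj Q H hh (hu.2.2 _ h1)
  rwa [act_act_inv] at h2

omit [Finite F] in
theorem fullAt_smul {u : ι → F} (hu : FullAt Q H u) {s : F} (hs : s ≠ 0) : FullAt Q H (s • u) := by
  refine ⟨smul_ne_zero hs hu.1, by rw [QuadraticMap.map_smul, hu.2.1, smul_zero], fun y hy => ?_⟩
  rw [QuadraticMap.polar_smul_left, smul_eq_mul] at hy
  have hy' : ⟪u, y⟫ = 0 := by
    rcases mul_eq_zero.mp hy with h | h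
    · exact absurd h hs
    · exact h
  refine ⟨by rw [QuadraticMap.polar_smul_left, hy', smul_zero], fun c g hg => ?_⟩
  rw [isSieg_smul_iff, smul_comm] at hg
  exact (siegIn_smul Q H s (hu.2.2 y hy')).2 c g hg

include hQ in
/-- A root group contained in `H` moves any hyperbolic partner of its centre to any other. -/
theorem fullAt_of_partner (hd : 5 ≤ Fintype.card ι) {u f f' : ι → F} (hu : FullAt Q H u)
    (hf : FullAt Q H f) (huf : ⟪u, f⟫ ≠ 0) (hf' : Q f' = 0) (huf' : ⟪u, f'⟫ ≠ 0) :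
    FullAt Q H f' := by
  obtain ⟨hu0, hu1, hu2⟩ := hu
  set t := ⟪u, f⟫ with ht
  set t' := ⟪u, f'⟫ with ht'
  -- `f'' = (t / t') f'` has the same product with `u` as `f`
  obtain ⟨f'', hf''def⟩ : ∃ f'' : ι → F, f'' = (t * t'⁻¹) • f' := ⟨_, rfl⟩
  have hf''Q : Q f'' = 0 := by rw [hf''def, QuadraticMap.map_smul, hf', smul_zero]
  have hf''u : ⟪u, f''⟫ = t := by
    rw [hf''def, QuadraticMap.polar_smul_right, smul_eq_mul, ← ht']
    field_simp
  have hy0 : ⟪u, t⁻¹ • (f - f'')⟫ = 0 := by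
    rw [QuadraticMap.polar_smul_right, QuadraticMap.polar_sub_right, hf''u, ← ht, sub_self, smul_zero]
  obtain ⟨g, -, hg⟩ := exists_isSieg Q hQ hd hu0 hu1 hy0
  have hgH : g ∈ H := by
    have h1 := (hu2 _ hy0).2 1 g
    rw [one_smul] at h1
    exact h1 hg
  have hgf : act Q g f = f'' := by
    rw [hg f]
    have e1 : ⟪t⁻¹ • (f - f''), f⟫ = -(t⁻¹ * ⟪f'', f⟫) := by
      rw [QuadraticMap.polar_smul_left, QuadraticMap.polar_sub_left, QGeom.polar_self_sing Q hf.2.1]
      simp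
    have e2 : Q (t⁻¹ • (f - f'')) = -(t⁻¹ * t⁻¹ * ⟪f'', f⟫) := by
      rw [QuadraticMap.map_smul, sub_eq_add_neg, QuadraticMap.map_add (⇑Q), QuadraticMap.map_neg,
        QuadraticMap.polar_neg_right, hf.2.1, hf''Q, QuadraticMap.polar_comm (⇑Q) f f'']
      simp
    rw [e1, e2, ← ht]
    have e3 : -(-(t⁻¹ * t⁻¹ * ⟪f'', f⟫) * t) = t⁻¹ * ⟪f'', f⟫ := by
      field_simp
    rw [e3]
    have e4 : (-t) • t⁻¹ • (f - f'') = f'' - f := by
      rw [smul_smul]
      have : -t * t⁻¹ = -1 := by field_simp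
      rw [this]
      module
    rw [e4]
    module
  have h1 := fullAt_conj Q H hgH hf
  rw [hgf] at h1
  have h2 := fullAt_smul Q H h1 (s := t' * t⁻¹) (mul_ne_zero huf' (inv_ne_zero huf))
  rw [hf''def, smul_smul] at h2
  have : t' * t⁻¹ * (t * t'⁻¹) = 1 := by field_simp
  rwa [this, one_smul] at h2

include hQ in
/-- If `H` contains the full root groups at two non-orthogonal singular vectors, it contains all root
groups. -/
theorem fullAt_all (hd : 5 ≤ Fintype.card ι) {u f : ι → F} (hu : FullAt Q H u)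
    (hf : FullAt Q H f) (huf : ⟪u, f⟫ ≠ 0) {x : ι → F} (hx0 : x ≠ 0) (hx : Q x = 0) :
    FullAt Q H x := by
  by_cases h1 : ⟪u, x⟫ = 0
  · by_cases h2 : ∃ a : F, x = a • u
    · obtain ⟨a, rfl⟩ := h2
      have ha : a ≠ 0 := by
        rintro rfl
        exact hx0 (zero_smul _ _)
      exact fullAt_smul Q H hu ha
    · push Not at h2
      obtain ⟨x', hx', hx'u, hx'x⟩ := QGeom.exists_common_partner Q hQ hu.1 hu.2.1 hx h1 h2
      have hux' : ⟪u, x'⟫ ≠ 0 := by
        rw [QuadraticMap.polar_comm, hx'u]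
        exact one_ne_zero
      have h3 := fullAt_of_partner Q hQ H hd hu hf huf hx' hux'
      exact fullAt_of_partner Q hQ H hd h3 hu (by rw [hx'u]; exact one_ne_zero) hx
        (by rw [hx'x]; exact one_ne_zero)
  · exact fullAt_of_partner Q hQ H hd hu hf huf hx h1

include hQ in
/-- If `H` contains the full root groups at two non-orthogonal singular vectors, it contains the
subgroup generated by the long root elements. -/
theorem rootSubgroup_le_of_fullAt_pair (hd : 5 ≤ Fintype.card ι) {u f : ι → F}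
    (hu : FullAt Q H u) (hf : FullAt Q H f) (huf : ⟪u, f⟫ ≠ 0) : rootSubgroup Q ≤ H := by
  unfold rootSubgroup
  rw [Subgroup.closure_le]
  intro g hg
  obtain ⟨a, v, c, ha, hv, hav, rfl⟩ := eq_rootElt_of_mem_rootSet Q hQ hg
  by_cases ha0 : a = 0
  · subst ha0
    rw [rootElt_eq_one_of_zero]
    exact H.one_mem
  · have h1 := fullAt_all Q hQ H hd hu hf huf ha0 ha
    exact rootElt_mem_of_siegIn Q hQ H ha hv hav (h1.2.2 v hav) c

end

end Cfsg.Agent.Lib.helper7.RootElt
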