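/-
helper7: the stabiliser (in `Ω`) of a pair of complementary totally singular subspaces of even dimension
is a maximal subgroup of `Ω`.
-/
import Mathlib
import Cfsg.Prelude.Def_GeometricClasses
import Cfsg.Agent.Lib.helper7.Sieg

set_option autoImplicit false

namespace Cfsg.Agent.Lib.helper7.QGeom

open Module Cfsg.Agent.Lib.helper49

section

variable {F V : Type*} [Field F] [AddCommGroup V] [Module F V] [FiniteDimensional F V]
  (Q : QuadraticForm F V)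

local notation "⟪" x ", " y "⟫" => QuadraticMap.polar (DFunLike.coe Q) x y

/-- the common orthogonal complement of two vectors has codimension at most two -/
theorem finrank_perp2_ge (x₁ x₂ : V) : finrank F V ≤ finrank F (perp2 Q x₁ x₂) + 2 := by
  let φ : V →ₗ[F] F × F := (QuadraticMap.polarBilin Q x₁).prod (QuadraticMap.polarBilin Q x₂)
  have hker : LinearMap.ker φ = perp2 Q x₁ x₂ := by
    ext x
    simp [φ, perp2, LinearMap.mem_ker, Prod.ext_iff]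
  have h1 := LinearMap.finrank_range_add_finrank_ker φ
  have h2 : finrank F (LinearMap.range φ) ≤ 2 := by
    have := Submodule.finrank_le (LinearMap.range φ)
    rwa [finrank_prod, finrank_self] at this
  rw [hker] at h1
  omega

omit [FiniteDimensional F V] in
/-- a subspace of larger dimension is not contained in one of smaller dimension -/
theorem exists_mem_notMem_of_finrank_lt [FiniteDimensional F V] {S T : Submodule F V}
    (h : finrank F T < finrank F S) : ∃ x ∈ S, x ∉ T := by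
  by_contra hcon
  push Not at hcon
  have : S ≤ T := hcon
  have := Submodule.finrank_mono this
  omega

omit [FiniteDimensional F V] in
/-- the span of two vectors has dimension at most two -/
theorem finrank_span_pair_le (a b : V) : finrank F (Submodule.span F (Set.range ![a, b])) ≤ 2 := by
  have := finrank_range_le_card (R := F) ![a, b]
  rw [Fintype.card_fin] at this
  exact this

omit [FiniteDimensional F V] in
theorem mem_span_pair_of (a b : V) (s t : F) :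
    s • a + t • b ∈ Submodule.span F (Set.range ![a, b]) := by
  apply Submodule.add_mem
  · exact Submodule.smul_mem _ _ (Submodule.subset_span ⟨0, rfl⟩)
  · exact Submodule.smul_mem _ _ (Submodule.subset_span ⟨1, rfl⟩)

omit [FiniteDimensional F V] in
/-- two dependent vectors, the first non-zero: the second is a multiple of the first -/
theorem exists_smul_of_dep {a b : V} (h : ¬ ∀ s t : F, s • a + t • b = 0 → s = 0 ∧ t = 0)
    (ha : a ≠ 0) : ∃ c : F, b = c • a := by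
  push Not at h
  obtain ⟨s, t, hst, hne⟩ := h
  have ht : t ≠ 0 := by
    intro ht
    rw [ht, zero_smul, add_zero] at hst
    rcases smul_eq_zero.mp hst with h | h
    · exact hne h ht
    · exact ha h
  refine ⟨-(t⁻¹ * s), ?_⟩
  have : b = t⁻¹ • (s • a + t • b) - (t⁻¹ * s) • a := by
    rw [smul_add, smul_smul, smul_smul, inv_mul_cancel₀ ht, one_smul]
    abel
  rw [this, hst, smul_zero, zero_sub, neg_smul]

omit [FiniteDimensional F V] in
theorem exists_smul_of_dep' {a b : V} (h : ¬ ∀ s t : F, s • a + t • b = 0 → s = 0 ∧ t = 0)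
    (hb : b ≠ 0) : ∃ c : F, a = c • b := by
  apply exists_smul_of_dep (a := b) (b := a) _ hb
  intro h'
  apply h
  intro s t hst
  have := h' t s (by rw [add_comm]; exact hst)
  exact ⟨this.2, this.1⟩

end

end Cfsg.Agent.Lib.helper7.QGeom

namespace Cfsg.Agent.Lib.helper7.RootElt

open Matrix Cfsg Cfsg.Agent.Lib.helper17 Cfsg.Agent.Lib.helper49 Module
open scoped commutatorElement

section

variable {ι : Type} [Fintype ι] [DecidableEq ι] {F : Type*} [Field F] [Finite F]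
  (Q : QuadraticForm F (ι → F)) (hQ : (QuadraticMap.polarBilin Q).Nondegenerate)
  (U U' : Submodule F (ι → F))

local notation "⟪" x ", " y "⟫" => QuadraticMap.polar (DFunLike.coe Q) x y

omit [Finite F] [DecidableEq ι] in
include hQ in
/-- complementary totally singular subspaces meet trivially -/
theorem pair_eq_zero (hU : ∀ u ∈ U, Q u = 0) (hU' : ∀ u ∈ U', Q u = 0)
    (hsup : ∀ x, ∃ a ∈ U, ∃ b ∈ U', x = a + b) {x : ι → F} (hx : x ∈ U) (hx' : x ∈ U') : x = 0 := by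
  apply hQ.1 x
  intro y
  obtain ⟨a, ha, b, hb, rfl⟩ := hsup y
  rw [QuadraticMap.polarBilin_apply_apply, QuadraticMap.polar_add_right,
    QGeom.polar_eq_zero_of_sing Q hU hx ha, QGeom.polar_eq_zero_of_sing Q hU' hx' hb, add_zero]

omit [Finite F] [DecidableEq ι] in
include hQ in
/-- a vector of `U'` orthogonal to `U` is zero -/
theorem pair_eq_zero_of_perp (hU' : ∀ u ∈ U', Q u = 0)
    (hsup : ∀ x, ∃ a ∈ U, ∃ b ∈ U', x = a + b) {x : ι → F} (hx' : x ∈ U')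
    (hx : ∀ u ∈ U, ⟪x, u⟫ = 0) : x = 0 := by
  apply hQ.1 x
  intro y
  obtain ⟨a, ha, b, hb, rfl⟩ := hsup y
  rw [QuadraticMap.polarBilin_apply_apply, QuadraticMap.polar_add_right, hx a ha,
    QGeom.polar_eq_zero_of_sing Q hU' hx' hb, add_zero]

omit [Finite F] [DecidableEq ι] in
include hQ in
/-- a vector orthogonal to `U'` lies in `U'` -/
theorem pair_mem_of_perp (hU : ∀ u ∈ U, Q u = 0) (hU' : ∀ u ∈ U', Q u = 0)
    (hsup : ∀ x, ∃ a ∈ U, ∃ b ∈ U', x = a + b) {x : ι → F} (hx : ∀ w ∈ U', ⟪w, x⟫ = 0) :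
    x ∈ U' := by
  obtain ⟨a, ha, b, hb, rfl⟩ := hsup x
  have ha0 : a = 0 := by
    apply hQ.1 a
    intro y
    obtain ⟨a', ha', b', hb', rfl⟩ := hsup y
    rw [QuadraticMap.polarBilin_apply_apply, QuadraticMap.polar_add_right,
      QGeom.polar_eq_zero_of_sing Q hU ha ha', zero_add]
    have := hx b' hb'
    rw [QuadraticMap.polar_add_right, QGeom.polar_eq_zero_of_sing Q hU' hb' hb, add_zero] at this
    rw [QuadraticMap.polar_comm]
    exact this
  rw [ha0, zero_add]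
  exact hb

omit [Finite F] [DecidableEq ι] in
include hQ in
/-- the pairing between `U` and `U'` is perfect: a vector of `U` outside a subspace `T` of `U` is
non-orthogonal to some vector of `U'` orthogonal to `T` -/
theorem pair_exists_perp (hU : ∀ u ∈ U, Q u = 0) (hU' : ∀ u ∈ U', Q u = 0)
    (hsup : ∀ x, ∃ a ∈ U, ∃ b ∈ U', x = a + b) (T : Submodule F (ι → F)) (hT : T ≤ U)
    {p : ι → F} (hp : p ∈ U) (hpT : p ∉ T) :
    ∃ y ∈ U', (∀ t ∈ T, ⟪t, y⟫ = 0) ∧ ⟪y, p⟫ ≠ 0 := by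
  have hpW : p ∉ T ⊔ U' := by
    intro h
    obtain ⟨t, ht, b, hb, htb⟩ := Submodule.mem_sup.mp h
    have hbU : b ∈ U := by
      have : b = p - t := by rw [← htb]; abel
      rw [this]
      exact U.sub_mem hp (hT ht)
    have hb0 : b = 0 := pair_eq_zero Q hQ U U' hU hU' hsup hbU hb
    rw [hb0, add_zero] at htb
    exact hpT (htb ▸ ht)
  obtain ⟨x, hx, hxp⟩ := QGeom.exists_perp_polar_ne Q hQ (T ⊔ U') hpW
  exact ⟨x, pair_mem_of_perp Q hQ U U' hU hU' hsup (fun w hw => hx w (Submodule.mem_sup_right hw)),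
    fun t ht => hx t (Submodule.mem_sup_left ht), hxp⟩

variable (H : Subgroup ↥(isometryGroup F ⇑Q))

omit [Finite F] in
include hQ in
/-- root elements with centre in `U` and vector in `U'` stabilise both subspaces -/
theorem pair_mixed (hU : ∀ u ∈ U, Q u = 0) (hU' : ∀ u ∈ U', Q u = 0)
    (hP1 : ∀ g ∈ rootSubgroup Q, (∀ x ∈ U, act Q g x ∈ U) → (∀ x ∈ U', act Q g x ∈ U') → g ∈ H)
    {u v : ι → F} (hu : u ∈ U) (hv : v ∈ U') (huv : ⟪u, v⟫ = 0) : SiegIn Q H u v := by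
  apply siegIn_of_rootElt Q hQ H (hU u hu) (hU' v hv) huv
  intro c
  apply hP1 _ (rootElt_mem Q hQ (hU u hu) (hU' v hv) huv c)
  · intro x hx
    rw [rootElt_act Q hQ (hU u hu) (hU' v hv) huv, QGeom.polar_eq_zero_of_sing Q hU hu hx]
    simp only [mul_zero, zero_smul, add_zero]
    exact U.add_mem hx (U.smul_mem _ hu)
  · intro x hx
    rw [rootElt_act Q hQ (hU u hu) (hU' v hv) huv, QGeom.polar_eq_zero_of_sing Q hU' hv hx]
    simp only [mul_zero, neg_zero, zero_smul, add_zero]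
    exact U'.add_mem hx (U'.smul_mem _ hv)

include hQ in
/-- A Siegel transformation in `H` with centre `u ∈ U` and vector in `U` outside `⟨u⟩` forces the full
root group at `u` into `H`. -/
theorem pair_fullAt (hd : 5 ≤ Fintype.card ι) (hU : ∀ u ∈ U, Q u = 0) (hU' : ∀ u ∈ U', Q u = 0)
    (hsup : ∀ x, ∃ a ∈ U, ∃ b ∈ U', x = a + b)
    (hP1 : ∀ g ∈ rootSubgroup Q, (∀ x ∈ U, act Q g x ∈ U) → (∀ x ∈ U', act Q g x ∈ U') → g ∈ H)
    {u x₀ : ι → F} (hu : u ∈ U) (hu0 : u ≠ 0) (hx₀ : x₀ ∈ U) (hind : ∀ s : F, x₀ ≠ s • u)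
    (hs : SiegIn Q H u x₀) : FullAt Q H u := by
  have huQ := hU u hu
  obtain ⟨v₂, hv₂, hv₂u, hv₂x⟩ := pair_exists_perp Q hQ U U' hU hU' hsup (Submodule.span F {u})
    (by rw [Submodule.span_singleton_le_iff_mem]; exact hu) hx₀
    (by rw [Submodule.mem_span_singleton]; rintro ⟨s, hs⟩; exact hind s hs.symm)
  have huv₂ : ⟪u, v₂⟫ = 0 := hv₂u u (Submodule.mem_span_singleton_self u)
  have hv₂u' : ⟪v₂, u⟫ = 0 := by rw [QuadraticMap.polar_comm]; exact huv₂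
  have hb : ∀ u₂ ∈ U, ⟪u₂, v₂⟫ = 0 → SiegIn Q H u u₂ := by
    intro u₂ hu₂ hu₂v
    have hρ : rootElt Q hQ u₂ v₂ 1 ∈ H :=
      rootElt_mem_of_siegIn Q hQ H (hU u₂ hu₂) (hU' v₂ hv₂) hu₂v
        (pair_mixed Q hQ U U' H hU hU' hP1 hu₂ hv₂ hu₂v) 1
    have h1 := siegIn_conj Q H hρ hs
    rw [rootElt_act Q hQ (hU u₂ hu₂) (hU' v₂ hv₂) hu₂v, rootElt_act Q hQ (hU u₂ hu₂) (hU' v₂ hv₂) hu₂v,
      QGeom.polar_eq_zero_of_sing Q hU hu₂ hu, QGeom.polar_eq_zero_of_sing Q hU hu₂ hx₀, hv₂u'] at h1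
    simp only [mul_zero, zero_smul, add_zero, neg_zero, one_mul] at h1
    have h2 := siegIn_sub Q hQ H hd hu0 huQ hs h1
    have h3 := siegIn_smul Q H (⟪v₂, x₀⟫)⁻¹ h2
    have e : (⟪v₂, x₀⟫)⁻¹ • (x₀ - (x₀ + (-⟪v₂, x₀⟫) • u₂)) = u₂ := by
      have : x₀ - (x₀ + (-⟪v₂, x₀⟫) • u₂) = ⟪v₂, x₀⟫ • u₂ := by module
      rw [this, smul_smul, inv_mul_cancel₀ hv₂x, one_smul]
    rwa [e] at h3
  have hne : ⟪x₀, v₂⟫ ≠ 0 := by rw [QuadraticMap.polar_comm]; exact hv₂x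
  have hc : ∀ x ∈ U, SiegIn Q H u x := by
    intro x hx
    have h1 := hb (x - (⟪x, v₂⟫ * (⟪x₀, v₂⟫)⁻¹) • x₀) (U.sub_mem hx (U.smul_mem _ hx₀)) (by
      rw [QuadraticMap.polar_sub_left, QuadraticMap.polar_smul_left, smul_eq_mul, mul_assoc,
        inv_mul_cancel₀ hne, mul_one, sub_self])
    have h2 := siegIn_add Q hQ H hd hu0 huQ h1 (siegIn_smul Q H (⟪x, v₂⟫ * (⟪x₀, v₂⟫)⁻¹) hs)
    rwa [sub_add_cancel] at h2
  refine ⟨hu0, huQ, fun y hy => ?_⟩
  obtain ⟨a, ha, b, hb', rfl⟩ := hsup y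
  rw [QuadraticMap.polar_add_right, QGeom.polar_eq_zero_of_sing Q hU hu ha, zero_add] at hy
  exact siegIn_add Q hQ H hd hu0 huQ (hc a ha) (pair_mixed Q hQ U U' H hU hU' hP1 hu hb' hy)

include hQ in
/-- the full root groups at the non-zero vectors of `U` are conjugate under the stabiliser -/
theorem pair_fullAt_trans (hU : ∀ u ∈ U, Q u = 0) (hU' : ∀ u ∈ U', Q u = 0)
    (hsup : ∀ x, ∃ a ∈ U, ∃ b ∈ U', x = a + b)
    (hP1 : ∀ g ∈ rootSubgroup Q, (∀ x ∈ U, act Q g x ∈ U) → (∀ x ∈ U', act Q g x ∈ U') → g ∈ H)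
    {u u' : ι → F} (hu : u ∈ U) (hfu : FullAt Q H u) (hu' : u' ∈ U) (hu'0 : u' ≠ 0) :
    FullAt Q H u' := by
  by_cases h : ∃ s : F, u' = s • u
  · obtain ⟨s, rfl⟩ := h
    exact fullAt_smul Q H hfu (by rintro rfl; exact hu'0 (zero_smul _ _))
  · push Not at h
    have hdU : u' - u ∈ U := U.sub_mem hu' hu
    obtain ⟨v₂, hv₂, hv₂d, hv₂u⟩ := pair_exists_perp Q hQ U U' hU hU' hsup
      (Submodule.span F {u' - u})
      (by rw [Submodule.span_singleton_le_iff_mem]; exact hdU) hu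
      (by
        rw [Submodule.mem_span_singleton]
        rintro ⟨s, hs⟩
        by_cases hs0 : s = 0
        · rw [hs0, zero_smul] at hs
          exact hfu.1 hs.symm
        · apply h (s⁻¹ * (1 + s))
          have : s • u' = (1 + s) • u := by
            linear_combination (norm := module) hs
          rw [← smul_smul, ← this, smul_smul, inv_mul_cancel₀ hs0, one_smul])
    have hd' : ⟪u' - u, v₂⟫ = 0 := hv₂d _ (Submodule.mem_span_singleton_self _)
    have hρ : rootElt Q hQ (u' - u) v₂ (-(⟪v₂, u⟫)⁻¹) ∈ H :=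
      rootElt_mem_of_siegIn Q hQ H (hU _ hdU) (hU' v₂ hv₂) hd'
        (pair_mixed Q hQ U U' H hU hU' hP1 hdU hv₂ hd') _
    have h1 := fullAt_conj Q H hρ hfu
    rw [rootElt_act Q hQ (hU _ hdU) (hU' v₂ hv₂) hd', QGeom.polar_eq_zero_of_sing Q hU hdU hu] at h1
    have e : u + (-(⟪v₂, u⟫)⁻¹ * 0) • v₂ + (-(-(⟪v₂, u⟫)⁻¹ * ⟪v₂, u⟫)) • (u' - u) = u' := by
      have : -(-(⟪v₂, u⟫)⁻¹ * ⟪v₂, u⟫) = 1 := by
        rw [neg_mul, neg_neg, inv_mul_cancel₀ hv₂u]
      rw [this]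
      module
    rwa [e] at h1

include hQ in
/-- From a Siegel transformation in `H` whose centre and vector have independent `U`-components, a
full root group at a point of `U`. -/
theorem pair_step (hd : 5 ≤ Fintype.card ι) (hk : 5 ≤ finrank F U) (hU : ∀ u ∈ U, Q u = 0)
    (hU' : ∀ u ∈ U', Q u = 0) (hsup : ∀ x, ∃ a ∈ U, ∃ b ∈ U', x = a + b)
    (hP1 : ∀ g ∈ rootSubgroup Q, (∀ x ∈ U, act Q g x ∈ U) → (∀ x ∈ U', act Q g x ∈ U') → g ∈ H)
    {w v' w₁ w₂ v₁ v₂ : ι → F} (hw : Q w = 0) (hv' : Q v' = 0) (hwv : ⟪w, v'⟫ = 0)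
    (hs : SiegIn Q H w v') (hw₁ : w₁ ∈ U) (hw₂ : w₂ ∈ U') (hwd : w = w₁ + w₂) (hv₁ : v₁ ∈ U)
    (hv₂ : v₂ ∈ U') (hvd : v' = v₁ + v₂) (hind : ∀ s t : F, s • w₁ + t • v₁ = 0 → s = 0 ∧ t = 0) :
    ∃ u ∈ U, FullAt Q H u := by
  have hw₁0 : w₁ ≠ 0 := by
    rintro rfl
    have := hind 1 0 (by simp)
    exact one_ne_zero this.1
  have hv₁0 : v₁ ≠ 0 := by
    rintro rfl
    have := hind 0 1 (by simp)
    exact one_ne_zero this.2
  have hw0 : w ≠ 0 := by
    intro h0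
    rw [h0] at hwd
    have hmem : w₁ ∈ U' := by
      have e : w₁ = -w₂ := by linear_combination (norm := module) -hwd
      rw [e]
      exact U'.neg_mem hw₂
    exact hw₁0 (pair_eq_zero Q hQ U U' hU hU' hsup hw₁ hmem)
  -- a vector `u` of `U` orthogonal to `w` and `v'`, outside the span of `w₁, v₁`
  have hdim := Submodule.finrank_sup_add_finrank_inf_eq U (QGeom.perp2 Q w₂ v₂)
  have hdim2 := QGeom.finrank_perp2_ge Q w₂ v₂
  have hdim3 := Submodule.finrank_le (U ⊔ QGeom.perp2 Q w₂ v₂)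
  have hT := QGeom.finrank_span_pair_le (F := F) w₁ v₁
  obtain ⟨u, hu, huT⟩ := QGeom.exists_mem_notMem_of_finrank_lt
    (S := U ⊓ QGeom.perp2 Q w₂ v₂) (T := Submodule.span F (Set.range ![w₁, v₁])) (by omega)
  obtain ⟨huU, hup⟩ := Submodule.mem_inf.mp hu
  obtain ⟨huw₂, huv₂⟩ := (QGeom.mem_perp2 Q).mp hup
  have hu0 : u ≠ 0 := by
    rintro rfl
    exact huT (Submodule.zero_mem _)
  have huQ := hU u huU
  -- a vector `y` of `U'` orthogonal to `u` and `v₁` but not to `w₁`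
  obtain ⟨y, hy, hyT, hyw⟩ := pair_exists_perp Q hQ U U' hU hU' hsup
    (Submodule.span F (Set.range ![u, v₁]))
    (by
      rw [Submodule.span_le]
      rintro _ ⟨i, rfl⟩
      fin_cases i
      · exact huU
      · exact hv₁) hw₁
    (by
      intro hmem
      obtain ⟨c, hc⟩ := (Submodule.mem_span_range_iff_exists_fun F).mp hmem
      rw [Fin.sum_univ_two] at hc
      have hc' : c 0 • u + c 1 • v₁ = w₁ := hc
      by_cases h0 : c 0 = 0
      · rw [h0, zero_smul, zero_add] at hc'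
        have := hind 1 (-(c 1)) (by rw [← hc']; module)
        exact one_ne_zero this.1
      · apply huT
        have : u = (c 0)⁻¹ • w₁ + (-((c 0)⁻¹ * c 1)) • v₁ := by
          rw [← hc', smul_add, smul_smul, smul_smul, inv_mul_cancel₀ h0]
          module
        rw [this]
        exact QGeom.mem_span_pair_of w₁ v₁ _ _)
  have huy : ⟪u, y⟫ = 0 := hyT u (Submodule.subset_span ⟨0, rfl⟩)
  have hv₁y : ⟪v₁, y⟫ = 0 := hyT v₁ (Submodule.subset_span ⟨1, rfl⟩)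
  have hne : ⟪w₁, y⟫ ≠ 0 := by rw [QuadraticMap.polar_comm]; exact hyw
  -- the Siegel transformation with centre `w` and vector `v'`
  have h1' : ⟪w, (1 : F) • v'⟫ = 0 := by rw [one_smul]; exact hwv
  obtain ⟨g, -, hg⟩ := exists_isSieg Q hQ hd hw0 hw h1'
  have hgH : g ∈ H := hs.2 1 g hg
  rw [one_smul] at hg
  have huw : ⟪w, u⟫ = 0 := by
    rw [hwd, QuadraticMap.polar_add_left, QGeom.polar_eq_zero_of_sing Q hU hw₁ huU, huw₂, add_zero]
  have huv : ⟪v', u⟫ = 0 := by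
    rw [hvd, QuadraticMap.polar_add_left, QGeom.polar_eq_zero_of_sing Q hU hv₁ huU, huv₂, add_zero]
  have hgu : act Q g u = u := by
    rw [hg u, huw, huv]
    simp
  have hsy := pair_mixed Q hQ U U' H hU hU' hP1 huU hy huy
  have h2 := siegIn_conj Q H hgH hsy
  have e1 : ⟪v', y⟫ = 0 := by
    rw [hvd, QuadraticMap.polar_add_left, hv₁y, QGeom.polar_eq_zero_of_sing Q hU' hv₂ hy, add_zero]
  have e2 : ⟪w, y⟫ = ⟪w₁, y⟫ := by
    rw [hwd, QuadraticMap.polar_add_left, QGeom.polar_eq_zero_of_sing Q hU' hw₂ hy, add_zero]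
  rw [hgu, hg y, e1, e2, hv'] at h2
  simp only [zero_smul, add_zero, zero_mul, neg_zero] at h2
  have h3 := siegIn_sub Q hQ H hd hu0 huQ hsy h2
  have hsv₂ := pair_mixed Q hQ U U' H hU hU' hP1 huU hv₂ (by rw [QuadraticMap.polar_comm]; exact huv₂)
  have h4 := siegIn_sub Q hQ H hd hu0 huQ (siegIn_smul Q H (⟪w₁, y⟫)⁻¹ h3) hsv₂
  have e3 : (⟪w₁, y⟫)⁻¹ • (y - (y + (-⟪w₁, y⟫) • v')) - v₂ = v₁ := by
    have : y - (y + (-⟪w₁, y⟫) • v') = ⟪w₁, y⟫ • v' := by module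
    rw [this, smul_smul, inv_mul_cancel₀ hne, one_smul, hvd]
    abel
  rw [e3] at h4
  refine ⟨u, huU, pair_fullAt Q hQ U U' H hd hU hU' hsup hP1 huU hu0 hv₁ ?_ h4⟩
  intro s hs'
  by_cases hs0 : s = 0
  · rw [hs0, zero_smul] at hs'
    exact hv₁0 hs'
  · apply huT
    have : u = (0 : F) • w₁ + s⁻¹ • v₁ := by
      rw [hs', smul_smul, inv_mul_cancel₀ hs0]
      simp
    rw [this]
    exact QGeom.mem_span_pair_of w₁ v₁ 0 s⁻¹

omit [Finite F] in
include hQ in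
/-- An isometry neither stabilising nor interchanging `U, U'` moves some orthogonal pair `w₀ ∈ U`,
`v₀ ∈ U'` to vectors whose `U`-components, or whose `U'`-components, are independent. -/
theorem pair_exists_indep (hk : 5 ≤ finrank F U) (hk' : 5 ≤ finrank F U')
    (hU : ∀ u ∈ U, Q u = 0) (hU' : ∀ u ∈ U', Q u = 0)
    (hsup : ∀ x, ∃ a ∈ U, ∃ b ∈ U', x = a + b) (h₀ : ↥(isometryGroup F ⇑Q))
    (hnot1 : ¬ ((∀ x ∈ U, act Q h₀ x ∈ U) ∧ (∀ x ∈ U', act Q h₀ x ∈ U')))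
    (hnot2 : ¬ ((∀ x ∈ U, act Q h₀ x ∈ U') ∧ (∀ x ∈ U', act Q h₀ x ∈ U))) :
    ∃ w₀ ∈ U, ∃ v₀ ∈ U', ⟪w₀, v₀⟫ = 0 ∧ ∃ w₁ ∈ U, ∃ w₂ ∈ U', act Q h₀ w₀ = w₁ + w₂ ∧
      ∃ v₁ ∈ U, ∃ v₂ ∈ U', act Q h₀ v₀ = v₁ + v₂ ∧
      ((∀ s t : F, s • w₁ + t • v₁ = 0 → s = 0 ∧ t = 0) ∨
        (∀ s t : F, s • w₂ + t • v₂ = 0 → s = 0 ∧ t = 0)) := by
  by_contra hcon
  have hN : ∀ w₀ ∈ U, ∀ v₀ ∈ U', ⟪w₀, v₀⟫ = 0 → ∀ w₁ ∈ U, ∀ w₂ ∈ U', act Q h₀ w₀ = w₁ + w₂ →
      ∀ v₁ ∈ U, ∀ v₂ ∈ U', act Q h₀ v₀ = v₁ + v₂ →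
      (¬ ∀ s t : F, s • w₁ + t • v₁ = 0 → s = 0 ∧ t = 0) ∧
        (¬ ∀ s t : F, s • w₂ + t • v₂ = 0 → s = 0 ∧ t = 0) := by
    intro w₀ hw₀ v₀ hv₀ hwv w₁ hw₁ w₂ hw₂ hwd v₁ hv₁ v₂ hv₂ hvd
    constructor
    · intro h
      exact hcon ⟨w₀, hw₀, v₀, hv₀, hwv, w₁, hw₁, w₂, hw₂, hwd, v₁, hv₁, v₂, hv₂, hvd, Or.inl h⟩
    · intro h
      exact hcon ⟨w₀, hw₀, v₀, hv₀, hwv, w₁, hw₁, w₂, hw₂, hwd, v₁, hv₁, v₂, hv₂, hvd, Or.inr h⟩
  have aux : ∀ X X' : Submodule F (ι → F), 5 ≤ finrank F X' →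
      (∀ w₀ ∈ X, ∀ v₀ ∈ X', ⟪w₀, v₀⟫ = 0 → ∀ w₁ ∈ U, ∀ w₂ ∈ U', act Q h₀ w₀ = w₁ + w₂ →
        ∀ v₁ ∈ U, ∀ v₂ ∈ U', act Q h₀ v₀ = v₁ + v₂ →
        (w₁ ≠ 0 → ∃ c : F, v₁ = c • w₁) ∧ (w₂ ≠ 0 → ∃ c : F, v₂ = c • w₂)) →
      ∀ w₀ ∈ X, act Q h₀ w₀ ∈ U ∨ act Q h₀ w₀ ∈ U' := by
    intro X X' hX' hdep w₀ hw₀
    by_contra hnot
    push Not at hnot
    obtain ⟨hnU, hnU'⟩ := hnot
    obtain ⟨w₁, hw₁, w₂, hw₂, hwd⟩ := hsup (act Q h₀ w₀)
    have hw₁0 : w₁ ≠ 0 := by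
      rintro rfl
      rw [zero_add] at hwd
      exact hnU' (hwd ▸ hw₂)
    have hw₂0 : w₂ ≠ 0 := by
      rintro rfl
      rw [add_zero] at hwd
      exact hnU (hwd ▸ hw₁)
    have hdim := Submodule.finrank_sup_add_finrank_inf_eq X' (QGeom.perp2 Q w₀ w₀)
    have hdim2 := QGeom.finrank_perp2_ge Q w₀ w₀
    have hdim3 := Submodule.finrank_le (X' ⊔ QGeom.perp2 Q w₀ w₀)
    have hT := QGeom.finrank_span_pair_le (F := F) (act Q h₀⁻¹ w₁) (act Q h₀⁻¹ w₂)
    obtain ⟨v₀, hv₀, hv₀T⟩ := QGeom.exists_mem_notMem_of_finrank_lt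
      (S := X' ⊓ QGeom.perp2 Q w₀ w₀)
      (T := Submodule.span F (Set.range ![act Q h₀⁻¹ w₁, act Q h₀⁻¹ w₂])) (by omega)
    obtain ⟨hv₀X, hv₀p⟩ := Submodule.mem_inf.mp hv₀
    have hwv : ⟪w₀, v₀⟫ = 0 := ((QGeom.mem_perp2 Q).mp hv₀p).1
    obtain ⟨v₁, hv₁, v₂, hv₂, hvd⟩ := hsup (act Q h₀ v₀)
    obtain ⟨h1, h2⟩ := hdep w₀ hw₀ v₀ hv₀X hwv w₁ hw₁ w₂ hw₂ hwd v₁ hv₁ v₂ hv₂ hvd
    obtain ⟨c₁, hc₁⟩ := h1 hw₁0
    obtain ⟨c₂, hc₂⟩ := h2 hw₂0
    apply hv₀T
    have : v₀ = c₁ • act Q h₀⁻¹ w₁ + c₂ • act Q h₀⁻¹ w₂ := by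
      rw [← map_smul, ← map_smul, ← map_add, ← hc₁, ← hc₂, ← hvd, act_inv_act]
    rw [this]
    exact QGeom.mem_span_pair_of _ _ c₁ c₂
  have h1 : ∀ w₀ ∈ U, act Q h₀ w₀ ∈ U ∨ act Q h₀ w₀ ∈ U' := by
    apply aux U U' hk'
    intro w₀ hw₀ v₀ hv₀ hwv w₁ hw₁ w₂ hw₂ hwd v₁ hv₁ v₂ hv₂ hvd
    obtain ⟨hd1, hd2⟩ := hN w₀ hw₀ v₀ hv₀ hwv w₁ hw₁ w₂ hw₂ hwd v₁ hv₁ v₂ hv₂ hvd
    exact ⟨fun h => QGeom.exists_smul_of_dep hd1 h, fun h => QGeom.exists_smul_of_dep hd2 h⟩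
  have h2 : ∀ w₀ ∈ U', act Q h₀ w₀ ∈ U ∨ act Q h₀ w₀ ∈ U' := by
    apply aux U' U hk
    intro w₀ hw₀ v₀ hv₀ hwv w₁ hw₁ w₂ hw₂ hwd v₁ hv₁ v₂ hv₂ hvd
    obtain ⟨hd1, hd2⟩ := hN v₀ hv₀ w₀ hw₀ (by rw [QuadraticMap.polar_comm]; exact hwv)
      v₁ hv₁ v₂ hv₂ hvd w₁ hw₁ w₂ hw₂ hwd
    exact ⟨fun h => QGeom.exists_smul_of_dep' hd1 h, fun h => QGeom.exists_smul_of_dep' hd2 h⟩
  have sumtrick : ∀ X : Submodule F (ι → F), (∀ x ∈ X, act Q h₀ x ∈ U ∨ act Q h₀ x ∈ U') →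
      (∀ x ∈ X, act Q h₀ x ∈ U) ∨ (∀ x ∈ X, act Q h₀ x ∈ U') := by
    intro X hX
    by_contra hc
    push Not at hc
    obtain ⟨⟨x, hx, hxU⟩, ⟨x', hx', hx'U'⟩⟩ := hc
    have hxU' : act Q h₀ x ∈ U' := (hX x hx).resolve_left hxU
    have hx'U : act Q h₀ x' ∈ U := (hX x' hx').resolve_right hx'U'
    rcases hX (x + x') (X.add_mem hx hx') with h | h
    · rw [map_add] at h
      apply hxU
      have : act Q h₀ x = act Q h₀ x + act Q h₀ x' - act Q h₀ x' := by abel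
      rw [this]
      exact U.sub_mem h hx'U
    · rw [map_add] at h
      apply hx'U'
      have : act Q h₀ x' = act Q h₀ x + act Q h₀ x' - act Q h₀ x := by abel
      rw [this]
      exact U'.sub_mem h hxU'
  have hne : ∀ X : Submodule F (ι → F), 5 ≤ finrank F X → ∃ x ∈ X, x ≠ 0 := by
    intro X hX
    have : X ≠ ⊥ := by
      rintro rfl
      rw [finrank_bot] at hX
      omega
    exact Submodule.exists_mem_ne_zero_of_ne_bot this
  rcases sumtrick U h1 with hUU | hUU' <;> rcases sumtrick U' h2 with hU'U | hU'U'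
  · have hall : ∀ x, act Q h₀ x ∈ U := by
      intro x
      obtain ⟨a, ha, b, hb, rfl⟩ := hsup x
      rw [map_add]
      exact U.add_mem (hUU a ha) (hU'U b hb)
    obtain ⟨x, hx, hx0⟩ := hne U' hk'
    have : x ∈ U := by
      have := hall (act Q h₀⁻¹ x)
      rwa [act_act_inv] at this
    exact hx0 (pair_eq_zero Q hQ U U' hU hU' hsup this hx)
  · exact hnot1 ⟨hUU, hU'U'⟩
  · exact hnot2 ⟨hUU', hU'U⟩
  · have hall : ∀ x, act Q h₀ x ∈ U' := by
      intro x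
      obtain ⟨a, ha, b, hb, rfl⟩ := hsup x
      rw [map_add]
      exact U'.add_mem (hUU' a ha) (hU'U' b hb)
    obtain ⟨x, hx, hx0⟩ := hne U hk
    have : x ∈ U' := by
      have := hall (act Q h₀⁻¹ x)
      rwa [act_act_inv] at this
    exact hx0 (pair_eq_zero Q hQ U U' hU hU' hsup hx this)

include hQ in
/-- A subgroup containing the isometries of the root subgroup that stabilise both `U` and `U'`, an
element interchanging them, and an element neither stabilising nor interchanging them, contains the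
root subgroup. -/
theorem rootSubgroup_le_of_pair (hk : 5 ≤ finrank F U) (hk' : 5 ≤ finrank F U')
    (hU : ∀ u ∈ U, Q u = 0) (hU' : ∀ u ∈ U', Q u = 0)
    (hsup : ∀ x, ∃ a ∈ U, ∃ b ∈ U', x = a + b)
    (hP1 : ∀ g ∈ rootSubgroup Q, (∀ x ∈ U, act Q g x ∈ U) → (∀ x ∈ U', act Q g x ∈ U') → g ∈ H)
    (hσ : ∃ σ ∈ H, (∀ x ∈ U, act Q σ x ∈ U') ∧ (∀ x ∈ U', act Q σ x ∈ U))
    (h₀ : ↥(isometryGroup F ⇑Q)) (hh₀ : h₀ ∈ H)
    (hnot1 : ¬ ((∀ x ∈ U, act Q h₀ x ∈ U) ∧ (∀ x ∈ U', act Q h₀ x ∈ U')))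
    (hnot2 : ¬ ((∀ x ∈ U, act Q h₀ x ∈ U') ∧ (∀ x ∈ U', act Q h₀ x ∈ U))) :
    rootSubgroup Q ≤ H := by
  have hd : 5 ≤ Fintype.card ι := by
    have := Submodule.finrank_le U
    rw [Module.finrank_fintype_fun_eq_card] at this
    omega
  have hsup' : ∀ x, ∃ a ∈ U', ∃ b ∈ U, x = a + b := by
    intro x
    obtain ⟨a, ha, b, hb, rfl⟩ := hsup x
    exact ⟨b, hb, a, ha, add_comm a b⟩
  have hP1' : ∀ g ∈ rootSubgroup Q, (∀ x ∈ U', act Q g x ∈ U') → (∀ x ∈ U, act Q g x ∈ U) → g ∈ H :=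
    fun g hg h1 h2 => hP1 g hg h2 h1
  obtain ⟨w₀, hw₀, v₀, hv₀, hwv, w₁, hw₁, w₂, hw₂, hwd, v₁, hv₁, v₂, hv₂, hvd, hind⟩ :=
    pair_exists_indep Q hQ U U' hk hk' hU hU' hsup h₀ hnot1 hnot2
  have hsw : SiegIn Q H (act Q h₀ w₀) (act Q h₀ v₀) :=
    siegIn_conj Q H hh₀ (pair_mixed Q hQ U U' H hU hU' hP1 hw₀ hv₀ hwv)
  have hwQ : Q (act Q h₀ w₀) = 0 := by rw [Q_act]; exact hU w₀ hw₀
  have hvQ : Q (act Q h₀ v₀) = 0 := by rw [Q_act]; exact hU' v₀ hv₀
  have hwv' : ⟪act Q h₀ w₀, act Q h₀ v₀⟫ = 0 := by rw [polar_act]; exact hwv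
  have hfull : (∃ u ∈ U, FullAt Q H u) ∨ (∃ u ∈ U', FullAt Q H u) := by
    rcases hind with hind | hind
    · left
      exact pair_step Q hQ U U' H hd hk hU hU' hsup hP1 hwQ hvQ hwv' hsw hw₁ hw₂ hwd hv₁ hv₂ hvd hind
    · right
      exact pair_step Q hQ U' U H hd hk' hU' hU hsup' hP1' hwQ hvQ hwv' hsw hw₂ hw₁
        (by rw [hwd, add_comm]) hv₂ hv₁ (by rw [hvd, add_comm]) hind
  obtain ⟨σ, hσH, hσU, hσU'⟩ := hσ
  have hboth : (∃ u ∈ U, FullAt Q H u) ∧ (∃ u ∈ U', FullAt Q H u) := by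
    rcases hfull with ⟨u, hu, hf⟩ | ⟨u, hu, hf⟩
    · exact ⟨⟨u, hu, hf⟩, ⟨act Q σ u, hσU u hu, fullAt_conj Q H hσH hf⟩⟩
    · exact ⟨⟨act Q σ u, hσU' u hu, fullAt_conj Q H hσH hf⟩, ⟨u, hu, hf⟩⟩
  obtain ⟨⟨u, hu, hfu⟩, ⟨u', hu', hfu'⟩⟩ := hboth
  obtain ⟨y, hy, -, hyu⟩ := pair_exists_perp Q hQ U U' hU hU' hsup ⊥ bot_le hu (by
    rw [Submodule.mem_bot]
    exact hfu.1)
  have hy0 : y ≠ 0 := by
    rintro rfl
    exact hyu (by simp)
  have hfy := pair_fullAt_trans Q hQ U' U H hU' hU hsup' hP1' hu' hfu' hy hy0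
  exact rootSubgroup_le_of_fullAt_pair Q hQ H hd hfu hfy (by rw [QuadraticMap.polar_comm]; exact hyu)

omit [Finite F] [DecidableEq ι] in
theorem polar_sum_right' {κ : Type*} (s : Finset κ) (a : ι → F) (g : κ → ι → F) :
    ⟪a, ∑ i ∈ s, g i⟫ = ∑ i ∈ s, ⟪a, g i⟫ := by
  have h := map_sum (QuadraticMap.polarBilin Q a) g s
  simp only [QuadraticMap.polarBilin_apply_apply] at h
  exact h

include hQ in
/-- the product of two reflections in vectors of the same norm lies in the root subgroup -/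
theorem refl_mul_refl_mem (hd : 5 ≤ Fintype.card ι) {a b : ι → F} (ha : Q a ≠ 0) (hb : Q b ≠ 0)
    (hab : Q b = Q a) : reflectionIsom Q a ha * reflectionIsom Q b hb ∈ rootSubgroup Q := by
  obtain ⟨s, hs, hsa⟩ := exists_move_of_Q_eq Q hQ hd ha hab
  have hv' : Q (act Q s a) ≠ 0 := by rw [Q_act]; exact ha
  have h1 := conj_reflectionIsom Q s ha hv'
  have h2 : reflectionIsom Q (act Q s a) hv' = reflectionIsom Q b hb := by
    apply act_ext
    intro x
    rw [reflectionIsom_act, reflectionIsom_act, hsa]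
  have h3 : reflectionIsom Q a ha * reflectionIsom Q b hb =
      (reflectionIsom Q a ha * s * (reflectionIsom Q a ha)⁻¹) * s⁻¹ := by
    rw [← h2, ← h1, reflectionIsom_inv]
    group
  rw [h3]
  exact (rootSubgroup Q).mul_mem ((rootSubgroup_normal Q hQ).conj_mem s hs _)
    ((rootSubgroup Q).inv_mem hs)

include hQ in
/-- If `dim U` is even, some element of the root subgroup interchanges `U` and `U'`. -/
theorem exists_pair_swap (hd : 5 ≤ Fintype.card ι) (hU : ∀ u ∈ U, Q u = 0) (hU' : ∀ u ∈ U', Q u = 0)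
    (hsup : ∀ x, ∃ a ∈ U, ∃ b ∈ U', x = a + b) (hev : Even (finrank F U)) :
    ∃ σ ∈ rootSubgroup Q, (∀ x ∈ U, act Q σ x ∈ U') ∧ (∀ x ∈ U', act Q σ x ∈ U) := by
  classical
  let e : Basis (Fin (finrank F U)) F U := Module.finBasis F U
  have hli : LinearIndependent F (fun j => (e j : ι → F)) :=
    e.linearIndependent.map' U.subtype (Submodule.ker_subtype U)
  have hdual : ∀ i, ∃ y ∈ U', (∀ j, j ≠ i → ⟪(e j : ι → F), y⟫ = 0) ∧ ⟪(e i : ι → F), y⟫ = 1 := by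
    intro i
    have hTU : Submodule.span F ((fun j => (e j : ι → F)) '' {j | j ≠ i}) ≤ U := by
      rw [Submodule.span_le]
      rintro _ ⟨j, -, rfl⟩
      exact (e j).2
    have hei : (e i : ι → F) ∉ Submodule.span F ((fun j => (e j : ι → F)) '' {j | j ≠ i}) :=
      hli.notMem_span_image (by simp)
    obtain ⟨y, hy, hyT, hyi⟩ := pair_exists_perp Q hQ U U' hU hU' hsup _ hTU (e i).2 hei
    have hyi' : ⟪(e i : ι → F), y⟫ ≠ 0 := by
      rw [QuadraticMap.polar_comm]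
      exact hyi
    refine ⟨(⟪(e i : ι → F), y⟫)⁻¹ • y, U'.smul_mem _ hy, ?_, ?_⟩
    · intro j hj
      rw [QuadraticMap.polar_smul_right, hyT _ (Submodule.subset_span ⟨j, hj, rfl⟩), smul_zero]
    · rw [QuadraticMap.polar_smul_right, smul_eq_mul, inv_mul_cancel₀ hyi']
  choose f hfU' hfne hfeq using hdual
  have hef : ∀ i j, ⟪(e i : ι → F), f j⟫ = if i = j then 1 else 0 := by
    intro i j
    split_ifs with h
    · subst h
      exact hfeq i
    · exact hfne j i h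
  have haQ : ∀ i, Q ((e i : ι → F) - f i) = -1 := by
    intro i
    rw [sub_eq_add_neg, QuadraticMap.map_add (⇑Q), QuadraticMap.map_neg, hU _ (e i).2,
      hU' _ (hfU' i), QuadraticMap.polar_neg_right, hfeq i]
    ring
  have hane : ∀ i, Q ((e i : ι → F) - f i) ≠ 0 := fun i => by
    rw [haQ i]
    exact neg_ne_zero.mpr one_ne_zero
  obtain ⟨r, hr⟩ : ∃ r : Fin (finrank F U) → ↥(isometryGroup F ⇑Q),
      ∀ i, r i = reflectionIsom Q _ (hane i) := ⟨fun i => reflectionIsom Q _ (hane i), fun _ => rfl⟩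
  have hract : ∀ i x, act Q (r i) x = x + ⟪(e i : ι → F) - f i, x⟫ • ((e i : ι → F) - f i) := by
    intro i x
    rw [hr, reflectionIsom_act, haQ i]
    have : -((-1 : F)⁻¹ * ⟪(e i : ι → F) - f i, x⟫) = ⟪(e i : ι → F) - f i, x⟫ := by
      rw [inv_neg, inv_one]
      ring
    rw [this]
  have hre : ∀ i j, act Q (r i) (e j : ι → F) = if j = i then f i else (e j : ι → F) := by
    intro i j
    rw [hract, QuadraticMap.polar_sub_left, QGeom.polar_eq_zero_of_sing Q hU (e i).2 (e j).2,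
      QuadraticMap.polar_comm (⇑Q) (f i), hef j i]
    by_cases h : j = i
    · subst h
      rw [if_pos rfl, if_pos rfl]
      module
    · rw [if_neg h, if_neg h]
      simp
  have hrf : ∀ i j, act Q (r i) (f j) = if j = i then (e i : ι → F) else f j := by
    intro i j
    rw [hract, QuadraticMap.polar_sub_left, hef i j,
      QGeom.polar_eq_zero_of_sing Q hU' (hfU' i) (hfU' j)]
    by_cases h : j = i
    · subst h
      rw [if_pos rfl, if_pos rfl]
      module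
    · rw [if_neg h, if_neg (fun h' => h h'.symm)]
      simp
  have hprod : ∀ l : List (Fin (finrank F U)), l.Nodup → ∀ j,
      act Q (l.map r).prod (e j : ι → F) = (if j ∈ l then f j else (e j : ι → F)) ∧
      act Q (l.map r).prod (f j) = (if j ∈ l then (e j : ι → F) else f j) := by
    intro l
    induction l with
    | nil =>
      intro _ j
      simp [act_one]
    | cons i l ih =>
      intro hnd j
      rw [List.nodup_cons] at hnd
      obtain ⟨hi, hnd'⟩ := hnd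
      obtain ⟨ih1, ih2⟩ := ih hnd' j
      rw [List.map_cons, List.prod_cons, act_mul, act_mul, ih1, ih2]
      by_cases hji : j = i
      · subst hji
        rw [if_neg hi, if_neg hi, hre, hrf]
        simp
      · by_cases hjl : j ∈ l
        · rw [if_pos hjl, if_pos hjl, hrf, hre, if_neg hji, if_neg hji]
          simp [hjl]
        · rw [if_neg hjl, if_neg hjl, hre, hrf, if_neg hji, if_neg hji]
          simp [hji, hjl]
  have hmem : ∀ n : ℕ, ∀ l : List (Fin (finrank F U)), l.length = 2 * n →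
      (l.map r).prod ∈ rootSubgroup Q := by
    intro n
    induction n with
    | zero =>
      intro l hl
      have : l = [] := List.length_eq_zero_iff.mp (by omega)
      subst this
      simp
    | succ n ih =>
      intro l hl
      match l, hl with
      | [], hl => simp at hl
      | [_], hl => simp at hl; omega
      | i :: j :: l', hl =>
        rw [List.map_cons, List.map_cons, List.prod_cons, List.prod_cons, ← mul_assoc]
        refine (rootSubgroup Q).mul_mem ?_ (ih l' (by simp at hl; omega))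
        rw [hr, hr]
        exact refl_mul_refl_mem Q hQ hd (hane i) (hane j) (by rw [haQ, haQ])
  have hrepr : ∀ x ∈ U, ∃ c : Fin (finrank F U) → F, x = ∑ i, c i • (e i : ι → F) := by
    intro x hx
    refine ⟨fun i => e.repr ⟨x, hx⟩ i, ?_⟩
    have := congrArg Subtype.val (e.sum_repr ⟨x, hx⟩)
    simp only [Submodule.coe_sum, Submodule.coe_smul] at this
    exact this.symm
  obtain ⟨n, hn⟩ := hev
  have hlen : (List.finRange (finrank F U)).length = 2 * n := by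
    rw [List.length_finRange, hn]
    ring
  refine ⟨_, hmem n _ hlen, ?_, ?_⟩
  · intro x hx
    obtain ⟨c, rfl⟩ := hrepr x hx
    rw [map_sum]
    apply Submodule.sum_mem
    intro i _
    rw [map_smul, (hprod _ (List.nodup_finRange _) i).1, if_pos (List.mem_finRange i)]
    exact U'.smul_mem _ (hfU' i)
  · intro x hx
    have h0 : x - ∑ i, ⟪(e i : ι → F), x⟫ • f i = 0 := by
      apply pair_eq_zero_of_perp Q hQ U U' hU' hsup
        (U'.sub_mem hx (Submodule.sum_mem _ (fun i _ => U'.smul_mem _ (hfU' i))))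
      intro u hu
      obtain ⟨c, rfl⟩ := hrepr u hu
      rw [polar_sum_right']
      apply Finset.sum_eq_zero
      intro j _
      rw [QuadraticMap.polar_smul_right, QuadraticMap.polar_comm, QuadraticMap.polar_sub_right,
        polar_sum_right']
      have : ∑ i, ⟪(e j : ι → F), ⟪(e i : ι → F), x⟫ • f i⟫ = ⟪(e j : ι → F), x⟫ := by
        simp only [QuadraticMap.polar_smul_right, hef, smul_eq_mul, mul_ite, mul_one, mul_zero]
        rw [Finset.sum_ite_eq]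
        simp
      rw [this, sub_self, smul_zero]
    obtain ⟨c, hc⟩ : ∃ c : Fin (finrank F U) → F, x = ∑ i, c i • f i :=
      ⟨_, sub_eq_zero.mp h0⟩
    rw [hc, map_sum]
    apply Submodule.sum_mem
    intro i _
    rw [map_smul, (hprod _ (List.nodup_finRange _) i).2, if_pos (List.mem_finRange i)]
    exact U.smul_mem _ (e i).2

end

end Cfsg.Agent.Lib.helper7.RootElt
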