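/-
Maximality of stabilisers of totally singular subspaces in `Ω(Q)`, for a form given as a function
satisfying `Cfsg.Geo.IsNondegenerateQuadraticForm`.
-/
import Mathlib
import Cfsg.Prelude.Def_GeometricClasses
import Cfsg.Agent.S0786
import Cfsg.Agent.Lib.helper95.OmegaTools
import Cfsg.Agent.Lib.helper7.RootParab

set_option autoImplicit false

namespace Cfsg.Agent.Lib.helper7.RootElt

open Cfsg Module

variable {F : Type*} [Field F] [Fintype F] {ι : Type} [Fintype ι] [DecidableEq ι]

omit [Fintype F] [Fintype ι] [DecidableEq ι] in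
/-- the polar form of the bundled version of a non-degenerate quadratic form is non-degenerate -/
theorem polarBilin_qfOfNondeg_nondegenerate (Q : (ι → F) → F)
    (hQ : Cfsg.Geo.IsNondegenerateQuadraticForm Q) :
    (QuadraticMap.polarBilin (Cfsg.Agent.Lib.helper95.qfOfNondeg Q hQ)).Nondegenerate := by
  constructor
  · intro x hx
    by_contra hx0
    obtain ⟨y, hy⟩ := (hQ.nondegenerate x hx0).2
    exact hy (hx y)
  · intro y hy
    by_contra hy0
    obtain ⟨x, hx⟩ := (hQ.nondegenerate y hy0).1
    exact hx (hy x)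

/-- Stabilisers of totally singular subspaces are maximal in `Ω(Q)`, function version. -/
theorem isMaximalIn_stab_sing_fun (Q : (ι → F) → F) (hQ : Cfsg.Geo.IsNondegenerateQuadraticForm Q)
    (hd : 7 ≤ Fintype.card ι)
    (W : Submodule F (ι → F)) (hW0 : W ≠ ⊥) (hW : Cfsg.Geo.IsTotallySingularQuad Q W)
    (hW2 : ∀ T : Submodule F (ι → F), W < T → Cfsg.Geo.IsTotallySingularQuad Q T →
      2 * finrank F W + 3 ≤ Fintype.card ι) :
    Cfsg.Geo.IsMaximalIn (Cfsg.Geo.omegaGL Q)
      (Cfsg.Geo.subspaceStabilizer W ⊓ Cfsg.Geo.omegaGL Q) := by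
  have hnd := polarBilin_qfOfNondeg_nondegenerate Q hQ
  exact isMaximalIn_stab_sing (Cfsg.Agent.Lib.helper95.qfOfNondeg Q hQ) hnd hd
    (Cfsg.Agent.S0786.reflSubgroup_eq_top' _ hnd (Or.inr (by omega))) W hW0 hW hW2

omit [Fintype F] [DecidableEq ι] in
/-- a totally singular subspace has at most half the dimension, function version -/
theorem two_mul_finrank_le_of_sing_fun (Q : (ι → F) → F) (hQ : Cfsg.Geo.IsNondegenerateQuadraticForm Q)
    {T : Submodule F (ι → F)} (hT : Cfsg.Geo.IsTotallySingularQuad Q T) :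
    2 * finrank F T ≤ Fintype.card ι := by
  have h := QGeom.two_mul_finrank_le_of_sing (Cfsg.Agent.Lib.helper95.qfOfNondeg Q hQ)
    (polarBilin_qfOfNondeg_nondegenerate Q hQ) (T := T) hT
  rwa [Module.finrank_fintype_fun_eq_card] at h

end Cfsg.Agent.Lib.helper7.RootElt
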