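/-
helper7: the stabiliser (in `Ω`) of a pair of complementary totally singular subspaces of even dimension
is a maximal subgroup of `Ω` (wrapper statements in the vocabulary of `Cfsg.Geo`).
-/
import Mathlib
import Cfsg.Prelude.Def_GeometricClasses
import Cfsg.Agent.S0786
import Cfsg.Agent.Lib.helper95.OmegaTools
import Cfsg.Agent.Lib.helper7.RootPair
import Cfsg.Agent.Lib.helper7.RootParabFun

set_option autoImplicit false

namespace Cfsg.Agent.Lib.helper7.RootElt

open Matrix Cfsg Cfsg.Agent.Lib.helper17 Cfsg.Agent.Lib.helper49 Module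

section

variable {ι : Type} [Fintype ι] [DecidableEq ι] {F : Type*} [Field F] [Finite F]
  (Q : QuadraticForm F (ι → F)) (hQ : (QuadraticMap.polarBilin Q).Nondegenerate)

local notation "⟪" x ", " y "⟫" => QuadraticMap.polar (DFunLike.coe Q) x y

omit [Finite F] in
/-- an isometry mapping `W` into `W'` of the same dimension maps `W` onto `W'` -/
theorem map_eq_of_act_mem (W W' : Submodule F (ι → F)) (g : ↥(isometryGroup F ⇑Q))
    (hg : ∀ w ∈ W, act Q g w ∈ W') (hfr : finrank F W = finrank F W') :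
    W.map (Matrix.toLin' ((g : Matrix.GeneralLinearGroup ι F) : Matrix ι ι F)) = W' := by
  have hinj : Function.Injective
      (Matrix.toLin' ((g : Matrix.GeneralLinearGroup ι F) : Matrix ι ι F)) := by
    intro x y hxy
    have h1 : act Q g x = act Q g y := by
      rw [act_apply, act_apply, ← Matrix.toLin'_apply, ← Matrix.toLin'_apply]
      exact hxy
    have h2 := congrArg (act Q g⁻¹) h1
    rwa [act_inv_act, act_inv_act] at h2
  apply Submodule.eq_of_le_of_finrank_eq
  · rintro _ ⟨w, hw, rfl⟩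
    rw [Matrix.toLin'_apply, ← act_apply]
    exact hg w hw
  · rw [← hfr]
    exact (Submodule.equivMapOfInjective _ hinj W).finrank_eq.symm

omit [Finite F] in
/-- an isometry mapping `W` onto `W'` maps `W` into `W'` -/
theorem act_mem_of_map_eq (W W' : Submodule F (ι → F)) (g : ↥(isometryGroup F ⇑Q))
    (h : W.map (Matrix.toLin' ((g : Matrix.GeneralLinearGroup ι F) : Matrix ι ι F)) = W') :
    ∀ w ∈ W, act Q g w ∈ W' := by
  intro w hw
  rw [← h, act_apply, ← Matrix.toLin'_apply]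
  exact Submodule.mem_map_of_mem hw

omit [Finite F] in
/-- membership in the stabiliser of a decomposition into two subspaces -/
theorem mem_decompositionStabilizer_two_iff (D : Fin 2 → Submodule F (ι → F))
    (hfr : finrank F (D 0) = finrank F (D 1)) (g : ↥(isometryGroup F ⇑Q)) :
    (g : Matrix.GeneralLinearGroup ι F) ∈ Cfsg.Geo.decompositionStabilizer D ↔
      ((∀ x ∈ D 0, act Q g x ∈ D 0) ∧ (∀ x ∈ D 1, act Q g x ∈ D 1)) ∨
      ((∀ x ∈ D 0, act Q g x ∈ D 1) ∧ (∀ x ∈ D 1, act Q g x ∈ D 0)) := by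
  have h01 : ∀ i : Fin 2, i = 0 ∨ i = 1 := by decide
  constructor
  · rintro ⟨σ, hσ⟩
    rcases h01 (σ 0) with h0 | h0
    · have h1 : σ 1 = 1 := by
        rcases h01 (σ 1) with h1 | h1
        · exact absurd (σ.injective (h1.trans h0.symm)) (by decide)
        · exact h1
      left
      refine ⟨act_mem_of_map_eq Q _ _ g ?_, act_mem_of_map_eq Q _ _ g ?_⟩
      · rw [hσ 0, h0]
      · rw [hσ 1, h1]
    · have h1 : σ 1 = 0 := by
        rcases h01 (σ 1) with h1 | h1
        · exact h1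
        · exact absurd (σ.injective (h1.trans h0.symm)) (by decide)
      right
      refine ⟨act_mem_of_map_eq Q _ _ g ?_, act_mem_of_map_eq Q _ _ g ?_⟩
      · rw [hσ 0, h0]
      · rw [hσ 1, h1]
  · rintro (⟨h0, h1⟩ | ⟨h0, h1⟩)
    · refine ⟨1, fun i => ?_⟩
      rcases h01 i with rfl | rfl
      · exact map_eq_of_act_mem Q _ _ g h0 rfl
      · exact map_eq_of_act_mem Q _ _ g h1 rfl
    · refine ⟨Equiv.swap 0 1, fun i => ?_⟩
      rcases h01 i with rfl | rfl
      · rw [Equiv.swap_apply_left]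
        exact map_eq_of_act_mem Q _ _ g h0 hfr
      · rw [Equiv.swap_apply_right]
        exact map_eq_of_act_mem Q _ _ g h1 hfr.symm

include hQ in
/-- The stabiliser of a pair of complementary totally singular subspaces of even dimension `k ≥ 5` is a
maximal subgroup of `Ω(Q)`. -/
theorem isMaximalIn_stab_pair (hd : 7 ≤ Fintype.card ι) (hgen : reflSubgroup Q = ⊤)
    (D : Fin 2 → Submodule F (ι → F)) (k : ℕ) (hk5 : 5 ≤ k) (hke : Even k)
    (hD : Cfsg.Geo.IsMDecomposition k D) (hts : ∀ i, ∀ w ∈ D i, Q w = 0) :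
    Cfsg.Geo.IsMaximalIn (Cfsg.Geo.omegaGL ⇑Q)
      (Cfsg.Geo.decompositionStabilizer D ⊓ Cfsg.Geo.omegaGL ⇑Q) := by
  have hΩ := rootSubgroup_eq_Omega Q hQ hd hgen
  have hd5 : 5 ≤ Fintype.card ι := by omega
  have hmemΩ : ∀ g : ↥(isometryGroup F ⇑Q), g ∈ rootSubgroup Q →
      (g : Matrix.GeneralLinearGroup ι F) ∈ Cfsg.Geo.omegaGL ⇑Q := by
    intro g hg
    exact ⟨g, by rw [← hΩ]; exact hg, rfl⟩
  have hU := hts 0
  have hU' := hts 1
  have hfr0 : finrank F (D 0) = k := hD.finrank_eq 0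
  have hfr1 : finrank F (D 1) = k := hD.finrank_eq 1
  have hfr : finrank F (D 0) = finrank F (D 1) := by rw [hfr0, hfr1]
  have hsup : ∀ x, ∃ a ∈ D 0, ∃ b ∈ D 1, x = a + b := by
    intro x
    have h1 : iSup D ≤ D 0 ⊔ D 1 := by
      apply iSup_le
      intro i
      have h01 : ∀ i : Fin 2, i = 0 ∨ i = 1 := by decide
      rcases h01 i with rfl | rfl
      · exact le_sup_left
      · exact le_sup_right
    have hx : x ∈ D 0 ⊔ D 1 := h1 (by rw [hD.iSup_eq_top]; exact Submodule.mem_top)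
    obtain ⟨a, ha, b, hb, hab⟩ := Submodule.mem_sup.mp hx
    exact ⟨a, ha, b, hb, hab.symm⟩
  have hiff := mem_decompositionStabilizer_two_iff Q D hfr
  constructor
  · refine lt_of_le_of_ne inf_le_right ?_
    intro heq
    -- a root element with both vectors in `D 0`
    have hpos : 0 < finrank F (D 0) := by omega
    obtain ⟨u₂, hu₂, hu₂0⟩ : ∃ u₂ ∈ D 0, u₂ ≠ 0 := by
      have hne : D 0 ≠ ⊥ := by
        intro h
        rw [h, finrank_bot] at hpos
        exact lt_irrefl _ hpos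
      exact Submodule.exists_mem_ne_zero_of_ne_bot hne
    have hT : finrank F (Submodule.span F {u₂}) < finrank F (D 0) := by
      have := finrank_span_singleton (K := F) hu₂0
      omega
    obtain ⟨u, hu, huT⟩ := QGeom.exists_mem_notMem_of_finrank_lt hT
    have hTU : Submodule.span F {u₂} ≤ D 0 := by
      rw [Submodule.span_singleton_le_iff_mem]
      exact hu₂
    obtain ⟨y, hy, hyT, hyu⟩ := pair_exists_perp Q hQ (D 0) (D 1) hU hU' hsup _ hTU hu huT
    have hu0 : u ≠ 0 := by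
      rintro rfl
      exact huT (Submodule.zero_mem _)
    have huu₂ : ⟪u, u₂⟫ = 0 := QGeom.polar_eq_zero_of_sing Q hU hu hu₂
    have hmem := hmemΩ _ (rootElt_mem Q hQ (hU u hu) (hU u₂ hu₂) huu₂ 1)
    have h1 : ((rootElt Q hQ u u₂ 1 : ↥(isometryGroup F ⇑Q)) : Matrix.GeneralLinearGroup ι F) ∈
        Cfsg.Geo.decompositionStabilizer D ⊓ Cfsg.Geo.omegaGL ⇑Q := by
      rw [heq]
      exact hmem
    rcases (hiff _).mp h1.1 with ⟨-, h3⟩ | ⟨h2, -⟩
    · have h4 := h3 y hy
      rw [rootElt_act Q hQ (hU u hu) (hU u₂ hu₂) huu₂,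
        hyT u₂ (Submodule.mem_span_singleton_self u₂), mul_zero, neg_zero, zero_smul, add_zero,
        one_mul] at h4
      have h5 : ⟪u, y⟫ • u₂ ∈ D 1 := by
        have := (D 1).sub_mem h4 hy
        rwa [add_sub_cancel_left] at this
      have h6 := pair_eq_zero Q hQ (D 0) (D 1) hU hU' hsup ((D 0).smul_mem _ hu₂) h5
      rcases smul_eq_zero.mp h6 with h7 | h7
      · rw [QuadraticMap.polar_comm] at h7
        exact hyu h7
      · exact hu₂0 h7
    · have h4 := h2 u hu
      rw [rootElt_act Q hQ (hU u hu) (hU u₂ hu₂) huu₂,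
        QGeom.polar_eq_zero_of_sing Q hU hu hu, QGeom.polar_eq_zero_of_sing Q hU hu₂ hu, mul_zero,
        neg_zero, zero_smul, zero_smul, add_zero, add_zero] at h4
      exact hu0 (pair_eq_zero Q hQ (D 0) (D 1) hU hU' hsup hu h4)
  · intro M hPM hMG
    by_cases hM : M ≤ Cfsg.Geo.decompositionStabilizer D
    · left
      exact le_antisymm (le_inf hM hMG) hPM
    · right
      refine le_antisymm hMG ?_
      obtain ⟨k₀, hkM, hkW⟩ := SetLike.not_le_iff_exists.mp hM
      obtain ⟨k'', hk''Ω, rfl⟩ := hMG hkM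
      have hnot := fun h => hkW ((hiff k'').mpr h)
      obtain ⟨σ, hσ, hσ1, hσ2⟩ := exists_pair_swap Q hQ (D 0) (D 1) hd5 hU hU' hsup
        (by rw [hfr0]; exact hke)
      have key := rootSubgroup_le_of_pair Q hQ (D 0) (D 1)
        (M.comap (isometryGroup F ⇑Q).subtype) (by omega) (by omega) hU hU' hsup
        (fun g hg h0 h1 => hPM ⟨(hiff g).mpr (Or.inl ⟨h0, h1⟩), hmemΩ g hg⟩)
        ⟨σ, hPM ⟨(hiff σ).mpr (Or.inr ⟨hσ1, hσ2⟩), hmemΩ σ hσ⟩, hσ1, hσ2⟩
        k'' hkM (fun h => hnot (Or.inl h)) (fun h => hnot (Or.inr h))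
      rintro _ ⟨g, hg, rfl⟩
      exact key (by rw [hΩ]; exact hg)

end

section

variable {F : Type*} [Field F] [Fintype F] {ι : Type} [Fintype ι] [DecidableEq ι]

/-- Stabilisers of pairs of complementary totally singular subspaces of even dimension are maximal in
`Ω(Q)`, function version. -/
theorem isMaximalIn_stab_pair_fun (Q : (ι → F) → F) (hQ : Cfsg.Geo.IsNondegenerateQuadraticForm Q)
    (hd : 7 ≤ Fintype.card ι) (D : Fin 2 → Submodule F (ι → F)) (k : ℕ) (hk5 : 5 ≤ k) (hke : Even k)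
    (hD : Cfsg.Geo.IsMDecomposition k D) (hts : ∀ i, Cfsg.Geo.IsTotallySingularQuad Q (D i)) :
    Cfsg.Geo.IsMaximalIn (Cfsg.Geo.omegaGL Q)
      (Cfsg.Geo.decompositionStabilizer D ⊓ Cfsg.Geo.omegaGL Q) := by
  have hnd := polarBilin_qfOfNondeg_nondegenerate Q hQ
  exact isMaximalIn_stab_pair (Cfsg.Agent.Lib.helper95.qfOfNondeg Q hQ) hnd hd
    (Cfsg.Agent.S0786.reflSubgroup_eq_top' _ hnd (Or.inr (by omega))) D k hk5 hke hD hts

end

end Cfsg.Agent.Lib.helper7.RootElt
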