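import Mathlib
import Cfsg.Agent.Lib.helper51.S2113Defs
import Cfsg.Agent.Lib.helper69.StemSylow

/-!
# S2113, piece R2: lifts of `T 0 u v` commute with lifts of `T 0 0 w` (racing copy)
-/

set_option autoImplicit false

namespace Cfsg.Agent.Lib.helper7.S2113

open scoped commutatorElement
open Cfsg.Agent.Lib.helper51.S2113 Cfsg.Agent.Lib.helper69

/-- PIECE R2: lifts of `T 0 u v` commute with lifts of `T 0 0 w`. -/
theorem helper7_r2 {K G Γ : Type*} [Field K] [Group G] [Group Γ] (σ : Γ →* G)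
    (hsurj : Function.Surjective σ) (hc : σ.ker ≤ Subgroup.center Γ) (T : K → K → K → G) (e : ℕ)
    (c : K → K → K) (D : UData K G T e c)
    (h1 : ∀ x y : Γ, (∃ w, σ x = T 0 0 w) → (∃ w, σ y = T 0 0 w) → x * y = y * x)
    (hbc : ∀ B : K → K → Γ, (∀ s s' t, B (s + s') t = B s t * B s' t) →
      (∀ s t t', B s (t + t') = B s t * B s t') →
      (∀ ν s t, ν ≠ 0 → B (ν * (ν ^ e) ^ 3 * s) (ν ^ 2 * (ν ^ e) ^ 3 * t) = B s t) →
      ∀ s t, B s t = 1)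
    (x y : Γ) (hx : ∃ u v, σ x = T 0 u v) (hy : ∃ w, σ y = T 0 0 w) : x * y = y * x := by
  obtain ⟨ℓ, hℓ⟩ := hsurj.hasRightInverse
  have hmcomm : ∀ u w, T 0 u 0 * T 0 0 w = T 0 0 w * T 0 u 0 := by
    intro u w; rw [D.top_r, D.top_l]
  have hcen : ∀ u w, ⁅ℓ (T 0 u 0), ℓ (T 0 0 w)⁆ ∈ Subgroup.center Γ := by
    intro u w
    apply commutatorElement_mem_center_of_central σ hc
    rw [hℓ, hℓ]; exact hmcomm u w
  have hB : ∀ s t, ⁅ℓ (T 0 s 0), ℓ (T 0 0 t)⁆ = 1 := by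
    apply hbc (fun s t => ⁅ℓ (T 0 s 0), ℓ (T 0 0 t)⁆)
    · intro s s' t
      show ⁅ℓ (T 0 (s + s') 0), ℓ (T 0 0 t)⁆ = ⁅ℓ (T 0 s 0), ℓ (T 0 0 t)⁆ * ⁅ℓ (T 0 s' 0), ℓ (T 0 0 t)⁆
      rw [← stem_commutatorElement_mul_left _ _ _ (hcen s' t)]
      apply commutatorElement_congr_of_central σ hc
      · rw [map_mul, hℓ, hℓ, hℓ, D.mid]
      · rfl
    · intro s t t'
      show ⁅ℓ (T 0 s 0), ℓ (T 0 0 (t + t'))⁆ = ⁅ℓ (T 0 s 0), ℓ (T 0 0 t)⁆ * ⁅ℓ (T 0 s 0), ℓ (T 0 0 t')⁆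
      rw [← stem_commutatorElement_mul_right _ _ _ (hcen s t')]
      apply commutatorElement_congr_of_central σ hc
      · rfl
      · rw [map_mul, hℓ, hℓ, hℓ, D.top_r]
    · intro ν s t hν0
      show ⁅ℓ (T 0 (ν * (ν ^ e) ^ 3 * s) 0), ℓ (T 0 0 (ν ^ 2 * (ν ^ e) ^ 3 * t))⁆ =
        ⁅ℓ (T 0 s 0), ℓ (T 0 0 t)⁆
      obtain ⟨h, hh⟩ := D.tor ν hν0
      have hh1 : ∀ u, h * T 0 u 0 * h⁻¹ = T 0 (ν * (ν ^ e) ^ 3 * u) 0 := by
        intro u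
        rw [hh, mul_zero, mul_zero]
      have hh2 : ∀ w, h * T 0 0 w * h⁻¹ = T 0 0 (ν ^ 2 * (ν ^ e) ^ 3 * w) := by
        intro w
        rw [hh, mul_zero, mul_zero]
      rw [← commutatorElement_conj_of_central (ℓ h) _ _ (hcen s t)]
      apply commutatorElement_congr_of_central σ hc
      · rw [map_mul, map_mul, map_inv, hℓ, hℓ, hℓ, hh1]
      · rw [map_mul, map_mul, map_inv, hℓ, hℓ, hℓ, hh2]
  obtain ⟨u, v, hxu⟩ := hx
  obtain ⟨w, hyw⟩ := hy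
  obtain ⟨p, hp⟩ : ∃ p : Γ, p = ℓ (T 0 u 0) := ⟨_, rfl⟩
  obtain ⟨q, hq⟩ : ∃ q : Γ, q = ℓ (T 0 0 v) := ⟨_, rfl⟩
  obtain ⟨r, hr⟩ : ∃ r : Γ, r = ℓ (T 0 0 w) := ⟨_, rfl⟩
  have hσp : σ p = T 0 u 0 := by rw [hp, hℓ]
  have hσq : σ q = T 0 0 v := by rw [hq, hℓ]
  have hσr : σ r = T 0 0 w := by rw [hr, hℓ]
  have hpr : p * r = r * p := by
    have := hB u w
    rw [commutatorElement_eq_one_iff_mul_comm] at this
    rw [hp, hr]; exact this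
  have hqr : q * r = r * q := h1 q r ⟨v, hσq⟩ ⟨w, hσr⟩
  have e1 : ⁅x, y⁆ = ⁅p * q, r⁆ := by
    apply commutatorElement_congr_of_central σ hc
    · rw [map_mul, hσp, hσq, hxu, D.top_r, zero_add]
    · rw [hσr, hyw]
  have e2 : ⁅p * q, r⁆ = 1 := by
    rw [commutatorElement_eq_one_iff_mul_comm]
    calc p * q * r = p * (q * r) := by group
      _ = p * (r * q) := by rw [hqr]
      _ = (p * r) * q := by group
      _ = (r * p) * q := by rw [hpr]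
      _ = r * (p * q) := by group
  rw [e2, commutatorElement_eq_one_iff_mul_comm] at e1
  exact e1

end Cfsg.Agent.Lib.helper7.S2113
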