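import Mathlib
import Cfsg.Agent.Lib.helper51.S2113Defs
import Cfsg.Agent.Lib.helper69.StemSylow

/-!
# S2113, piece R4: lifts of `T 0 u v` commute pairwise (racing copy)
-/

set_option autoImplicit false

namespace Cfsg.Agent.Lib.helper7.S2113

open scoped commutatorElement
open Cfsg.Agent.Lib.helper51.S2113 Cfsg.Agent.Lib.helper69

/-- PIECE R4: lifts of `T 0 u v` commute pairwise. -/
theorem helper7_r4 {K G Γ : Type*} [Field K] [Group G] [Group Γ] (σ : Γ →* G)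
    (hsurj : Function.Surjective σ) (hc : σ.ker ≤ Subgroup.center Γ) (T : K → K → K → G) (e : ℕ)
    (c : K → K → K) (D : UData K G T e c)
    (h2 : ∀ x y : Γ, (∃ u v, σ x = T 0 u v) → (∃ w, σ y = T 0 0 w) → x * y = y * x)
    (hsq : ∀ B : K → K → Γ, (∀ s s' t, B (s + s') t = B s t * B s' t) →
      (∀ s t t', B s (t + t') = B s t * B s t') →
      (∀ a s t, a ≠ 0 → B (a ^ 2 * s) (a ^ 2 * t) = B s t) → ∀ s t, B s t = 1)
    (x y : Γ) (hx : ∃ u v, σ x = T 0 u v) (hy : ∃ u v, σ y = T 0 u v) : x * y = y * x := by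
  obtain ⟨ℓ, hℓ⟩ := hsurj.hasRightInverse
  -- the elements `T 0 u 0` commute
  have hmcomm : ∀ u u', T 0 u 0 * T 0 u' 0 = T 0 u' 0 * T 0 u 0 := by
    intro u u'; rw [D.mid, D.mid, add_comm]
  have hcen : ∀ u u', ⁅ℓ (T 0 u 0), ℓ (T 0 u' 0)⁆ ∈ Subgroup.center Γ := by
    intro u u'
    apply commutatorElement_mem_center_of_central σ hc
    rw [hℓ, hℓ]; exact hmcomm u u'
  have hB : ∀ s t, ⁅ℓ (T 0 s 0), ℓ (T 0 t 0)⁆ = 1 := by
    apply hsq (fun s t => ⁅ℓ (T 0 s 0), ℓ (T 0 t 0)⁆)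
    · intro s s' t
      show ⁅ℓ (T 0 (s + s') 0), ℓ (T 0 t 0)⁆ = ⁅ℓ (T 0 s 0), ℓ (T 0 t 0)⁆ * ⁅ℓ (T 0 s' 0), ℓ (T 0 t 0)⁆
      rw [← stem_commutatorElement_mul_left _ _ _ (hcen s' t)]
      apply commutatorElement_congr_of_central σ hc
      · rw [map_mul, hℓ, hℓ, hℓ, D.mid]
      · rfl
    · intro s t t'
      show ⁅ℓ (T 0 s 0), ℓ (T 0 (t + t') 0)⁆ = ⁅ℓ (T 0 s 0), ℓ (T 0 t 0)⁆ * ⁅ℓ (T 0 s 0), ℓ (T 0 t' 0)⁆
      rw [← stem_commutatorElement_mul_right _ _ _ (hcen s t')]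
      apply commutatorElement_congr_of_central σ hc
      · rfl
      · rw [map_mul, hℓ, hℓ, hℓ, D.mid]
    · intro a s t ha
      show ⁅ℓ (T 0 (a ^ 2 * s) 0), ℓ (T 0 (a ^ 2 * t) 0)⁆ = ⁅ℓ (T 0 s 0), ℓ (T 0 t 0)⁆
      -- the torus element for `ν = φ a / a`
      have hφa : (a ^ e) ^ 3 ≠ 0 := pow_ne_zero _ (pow_ne_zero _ ha)
      obtain ⟨ν, hν⟩ : ∃ ν : K, ν = (a ^ e) ^ 3 / a := ⟨_, rfl⟩
      have hν0 : ν ≠ 0 := by rw [hν]; exact div_ne_zero hφa ha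
      have hνφ : ν * (ν ^ e) ^ 3 = a ^ 2 := by
        have h1 : (ν ^ e) ^ 3 = a ^ 3 / (a ^ e) ^ 3 := by
          rw [hν, div_pow, div_pow]
          congr 1
          have := D.frob a
          calc (((a ^ e) ^ 3) ^ e) ^ 3 = (((a ^ e) ^ e) ^ 3) ^ 3 := by
                rw [← pow_mul, ← pow_mul, ← pow_mul, ← pow_mul, ← pow_mul, ← pow_mul]
                congr 1; ring
            _ = a ^ 3 := by rw [this]
        rw [h1, hν]
        field_simp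
      obtain ⟨h, hh⟩ := D.tor ν hν0
      have hh' : ∀ u, h * T 0 u 0 * h⁻¹ = T 0 (a ^ 2 * u) 0 := by
        intro u
        rw [hh, mul_zero, mul_zero, hνφ]
      rw [← commutatorElement_conj_of_central (ℓ h) _ _ (hcen s t)]
      apply commutatorElement_congr_of_central σ hc
      · rw [map_mul, map_mul, map_inv, hℓ, hℓ, hℓ, hh']
      · rw [map_mul, map_mul, map_inv, hℓ, hℓ, hℓ, hh']
  obtain ⟨u, v, hxu⟩ := hx
  obtain ⟨u', v', hyu⟩ := hy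
  -- the four lifts
  obtain ⟨p, hp⟩ : ∃ p : Γ, p = ℓ (T 0 u 0) := ⟨_, rfl⟩
  obtain ⟨q, hq⟩ : ∃ q : Γ, q = ℓ (T 0 0 v) := ⟨_, rfl⟩
  obtain ⟨p', hp'⟩ : ∃ p' : Γ, p' = ℓ (T 0 u' 0) := ⟨_, rfl⟩
  obtain ⟨q', hq'⟩ : ∃ q' : Γ, q' = ℓ (T 0 0 v') := ⟨_, rfl⟩
  have hσp : σ p = T 0 u 0 := by rw [hp, hℓ]
  have hσq : σ q = T 0 0 v := by rw [hq, hℓ]
  have hσp' : σ p' = T 0 u' 0 := by rw [hp', hℓ]
  have hσq' : σ q' = T 0 0 v' := by rw [hq', hℓ]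
  have hpp' : p * p' = p' * p := by
    have := hB u u'
    rw [commutatorElement_eq_one_iff_mul_comm] at this
    rw [hp, hp']; exact this
  have hpq' : p * q' = q' * p := h2 p q' ⟨u, 0, hσp⟩ ⟨v', hσq'⟩
  have hp'q : p' * q = q * p' := h2 p' q ⟨u', 0, hσp'⟩ ⟨v, hσq⟩
  have hqq' : q * q' = q' * q := h2 q q' ⟨0, v, hσq⟩ ⟨v', hσq'⟩
  have hpq : p * q = q * p := h2 p q ⟨u, 0, hσp⟩ ⟨v, hσq⟩
  have hp'q' : p' * q' = q' * p' := h2 p' q' ⟨u', 0, hσp'⟩ ⟨v', hσq'⟩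
  have e1 : ⁅x, y⁆ = ⁅p * q, p' * q'⁆ := by
    apply commutatorElement_congr_of_central σ hc
    · rw [map_mul, hσp, hσq, hxu, D.top_r, zero_add]
    · rw [map_mul, hσp', hσq', hyu, D.top_r, zero_add]
  have e2 : ⁅p * q, p' * q'⁆ = 1 := by
    rw [commutatorElement_eq_one_iff_mul_comm]
    calc p * q * (p' * q') = p * (q * p') * q' := by group
      _ = p * (p' * q) * q' := by rw [hp'q]
      _ = (p * p') * (q * q') := by group
      _ = (p' * p) * (q' * q) := by rw [hpp', hqq']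
      _ = p' * (p * q') * q := by group
      _ = p' * (q' * p) * q := by rw [hpq']
      _ = p' * q' * (p * q) := by group
  rw [e2, commutatorElement_eq_one_iff_mul_comm] at e1
  exact e1

end Cfsg.Agent.Lib.helper7.S2113
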