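import Mathlib
import Cfsg.Agent.Lib.helper7.K8Field
import Cfsg.Agent.Lib.helper8.SzAut1

set_option autoImplicit false

/-!
# S3664: the groups `H_k = A^k ⋊ (Sz(8) : 3)` (helper7) -- definitions

`SzK = Sz(8)` (the Prelude's ovoid stabiliser in `SL₄(K8)`), `GK = Sz(8) ⋊ Aut(K8)` (`Aut(K8)` has
order 3), `AK = M₄(K8)` with the action `(s, c) • M = s * M^c * (s^frob)ᵀ` (the module
`V ⊗ V^(2)`, 48-dimensional over `F_2`), and `HK k = AK^k ⋊ GK`.
-/

namespace Cfsg.Agent.Lib.helper7.S3664

open Cfsg.Agent.Lib.helper7 Cfsg.Agent.Lib.helper8 Matrix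

/-- `Sz(8)` -/
abbrev SzK : Subgroup (Matrix.SpecialLinearGroup (Fin 4) K8) := Cfsg.Sz K8 1

/-- the matrix of an element of `Sz(8)` -/
abbrev mat (s : ↥SzK) : Matrix (Fin 4) (Fin 4) K8 := ((s : Matrix.SpecialLinearGroup (Fin 4) K8) : Matrix (Fin 4) (Fin 4) K8)

theorem mat_mul (s t : ↥SzK) : mat (s * t) = mat s * mat t := rfl

theorem mat_one : mat (1 : ↥SzK) = 1 := rfl

theorem mat_inj {s t : ↥SzK} (h : mat s = mat t) : s = t := Subtype.ext (Subtype.ext h)

theorem mat_szAut (c : K8 ≃+* K8) (s : ↥SzK) :
    mat (szAut (le_refl 1) K8.card_eq' c s) = (mat s).map c := rfl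

/-- field automorphisms act on `Sz(8)` -/
noncomputable def szHom : (K8 ≃+* K8) →* MulAut ↥SzK where
  toFun c := szAut (le_refl 1) K8.card_eq' c
  map_one' := by
    ext s : 1
    apply mat_inj
    rw [mat_szAut]
    ext i j
    simp
  map_mul' c d := by
    ext s : 1
    apply mat_inj
    rw [MulAut.mul_apply, mat_szAut, mat_szAut, mat_szAut]
    ext i j
    simp [Matrix.map_apply]

theorem mat_szHom (c : K8 ≃+* K8) (s : ↥SzK) : mat (szHom c s) = (mat s).map c := rfl

/-- `Aut(Sz(8)) = Sz(8) : 3` -/
abbrev GK : Type := ↥SzK ⋊[szHom] (K8 ≃+* K8)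

/-- the module `M₄(K8)` -/
abbrev AK : Type := Matrix (Fin 4) (Fin 4) K8

/-- the action of `GK` on `AK`: `(s, c) • M = s * M^c * (s^frob)ᵀ` -/
def actM (g : GK) (M : AK) : AK := mat g.left * M.map g.right * ((mat g.left).map K8.frob)ᵀ

theorem actM_def (g : GK) (M : AK) :
    actM g M = mat g.left * M.map g.right * ((mat g.left).map K8.frob)ᵀ := rfl

theorem frob_comm (c : K8 ≃+* K8) (x : K8) : c (K8.frob x) = K8.frob (c x) := by
  rw [K8.frob_eq_pow, K8.frob_eq_pow, map_pow]

theorem actM_one (M : AK) : actM (1 : GK) M = M := by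
  rw [actM_def]
  have h1 : mat (1 : GK).left = 1 := rfl
  have h2 : M.map (1 : GK).right = M := by
    ext i j
    simp [Matrix.map_apply]
  rw [h1, h2]
  have h3 : ((1 : Matrix (Fin 4) (Fin 4) K8).map K8.frob) = 1 :=
    Matrix.map_one _ (map_zero _) (map_one _)
  rw [h3]
  simp

theorem actM_mul (g h : GK) (M : AK) : actM (g * h) M = actM g (actM h M) := by
  rw [actM_def, actM_def, actM_def]
  have hl : mat (g * h).left = mat g.left * (mat h.left).map g.right := by
    rw [SemidirectProduct.mul_left, mat_mul, mat_szHom]
  have hr : M.map (g * h).right = (M.map h.right).map g.right := by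
    rw [SemidirectProduct.mul_right]
    ext i j
    simp [Matrix.map_apply]
  rw [hl, hr]
  have e1 : (mat g.left * (mat h.left).map g.right).map K8.frob
      = (mat g.left).map K8.frob * ((mat h.left).map K8.frob).map g.right := by
    rw [Matrix.map_mul]
    congr 1
    ext i j
    simp only [Matrix.map_apply]
    exact (frob_comm g.right _).symm
  have e2 : (mat h.left * M.map h.right * ((mat h.left).map K8.frob)ᵀ).map g.right
      = (mat h.left).map g.right * (M.map h.right).map g.right
        * (((mat h.left).map K8.frob).map g.right)ᵀ := by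
    rw [Matrix.map_mul, Matrix.map_mul, Matrix.transpose_map]
  rw [e1, e2, Matrix.transpose_mul]
  simp only [Matrix.mul_assoc]

theorem actM_add (g : GK) (M M' : AK) : actM g (M + M') = actM g M + actM g M' := by
  rw [actM_def, actM_def, actM_def]
  have h : (M + M').map g.right = M.map g.right + M'.map g.right := by
    ext i j
    simp [Matrix.map_apply]
  rw [h, Matrix.mul_add, Matrix.add_mul]

theorem actM_zero (g : GK) : actM g (0 : AK) = 0 := by
  have h := actM_add g 0 0
  simp only [add_zero] at h
  exact left_eq_add.mp h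

/-- the action on `AK^k`, written multiplicatively -/
noncomputable def actN (k : ℕ) : GK →* MulAut (Multiplicative (Fin k → AK)) where
  toFun g :=
    { toFun := fun n => Multiplicative.ofAdd fun i => actM g (Multiplicative.toAdd n i)
      invFun := fun n => Multiplicative.ofAdd fun i => actM g⁻¹ (Multiplicative.toAdd n i)
      left_inv := fun n => by
        apply Multiplicative.toAdd.injective
        funext i
        show actM g⁻¹ (actM g (Multiplicative.toAdd n i)) = Multiplicative.toAdd n i
        rw [← actM_mul, inv_mul_cancel, actM_one]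
      right_inv := fun n => by
        apply Multiplicative.toAdd.injective
        funext i
        show actM g (actM g⁻¹ (Multiplicative.toAdd n i)) = Multiplicative.toAdd n i
        rw [← actM_mul, mul_inv_cancel, actM_one]
      map_mul' := fun n n' => by
        apply Multiplicative.toAdd.injective
        funext i
        show actM g (Multiplicative.toAdd n i + Multiplicative.toAdd n' i)
          = actM g (Multiplicative.toAdd n i) + actM g (Multiplicative.toAdd n' i)
        rw [actM_add] }
  map_one' := by
    ext n : 1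
    apply Multiplicative.toAdd.injective
    funext i
    show actM 1 (Multiplicative.toAdd n i) = Multiplicative.toAdd n i
    rw [actM_one]
  map_mul' g h := by
    ext n : 1
    apply Multiplicative.toAdd.injective
    funext i
    show actM (g * h) (Multiplicative.toAdd n i) = actM g (actM h (Multiplicative.toAdd n i))
    rw [actM_mul]

theorem actN_apply (k : ℕ) (g : GK) (n : Multiplicative (Fin k → AK)) (i : Fin k) :
    Multiplicative.toAdd (actN k g n) i = actM g (Multiplicative.toAdd n i) := rfl

/-- `H_k = AK^k ⋊ GK` -/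
abbrev HK (k : ℕ) : Type := Multiplicative (Fin k → AK) ⋊[actN k] GK

end Cfsg.Agent.Lib.helper7.S3664
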