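import Mathlib
import Cfsg.Agent.Lib.helper26.S4409Defs

/-!
# S4409 piece KFN4 (`kfn4`): racer copy by helper7
-/

set_option autoImplicit false

namespace Cfsg.Agent.Lib.helper26.S4409

variable {G : Type*} [Group G]

theorem h7_kfn4 (Y : Subgroup G) (hN : NoP Y) :
    ∀ A : Subgroup ↥Y, IsMulCommutative ↥A → Nat.card ↥A = 8 → IsCyclic ↥A := by
  intro A hA h8
  obtain ⟨e⟩ : Nonempty (↥A ≃* ↥(A.map Y.subtype)) :=
    ⟨A.equivMapOfInjective Y.subtype Y.subtype_injective⟩
  have h1 : A.map Y.subtype ≤ Y := by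
    rintro x ⟨a, _, rfl⟩
    exact a.2
  have h2 : IsMulCommutative ↥(A.map Y.subtype) := by
    refine ⟨⟨fun a b => ?_⟩⟩
    apply e.symm.injective
    rw [map_mul, map_mul]
    exact hA.is_comm.comm (e.symm a) (e.symm b)
  have h3 : Nat.card ↥(A.map Y.subtype) = 8 := by
    rw [← Nat.card_congr e.toEquiv, h8]
  have := hN (A.map Y.subtype) h1 h2 h3
  exact isCyclic_of_surjective e.symm.toMonoidHom e.symm.surjective

end Cfsg.Agent.Lib.helper26.S4409
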