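import Mathlib
import Cfsg.Agent.Lib.helper26.S4409Defs

/-!
# S4409 piece QZ (`qz`): centre and unique involution of a `Q8` subgroup; racer copy by helper7
-/

set_option autoImplicit false

namespace Cfsg.Agent.Lib.helper26.S4409

variable {G : Type*} [Group G]

theorem h7_qz (M : Subgroup G) (hQ : IsQ8 M) : ∃ z : G, z ∈ M ∧ z ≠ 1 ∧ z * z = 1 ∧
    (∀ m ∈ M, m * m = 1 → m = 1 ∨ m = z) ∧
    M ⊓ Subgroup.centralizer (M : Set G) = Subgroup.zpowers z ∧ Nat.card ↥M = 8 := by
  obtain ⟨φ⟩ := hQ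
  have hq1 : ∀ m : QuaternionGroup 2, m * m = 1 → m = 1 ∨ m = QuaternionGroup.a 2 := by decide
  have hq2 : ∀ x : QuaternionGroup 2, (∀ y : QuaternionGroup 2, x * y = y * x) →
      x = 1 ∨ x = QuaternionGroup.a 2 := by decide
  have hq3 : ∀ y : QuaternionGroup 2, QuaternionGroup.a 2 * y = y * QuaternionGroup.a 2 := by
    decide
  have hq4 : (QuaternionGroup.a 2 : QuaternionGroup 2) ≠ 1 := by decide
  have hq5 : (QuaternionGroup.a 2 : QuaternionGroup 2) * QuaternionGroup.a 2 = 1 := by decide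
  obtain ⟨z', hφz⟩ : ∃ z' : ↥M, φ z' = QuaternionGroup.a 2 := φ.surjective _
  have hz1 : z' ≠ 1 := by
    intro h
    apply hq4
    rw [← hφz, h, map_one]
  have hzz : z' * z' = 1 := by
    apply φ.injective
    rw [map_mul, hφz, map_one, hq5]
  have hzc : ∀ m : ↥M, z' * m = m * z' := by
    intro m
    apply φ.injective
    rw [map_mul, map_mul, hφz]
    exact hq3 (φ m)
  refine ⟨(z' : G), z'.2, ?_, ?_, ?_, ?_, ?_⟩
  · intro h
    exact hz1 (Subtype.ext h)
  · exact congrArg Subtype.val hzz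
  · intro m hm hmm
    have h1 : φ ⟨m, hm⟩ * φ ⟨m, hm⟩ = 1 := by
      rw [← map_mul, ← map_one φ]
      congr 1
      exact Subtype.ext hmm
    rcases hq1 _ h1 with h | h
    · left
      have h2 : (⟨m, hm⟩ : ↥M) = 1 := φ.injective (by rw [h, map_one])
      exact congrArg Subtype.val h2
    · right
      have h2 : (⟨m, hm⟩ : ↥M) = z' := φ.injective (by rw [h, hφz])
      exact congrArg Subtype.val h2
  · apply le_antisymm
    · rintro m ⟨hm, hmc⟩
      have h1 : ∀ y : QuaternionGroup 2, φ ⟨m, hm⟩ * y = y * φ ⟨m, hm⟩ := by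
        intro y
        obtain ⟨y', rfl⟩ := φ.surjective y
        rw [← map_mul, ← map_mul]
        congr 1
        apply Subtype.ext
        exact ((Subgroup.mem_centralizer_iff.1 hmc) y' y'.2).symm
      rcases hq2 _ h1 with h | h
      · have h2 : (⟨m, hm⟩ : ↥M) = 1 := φ.injective (by rw [h, map_one])
        have hm1 : m = 1 := congrArg Subtype.val h2
        rw [hm1]
        exact Subgroup.one_mem _
      · have h2 : (⟨m, hm⟩ : ↥M) = z' := φ.injective (by rw [h, hφz])
        have hmz : m = z' := congrArg Subtype.val h2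
        rw [hmz]
        exact Subgroup.mem_zpowers _
    · rw [Subgroup.zpowers_le]
      refine Subgroup.mem_inf.2 ⟨z'.2, ?_⟩
      rw [Subgroup.mem_centralizer_iff]
      intro y hy
      exact (congrArg Subtype.val (hzc ⟨y, hy⟩)).symm
  · rw [Nat.card_congr φ.toEquiv, Nat.card_eq_fintype_card, QuaternionGroup.card]

end Cfsg.Agent.Lib.helper26.S4409
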