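import Mathlib
import Cfsg.Agent.Lib.helper81.S4484Defs
import Cfsg.Agent.Lib.helper7.S4484SP1

/-!
# S4484 piece SP2 (helper7): spectral decomposition `q(M) = ∑_λ q(λ) • proj M p λ`.
-/

set_option autoImplicit false

namespace Cfsg.Agent.Lib.helper7.S4484

open Cfsg.Agent.Lib.helper81.S4484
open scoped Matrix

/-- Orthogonality: the sum of the `l`-th powers of the inverses of the `p`-th roots of unity. -/
theorem sp_sum_roots_inv_pow (p : ℕ) (hp : 0 < p) (l : ℕ) :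
    ∑ lam ∈ Polynomial.nthRootsFinset p (1 : ℂ), (lam⁻¹) ^ l
      = if p ∣ l then (p : ℂ) else 0 := by
  haveI : NeZero p := ⟨hp.ne'⟩
  have hζ : IsPrimitiveRoot (Complex.exp (2 * Real.pi * Complex.I / p)) p :=
    Complex.isPrimitiveRoot_exp p hp.ne'
  set ζ := Complex.exp (2 * Real.pi * Complex.I / p) with hζdef
  have himg : Polynomial.nthRootsFinset p (1 : ℂ) = (Finset.range p).image (fun i => ζ ^ i) := by
    ext x
    rw [Polynomial.mem_nthRootsFinset hp, Finset.mem_image]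
    constructor
    · intro hx
      obtain ⟨i, hi, rfl⟩ := hζ.eq_pow_of_pow_eq_one hx
      exact ⟨i, Finset.mem_range.mpr hi, rfl⟩
    · rintro ⟨i, _, rfl⟩
      rw [← pow_mul, mul_comm, pow_mul, hζ.pow_eq_one, one_pow]
  have hinj : Set.InjOn (fun i => ζ ^ i) (Finset.range p : Set ℕ) := by
    intro i hi j hj hij
    exact hζ.pow_inj (Finset.mem_range.mp hi) (Finset.mem_range.mp hj) hij
  rw [himg, Finset.sum_image hinj]
  have hterm : ∀ i ∈ Finset.range p, ((ζ ^ i)⁻¹) ^ l = ((ζ⁻¹) ^ l) ^ i := by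
    intro i _
    rw [← inv_pow, ← pow_mul, ← pow_mul, mul_comm]
  rw [Finset.sum_congr rfl hterm]
  have hζi : IsPrimitiveRoot ζ⁻¹ p := hζ.inv
  split_ifs with hdvd
  · have h1 : (ζ⁻¹) ^ l = 1 := (hζi.pow_eq_one_iff_dvd l).mpr hdvd
    simp [h1]
  · have h1 : (ζ⁻¹) ^ l ≠ 1 := fun h => hdvd ((hζi.pow_eq_one_iff_dvd l).mp h)
    rw [geom_sum_eq h1]
    have h2 : ((ζ⁻¹) ^ l) ^ p = 1 := by
      rw [← pow_mul, mul_comm, pow_mul, hζi.pow_eq_one, one_pow]
    rw [h2, sub_self, zero_div]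

/-- The spectral projectors sum to `1`. -/
theorem sp_sum_proj {n : ℕ} (M : Matrix (Fin n) (Fin n) ℂ) (p : ℕ) (hp : 0 < p) :
    ∑ lam ∈ Polynomial.nthRootsFinset p (1 : ℂ), proj M p lam = 1 := by
  have hp0 : (p : ℂ) ≠ 0 := Nat.cast_ne_zero.mpr hp.ne'
  unfold proj
  rw [← Finset.smul_sum, Finset.sum_comm]
  have hterm : ∀ l ∈ Finset.range p,
      ∑ lam ∈ Polynomial.nthRootsFinset p (1 : ℂ), (lam⁻¹) ^ l • M ^ l
        = (if l = 0 then (p : ℂ) else 0) • M ^ l := by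
    intro l hl
    rw [← Finset.sum_smul, sp_sum_roots_inv_pow p hp l]
    have hl' : l < p := Finset.mem_range.mp hl
    by_cases h0 : l = 0
    · subst h0
      simp
    · have : ¬ p ∣ l := fun hd => h0 (Nat.eq_zero_of_dvd_of_lt hd hl')
      rw [if_neg this, if_neg h0]
  rw [Finset.sum_congr rfl hterm]
  rw [Finset.sum_eq_single 0]
  · simp [hp0]
  · intro l _ hl0
    rw [if_neg hl0, zero_smul]
  · intro h
    exact absurd (Finset.mem_range.mpr hp) h

/-- `M * proj M p lam = lam • proj M p lam`. -/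
theorem sp_mul_proj {n : ℕ} (M : Matrix (Fin n) (Fin n) ℂ) (p : ℕ) (hp : 0 < p)
    (hM : M ^ p = 1) (lam : ℂ) (hl : lam ^ p = 1) :
    M * proj M p lam = lam • proj M p lam := by
  have hl0 : lam ≠ 0 := by
    rintro rfl
    rw [zero_pow hp.ne'] at hl
    exact zero_ne_one hl
  have hNp := sp_smul_pow_eq_one M p hM lam hl
  have h := sp_mul_geom (lam⁻¹ • M) p hNp
  unfold proj
  rw [sp_sum_eq]
  rw [Matrix.mul_smul, smul_comm lam]
  congr 1
  rw [smul_mul_assoc] at h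
  conv_rhs => rw [← h]
  rw [smul_smul, mul_inv_cancel₀ hl0, one_smul]

theorem sp_pow_mul_proj {n : ℕ} (M : Matrix (Fin n) (Fin n) ℂ) (p : ℕ) (hp : 0 < p)
    (hM : M ^ p = 1) (lam : ℂ) (hl : lam ^ p = 1) (k : ℕ) :
    M ^ k * proj M p lam = lam ^ k • proj M p lam := by
  induction k with
  | zero => simp
  | succ k ih =>
    rw [pow_succ, mul_assoc, sp_mul_proj M p hp hM lam hl, Matrix.mul_smul, ih, smul_smul,
      pow_succ, mul_comm]

theorem sp_aeval_mul_proj {n : ℕ} (M : Matrix (Fin n) (Fin n) ℂ) (p : ℕ) (hp : 0 < p)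
    (hM : M ^ p = 1) (lam : ℂ) (hl : lam ^ p = 1) (q : Polynomial ℂ) :
    Polynomial.aeval M q * proj M p lam = q.eval lam • proj M p lam := by
  rw [Polynomial.aeval_eq_sum_range, Polynomial.eval_eq_sum_range, Finset.sum_mul,
    Finset.sum_smul]
  refine Finset.sum_congr rfl fun i _ => ?_
  rw [smul_mul_assoc, sp_pow_mul_proj M p hp hM lam hl, smul_smul]

/-- SP2 -/
theorem aeval_eq_sum_proj {n : ℕ} (M : Matrix (Fin n) (Fin n) ℂ) (p : ℕ) (hp : 0 < p)
    (hM : M ^ p = 1) (q : Polynomial ℂ) :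
    Polynomial.aeval M q =
      ∑ lam ∈ Polynomial.nthRootsFinset p (1 : ℂ), q.eval lam • proj M p lam := by
  have h1 : Polynomial.aeval M q = Polynomial.aeval M q *
      ∑ lam ∈ Polynomial.nthRootsFinset p (1 : ℂ), proj M p lam := by
    rw [sp_sum_proj M p hp, mul_one]
  rw [h1, Finset.mul_sum]
  refine Finset.sum_congr rfl fun lam hlam => ?_
  exact sp_aeval_mul_proj M p hp hM lam ((Polynomial.mem_nthRootsFinset hp (1 : ℂ)).mp hlam) q

end Cfsg.Agent.Lib.helper7.S4484
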