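import Mathlib
import Cfsg.Agent.Lib.helper81.S4484Defs
import Cfsg.Agent.Lib.helper7.S4484SP2

/-!
# S4484 piece SP3 (helper7): `∏_{μ ∈ E∖λ} (M - μ) = (∏_{μ ∈ E∖λ} (λ - μ)) • proj M p λ`.
-/

set_option autoImplicit false

namespace Cfsg.Agent.Lib.helper7.S4484

open Cfsg.Agent.Lib.helper81.S4484
open scoped Matrix

/-- SP3 -/
theorem aeval_prod_eq {n : ℕ} (M : Matrix (Fin n) (Fin n) ℂ) (p : ℕ) (hp : 0 < p)
    (hM : M ^ p = 1) (E : Finset ℂ) (hE : ∀ mu ∈ E, mu ^ p = 1)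
    (hPE : ∀ mu : ℂ, mu ^ p = 1 → mu ∉ E → proj M p mu = 0) (lam : ℂ) (hl : lam ^ p = 1) :
    Polynomial.aeval M (∏ mu ∈ E.erase lam, (Polynomial.X - Polynomial.C mu)) =
      (∏ mu ∈ E.erase lam, (lam - mu)) • proj M p lam := by
  rw [aeval_eq_sum_proj M p hp hM]
  have hlam : lam ∈ Polynomial.nthRootsFinset p (1 : ℂ) :=
    (Polynomial.mem_nthRootsFinset hp (1 : ℂ)).mpr hl
  rw [Finset.sum_eq_single lam]
  · rw [Polynomial.eval_prod]
    simp
  · intro nu hnu hne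
    have hnu' : nu ^ p = 1 := (Polynomial.mem_nthRootsFinset hp (1 : ℂ)).mp hnu
    by_cases hnuE : nu ∈ E
    · have hmem : nu ∈ E.erase lam := Finset.mem_erase.mpr ⟨hne, hnuE⟩
      have h0 : Polynomial.eval nu (∏ mu ∈ E.erase lam, (Polynomial.X - Polynomial.C mu)) = 0 := by
        rw [Polynomial.eval_prod]
        exact Finset.prod_eq_zero hmem (by simp)
      rw [h0, zero_smul]
    · rw [hPE nu hnu' hnuE, smul_zero]
  · intro h
    exact absurd hlam h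

end Cfsg.Agent.Lib.helper7.S4484
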