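import Mathlib
import Cfsg.Agent.Lib.helper89.S60Defs

/-!
S6000 split (architect helper89), piece BTV (helper7): a transvection-like element of odd order
normalizing `R` centralizes `R`.
-/

set_option autoImplicit false

namespace Cfsg.Agent.Lib.helper89.S60

open Matrix Cfsg Cfsg.Geo

/-- Two linear equations in four unknowns have a non-zero solution. -/
theorem h7s60_exists_orth {F : Type*} [Field F] (a b : Fin 4 → F) :
    ∃ x : Fin 4 → F, x ≠ 0 ∧ a ⬝ᵥ x = 0 ∧ b ⬝ᵥ x = 0 := by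
  let f : (Fin 4 → F) →ₗ[F] (Fin 2 → F) :=
    { toFun := fun x => ![a ⬝ᵥ x, b ⬝ᵥ x]
      map_add' := by
        intro x y
        ext i
        fin_cases i <;> simp [dotProduct_add]
      map_smul' := by
        intro c x
        ext i
        fin_cases i <;> simp [dotProduct_smul] }
  have h : LinearMap.ker f ≠ ⊥ := by
    apply LinearMap.ker_ne_bot_of_finrank_lt
    simp
  obtain ⟨x, hx, hx0⟩ := (Submodule.ne_bot_iff _).1 h
  have hfx : f x = 0 := LinearMap.mem_ker.1 hx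
  refine ⟨x, hx0, ?_, ?_⟩
  · have := congrFun hfx 0
    simpa [f] using this
  · have := congrFun hfx 1
    simpa [f] using this

/-- If `Y = 1 + u wᵀ` and `Y S = C S Y` with `S` invertible, then `1 - C` is not invertible. -/
theorem h7s60_transv_aux {F : Type*} [Field F] (Y S C : Matrix (Fin 4) (Fin 4) F) (u w : Fin 4 → F)
    (hY : Y = 1 + Matrix.vecMulVec u w) (Si : Matrix (Fin 4) (Fin 4) F) (hSi : Si * S = 1)
    (hrel : Y * S = C * S * Y) (D : Matrix (Fin 4) (Fin 4) F) (hD : D * (1 - C) = 1) : False := by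
  obtain ⟨x, hx0, hx1, hx2⟩ := h7s60_exists_orth w (w ᵥ* S)
  have hx2' : w ⬝ᵥ (S *ᵥ x) = 0 := by rw [Matrix.dotProduct_mulVec]; exact hx2
  have hYv : ∀ v : Fin 4 → F, w ⬝ᵥ v = 0 → Y *ᵥ v = v := by
    intro v hv
    rw [hY, Matrix.add_mulVec, Matrix.one_mulVec, Matrix.vecMulVec_mulVec, hv]
    simp
  have h1 : (Y * S) *ᵥ x = S *ᵥ x := by
    rw [← Matrix.mulVec_mulVec, hYv _ hx2']
  have h2 : (C * S * Y) *ᵥ x = C *ᵥ (S *ᵥ x) := by
    rw [← Matrix.mulVec_mulVec, hYv _ hx1, ← Matrix.mulVec_mulVec]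
  have h3 : (1 - C) *ᵥ (S *ᵥ x) = 0 := by
    rw [Matrix.sub_mulVec, Matrix.one_mulVec, ← h2, ← hrel, h1, sub_self]
  have h4 : S *ᵥ x = 0 := by
    have h5 : (D * (1 - C)) *ᵥ (S *ᵥ x) = 0 := by
      rw [← Matrix.mulVec_mulVec, h3, Matrix.mulVec_zero]
    rw [hD, Matrix.one_mulVec] at h5
    exact h5
  apply hx0
  have h6 : (Si * S) *ᵥ x = 0 := by
    rw [← Matrix.mulVec_mulVec, h4, Matrix.mulVec_zero]
  rw [hSi, Matrix.one_mulVec] at h6
  exact h6

/-- The commutator `c(s) = y s y⁻¹ s⁻¹` of a transvection-like `y` normalizing `R` with `s ∈ R`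
lies in `R`, has square `1`, and is `1` as soon as it is scalar. -/
theorem h7s60_comm_facts {F : Type*} [Field F] (h2 : (2 : F) ≠ 0) (R : Subgroup (GL (Fin 4) F)) (w : F)
    (hG : Good R w) (y : GL (Fin 4) F) (hy : y ∈ subgroupNormalizer R)
    (u v : Fin 4 → F) (hyu : (y : Matrix (Fin 4) (Fin 4) F) = 1 + Matrix.vecMulVec u v)
    (s : GL (Fin 4) F) (hs : s ∈ R) :
    y * s * y⁻¹ * s⁻¹ ∈ R ∧
      (y * s * y⁻¹ * s⁻¹) * (y * s * y⁻¹ * s⁻¹) = 1 ∧
      ∀ z : F, ((y * s * y⁻¹ * s⁻¹ : GL (Fin 4) F) : Matrix (Fin 4) (Fin 4) F) = z • (1 : Matrix (Fin 4) (Fin 4) F) →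
        y * s * y⁻¹ * s⁻¹ = 1 := by
  have hcR : y * s * y⁻¹ * s⁻¹ ∈ R := by
    have h1 : y * s * y⁻¹ ∈ R := (Subgroup.mem_normalizer_iff.1 hy s).1 hs
    exact R.mul_mem h1 (R.inv_mem hs)
  obtain ⟨c, hc⟩ : ∃ c : GL (Fin 4) F, c = y * s * y⁻¹ * s⁻¹ := ⟨_, rfl⟩
  rw [← hc] at hcR ⊢
  have hrel : (y : Matrix (Fin 4) (Fin 4) F) * (s : Matrix (Fin 4) (Fin 4) F) =
      (c : Matrix (Fin 4) (Fin 4) F) * (s : Matrix (Fin 4) (Fin 4) F) * (y : Matrix (Fin 4) (Fin 4) F) := by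
    have : y * s = c * s * y := by rw [hc]; group
    have h' := congrArg (fun g : GL (Fin 4) F => (g : Matrix (Fin 4) (Fin 4) F)) this
    simpa using h'
  have hSi : ((s⁻¹ : GL (Fin 4) F) : Matrix (Fin 4) (Fin 4) F) * (s : Matrix (Fin 4) (Fin 4) F) = 1 := by
    have : s⁻¹ * s = 1 := inv_mul_cancel s
    have h' := congrArg (fun g : GL (Fin 4) F => (g : Matrix (Fin 4) (Fin 4) F)) this
    simpa using h'
  have h2' : (2 : F)⁻¹ * 2 = 1 := inv_mul_cancel₀ h2
  have key : ∀ D : Matrix (Fin 4) (Fin 4) F, D * (1 - (c : Matrix (Fin 4) (Fin 4) F)) = 1 → False :=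
    fun D hD => h7s60_transv_aux _ _ _ u v hyu _ hSi hrel D hD
  refine ⟨hcR, ?_, ?_⟩
  · apply Units.ext
    rw [Units.val_mul, Units.val_one]
    rcases hG.sq c hcR with h | h
    · exact h
    · exfalso
      apply key ((2 : F)⁻¹ • (1 + (c : Matrix (Fin 4) (Fin 4) F)))
      rw [Matrix.smul_mul]
      have : (1 + (c : Matrix (Fin 4) (Fin 4) F)) * (1 - (c : Matrix (Fin 4) (Fin 4) F)) =
          (2 : F) • (1 : Matrix (Fin 4) (Fin 4) F) := by
        rw [Matrix.add_mul, Matrix.mul_sub, Matrix.mul_sub, h, two_smul]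
        simp
        abel
      rw [this, smul_smul, h2', one_smul]
  · intro z hz
    apply Units.ext
    rw [Units.val_one, hz]
    by_cases hz1 : z = 1
    · rw [hz1, one_smul]
    · exfalso
      have hz1' : (1 - z) ≠ 0 := fun h => hz1 (sub_eq_zero.1 h).symm
      apply key ((1 - z)⁻¹ • (1 : Matrix (Fin 4) (Fin 4) F))
      rw [hz, Matrix.smul_mul, Matrix.one_mul]
      have : (1 : Matrix (Fin 4) (Fin 4) F) - z • (1 : Matrix (Fin 4) (Fin 4) F) =
          (1 - z) • (1 : Matrix (Fin 4) (Fin 4) F) := by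
        rw [sub_smul, one_smul]
      rw [this, smul_smul, inv_mul_cancel₀ hz1', one_smul]

/-- BTV (L). -/
theorem s60_transv_central {F : Type*} [Field F] [Fintype F] (h2 : (2 : F) ≠ 0) (R : Subgroup (GL (Fin 4) F)) (w : F) (hG : Good R w)
    (y : GL (Fin 4) F) (hy : y ∈ subgroupNormalizer R) (k : ℕ) (hk : Odd k) (hyk : y ^ k = 1)
    (u v : Fin 4 → F) (hyu : (y : Matrix (Fin 4) (Fin 4) F) = 1 + Matrix.vecMulVec u v) :
    ∀ s ∈ R, y * s = s * y := by
  have hcoe : ∀ a b : GL (Fin 4) F, ((a * b : GL (Fin 4) F) : Matrix (Fin 4) (Fin 4) F) =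
      (a : Matrix (Fin 4) (Fin 4) F) * (b : Matrix (Fin 4) (Fin 4) F) := fun a b => rfl
  have hext : ∀ a b : GL (Fin 4) F, (a : Matrix (Fin 4) (Fin 4) F) = (b : Matrix (Fin 4) (Fin 4) F) → a = b :=
    fun a b h => Units.ext h
  have facts := fun s hs => h7s60_comm_facts h2 R w hG y hy u v hyu s hs
  -- commutation up to a central sign
  have hcz : ∀ a ∈ R, ∀ b ∈ R, ∃ z : GL (Fin 4) F, (∀ g : GL (Fin 4) F, z * g = g * z) ∧ z * z = 1 ∧
      a * b = z * (b * a) := by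
    intro a ha b hb
    rcases hG.comm a ha b hb with h | h
    · exact ⟨1, fun g => by rw [one_mul, mul_one], one_mul 1, by rw [one_mul]; exact hext _ _ h⟩
    · refine ⟨-1, fun g => by rw [neg_one_mul, mul_neg_one], by rw [neg_mul_neg, one_mul], ?_⟩
      apply hext
      rw [neg_one_mul, Units.val_neg]
      exact h
  -- Step A: the commutators commute with each other
  have hA : ∀ s ∈ R, ∀ t ∈ R, (y * s * y⁻¹ * s⁻¹) * (y * t * y⁻¹ * t⁻¹) =
      (y * t * y⁻¹ * t⁻¹) * (y * s * y⁻¹ * s⁻¹) := by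
    intro s hs t ht
    obtain ⟨hcsR, hcs2, -⟩ := facts s hs
    obtain ⟨hctR, hct2, -⟩ := facts t ht
    obtain ⟨hcstR, hcst2, -⟩ := facts (s * t) (R.mul_mem hs ht)
    obtain ⟨z, hz, hzz, hzr⟩ := hcz s hs _ hctR
    obtain ⟨A, hAd⟩ : ∃ A : GL (Fin 4) F, A = y * s * y⁻¹ * s⁻¹ := ⟨_, rfl⟩
    obtain ⟨B, hBd⟩ : ∃ B : GL (Fin 4) F, B = y * t * y⁻¹ * t⁻¹ := ⟨_, rfl⟩
    rw [← hAd] at hcs2 ⊢
    rw [← hBd] at hct2 hzr ⊢
    have h1 : y * (s * t) * y⁻¹ * (s * t)⁻¹ = z * (A * B) := by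
      calc y * (s * t) * y⁻¹ * (s * t)⁻¹ = A * (s * B * s⁻¹) := by rw [hAd, hBd]; group
        _ = A * (z * (B * s) * s⁻¹) := by rw [hzr]
        _ = A * (z * B) := by group
        _ = z * (A * B) := by rw [← mul_assoc, ← hz A, mul_assoc]
    rw [h1] at hcst2
    have h3 : A * B * (A * B) = 1 := by
      have hzAB := hz (A * B)
      calc A * B * (A * B) = (z * z) * (A * B * (A * B)) := by rw [hzz, one_mul]
        _ = z * (z * (A * B)) * (A * B) := by group
        _ = z * ((A * B) * z) * (A * B) := by rw [hzAB]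
        _ = z * (A * B) * (z * (A * B)) := by group
        _ = 1 := hcst2
    calc A * B = (B * B) * (A * B) * (A * A) := by rw [hcs2, hct2, one_mul, mul_one]
      _ = B * (B * A) * (B * A) * A := by group
      _ = B * ((B * A) * (B * A)) * A := by group
      _ = B * A := by
          have h4 : (B * A) * (B * A) = 1 := by
            calc (B * A) * (B * A) = B * (A * B * (A * B)) * B⁻¹ := by group
              _ = 1 := by rw [h3, mul_one, mul_inv_cancel]
          rw [h4, mul_one]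
  -- Step B: y commutes with c(s)
  have hyc : ∀ s ∈ R, y * (y * s * y⁻¹ * s⁻¹) = (y * s * y⁻¹ * s⁻¹) * y := by
    intro s hs
    obtain ⟨hdR, hdd, -⟩ := facts s hs
    have hAs := hA s hs
    obtain ⟨d, hd⟩ : ∃ d : GL (Fin 4) F, d = y * s * y⁻¹ * s⁻¹ := ⟨_, rfl⟩
    rw [← hd] at hdR hdd hAs ⊢
    obtain ⟨heR, hee, hesc⟩ := facts d hdR
    have hecomm : ∀ b ∈ R, (y * d * y⁻¹ * d⁻¹) * b = b * (y * d * y⁻¹ * d⁻¹) := by
      intro b hb
      have hb'R : y⁻¹ * b * y ∈ R := by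
        refine (Subgroup.mem_normalizer_iff.1 hy (y⁻¹ * b * y)).2 ?_
        have : y * (y⁻¹ * b * y) * y⁻¹ = b := by group
        rw [this]
        exact hb
      obtain ⟨b', hb'⟩ : ∃ b' : GL (Fin 4) F, b' = y⁻¹ * b * y := ⟨_, rfl⟩
      rw [← hb'] at hb'R
      have hbb : b = y * b' * y⁻¹ := by rw [hb']; group
      obtain ⟨z, hz, hzz, hzr⟩ := hcz d hdR b' hb'R
      have hAb := hAs b' hb'R
      have hz' : ∀ a c : GL (Fin 4) F, a * (z * c) = z * (a * c) := by
        intro a c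
        rw [← mul_assoc, ← hz a, mul_assoc]
      have h1 : d * b = z * (b * d) := by
        rw [hbb]
        calc d * (y * b' * y⁻¹) = d * (y * b' * y⁻¹ * b'⁻¹) * b' := by group
          _ = (y * b' * y⁻¹ * b'⁻¹) * d * b' := by rw [hAb]
          _ = (y * b' * y⁻¹ * b'⁻¹) * (d * b') := by rw [mul_assoc]
          _ = (y * b' * y⁻¹ * b'⁻¹) * (z * (b' * d)) := by rw [hzr]
          _ = z * ((y * b' * y⁻¹ * b'⁻¹) * (b' * d)) := by rw [hz']
          _ = z * (y * b' * y⁻¹ * d) := by group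
      have h2' : (y * d * y⁻¹) * b = z * (b * (y * d * y⁻¹)) := by
        rw [hbb]
        calc (y * d * y⁻¹) * (y * b' * y⁻¹) = y * (d * b') * y⁻¹ := by group
          _ = y * (z * (b' * d)) * y⁻¹ := by rw [hzr]
          _ = z * (y * (b' * d)) * y⁻¹ := by rw [hz']
          _ = z * ((y * b' * y⁻¹) * (y * d * y⁻¹)) := by group
      have h3 : d⁻¹ * b = z * (b * d⁻¹) := by
        have h4 : d * (z * (b * d⁻¹)) = b := by
          calc d * (z * (b * d⁻¹)) = z * (d * (b * d⁻¹)) := by rw [hz']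
            _ = z * ((d * b) * d⁻¹) := by rw [mul_assoc]
            _ = z * ((z * (b * d)) * d⁻¹) := by rw [h1]
            _ = (z * z) * b := by group
            _ = b := by rw [hzz, one_mul]
        calc d⁻¹ * b = d⁻¹ * (d * (z * (b * d⁻¹))) := by rw [h4]
          _ = z * (b * d⁻¹) := by group
      calc (y * d * y⁻¹ * d⁻¹) * b = (y * d * y⁻¹) * (d⁻¹ * b) := by group
        _ = (y * d * y⁻¹) * (z * (b * d⁻¹)) := by rw [h3]
        _ = z * ((y * d * y⁻¹) * (b * d⁻¹)) := by rw [hz']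
        _ = z * ((y * d * y⁻¹) * b * d⁻¹) := by group
        _ = z * (z * (b * (y * d * y⁻¹)) * d⁻¹) := by rw [h2']
        _ = (z * z) * (b * (y * d * y⁻¹ * d⁻¹)) := by group
        _ = b * (y * d * y⁻¹ * d⁻¹) := by rw [hzz, one_mul]
    obtain ⟨z, hz⟩ := hG.schur ((y * d * y⁻¹ * d⁻¹ : GL (Fin 4) F) : Matrix (Fin 4) (Fin 4) F) (fun b hb => by
      have h5 := congrArg (fun g : GL (Fin 4) F => (g : Matrix (Fin 4) (Fin 4) F)) (hecomm b hb)
      exact h5)
    have he1 : y * d * y⁻¹ * d⁻¹ = 1 := hesc z hz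
    calc y * d = (y * d * y⁻¹ * d⁻¹) * d * y := by group
      _ = d * y := by rw [he1, one_mul]
  -- y * y commutes with s
  intro s hs
  obtain ⟨hcR, hcc', -⟩ := facts s hs
  have hyc1 := hyc s hs
  obtain ⟨c, hc⟩ : ∃ c : GL (Fin 4) F, c = y * s * y⁻¹ * s⁻¹ := ⟨_, rfl⟩
  rw [← hc] at hcR hcc' hyc1
  have hys : y * s = c * s * y := by rw [hc]; group
  have hyy : (y * y) * s = s * (y * y) := by
    calc y * y * s = y * (y * s) := by group
      _ = y * (c * s * y) := by rw [hys]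
      _ = (y * c) * s * y := by group
      _ = c * (y * s) * y := by rw [hyc1]; group
      _ = c * (c * s * y) * y := by rw [hys]
      _ = (c * c) * s * y * y := by group
      _ = s * (y * y) := by rw [hcc']; group
  obtain ⟨j, hj⟩ := hk
  have hy' : y = (y * y) ^ (j + 1) := by
    have h8 : (y * y) ^ (j + 1) = y ^ k * y := by
      rw [hj, ← pow_two, ← pow_mul, ← pow_succ]
      congr 1
    rw [h8, hyk, one_mul]
  have hcm : Commute (y * y) s := hyy
  have h9 := hcm.pow_left (j + 1)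
  rw [← hy'] at h9
  exact h9

end Cfsg.Agent.Lib.helper89.S60
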