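import Mathlib
import Cfsg.Agent.Lib.helper89.S60Defs
import Cfsg.Agent.Lib.helper7.S60BTV

/-!
S6000 split (architect helper89), piece NCHAR (helper7): in characteristic `p ≠ 2` a transvection is
an element of order `p` of `SL_4(F)` none of whose conjugates normalizes `R`.
-/

set_option autoImplicit false

namespace Cfsg.Agent.Lib.helper89.S60

open Matrix Cfsg Cfsg.Geo

/-- powers of `1 + N` with `N * N = 0` -/
theorem h7s60_one_add_nilp_pow {ι R : Type*} [Fintype ι] [DecidableEq ι] [CommRing R]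
    (N : Matrix ι ι R) (hN : N * N = 0) (k : ℕ) : (1 + N) ^ k = 1 + k • N := by
  induction k with
  | zero => simp
  | succ k ih =>
    rw [pow_succ, ih, add_mul, mul_add, mul_add, one_mul, mul_one, one_mul, smul_mul_assoc, hN,
      smul_zero, add_zero, succ_nsmul]
    abel

/-- NCHAR with the statement of BTV as a hypothesis. -/
theorem h7_s60_nec_char_core {F : Type*} [Field F] [Fintype F] (h2 : (2 : F) ≠ 0) (R : Subgroup (GL (Fin 4) F)) (w : F) (hG : Good R w)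
    (p : ℕ) [Fact p.Prime] [CharP F p] (hp2 : p ≠ 2)
    (hBTV : ∀ (y : GL (Fin 4) F), y ∈ subgroupNormalizer R → ∀ (k : ℕ), Odd k → y ^ k = 1 →
      ∀ (u v : Fin 4 → F), (y : Matrix (Fin 4) (Fin 4) F) = 1 + Matrix.vecMulVec u v →
        ∀ s ∈ R, y * s = s * y) : Derang R p := by
  classical
  obtain ⟨u, hu⟩ : ∃ u : Fin 4 → F, u = Pi.single 0 1 := ⟨_, rfl⟩
  obtain ⟨v, hv⟩ : ∃ v : Fin 4 → F, v = Pi.single 1 1 := ⟨_, rfl⟩
  have hvu : v ⬝ᵥ u = 0 := by
    rw [hu, hv]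
    simp
  have hNN : Matrix.vecMulVec u v * Matrix.vecMulVec u v = 0 := by
    rw [Matrix.vecMulVec_mul_vecMulVec, hvu, zero_smul]
    ext i j
    simp [Matrix.vecMulVec_apply]
  have h1 : (1 + Matrix.vecMulVec u v) * (1 - Matrix.vecMulVec u v) = 1 := by
    rw [Matrix.add_mul, Matrix.mul_sub, Matrix.mul_sub, hNN]
    simp
  have h1' : (1 - Matrix.vecMulVec u v) * (1 + Matrix.vecMulVec u v) = 1 := by
    rw [Matrix.sub_mul, Matrix.mul_add, Matrix.mul_add, hNN]
    simp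
  obtain ⟨x, hxu⟩ : ∃ x : GL (Fin 4) F, (x : Matrix (Fin 4) (Fin 4) F) = 1 + Matrix.vecMulVec u v :=
    ⟨⟨1 + Matrix.vecMulVec u v, 1 - Matrix.vecMulVec u v, h1, h1'⟩, rfl⟩
  have hdet : x ∈ specialLinear (Fin 4) F := by
    unfold specialLinear
    rw [MonoidHom.mem_ker]
    apply Units.ext
    rw [Matrix.GeneralLinearGroup.val_det_apply, hxu, Units.val_one]
    have h3 : Matrix.vecMulVec u v = Matrix.single (0 : Fin 4) (1 : Fin 4) (1 : F) := by
      rw [hu, hv, Matrix.single_eq_single_vecMulVec_single]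
    rw [h3]
    have h4 := Matrix.det_transvection_of_ne (0 : Fin 4) (1 : Fin 4) (by decide) (1 : F)
    rw [Matrix.transvection] at h4
    exact h4
  have hxp : x ^ p = 1 := by
    apply Units.ext
    rw [Units.val_pow_eq_pow_val, Units.val_one, hxu, h7s60_one_add_nilp_pow _ hNN]
    have hp0 : (p : F) = 0 := CharP.cast_eq_zero F p
    have h5 : p • Matrix.vecMulVec u v = (p : F) • Matrix.vecMulVec u v := by
      rw [Nat.cast_smul_eq_nsmul]
    rw [h5, hp0, zero_smul, add_zero]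
  have hns : ∀ z : F, (x : Matrix (Fin 4) (Fin 4) F) ≠ z • (1 : Matrix (Fin 4) (Fin 4) F) := by
    intro z hz
    rw [hxu] at hz
    have h6 := congrFun (congrFun hz 0) 1
    simp [Matrix.vecMulVec_apply, hu, hv] at h6
  refine ⟨x, hdet, hxp, hns, ?_⟩
  intro g hmem
  have hodd : Odd p := (Fact.out : p.Prime).odd_of_ne_two hp2
  have hyp : (g⁻¹ * x * g) ^ p = 1 := by
    have h0 : (g⁻¹ * x * g) ^ p = g⁻¹ * x ^ p * g := by
      have h7 := conj_pow (a := g⁻¹) (b := x) (i := p)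
      rw [inv_inv] at h7
      exact h7
    rw [h0, hxp, mul_one, inv_mul_cancel]
  have hgg : ((g⁻¹ : GL (Fin 4) F) : Matrix (Fin 4) (Fin 4) F) * (g : Matrix (Fin 4) (Fin 4) F) = 1 := by
    rw [← Units.val_mul, inv_mul_cancel, Units.val_one]
  have hgg' : (g : Matrix (Fin 4) (Fin 4) F) * ((g⁻¹ : GL (Fin 4) F) : Matrix (Fin 4) (Fin 4) F) = 1 := by
    rw [← Units.val_mul, mul_inv_cancel, Units.val_one]
  have hyu : ((g⁻¹ * x * g : GL (Fin 4) F) : Matrix (Fin 4) (Fin 4) F) =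
      1 + Matrix.vecMulVec (((g⁻¹ : GL (Fin 4) F) : Matrix (Fin 4) (Fin 4) F) *ᵥ u)
        (v ᵥ* (g : Matrix (Fin 4) (Fin 4) F)) := by
    rw [Units.val_mul, Units.val_mul, hxu, Matrix.mul_add, Matrix.add_mul, Matrix.mul_one, hgg,
      Matrix.mul_vecMulVec, Matrix.vecMulVec_mul]
  have hcomm := hBTV (g⁻¹ * x * g) hmem p hodd hyp _ _ hyu
  obtain ⟨c, hc⟩ := hG.schur ((g⁻¹ * x * g : GL (Fin 4) F) : Matrix (Fin 4) (Fin 4) F) (fun s hs => by
    have h8 := congrArg (fun z : GL (Fin 4) F => (z : Matrix (Fin 4) (Fin 4) F)) (hcomm s hs)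
    simp only [Units.val_mul] at h8 ⊢
    exact h8)
  apply hns c
  have hx' : (x : Matrix (Fin 4) (Fin 4) F) = (g : Matrix (Fin 4) (Fin 4) F) *
      ((g⁻¹ * x * g : GL (Fin 4) F) : Matrix (Fin 4) (Fin 4) F) * ((g⁻¹ : GL (Fin 4) F) : Matrix (Fin 4) (Fin 4) F) := by
    rw [← Units.val_mul, ← Units.val_mul]
    congr 1
    group
  rw [hx', hc, Matrix.mul_smul, Matrix.mul_one, Matrix.smul_mul, hgg']

/-- NCHAR (M; uses BTV). -/
theorem s60_nec_char {F : Type*} [Field F] [Fintype F] (h2 : (2 : F) ≠ 0) (R : Subgroup (GL (Fin 4) F)) (w : F) (hG : Good R w)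
    (p : ℕ) [Fact p.Prime] [CharP F p] (hp2 : p ≠ 2) : Derang R p :=
  h7_s60_nec_char_core h2 R w hG p hp2
    (fun y hy k hk hyk u v hyu => s60_transv_central h2 R w hG y hy k hk hyk u v hyu)

end Cfsg.Agent.Lib.helper89.S60
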