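import Cfsg.Agent.Lib.helper17.GUWitt
import Cfsg.Agent.Lib.helper17.HermForm
import Cfsg.Agent.Lib.helper17.WittHerm
import Cfsg.Agent.Lib.helper7.SU

/-!
Involutions of the unitary groups in characteristic `2`: normal form `u ↦ u + ∑ h(u, w_i) w_i`
with `(w_i)` spanning a totally isotropic subspace, conjugacy by rank, and centraliser elements of
every determinant of norm `1`.
-/

set_option autoImplicit false

namespace Cfsg.Agent.Lib.helper7.SUInv

open Cfsg Matrix Cfsg.Agent.Lib.helper17 Cfsg.Agent.Lib.helper7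

variable {F : Type*} [Field F] [Fintype F] {q : ℕ}

/-- Normal form data of a unitary involution in characteristic `2`. -/
def IsNF (n q r : ℕ) (A : Matrix (Fin n) (Fin n) F) (v w : Fin r → (Fin n → F)) : Prop :=
  (∀ i j, hermForm n F q (v i) (w j) = if i = j then 1 else 0) ∧
  (∀ i j, hermForm n F q (w i) (w j) = 0) ∧
  ∀ u, A *ᵥ u = u + ∑ i, hermForm n F q u (w i) • w i

lemma herm_sum_smul_left (hF : Fintype.card F = q ^ 2) {n : ℕ} {ι : Type*} (s : Finset ι)
    (c : ι → F) (w : ι → (Fin n → F)) (v : Fin n → F) :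
    hermForm n F q (∑ i ∈ s, c i • w i) v = ∑ i ∈ s, c i * hermForm n F q (w i) v := by
  obtain ⟨σ, hσ, hne, hinv⟩ := exists_frob' hF
  rw [← hermSesq_apply n q σ hσ, map_sum]
  apply Finset.sum_congr rfl
  intro i _
  rw [map_smul, smul_eq_mul, hermSesq_apply n q σ hσ]

lemma linearIndependent_of_dual (hF : Fintype.card F = q ^ 2) {n r : ℕ}
    (v w : Fin r → (Fin n → F))
    (h : ∀ i j, hermForm n F q (v i) (w j) = if i = j then 1 else 0) :
    LinearIndependent F w := by
  classical
  have hq2 := two_le_of_card_eq_sq hF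
  rw [linearIndependent_iff']
  intro s g hg j hj
  have h1 : hermForm n F q (∑ i ∈ s, g i • w i) (v j) = hermForm n F q 0 (v j) := by rw [hg]
  rw [herm_sum_smul_left hF] at h1
  have h2 : ∀ i, hermForm n F q (w i) (v j) = if i = j then 1 else 0 := by
    intro i
    rw [← herm_conj hF, h j i]
    by_cases hij : i = j
    · subst hij; simp
    · rw [if_neg hij, if_neg (Ne.symm hij), zero_pow (by omega)]
  simp only [h2, mul_ite, mul_one, mul_zero, Finset.sum_ite_eq', hj, if_true] at h1
  have h3 : hermForm n F q (0 : Fin n → F) (v j) = 0 := by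
    unfold hermForm; simp
  rw [h3] at h1
  exact h1

theorem exists_nf [CharP F 2] (hF : Fintype.card F = q ^ 2) {n : ℕ}
    (A : Matrix (Fin n) (Fin n) F) (hA : IsIsom n q A) (hAA : A * A = 1) (r : ℕ)
    (hr : (A - 1).rank = r) :
    ∃ v w : Fin r → (Fin n → F), IsNF n q r A v w := by
  classical
  have hq2 := two_le_of_card_eq_sq hF
  obtain ⟨σ, hσ, hne, hinv⟩ := exists_frob' hF
  set Nl : (Fin n → F) →ₗ[F] (Fin n → F) := (A - 1).mulVecLin with hNl
  have hN : ∀ u, Nl u = A *ᵥ u - u := fun u => by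
    simp [hNl, Matrix.sub_mulVec]
  have hNN : ∀ u, Nl (Nl u) = 0 := by
    intro u
    rw [hN, hN, Matrix.mulVec_sub, Matrix.mulVec_mulVec, hAA, Matrix.one_mulVec]
    have : u - A *ᵥ u - (A *ᵥ u - u) = (2 : F) • (u - A *ᵥ u) := by
      rw [two_smul]; abel
    rw [this, CharTwo.two_eq_zero, zero_smul]
  have hAadj : ∀ u v, hermForm n F q (A *ᵥ u) v = hermForm n F q u (A *ᵥ v) := by
    intro u v
    have := hA u (A *ᵥ v)
    rw [Matrix.mulVec_mulVec, hAA, Matrix.one_mulVec] at this
    exact this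
  have hNadj : ∀ u v, hermForm n F q (Nl u) v = hermForm n F q u (Nl v) := by
    intro u v
    rw [hN, hN, herm_sub_left, herm_sub_right hF, hAadj]
  set B : (Fin n → F) →ₛₗ[σ] (Fin n → F) →ₗ[F] F := (hermSesq n σ).comp Nl with hB
  have hBapp : ∀ x y, B x y = hermForm n F q y (Nl x) := fun x y => by
    rw [hB, LinearMap.comp_apply, hermSesq_apply n q σ hσ]
  obtain ⟨C, hC⟩ := Submodule.exists_isCompl (LinearMap.ker Nl)
  have hCdim : Module.finrank F C = r := by
    have h1 := Submodule.finrank_add_eq_of_isCompl hC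
    have h2 := LinearMap.finrank_range_add_finrank_ker Nl
    have h3 : Module.finrank F (LinearMap.range Nl) = r := by rw [← hr]; rfl
    omega
  subst hCdim
  have hBC : ∀ x y : C, (B.domRestrict₁₂ C C) x y =
      hermForm n F q (y : Fin n → F) (Nl (x : Fin n → F)) := fun x y => by
    rw [LinearMap.domRestrict₁₂_apply, hBapp]
  have hsymm : (B.domRestrict₁₂ C C).IsSymm :=
    ⟨fun x y => by rw [hBC, hBC, hσ, herm_conj hF, hNadj]⟩
  have hzero : ∀ z : Fin n → F, (∀ u, hermForm n F q u z = 0) → z = 0 := by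
    intro z hz
    funext i
    have := hz (Pi.single i 1)
    rw [herm_single_left] at this
    exact (pow_eq_zero_iff (by omega)).1 this
  have hleft : ∀ x : C, (∀ y : C, (B.domRestrict₁₂ C C) x y = 0) → x = 0 := by
    intro x hx
    have h1 : Nl (x : Fin n → F) = 0 := by
      apply hzero
      intro u
      have hu : u ∈ LinearMap.ker Nl ⊔ C := by rw [hC.sup_eq_top]; trivial
      obtain ⟨k, hk, c, hc, rfl⟩ := Submodule.mem_sup.1 hu
      rw [herm_add_left, ← hNadj, LinearMap.mem_ker.1 hk]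
      have := hx ⟨c, hc⟩
      rw [hBC] at this
      rw [this, add_zero]
      unfold hermForm; simp
    apply Subtype.ext
    exact Submodule.disjoint_def.1 hC.disjoint _ (LinearMap.mem_ker.2 h1) x.2
  have hnd : (B.domRestrict₁₂ C C).Nondegenerate := by
    constructor
    · exact hleft
    · intro y hy
      apply hleft
      intro x
      rw [← hsymm.eq, hy, map_zero]
  obtain ⟨b, hb⟩ := exists_orthonormal_basis_herm σ hne hinv _ hsymm hnd
  have hvw : ∀ i j, hermForm n F q (b i : Fin n → F) (Nl (b j : Fin n → F)) =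
      if i = j then 1 else 0 := by
    intro i j
    have := hb j i
    rw [hBC] at this
    rw [this]
    simp [eq_comm]
  have hww : ∀ i j, hermForm n F q (Nl (b i : Fin n → F)) (Nl (b j : Fin n → F)) = 0 := by
    intro i j
    rw [hNadj, hNN]
    unfold hermForm; simp [zero_pow (show q ≠ 0 by omega)]
  refine ⟨fun i => (b i : Fin n → F), fun i => Nl (b i : Fin n → F), hvw, hww, ?_⟩
  intro u
  have hli := linearIndependent_of_dual hF (fun i => (b i : Fin n → F))
    (fun i => Nl (b i : Fin n → F)) hvw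
  have hspan : Submodule.span F (Set.range (fun i => Nl (b i : Fin n → F))) = LinearMap.range Nl := by
    apply Submodule.eq_of_le_of_finrank_eq
    · rw [Submodule.span_le]
      rintro _ ⟨i, rfl⟩
      exact LinearMap.mem_range_self Nl _
    · rw [finrank_span_eq_card hli, Fintype.card_fin]
      have h3 : Module.finrank F (LinearMap.range Nl) = (A - 1).rank := rfl
      rw [h3, hr]
  have hmem : Nl u ∈ Submodule.span F (Set.range (fun i => Nl (b i : Fin n → F))) := by
    rw [hspan]; exact LinearMap.mem_range_self Nl u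
  obtain ⟨c, hc⟩ := (Submodule.mem_span_range_iff_exists_fun F).1 hmem
  have hcj : ∀ j, c j = hermForm n F q u (Nl (b j : Fin n → F)) := by
    intro j
    rw [← hNadj, ← hc, herm_sum_smul_left hF]
    have h2 : ∀ i, hermForm n F q (Nl (b i : Fin n → F)) (b j : Fin n → F) = if i = j then 1 else 0 := by
      intro i
      rw [← herm_conj hF, hvw j i]
      by_cases hij : i = j
      · subst hij; simp
      · rw [if_neg hij, if_neg (Ne.symm hij), zero_pow (by omega)]
    simp [h2]
  have hAu : A *ᵥ u = u + Nl u := by rw [hN]; abel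
  rw [hAu, ← hc]
  congr 1
  apply Finset.sum_congr rfl
  intro i _
  rw [hcj]

lemma herm_zero_left' {n : ℕ} (v : Fin n → F) : hermForm n F q (0 : Fin n → F) v = 0 := by
  unfold hermForm; simp

lemma semiconj_of_map (hF : Fintype.card F = q ^ 2) {n r : ℕ} (A B M : Matrix (Fin n) (Fin n) F)
    (w w' : Fin r → (Fin n → F)) (μ : Fin r → F)
    (hAf : ∀ u, A *ᵥ u = u + ∑ i, hermForm n F q u (w i) • w i)
    (hBf : ∀ u, B *ᵥ u = u + ∑ i, hermForm n F q u (w' i) • w' i)
    (hM : IsIsom n q M) (hMw : ∀ i, M *ᵥ w i = μ i • w' i) (hμ : ∀ i, μ i * μ i ^ q = 1) :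
    M * A = B * M := by
  rw [Matrix.ext_iff_mulVec]
  intro u
  rw [← Matrix.mulVec_mulVec, ← Matrix.mulVec_mulVec, hAf, hBf, Matrix.mulVec_add,
    Matrix.mulVec_sum]
  congr 1
  apply Finset.sum_congr rfl
  intro i _
  rw [Matrix.mulVec_smul, hMw, smul_smul]
  congr 1
  have h1 := hM u (w i)
  rw [hMw, herm_smul_right] at h1
  rw [← h1]
  linear_combination (hermForm n F q (M *ᵥ u) (w' i)) * hμ i

lemma det_qrefl (n : ℕ) (w : Fin n → F) (c : F) :
    (qrefl n q w c).det = 1 + c * hermForm n F q w w := by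
  unfold qrefl
  rw [← Matrix.smul_vecMulVec, Matrix.vecMulVec_eq Unit,
    Matrix.det_one_add_replicateCol_mul_replicateRow]
  congr 1
  unfold hermForm dotProduct
  simp only [Pi.smul_apply, smul_eq_mul, Finset.mul_sum]
  apply Finset.sum_congr rfl
  intro i _
  ring

theorem exists_centralizer [CharP F 2] (hF : Fintype.card F = q ^ 2) {n r : ℕ}
    (A : Matrix (Fin n) (Fin n) F) (v w : Fin r → (Fin n → F)) (hnf : IsNF n q r A v w)
    (i0 : Fin r) (l : F) (hl : l * l ^ q = 1) :
    ∃ c : Matrix (Fin n) (Fin n) F, IsIsom n q c ∧ c.det = l * l ∧ c * A = A * c := by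
  classical
  obtain ⟨hvw, hww, hAf⟩ := hnf
  have hq2 := two_le_of_card_eq_sq hF
  have hfix : (hermForm n F q (v i0) (v i0)) ^ q = hermForm n F q (v i0) (v i0) :=
    herm_conj hF n _ _
  obtain ⟨t, ht⟩ := exists_trace_eq hF _ hfix
  obtain ⟨β, hβ⟩ := exists_trace_eq hF (1 : F) (one_pow q)
  have hwv : ∀ i, hermForm n F q (w i) (v i0) = if i = i0 then 1 else 0 := by
    intro i
    rw [← herm_conj hF, hvw i0 i]
    by_cases hij : i = i0
    · subst hij; simp
    · rw [if_neg hij, if_neg (Ne.symm hij), zero_pow (by omega)]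
  obtain ⟨v', hv'⟩ : ∃ v' : Fin n → F, v' = v i0 + t • w i0 := ⟨_, rfl⟩
  have h1 : hermForm n F q v' v' = 0 := by
    rw [hv', herm_add_left, herm_add_right hF, herm_add_right hF, herm_smul_left, herm_smul_left,
      herm_smul_right, herm_smul_right, hww, hvw, hwv, if_pos rfl, ← ht]
    have h2 : (2 : F) = 0 := CharTwo.two_eq_zero
    linear_combination (t + t ^ q) * h2
  have h2 : ∀ j, hermForm n F q v' (w j) = if i0 = j then 1 else 0 := by
    intro j
    rw [hv', herm_add_left, herm_smul_left, hww, hvw, mul_zero, add_zero]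
  have h3 : ∀ j, hermForm n F q (w j) v' = if j = i0 then 1 else 0 := by
    intro j
    rw [hv', herm_add_right hF, herm_smul_right, hww, hwv, mul_zero, add_zero]
  obtain ⟨f1, hf1⟩ : ∃ f1 : Fin n → F, f1 = v' + β • w i0 := ⟨_, rfl⟩
  obtain ⟨f2, hf2⟩ : ∃ f2 : Fin n → F, f2 = v' + β ^ q • w i0 := ⟨_, rfl⟩
  have hbb : (β ^ q) ^ q = β := pow_q_pow_q hF β
  have h20 : (2 : F) = 0 := CharTwo.two_eq_zero
  have hf11 : hermForm n F q f1 f1 = 1 := by
    rw [hf1, herm_add_left, herm_add_right hF, herm_add_right hF, herm_smul_left, herm_smul_left,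
      herm_smul_right, herm_smul_right, hww, h1, h2, h3, if_pos rfl]
    linear_combination hβ
  have hf22 : hermForm n F q f2 f2 = 1 := by
    rw [hf2, herm_add_left, herm_add_right hF, herm_add_right hF, herm_smul_left, herm_smul_left,
      herm_smul_right, herm_smul_right, hww, h1, h2, h3, if_pos rfl, hbb]
    linear_combination hβ
  have hwf1 : ∀ j, hermForm n F q (w j) f1 = if j = i0 then 1 else 0 := by
    intro j
    rw [hf1, herm_add_right hF, herm_smul_right, hww, h3, mul_zero, add_zero]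
  have hwf2 : ∀ j, hermForm n F q (w j) f2 = if j = i0 then 1 else 0 := by
    intro j
    rw [hf2, herm_add_right hF, herm_smul_right, hww, h3, mul_zero, add_zero]
  have hf21 : hermForm n F q f2 f1 = 0 := by
    rw [hf2, hf1, herm_add_left, herm_add_right hF, herm_add_right hF, herm_smul_left,
      herm_smul_left, herm_smul_right, herm_smul_right, hww, h1, h2, h3, if_pos rfl]
    linear_combination (β ^ q) * h20
  have hsum : f1 + f2 = w i0 := by
    rw [hf1, hf2]
    have e1 : v' + β • w i0 + (v' + β ^ q • w i0) = (2 : F) • v' + (β + β ^ q) • w i0 := by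
      rw [two_smul, add_smul]; abel
    rw [e1, h20, hβ, zero_smul, one_smul, zero_add]
  have hc1 : IsIsom n q (qrefl n q f1 (l - 1)) := by
    apply qrefl_isIsom hF
    rw [hf11, frob_sub_all hF, one_pow]
    linear_combination hl
  have hc2 : IsIsom n q (qrefl n q f2 (l - 1)) := by
    apply qrefl_isIsom hF
    rw [hf22, frob_sub_all hF, one_pow]
    linear_combination hl
  refine ⟨qrefl n q f1 (l - 1) * qrefl n q f2 (l - 1), hc1.mul hc2, ?_, ?_⟩
  · rw [Matrix.det_mul, det_qrefl, det_qrefl, hf11, hf22]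
    ring
  · refine semiconj_of_map hF A A _ w w (fun i => if i = i0 then l else 1) hAf hAf
      (hc1.mul hc2) ?_ ?_
    · intro i
      have e2 : qrefl n q f2 (l - 1) *ᵥ w i = w i + ((l - 1) * (if i = i0 then 1 else 0)) • f2 := by
        rw [qrefl_mulVec, hwf2]
      rw [← Matrix.mulVec_mulVec, e2]
      by_cases hi : i = i0
      · subst hi
        simp only [↓reduceIte, mul_one]
        rw [qrefl_mulVec, herm_add_left, herm_smul_left, hwf1, if_pos rfl, hf21, mul_zero,
          add_zero, mul_one]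
        have e3 : w i + (l - 1) • f2 + (l - 1) • f1 = w i + (l - 1) • (f1 + f2) := by
          rw [smul_add]; abel
        rw [e3, hsum, sub_smul, one_smul]; abel
      · rw [if_neg hi, if_neg hi, mul_zero, zero_smul, add_zero, qrefl_mulVec, hwf1, if_neg hi,
          mul_zero, zero_smul, add_zero, one_smul]
    · intro i
      by_cases hi : i = i0
      · rw [if_pos hi]; exact hl
      · rw [if_neg hi]; simp


lemma even_of_charTwo [CharP F 2] (hF : Fintype.card F = q ^ 2) : ∃ m, q = 2 * m := by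
  have h1 : ((Fintype.card F : ℕ) : F) = 0 := Nat.cast_card_eq_zero F
  have h2 : 2 ∣ Fintype.card F := (CharP.cast_eq_zero_iff F 2 _).1 h1
  rw [hF] at h2
  exact Nat.Prime.dvd_of_dvd_pow Nat.prime_two h2

/-- Unitary involutions in characteristic `2` with the same rank of `A - 1` are conjugate under an
isometry of determinant `1`. -/
theorem exists_su_conj [CharP F 2] (hF : Fintype.card F = q ^ 2) {n : ℕ}
    (A B : Matrix (Fin n) (Fin n) F) (hA : IsIsom n q A) (hB : IsIsom n q B)
    (hAA : A * A = 1) (hBB : B * B = 1) (hA1 : A ≠ 1)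
    (hrank : (A - 1).rank = (B - 1).rank) :
    ∃ M : Matrix (Fin n) (Fin n) F, IsIsom n q M ∧ M.det = 1 ∧ M * A = B * M := by
  classical
  have hq2 := two_le_of_card_eq_sq hF
  obtain ⟨r, hr⟩ : ∃ r, (A - 1).rank = r := ⟨_, rfl⟩
  obtain ⟨v, w, hnfA⟩ := exists_nf hF A hA hAA r hr
  obtain ⟨v', w', hnfB⟩ := exists_nf hF B hB hBB r (hrank ▸ hr)
  rcases r with _ | k
  · exfalso
    apply hA1
    rw [Matrix.ext_iff_mulVec]
    intro u
    rw [hnfA.2.2 u, Matrix.one_mulVec]
    simp
  have hliA := linearIndependent_of_dual hF v w hnfA.1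
  have hliB := linearIndependent_of_dual hF v' w' hnfB.1
  obtain ⟨g, hg⟩ := gu_witt_family hF n w w' hliA hliB
    (fun i j => by rw [hnfA.2.1, hnfB.2.1])
  obtain ⟨G, hGdef⟩ : ∃ G : Matrix (Fin n) (Fin n) F, G = guToMat n F q g := ⟨_, rfl⟩
  have hG : IsIsom n q G := by
    rw [hGdef]
    exact fun u v => guToMat_preserves n g u v
  have hGw : ∀ i, G *ᵥ w i = (1 : F) • w' i := by
    intro i
    rw [hGdef, hg, one_smul]
  have hGA : G * A = B * G :=
    semiconj_of_map hF A B G w w' (fun _ => 1) hnfA.2.2 hnfB.2.2 hG hGw (fun i => by simp)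
  have hd : G.det * G.det ^ q = 1 := hG.det_norm hF
  obtain ⟨m, hm⟩ := even_of_charTwo hF
  obtain ⟨e, he⟩ : ∃ e : F, e = G.det ^ q := ⟨_, rfl⟩
  have heq : e ^ q = G.det := by rw [he, pow_q_pow_q hF]
  have hde : G.det * e = 1 := by rw [he]; exact hd
  have hl1 : e ^ (m + 1) * (e ^ (m + 1)) ^ q = 1 := by
    rw [← pow_mul, mul_comm (m + 1) q, pow_mul, heq, ← mul_pow, mul_comm e, hde, one_pow]
  have hl2 : e ^ (m + 1) * e ^ (m + 1) = e := by
    rw [← pow_add]
    have : m + 1 + (m + 1) = q + 1 + 1 := by omega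
    rw [this, pow_succ, pow_succ, heq, hde, one_mul]
  obtain ⟨c, hc, hcdet, hcA⟩ := exists_centralizer hF A v w hnfA 0 (e ^ (m + 1)) hl1
  refine ⟨G * c, hG.mul hc, ?_, ?_⟩
  · rw [Matrix.det_mul, hcdet, hl2, hde]
  · rw [Matrix.mul_assoc, hcA, ← Matrix.mul_assoc, hGA, Matrix.mul_assoc]


end Cfsg.Agent.Lib.helper7.SUInv
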