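import Mathlib
import Cfsg.Agent.Lib.helper17.Herm
import Cfsg.Agent.Lib.helper17.HermForm

/-!
# S2335 pieces FSIG (`sigma_facts`) and FEPS (`exists_eps`): racer copies by helper7
-/

set_option autoImplicit false

namespace Cfsg.Agent.Lib.helper44.SUW

/-- FSIG (S), racer copy (helper7). -/
theorem h7_sigma_facts {K : Type*} [Field K] [Fintype K] {q : ℕ} (hK : Fintype.card K = q ^ 2)
    (σ : K →+* K) (hσ : ∀ x, σ x = x ^ q) :
    (∀ x, σ (σ x) = x) ∧ σ ≠ RingHom.id K := by
  have hq : 2 ≤ q := Cfsg.Agent.Lib.helper17.two_le_of_card_eq_sq hK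
  refine ⟨fun x => ?_, ?_⟩
  · rw [hσ, hσ]
    exact Cfsg.Agent.Lib.helper17.pow_q_pow_q hK x
  · intro hid
    have hp0 : (Polynomial.X ^ q - Polynomial.X : Polynomial K) ≠ 0 :=
      FiniteField.X_pow_card_sub_X_ne_zero K (by omega)
    have hdeg : (Polynomial.X ^ q - Polynomial.X : Polynomial K).natDegree = q :=
      FiniteField.X_pow_card_sub_X_natDegree_eq K (by omega)
    have hsub : (Finset.univ : Finset K).val ⊆
        (Polynomial.X ^ q - Polynomial.X : Polynomial K).roots := by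
      intro a _
      rw [Polynomial.mem_roots hp0, Polynomial.IsRoot, Polynomial.eval_sub, Polynomial.eval_pow,
        Polynomial.eval_X, ← hσ, hid, RingHom.id_apply, sub_self]
    have hcard := Polynomial.card_le_degree_of_subset_roots hsub
    rw [hdeg, Finset.card_univ, hK] at hcard
    nlinarith

/-- FEPS (S), racer copy (helper7). -/
theorem h7_exists_eps {K : Type*} [Field K] [Fintype K] {q : ℕ} (hK : Fintype.card K = q ^ 2)
    (σ : K →+* K) (hσ : ∀ x, σ x = x ^ q) : ∃ ε : K, ε * σ ε = -1 := by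
  obtain ⟨h1, h2⟩ := h7_sigma_facts hK σ hσ
  exact Cfsg.Agent.Lib.helper17.norm_surj σ h2 h1 (-1) (neg_ne_zero.2 one_ne_zero)
    (by rw [map_neg, map_one])

end Cfsg.Agent.Lib.helper44.SUW
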