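import Mathlib
import Cfsg.Agent.Lib.helper44.SUWDefs
import Cfsg.Agent.Lib.helper7.SUWFSIG

/-!
# S2335 piece PAIR (`pair_orth`): racer copy by helper7

For a non-zero skew-Hermitian `Y`, the character `C ↦ ψ (tr (Y C))` of the additive group of
skew-Hermitian matrices is non-trivial, hence sums to zero.
-/

set_option autoImplicit false

namespace Cfsg.Agent.Lib.helper44.SUW

open Matrix

/-- The trace of a product of two skew-Hermitian matrices is fixed by `σ`. -/
theorem h7_trace_fixed {K : Type*} [Field K] (σ : K →+* K) {m : ℕ}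
    (Y C : Matrix (Fin m) (Fin m) K) (hY : Y ∈ skewH σ m) (hC : C ∈ skewH σ m) :
    σ (Matrix.trace (Y * C)) = Matrix.trace (Y * C) := by
  simp only [Matrix.trace, Matrix.diag, Matrix.mul_apply, map_sum, map_mul]
  rw [Finset.sum_comm]
  apply Finset.sum_congr rfl
  intro j _
  apply Finset.sum_congr rfl
  intro i _
  rw [hY i j, hC j i]
  ring

/-- The skew-Hermitian matrix `lam E_ji - σ(lam) E_ij` and its trace against `Y`. -/
theorem h7_exists_trace_ne {K : Type*} [Field K] (σ : K →+* K) (hσσ : ∀ x, σ (σ x) = x)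
    (hσid : σ ≠ RingHom.id K) {m : ℕ}
    (Y : Matrix (Fin m) (Fin m) K) (hY : Y ∈ skewH σ m) (hY0 : Y ≠ 0) :
    ∃ C₁ ∈ skewH σ m, Matrix.trace (Y * C₁) ≠ 0 := by
  classical
  -- an entry `Y i j ≠ 0`
  obtain ⟨i, j, hij⟩ : ∃ i j, Y i j ≠ 0 := by
    by_contra hcon
    apply hY0
    ext a b
    by_contra hab
    exact hcon ⟨a, b, hab⟩
  -- some `μ` with `μ + σ μ ≠ 0`
  obtain ⟨μ, hμ⟩ : ∃ μ : K, μ + σ μ ≠ 0 := by
    by_contra hcon
    have hall : ∀ μ : K, μ + σ μ = 0 := by
      intro μ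
      by_contra h
      exact hcon ⟨μ, h⟩
    have h2 : (1 : K) + 1 = 0 := by
      have := hall 1
      rwa [map_one] at this
    apply hσid
    apply RingHom.ext
    intro x
    have h3 := hall x
    have h4 : x + x = 0 := by
      have : x + x = x * (1 + 1) := by ring
      rw [this, h2, mul_zero]
    rw [RingHom.id_apply]
    linear_combination h3 - h4
  refine ⟨Matrix.of (fun a b => (if a = j ∧ b = i then (Y i j)⁻¹ * μ else 0) -
      (if a = i ∧ b = j then σ ((Y i j)⁻¹ * μ) else 0)), ?_, ?_⟩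
  · intro a b
    simp only [Matrix.of_apply]
    rw [map_sub]
    by_cases h1 : a = j ∧ b = i
    · by_cases h2 : a = i ∧ b = j
      · rw [if_pos h1, if_pos h2, if_pos ⟨h2.2, h2.1⟩, if_pos ⟨h1.2, h1.1⟩, hσσ]
        ring
      · rw [if_pos h1, if_neg h2, if_neg (fun h => h2 ⟨h.2, h.1⟩), if_pos ⟨h1.2, h1.1⟩, map_zero]
        ring
    · by_cases h2 : a = i ∧ b = j
      · rw [if_neg h1, if_pos h2, if_pos ⟨h2.2, h2.1⟩, if_neg (fun h => h1 ⟨h.2, h.1⟩), hσσ,
          map_zero]
        ring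
      · rw [if_neg h1, if_neg h2, if_neg (fun h => h2 ⟨h.2, h.1⟩),
          if_neg (fun h => h1 ⟨h.2, h.1⟩), map_zero]
        ring
  · have htr : Matrix.trace (Y * Matrix.of (fun a b => (if a = j ∧ b = i then (Y i j)⁻¹ * μ else 0) -
        (if a = i ∧ b = j then σ ((Y i j)⁻¹ * μ) else 0))) = μ + σ μ := by
      simp only [Matrix.trace, Matrix.diag, Matrix.mul_apply, Matrix.of_apply, mul_sub,
        Finset.sum_sub_distrib]
      have e1 : ∑ x : Fin m, ∑ x_1 : Fin m,
          Y x x_1 * (if x_1 = j ∧ x = i then (Y i j)⁻¹ * μ else 0) = Y i j * ((Y i j)⁻¹ * μ) := by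
        rw [Finset.sum_eq_single i, Finset.sum_eq_single j]
        · rw [if_pos ⟨rfl, rfl⟩]
        · intro b _ hb
          rw [if_neg (fun h => hb h.1), mul_zero]
        · intro h
          exact absurd (Finset.mem_univ _) h
        · intro a _ ha
          apply Finset.sum_eq_zero
          intro b _
          rw [if_neg (fun h => ha h.2), mul_zero]
        · intro h
          exact absurd (Finset.mem_univ _) h
      have e2 : ∑ x : Fin m, ∑ x_1 : Fin m,
          Y x x_1 * (if x_1 = i ∧ x = j then σ ((Y i j)⁻¹ * μ) else 0) =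
            Y j i * σ ((Y i j)⁻¹ * μ) := by
        rw [Finset.sum_eq_single j, Finset.sum_eq_single i]
        · rw [if_pos ⟨rfl, rfl⟩]
        · intro b _ hb
          rw [if_neg (fun h => hb h.1), mul_zero]
        · intro h
          exact absurd (Finset.mem_univ _) h
        · intro a _ ha
          apply Finset.sum_eq_zero
          intro b _
          rw [if_neg (fun h => ha h.2), mul_zero]
        · intro h
          exact absurd (Finset.mem_univ _) h
      rw [e1, e2]
      have h3 : Y j i = -σ (Y i j) := by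
        rw [hY i j, neg_neg]
      rw [h3, neg_mul, ← map_mul, mul_inv_cancel_left₀ hij]
      ring
    rw [htr]
    exact hμ

/-- PAIR (M), racer copy (helper7). -/
theorem h7_pair_orth {K : Type*} [Field K] [Fintype K] {q m : ℕ} (hK : Fintype.card K = q ^ 2)
    (σ : K →+* K) (hσ : ∀ x, σ x = x ^ q) (ψ : AddChar K ℂ) (hψ : ψ 1 ≠ 1)
    [Fintype ↥(skewH σ m)] (Y : Matrix (Fin m) (Fin m) K) (hY : Y ∈ skewH σ m) (hY0 : Y ≠ 0) :
    ∑ C : ↥(skewH σ m), ψ (Matrix.trace (Y * C.1)) = 0 := by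
  obtain ⟨hσσ, hσid⟩ := h7_sigma_facts hK σ hσ
  obtain ⟨C₁, hC₁, hr⟩ := h7_exists_trace_ne σ hσσ hσid Y hY hY0
  have hfix := h7_trace_fixed σ Y C₁ hY hC₁
  -- rescale
  have hC₂ : (Matrix.trace (Y * C₁))⁻¹ • C₁ ∈ skewH σ m := by
    intro a b
    rw [Matrix.smul_apply, Matrix.smul_apply, smul_eq_mul, smul_eq_mul, map_mul, map_inv₀, hfix,
      hC₁ a b]
    ring
  have htr2 : Matrix.trace (Y * ((Matrix.trace (Y * C₁))⁻¹ • C₁)) = 1 := by
    rw [Matrix.mul_smul, Matrix.trace_smul, smul_eq_mul, inv_mul_cancel₀ hr]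
  -- shift
  have hshift : ∑ C : ↥(skewH σ m), ψ (Matrix.trace (Y * C.1)) =
      ψ 1 * ∑ C : ↥(skewH σ m), ψ (Matrix.trace (Y * C.1)) := by
    rw [Finset.mul_sum]
    rw [← Equiv.sum_comp (Equiv.addRight (⟨_, hC₂⟩ : ↥(skewH σ m)))]
    apply Finset.sum_congr rfl
    intro C _
    rw [Equiv.coe_addRight, AddSubgroup.coe_add, Matrix.mul_add, Matrix.trace_add, htr2,
      AddChar.map_add_eq_mul, mul_comm]
  have h0 : (ψ 1 - 1) * ∑ C : ↥(skewH σ m), ψ (Matrix.trace (Y * C.1)) = 0 := by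
    linear_combination -hshift
  rcases mul_eq_zero.1 h0 with h | h
  · exact absurd (sub_eq_zero.1 h) hψ
  · exact h

end Cfsg.Agent.Lib.helper44.SUW
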