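import Mathlib
import Cfsg.Agent.Lib.helper24.SffDefs

/-!
# S5965, piece IRR (racing copy, prefixed name)
-/

set_option autoImplicit false

namespace Cfsg.Agent.Lib.helper24

open Module Polynomial

/-- **IRR**. -/
theorem h7_sff_irr_model {F : Type*} [Field F] {V : Type*} [AddCommGroup V] [Module F V]
    [FiniteDimensional F V] [Nontrivial V] (f : Module.End F V)
    (hmin : ∀ W : Submodule F V, (∀ w ∈ W, f w ∈ W) → W = ⊥ ∨ W = ⊤) :
    Irreducible (minpoly F f) ∧
      ∃ e : AdjoinRoot (minpoly F f) ≃ₗ[F] V, ∀ a : AdjoinRoot (minpoly F f),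
        e (AdjoinRoot.root (minpoly F f) * a) = f (e a) := by
  have hint : IsIntegral F f := Algebra.IsIntegral.isIntegral f
  have hm0 : minpoly F f ≠ 0 := minpoly.ne_zero hint
  have hirr : Irreducible (minpoly F f) := by
    rw [irreducible_iff]
    refine ⟨minpoly.not_isUnit F f, ?_⟩
    intro g h hgh
    have hcomm : aeval f g * f = f * aeval f g := by
      calc aeval f g * f = aeval f (g * X) := by rw [map_mul, aeval_X]
        _ = aeval f (X * g) := by rw [mul_comm]
        _ = f * aeval f g := by rw [map_mul, aeval_X]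
    have hinv : ∀ w ∈ LinearMap.ker (aeval f g), f w ∈ LinearMap.ker (aeval f g) := by
      intro w hw
      rw [LinearMap.mem_ker] at hw ⊢
      have := congrArg (fun T : Module.End F V => T w) hcomm
      simp only [Module.End.mul_apply] at this
      rw [this, hw, map_zero]
    rcases hmin _ hinv with h0 | h1
    · left
      have hh : aeval f h = 0 := by
        apply LinearMap.ext
        intro v
        have h2 : aeval f g (aeval f h v) = 0 := by
          have h3 : aeval f g * aeval f h = 0 := by
            rw [← map_mul, ← hgh, minpoly.aeval]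
          have := congrArg (fun T : Module.End F V => T v) h3
          simpa using this
        have h4 : aeval f h v ∈ LinearMap.ker (aeval f g) := LinearMap.mem_ker.mpr h2
        rw [h0] at h4
        simpa using h4
      obtain ⟨c, hc⟩ := minpoly.dvd F f hh
      have h5 : minpoly F f * 1 = minpoly F f * (g * c) := by
        rw [mul_one]
        conv_lhs => rw [hgh, hc]
        ring
      exact IsUnit.of_mul_eq_one _ (mul_left_cancel₀ hm0 h5).symm
    · right
      have hg : aeval f g = 0 := by
        apply LinearMap.ext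
        intro v
        have : v ∈ LinearMap.ker (aeval f g) := by rw [h1]; exact Submodule.mem_top
        simpa using this
      obtain ⟨c, hc⟩ := minpoly.dvd F f hg
      have h5 : minpoly F f * 1 = minpoly F f * (h * c) := by
        rw [mul_one]
        conv_lhs => rw [hgh, hc]
        ring
      exact IsUnit.of_mul_eq_one _ (mul_left_cancel₀ hm0 h5).symm
  refine ⟨hirr, ?_⟩
  have : Fact (Irreducible (minpoly F f)) := ⟨hirr⟩
  have hker : ∀ a : F[X], a ∈ (Ideal.span {minpoly F f} : Ideal F[X]) → aeval f a = 0 := by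
    intro a ha
    obtain ⟨c, rfl⟩ := Ideal.mem_span_singleton.mp ha
    rw [map_mul, minpoly.aeval, zero_mul]
  obtain ⟨L, hL⟩ : ∃ L : AdjoinRoot (minpoly F f) →ₐ[F] Module.End F V,
      L (AdjoinRoot.root (minpoly F f)) = f := by
    refine ⟨Ideal.Quotient.liftₐ (Ideal.span {minpoly F f}) (aeval f) hker, ?_⟩
    have h1 : AdjoinRoot.root (minpoly F f) = Ideal.Quotient.mk _ X := rfl
    rw [h1]
    exact (Ideal.Quotient.liftₐ_apply _ _ _ _).trans (aeval_X f)
  obtain ⟨v, hv⟩ := exists_ne (0 : V)
  obtain ⟨φ, hφ⟩ : ∃ φ : AdjoinRoot (minpoly F f) →ₗ[F] V, ∀ a, φ a = L a v :=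
    ⟨(LinearMap.applyₗ v).comp L.toLinearMap, fun a => rfl⟩
  have hφmul : ∀ a, φ (AdjoinRoot.root (minpoly F f) * a) = f (φ a) := by
    intro a
    rw [hφ, hφ, map_mul, hL, Module.End.mul_apply]
  have hinj : Function.Injective φ := by
    rw [injective_iff_map_eq_zero]
    intro a ha
    by_contra ha0
    apply hv
    have h1 : L a⁻¹ (L a v) = v := by
      rw [← Module.End.mul_apply, ← map_mul, inv_mul_cancel₀ ha0, map_one, Module.End.one_apply]
    rw [← h1, ← hφ, ha, map_zero]
  have hsurj : Function.Surjective φ := by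
    rw [← LinearMap.range_eq_top]
    have hinv : ∀ w ∈ LinearMap.range φ, f w ∈ LinearMap.range φ := by
      rintro w ⟨a, rfl⟩
      exact ⟨_, hφmul a⟩
    rcases hmin _ hinv with h0 | h1
    · exfalso
      apply hv
      have h2 : v ∈ LinearMap.range φ := ⟨1, by rw [hφ, map_one, Module.End.one_apply]⟩
      rw [h0] at h2
      simpa using h2
    · exact h1
  refine ⟨LinearEquiv.ofBijective φ ⟨hinj, hsurj⟩, ?_⟩
  intro a
  exact hφmul a

end Cfsg.Agent.Lib.helper24
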