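import Mathlib
import Cfsg.Agent.Lib.helper24.SfoDefs
import Cfsg.Agent.Lib.helper98.SfoOB
import Cfsg.Agent.Lib.helper53.SfoBINREP

/-!
# S5981 piece OSIM2 (`sfo_exists_sim_sq`): racer copy by helper7

For `n` even and `z ≠ 0` there is a similarity `g` of `Q` with `g * g = z`.  In an orthogonal
basis `e` (OB), pair the basis vectors by a fixed-point-free involution `π` and put
`T e_i = A_i e_i + B_{π i} e_{π i}` (in coordinates `(L a)_i = A_i a_i + B_i a_{π i}`), where
`A`, `B` come from solutions of `d α² + d' γ² = z d` (BINREP).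
-/

set_option autoImplicit false

namespace Cfsg.Agent.Lib.helper24

open Module Matrix Cfsg.Geo

/-- Evaluation of `Q` in an orthogonal family. -/
theorem h7_sfo_diag_eval {F : Type*} [Field F] {n : ℕ}
    (Q : (Fin n → F) → F) (hQ : IsNondegenerateQuadraticForm Q) (e : Fin n → (Fin n → F))
    (horth : ∀ i j, i ≠ j → QuadraticMap.polar Q (e i) (e j) = 0) (a : Fin n → F) :
    Q (∑ i, a i • e i) = ∑ i, Q (e i) * a i ^ 2 := by
  classical
  have hB := hQ.polar_bilinear
  have hQ0 : Q 0 = 0 := by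
    have h1 := hQ.smul 0 0
    rw [zero_smul] at h1
    rw [h1]
    ring
  have hQadd : ∀ x y, Q (x + y) = Q x + Q y + QuadraticMap.polar Q x y := by
    intro x y
    unfold QuadraticMap.polar
    ring
  have hpol0 : ∀ x, QuadraticMap.polar Q x 0 = 0 := by
    intro x
    have h1 := hB.smul_right 0 x 0
    rw [zero_smul, zero_mul] at h1
    exact h1
  have hpol : ∀ (s : Finset (Fin n)) (i : Fin n), i ∉ s →
      QuadraticMap.polar Q (a i • e i) (∑ j ∈ s, a j • e j) = 0 := by
    intro s i hi
    induction s using Finset.induction_on with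
    | empty =>
      rw [Finset.sum_empty]
      exact hpol0 _
    | insert j s hj ih =>
      have hij : i ≠ j := by
        rintro rfl
        exact hi (Finset.mem_insert_self _ _)
      rw [Finset.sum_insert hj, hB.add_right, hB.smul_left, hB.smul_right, horth i j hij,
        ih (fun h => hi (Finset.mem_insert_of_mem h))]
      ring
  have key : ∀ s : Finset (Fin n), Q (∑ i ∈ s, a i • e i) = ∑ i ∈ s, Q (e i) * a i ^ 2 := by
    intro s
    induction s using Finset.induction_on with
    | empty =>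
      rw [Finset.sum_empty, Finset.sum_empty]
      exact hQ0
    | insert i s hi ih =>
      rw [Finset.sum_insert hi, Finset.sum_insert hi, hQadd, hQ.smul, ih, hpol s i hi]
      ring
  exact key Finset.univ

/-- The coordinate computation. -/
theorem h7_sim_core {F : Type*} [Field F] {n : ℕ} (π : Fin n → Fin n) (hπ : ∀ i, π (π i) = i)
    (d A B : Fin n → F) (z : F)
    (h1 : ∀ i, A (π i) = -A i) (h2 : ∀ i, d i * B i = d (π i) * B (π i))
    (h3 : ∀ i, A i ^ 2 + B i * B (π i) = z)
    (h4 : ∀ i, d i * A i ^ 2 + d (π i) * B (π i) ^ 2 = z * d i) :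
    (∀ a : Fin n → F, ∀ i, A i * (A i * a i + B i * a (π i)) +
      B i * (A (π i) * a (π i) + B (π i) * a (π (π i))) = z * a i) ∧
    (∀ a : Fin n → F, ∑ i, d i * (A i * a i + B i * a (π i)) ^ 2 = z * ∑ i, d i * a i ^ 2) := by
  constructor
  · intro a i
    rw [hπ, h1]
    linear_combination (a i) * h3 i
  · intro a
    have hinv : Function.Involutive π := hπ
    have hS : ∑ i, d i * A i * B i * a i * a (π i) = - ∑ i, d i * A i * B i * a i * a (π i) := by
      conv_lhs => rw [← Equiv.sum_comp (Function.Involutive.toPerm π hinv)]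
      rw [← Finset.sum_neg_distrib]
      apply Finset.sum_congr rfl
      intro i _
      show d (π i) * A (π i) * B (π i) * a (π i) * a (π (π i)) = -(d i * A i * B i * a i * a (π i))
      rw [hπ, h1]
      linear_combination (A i * a i * a (π i)) * h2 i
    have hR : ∑ i, d i * B i ^ 2 * a (π i) ^ 2 = ∑ i, d (π i) * B (π i) ^ 2 * a i ^ 2 := by
      conv_rhs => rw [← Equiv.sum_comp (Function.Involutive.toPerm π hinv)]
      apply Finset.sum_congr rfl
      intro i _
      show d i * B i ^ 2 * a (π i) ^ 2 = d (π (π i)) * B (π (π i)) ^ 2 * a (π i) ^ 2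
      rw [hπ]
    have hexp : ∀ i, d i * (A i * a i + B i * a (π i)) ^ 2 =
        d i * A i ^ 2 * a i ^ 2 + d i * B i ^ 2 * a (π i) ^ 2 +
          2 * (d i * A i * B i * a i * a (π i)) := by
      intro i
      ring
    rw [Finset.sum_congr rfl (fun i _ => hexp i), Finset.sum_add_distrib, Finset.sum_add_distrib,
      hR, ← Finset.mul_sum]
    have hS0 : 2 * ∑ i, d i * A i * B i * a i * a (π i) = 0 := by linear_combination hS
    rw [hS0, add_zero, ← Finset.sum_add_distrib, Finset.mul_sum]
    apply Finset.sum_congr rfl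
    intro i _
    linear_combination (a i ^ 2) * h4 i

/-- The pairing data. -/
theorem h7_sim_data {F : Type*} [Field F] [Fintype F] (h2 : (2 : F) ≠ 0) (m : ℕ)
    (d : Fin (m + m) → F) (hd : ∀ i, d i ≠ 0) (z : F) :
    ∃ (π : Fin (m + m) → Fin (m + m)) (A B : Fin (m + m) → F), (∀ i, π (π i) = i) ∧
      (∀ i, A (π i) = -A i) ∧ (∀ i, d i * B i = d (π i) * B (π i)) ∧
      (∀ i, A i ^ 2 + B i * B (π i) = z) ∧
      (∀ i, d i * A i ^ 2 + d (π i) * B (π i) ^ 2 = z * d i) := by
  classical
  obtain ⟨φ, hφ⟩ : ∃ φ : Fin m ⊕ Fin m ≃ Fin (m + m), True := ⟨finSumFinEquiv, trivial⟩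
  have hsol : ∀ k : Fin m, ∃ p : F × F,
      d (φ (Sum.inl k)) * p.1 ^ 2 + d (φ (Sum.inr k)) * p.2 ^ 2 = z * d (φ (Sum.inl k)) := by
    intro k
    obtain ⟨x, y, hxy⟩ := sfo_bin_rep h2 (d (φ (Sum.inl k))) (d (φ (Sum.inr k)))
      (z * d (φ (Sum.inl k))) (hd _) (hd _)
    exact ⟨(x, y), hxy⟩
  choose p hp using hsol
  refine ⟨fun i => φ (Sum.swap (φ.symm i)),
    fun i => Sum.elim (fun k => (p k).1) (fun k => -(p k).1) (φ.symm i),
    fun i => Sum.elim (fun k => d (φ (Sum.inr k)) * (p k).2 / d (φ (Sum.inl k)))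
      (fun k => (p k).2) (φ.symm i), ?_, ?_, ?_, ?_, ?_⟩
  · intro i
    simp only [Equiv.symm_apply_apply, Sum.swap_swap, Equiv.apply_symm_apply]
  · intro i
    obtain ⟨s, rfl⟩ := φ.surjective i
    cases s with
    | inl k => simp only [Equiv.symm_apply_apply, Sum.swap_inl, Sum.elim_inr, Sum.elim_inl]
    | inr k => simp only [Equiv.symm_apply_apply, Sum.swap_inr, Sum.elim_inr, Sum.elim_inl, neg_neg]
  · intro i
    obtain ⟨s, rfl⟩ := φ.surjective i
    cases s with
    | inl k =>
      simp only [Equiv.symm_apply_apply, Sum.swap_inl, Sum.elim_inr, Sum.elim_inl]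
      have := hd (φ (Sum.inl k))
      field_simp
    | inr k =>
      simp only [Equiv.symm_apply_apply, Sum.swap_inr, Sum.elim_inr, Sum.elim_inl]
      have := hd (φ (Sum.inl k))
      field_simp
  · intro i
    obtain ⟨s, rfl⟩ := φ.surjective i
    cases s with
    | inl k =>
      simp only [Equiv.symm_apply_apply, Sum.swap_inl, Sum.elim_inr, Sum.elim_inl]
      have h0 := hd (φ (Sum.inl k))
      field_simp
      linear_combination hp k
    | inr k =>
      simp only [Equiv.symm_apply_apply, Sum.swap_inr, Sum.elim_inr, Sum.elim_inl]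
      have h0 := hd (φ (Sum.inl k))
      field_simp
      linear_combination hp k
  · intro i
    obtain ⟨s, rfl⟩ := φ.surjective i
    cases s with
    | inl k =>
      simp only [Equiv.symm_apply_apply, Sum.swap_inl, Sum.elim_inr, Sum.elim_inl]
      exact hp k
    | inr k =>
      simp only [Equiv.symm_apply_apply, Sum.swap_inr, Sum.elim_inr, Sum.elim_inl]
      have h0 := hd (φ (Sum.inl k))
      field_simp
      linear_combination (d (φ (Sum.inr k))) * hp k

/-- OSIM2, racer copy (helper7). -/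
theorem h7_sfo_exists_sim_sq {F : Type*} [Field F] [Fintype F] {n : ℕ} (h2 : (2 : F) ≠ 0)
    (Q : (Fin n → F) → F) (hQ : IsNondegenerateQuadraticForm Q) (hn : Even n) (z : F)
    (hz : z ≠ 0) :
    ∃ g ∈ quadSimilarityGroup Q,
      (g : Matrix (Fin n) (Fin n) F) * (g : Matrix (Fin n) (Fin n) F) =
        z • (1 : Matrix (Fin n) (Fin n) F) := by
  classical
  obtain ⟨m, rfl⟩ := hn
  obtain ⟨e, hli, horth, hne⟩ := sfo_orth_basis h2 Q hQ
  obtain ⟨π, A, B, hπ, h1, h2', h3, h4⟩ := h7_sim_data h2 m (fun i => Q (e i)) hne z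
  obtain ⟨hL1, hL2⟩ := h7_sim_core π hπ (fun i => Q (e i)) A B z h1 h2' h3 h4
  -- the basis `e`
  have hspan : Submodule.span F (Set.range e) = ⊤ :=
    hli.span_eq_top_of_card_eq_finrank' (by simp)
  obtain ⟨b, hb⟩ : ∃ b : Basis (Fin (m + m)) F (Fin (m + m) → F), ∀ i, b i = e i :=
    ⟨Basis.mk hli (by rw [hspan]), fun i => by rw [Basis.mk_apply]⟩
  -- the map in coordinates
  obtain ⟨L, hL⟩ : ∃ L : (Fin (m + m) → F) →ₗ[F] (Fin (m + m) → F),
      ∀ a i, L a i = A i * a i + B i * a (π i) :=
    ⟨{ toFun := fun a i => A i * a i + B i * a (π i)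
       map_add' := by
         intro a a'
         funext i
         simp only [Pi.add_apply]
         ring
       map_smul' := by
         intro c a
         funext i
         simp only [Pi.smul_apply, smul_eq_mul, RingHom.id_apply]
         ring }, fun a i => rfl⟩
  have hLL : ∀ a, L (L a) = z • a := by
    intro a
    funext i
    rw [hL, hL, hL, Pi.smul_apply, smul_eq_mul]
    exact hL1 a i
  have hQE : ∀ a : Fin (m + m) → F, Q (b.equivFun.symm a) = ∑ i, Q (e i) * a i ^ 2 := by
    intro a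
    rw [Basis.equivFun_symm_apply]
    simp only [hb]
    exact h7_sfo_diag_eval Q hQ e horth a
  obtain ⟨T, hT⟩ : ∃ T : (Fin (m + m) → F) →ₗ[F] (Fin (m + m) → F),
      ∀ v, T v = b.equivFun.symm (L (b.equivFun v)) :=
    ⟨(b.equivFun.symm.toLinearMap ∘ₗ L) ∘ₗ b.equivFun.toLinearMap, fun v => rfl⟩
  have hTT : ∀ v, T (T v) = z • v := by
    intro v
    rw [hT, hT, LinearEquiv.apply_symm_apply, hLL, map_smul, LinearEquiv.symm_apply_apply]
  have hQT : ∀ v, Q (T v) = z * Q v := by
    intro v
    rw [hT, hQE]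
    have hv : Q v = ∑ i, Q (e i) * (b.equivFun v) i ^ 2 := by
      rw [← hQE, LinearEquiv.symm_apply_apply]
    rw [hv]
    have := hL2 (b.equivFun v)
    simp only [← hL] at this
    exact this
  -- the matrix
  have hGv : ∀ v, LinearMap.toMatrix' T *ᵥ v = T v := by
    intro v
    rw [← Matrix.toLin'_apply, Matrix.toLin'_toMatrix']
  have hGG : LinearMap.toMatrix' T * LinearMap.toMatrix' T =
      z • (1 : Matrix (Fin (m + m)) (Fin (m + m)) F) := by
    have hcomp : T ∘ₗ T = z • LinearMap.id := by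
      apply LinearMap.ext
      intro v
      rw [LinearMap.comp_apply, hTT, LinearMap.smul_apply, LinearMap.id_apply]
    rw [← LinearMap.toMatrix'_comp, hcomp, map_smul, LinearMap.toMatrix'_id]
  have hinv1 : LinearMap.toMatrix' T * (z⁻¹ • LinearMap.toMatrix' T) = 1 := by
    rw [Matrix.mul_smul, hGG, smul_smul, inv_mul_cancel₀ hz, one_smul]
  have hinv2 : (z⁻¹ • LinearMap.toMatrix' T) * LinearMap.toMatrix' T = 1 := by
    rw [Matrix.smul_mul, hGG, smul_smul, inv_mul_cancel₀ hz, one_smul]
  refine ⟨⟨LinearMap.toMatrix' T, z⁻¹ • LinearMap.toMatrix' T, hinv1, hinv2⟩,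
    ⟨Units.mk0 z hz, fun v => ?_⟩, hGG⟩
  show Q (LinearMap.toMatrix' T *ᵥ v) = z * Q v
  rw [hGv, hQT]

end Cfsg.Agent.Lib.helper24
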