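import Mathlib
import Cfsg.Prelude.Def_GeometricClasses
import Cfsg.Agent.Lib.helper7.CardSL

/-!
Elements of order 3 of `SL_3(F)` and the normaliser of a cubic field subalgebra of the
`3 × 3` matrices.
-/

set_option autoImplicit false

namespace Cfsg.Agent.Lib.helper7.Singer3

open Matrix

variable {F : Type*} [Field F]

/-- The second elementary symmetric function of the eigenvalues of a `3 × 3` matrix. -/
def e2 (M : Matrix (Fin 3) (Fin 3) F) : F :=
  M 0 0 * M 1 1 - M 0 1 * M 1 0 + M 0 0 * M 2 2 - M 0 2 * M 2 0 + M 1 1 * M 2 2 - M 1 2 * M 2 1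

/-- Cayley–Hamilton for `3 × 3` matrices. -/
theorem ch3 (M : Matrix (Fin 3) (Fin 3) F) :
    M * M * M - M.trace • (M * M) + e2 M • M - M.det • (1 : Matrix (Fin 3) (Fin 3) F) = 0 := by
  ext i j
  fin_cases i <;> fin_cases j <;>
    simp [Matrix.mul_apply, Fin.sum_univ_three, Matrix.det_fin_three, Matrix.trace_fin_three, e2] <;>
    ring

theorem trace_sq (M : Matrix (Fin 3) (Fin 3) F) :
    (M * M).trace = M.trace ^ 2 - 2 * e2 M := by
  simp [Matrix.mul_apply, Fin.sum_univ_three, Matrix.trace_fin_three, e2]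
  ring

/-- A non-scalar matrix of determinant `1` with cube `1` has trace `0` and `e2 = 0`. -/
theorem trace_e2_eq_zero (X : Matrix (Fin 3) (Fin 3) F) (h3 : X * X * X = 1) (hdet : X.det = 1)
    (hns : ∀ z : F, X ≠ z • (1 : Matrix (Fin 3) (Fin 3) F)) : X.trace = 0 ∧ e2 X = 0 := by
  have h := ch3 X
  rw [h3, hdet, one_smul] at h
  have h1 : X.trace • (X * X) = e2 X • X := by
    have h2 : (1 : Matrix (Fin 3) (Fin 3) F) - X.trace • (X * X) + e2 X • X - 1 =
        e2 X • X - X.trace • (X * X) := by abel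
    rw [h2, sub_eq_zero] at h
    exact h.symm
  have h2 : X.trace • X = e2 X • (1 : Matrix (Fin 3) (Fin 3) F) := by
    have h4 := congrArg (fun M => M * (X * X)) h1
    simp only [Matrix.smul_mul] at h4
    have e1 : X * X * (X * X) = X := by
      rw [← Matrix.mul_assoc, h3, Matrix.one_mul]
    have e2' : X * (X * X) = 1 := by rw [← Matrix.mul_assoc, h3]
    rw [e1, e2'] at h4
    exact h4
  have htr : X.trace = 0 := by
    by_contra hne
    apply hns ((X.trace)⁻¹ * e2 X)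
    have h5 := congrArg (fun M => (X.trace)⁻¹ • M) h2
    simp only [smul_smul, inv_mul_cancel₀ hne, one_smul] at h5
    exact h5
  refine ⟨htr, ?_⟩
  rw [htr, zero_smul] at h2
  have h6 := congrFun (congrFun h2 0) 0
  simpa using h6.symm

/-- A non-scalar matrix of determinant `1` with cube `1` satisfies no quadratic relation, when
`3 ≠ 0`. -/
theorem no_quad (X : Matrix (Fin 3) (Fin 3) F) (h3 : X * X * X = 1) (hdet : X.det = 1)
    (hns : ∀ z : F, X ≠ z • (1 : Matrix (Fin 3) (Fin 3) F)) (hthree : (3 : F) ≠ 0) (s t : F) :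
    X * X ≠ s • X + t • (1 : Matrix (Fin 3) (Fin 3) F) := by
  intro hq
  obtain ⟨htr, he2⟩ := trace_e2_eq_zero X h3 hdet hns
  have h1 := trace_sq X
  rw [htr, he2] at h1
  have h2 := congrArg Matrix.trace hq
  rw [h1, Matrix.trace_add, Matrix.trace_smul, Matrix.trace_smul, htr, Matrix.trace_one,
    Fintype.card_fin] at h2
  have ht : t = 0 := by
    simp only [smul_eq_mul, mul_zero, zero_pow, ne_eq, OfNat.ofNat_ne_zero, not_false_eq_true,
      sub_zero, zero_add, Nat.cast_ofNat] at h2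
    rcases mul_eq_zero.mp h2.symm with h | h
    · exact h
    · exact absurd h hthree
  rw [ht, zero_smul, add_zero] at hq
  have h4 := congrArg (fun M => M * (X * X)) hq
  simp only [Matrix.smul_mul] at h4
  have e1 : X * X * (X * X) = X := by
    rw [← Matrix.mul_assoc, h3, Matrix.one_mul]
  have e2' : X * (X * X) = 1 := by rw [← Matrix.mul_assoc, h3]
  rw [e1, e2'] at h4
  exact hns s h4

/-- The cyclic permutation matrix. -/
def Cmat : Matrix (Fin 3) (Fin 3) F := !![0, 0, 1; 1, 0, 0; 0, 1, 0]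

/-- A non-scalar matrix of determinant `1` and cube `1` is conjugate to the cyclic permutation
matrix (when `3 ≠ 0`). -/
theorem exists_conj_Cmat (X : Matrix (Fin 3) (Fin 3) F) (h3 : X * X * X = 1) (hdet : X.det = 1)
    (hns : ∀ z : F, X ≠ z • (1 : Matrix (Fin 3) (Fin 3) F)) (hthree : (3 : F) ≠ 0) :
    ∃ P : Matrix (Fin 3) (Fin 3) F, IsUnit P.det ∧ X * P = P * Cmat := by
  classical
  obtain ⟨htr, he2⟩ := trace_e2_eq_zero X h3 hdet hns
  have htr2 : (X * X).trace = 0 := by rw [trace_sq, htr, he2]; simp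
  obtain ⟨E, hE⟩ : ∃ E : Matrix (Fin 3) (Fin 3) F, E = (3 : F)⁻¹ • (1 + X + X * X) := ⟨_, rfl⟩
  have hXE : X * E = E := by
    rw [hE, Matrix.mul_smul, Matrix.mul_add, Matrix.mul_add, Matrix.mul_one, ← Matrix.mul_assoc, h3]
    congr 1
    abel
  have hXXE : X * X * E = E := by rw [Matrix.mul_assoc, hXE, hXE]
  have hEE : E * E = E := by
    have h1 : (1 + X + X * X) * E = (3 : F) • E := by
      rw [Matrix.add_mul, Matrix.add_mul, Matrix.one_mul, hXE, hXXE]
      rw [show (3 : F) = 1 + 1 + 1 by norm_num, add_smul, add_smul, one_smul]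
    have h2 : E * E = (3 : F)⁻¹ • ((1 + X + X * X) * E) := by
      rw [← Matrix.smul_mul, ← hE]
    rw [h2, h1, smul_smul, inv_mul_cancel₀ hthree, one_smul]
  have htrE : E.trace = 1 := by
    rw [hE, Matrix.trace_smul, Matrix.trace_add, Matrix.trace_add, Matrix.trace_one, htr, htr2,
      Fintype.card_fin]
    simp only [Nat.cast_ofNat, add_zero, smul_eq_mul]
    exact inv_mul_cancel₀ hthree
  have hE0 : E ≠ 0 := by
    intro h
    rw [h, Matrix.trace_zero] at htrE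
    exact zero_ne_one htrE
  obtain ⟨w, hw⟩ : ∃ w : Fin 3 → F, E *ᵥ w ≠ 0 := by
    by_contra hcon
    push Not at hcon
    apply hE0
    rw [Matrix.ext_iff_mulVec]
    intro u
    rw [hcon u, Matrix.zero_mulVec]
  obtain ⟨v₁, hv₁⟩ : ∃ v₁ : Fin 3 → F, v₁ = E *ᵥ w := ⟨_, rfl⟩
  have hv1ne : v₁ ≠ 0 := by rw [hv₁]; exact hw
  have hXv1 : X *ᵥ v₁ = v₁ := by rw [hv₁, Matrix.mulVec_mulVec, hXE]
  have hEv1 : E *ᵥ v₁ = v₁ := by rw [hv₁, Matrix.mulVec_mulVec, hEE]
  have hE1E : E * (1 - E) = 0 := by rw [Matrix.mul_sub, Matrix.mul_one, hEE, sub_self]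
  obtain ⟨u, hu⟩ : ∃ u : Fin 3 → F, ¬ ∃ a : F, X *ᵥ ((1 - E) *ᵥ u) = a • ((1 - E) *ᵥ u) := by
    by_contra hcon
    push Not at hcon
    have hex : ∃ a₀ : F, ∀ u, X *ᵥ ((1 - E) *ᵥ u) = a₀ • ((1 - E) *ᵥ u) := by
      by_cases hz : ∀ u, (1 - E) *ᵥ u = 0
      · exact ⟨0, fun u => by rw [hz u, Matrix.mulVec_zero, smul_zero]⟩
      · push Not at hz
        obtain ⟨u₀, hu₀⟩ := hz
        obtain ⟨a₀, ha₀⟩ := hcon u₀
        refine ⟨a₀, fun u => ?_⟩
        obtain ⟨a, ha⟩ := hcon u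
        obtain ⟨b, hb⟩ := hcon (u₀ + u)
        rw [Matrix.mulVec_add, Matrix.mulVec_add, ha₀, ha, smul_add] at hb
        by_cases haa : a = a₀
        · rw [← haa]; exact ha
        · have h1 : (a₀ - b) • ((1 - E) *ᵥ u₀) = (b - a) • ((1 - E) *ᵥ u) := by
            rw [sub_smul, sub_smul, sub_eq_sub_iff_add_eq_add, hb]
            abel
          by_cases hb0 : b = a₀
          · rw [hb0, sub_self, zero_smul] at h1
            have h2 : (1 - E) *ᵥ u = 0 := by
              rcases smul_eq_zero.mp h1.symm with h | h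
              · exact absurd (sub_eq_zero.mp h).symm haa
              · exact h
            rw [h2, Matrix.mulVec_zero, smul_zero]
          · exfalso
            have hb0' : a₀ - b ≠ 0 := sub_ne_zero.mpr (Ne.symm hb0)
            have h2 : (1 - E) *ᵥ u₀ = ((a₀ - b)⁻¹ * (b - a)) • ((1 - E) *ᵥ u) := by
              have := congrArg (fun x => (a₀ - b)⁻¹ • x) h1
              simp only [smul_smul, inv_mul_cancel₀ hb0', one_smul] at this
              exact this
            have h3' : X *ᵥ ((1 - E) *ᵥ u₀) = a • ((1 - E) *ᵥ u₀) := by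
              rw [h2, Matrix.mulVec_smul, ha, smul_smul, smul_smul, mul_comm]
            rw [ha₀] at h3'
            have h4 : (a₀ - a) • ((1 - E) *ᵥ u₀) = 0 := by rw [sub_smul, h3', sub_self]
            rcases smul_eq_zero.mp h4 with h | h
            · exact haa (sub_eq_zero.mp h).symm
            · exact hu₀ h
    obtain ⟨a₀, ha₀⟩ := hex
    have hmat : X * (1 - E) = a₀ • (1 - E) := by
      rw [Matrix.ext_iff_mulVec]
      intro u
      rw [← Matrix.mulVec_mulVec, ha₀ u, Matrix.smul_mulVec]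
    have hX : X = a₀ • (1 : Matrix (Fin 3) (Fin 3) F) + (1 - a₀) • E := by
      rw [Matrix.mul_sub, Matrix.mul_one, hXE, smul_sub] at hmat
      rw [sub_smul, one_smul]
      have : X = a₀ • (1 : Matrix (Fin 3) (Fin 3) F) - a₀ • E + E := by
        rw [← hmat]; abel
      rw [this]; abel
    have hquad : X * X = (a₀ + 1) • X + (-a₀) • (1 : Matrix (Fin 3) (Fin 3) F) := by
      have h1 : X * X = a₀ • X + (1 - a₀) • E := by
        have h0 : X * X = X * (a₀ • (1 : Matrix (Fin 3) (Fin 3) F) + (1 - a₀) • E) := by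
          rw [← hX]
        rw [h0, Matrix.mul_add, Matrix.mul_smul, Matrix.mul_one, Matrix.mul_smul, hXE]
      have h2 : (1 - a₀) • E = X - a₀ • (1 : Matrix (Fin 3) (Fin 3) F) := by
        conv_rhs => rw [hX]
        abel
      rw [h1, h2, add_smul, one_smul, neg_smul]
      abel
    exact no_quad X h3 hdet hns hthree _ _ hquad
  obtain ⟨v₂, hv₂⟩ : ∃ v₂ : Fin 3 → F, v₂ = (1 - E) *ᵥ u := ⟨_, rfl⟩
  rw [← hv₂] at hu
  have hEv2 : E *ᵥ v₂ = 0 := by rw [hv₂, Matrix.mulVec_mulVec, hE1E, Matrix.zero_mulVec]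
  have hv2ne : v₂ ≠ 0 := by
    intro h
    apply hu
    exact ⟨0, by rw [h, Matrix.mulVec_zero, smul_zero]⟩
  have hXXv2 : X *ᵥ (X *ᵥ v₂) = -v₂ - X *ᵥ v₂ := by
    have h1 : (1 + X + X * X) *ᵥ v₂ = 0 := by
      have h2 : (1 + X + X * X) = (3 : F) • E := by
        rw [hE, smul_smul, mul_inv_cancel₀ hthree, one_smul]
      rw [h2, Matrix.smul_mulVec, hEv2, smul_zero]
    rw [Matrix.add_mulVec, Matrix.add_mulVec, Matrix.one_mulVec, ← Matrix.mulVec_mulVec] at h1
    have : X *ᵥ (X *ᵥ v₂) = (v₂ + X *ᵥ v₂ + X *ᵥ (X *ᵥ v₂)) - v₂ - X *ᵥ v₂ := by abel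
    rw [this, h1]
    abel
  obtain ⟨v, hv⟩ : ∃ v : Fin 3 → F, v = v₁ + v₂ := ⟨_, rfl⟩
  have hXv : X *ᵥ v = v₁ + X *ᵥ v₂ := by rw [hv, Matrix.mulVec_add, hXv1]
  have hXXv : X *ᵥ (X *ᵥ v) = v₁ + (-v₂ - X *ᵥ v₂) := by
    rw [hXv, Matrix.mulVec_add, hXv1, hXXv2]
  have hXXXv : X *ᵥ (X *ᵥ (X *ᵥ v)) = v := by
    rw [Matrix.mulVec_mulVec, Matrix.mulVec_mulVec, h3, Matrix.one_mulVec]
  obtain ⟨P, hP⟩ : ∃ P : Matrix (Fin 3) (Fin 3) F,
      P = Matrix.of (fun i j => (![v, X *ᵥ v, X *ᵥ (X *ᵥ v)] : Fin 3 → Fin 3 → F) j i) := ⟨_, rfl⟩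
  have hPmv : ∀ c : Fin 3 → F, P *ᵥ c = c 0 • v + c 1 • (X *ᵥ v) + c 2 • (X *ᵥ (X *ᵥ v)) := by
    intro c
    funext i
    rw [hP]
    simp [Matrix.mulVec, dotProduct, Fin.sum_univ_three]
    ring
  refine ⟨P, ?_, ?_⟩
  · rw [← Matrix.isUnit_iff_isUnit_det, ← Matrix.mulVec_injective_iff_isUnit]
    intro c c' hcc
    have h0 : P *ᵥ (c - c') = 0 := by rw [Matrix.mulVec_sub, hcc, sub_self]
    obtain ⟨d, hd⟩ : ∃ d : Fin 3 → F, d = c - c' := ⟨_, rfl⟩
    rw [← hd] at h0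
    rw [hPmv, hXXv, hXv] at h0
    have hsum : d 0 + d 1 + d 2 = 0 := by
      have h1 := congrArg (fun x => E *ᵥ x) h0
      simp only [Matrix.mulVec_add, Matrix.mulVec_smul, Matrix.mulVec_sub, Matrix.mulVec_neg,
        Matrix.mulVec_zero] at h1
      have hEX : E *ᵥ (X *ᵥ v₂) = 0 := by
        have hEXm : E * X = E := by
          rw [hE, Matrix.smul_mul, Matrix.add_mul, Matrix.add_mul, Matrix.one_mul,
            Matrix.mul_assoc, ← Matrix.mul_assoc, h3]
          congr 1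
          abel
        rw [Matrix.mulVec_mulVec, hEXm, hEv2]
      have hEv : E *ᵥ v = v₁ := by rw [hv, Matrix.mulVec_add, hEv1, hEv2, add_zero]
      rw [hEv, hEv1, hEv2, hEX] at h1
      simp only [smul_zero, add_zero, neg_zero, sub_zero] at h1
      rw [← add_smul, ← add_smul] at h1
      rcases smul_eq_zero.mp h1 with h | h
      · exact h
      · exact absurd h hv1ne
    have h2 : (d 0 - d 2) • v₂ + (d 1 - d 2) • (X *ᵥ v₂) = 0 := by
      have h1 : d 0 • (v₁ + v₂) + d 1 • (v₁ + X *ᵥ v₂) + d 2 • (v₁ + (-v₂ - X *ᵥ v₂)) =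
          (d 0 + d 1 + d 2) • v₁ + ((d 0 - d 2) • v₂ + (d 1 - d 2) • (X *ᵥ v₂)) := by
        simp only [smul_add, smul_sub, smul_neg, add_smul, sub_smul]
        abel
      rw [hv] at h0
      rw [h1, hsum, zero_smul, zero_add] at h0
      exact h0
    have h12 : d 1 = d 2 := by
      by_contra hne
      have hne' : d 1 - d 2 ≠ 0 := sub_ne_zero.mpr hne
      apply hu
      refine ⟨-((d 1 - d 2)⁻¹ * (d 0 - d 2)), ?_⟩
      have h3' := congrArg (fun x => (d 1 - d 2)⁻¹ • x) h2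
      simp only [smul_add, smul_smul, inv_mul_cancel₀ hne', one_smul, smul_zero] at h3'
      rw [neg_smul]
      exact eq_neg_of_add_eq_zero_right h3'
    have h02 : d 0 = d 2 := by
      rw [h12, sub_self, zero_smul, add_zero] at h2
      rcases smul_eq_zero.mp h2 with h | h
      · exact sub_eq_zero.mp h
      · exact absurd h hv2ne
    have hd2 : d 2 = 0 := by
      rw [h02, h12] at hsum
      have : (3 : F) * d 2 = 0 := by linear_combination hsum
      rcases mul_eq_zero.mp this with h | h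
      · exact absurd h hthree
      · exact h
    have hd0 : d = 0 := by
      funext i
      fin_cases i
      · simpa using h02.trans hd2
      · simpa using h12.trans hd2
      · simpa using hd2
    rw [hd0] at hd
    exact sub_eq_zero.mp hd.symm
  · rw [Matrix.ext_iff_mulVec]
    intro c
    rw [← Matrix.mulVec_mulVec, ← Matrix.mulVec_mulVec, hPmv, hPmv]
    simp only [Matrix.mulVec_add, Matrix.mulVec_smul, hXXXv]
    have hC : (Cmat : Matrix (Fin 3) (Fin 3) F) *ᵥ c = ![c 2, c 0, c 1] := by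
      funext i
      fin_cases i <;> simp [Cmat, Matrix.mulVec, dotProduct, Fin.sum_univ_three]
    rw [hC]
    have e0 : (![c 2, c 0, c 1] : Fin 3 → F) 0 = c 2 := rfl
    have e1 : (![c 2, c 0, c 1] : Fin 3 → F) 1 = c 0 := rfl
    have e2' : (![c 2, c 0, c 1] : Fin 3 → F) 2 = c 1 := rfl
    rw [e0, e1, e2']
    abel


/-- Two non-scalar elements of `SL_3(F)` with cube `1` are conjugate in `SL_3(F)` (when `3 ≠ 0`). -/
theorem exists_sl_conj (hthree : (3 : F) ≠ 0) (x y : Matrix.SpecialLinearGroup (Fin 3) F)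
    (hx3 : (x : Matrix (Fin 3) (Fin 3) F) * x * x = 1)
    (hy3 : (y : Matrix (Fin 3) (Fin 3) F) * y * y = 1)
    (hxns : ∀ z : F, (x : Matrix (Fin 3) (Fin 3) F) ≠ z • (1 : Matrix (Fin 3) (Fin 3) F))
    (hyns : ∀ z : F, (y : Matrix (Fin 3) (Fin 3) F) ≠ z • (1 : Matrix (Fin 3) (Fin 3) F)) :
    ∃ Q : Matrix.SpecialLinearGroup (Fin 3) F, Q⁻¹ * x * Q = y := by
  classical
  obtain ⟨Px, hPx, hxP⟩ := exists_conj_Cmat (x : Matrix (Fin 3) (Fin 3) F) hx3 x.2 hxns hthree
  obtain ⟨Py, hPy, hyP⟩ := exists_conj_Cmat (y : Matrix (Fin 3) (Fin 3) F) hy3 y.2 hyns hthree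
  have hdx : Px.det ≠ 0 := hPx.ne_zero
  have hdy : Py.det ≠ 0 := hPy.ne_zero
  obtain ⟨t, ht⟩ : ∃ t : F, t = (Py.det / Px.det - 1) / 3 := ⟨_, rfl⟩
  obtain ⟨c, hc⟩ : ∃ c : Matrix (Fin 3) (Fin 3) F,
      c = !![1 + t, t, t; t, 1 + t, t; t, t, 1 + t] := ⟨_, rfl⟩
  have hcdet : c.det = Py.det / Px.det := by
    rw [hc, Matrix.det_fin_three]
    simp only [Matrix.of_apply, Matrix.cons_val', Matrix.cons_val_zero, Matrix.cons_val_one,
      Matrix.cons_val_two, Matrix.empty_val', Matrix.cons_val_fin_one, Matrix.head_cons,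
      Matrix.tail_cons, Matrix.head_fin_const]
    rw [ht]
    field_simp
    ring
  have hcC : (Cmat : Matrix (Fin 3) (Fin 3) F) * c = c * Cmat := by
    rw [hc]
    ext i j
    fin_cases i <;> fin_cases j <;> simp [Cmat, Matrix.mul_apply, Fin.sum_univ_three]
  have hPyinv : Py⁻¹ * Py = 1 := Matrix.nonsing_inv_mul Py hPy
  have hPyinv' : Py * Py⁻¹ = 1 := Matrix.mul_nonsing_inv Py hPy
  have hCy : (Cmat : Matrix (Fin 3) (Fin 3) F) * Py⁻¹ = Py⁻¹ * (y : Matrix (Fin 3) (Fin 3) F) := by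
    have h1 : Py⁻¹ * ((y : Matrix (Fin 3) (Fin 3) F) * Py) * Py⁻¹ = Py⁻¹ * (Py * Cmat) * Py⁻¹ := by
      rw [hyP]
    rw [← Matrix.mul_assoc, ← Matrix.mul_assoc, hPyinv, Matrix.one_mul, Matrix.mul_assoc,
      Matrix.mul_assoc, hPyinv', Matrix.mul_one] at h1
    exact h1.symm
  obtain ⟨Q, hQ⟩ : ∃ Q : Matrix (Fin 3) (Fin 3) F, Q = Px * c * Py⁻¹ := ⟨_, rfl⟩
  have hQdet : Q.det = 1 := by
    rw [hQ, Matrix.det_mul, Matrix.det_mul, hcdet, Matrix.det_nonsing_inv, Ring.inverse_eq_inv']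
    field_simp
  have hxQ : (x : Matrix (Fin 3) (Fin 3) F) * Q = Q * (y : Matrix (Fin 3) (Fin 3) F) := by
    rw [hQ, ← Matrix.mul_assoc, ← Matrix.mul_assoc, hxP, Matrix.mul_assoc Px, hcC,
      Matrix.mul_assoc, Matrix.mul_assoc, hCy, ← Matrix.mul_assoc, ← Matrix.mul_assoc]
  obtain ⟨Qs, hQs⟩ : ∃ Qs : Matrix.SpecialLinearGroup (Fin 3) F,
      (Qs : Matrix (Fin 3) (Fin 3) F) = Q := ⟨⟨Q, hQdet⟩, rfl⟩
  refine ⟨Qs, ?_⟩
  rw [mul_assoc, inv_mul_eq_iff_eq_mul]
  apply Subtype.ext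
  rw [Matrix.SpecialLinearGroup.coe_mul, Matrix.SpecialLinearGroup.coe_mul, hQs]
  exact hxQ


theorem coe_pow_three (x : Matrix.SpecialLinearGroup (Fin 3) F) :
    ((x ^ 3 : Matrix.SpecialLinearGroup (Fin 3) F) : Matrix (Fin 3) (Fin 3) F) =
      (x : Matrix (Fin 3) (Fin 3) F) * x * x := by
  rw [pow_succ, pow_succ, pow_one, Matrix.SpecialLinearGroup.coe_mul,
    Matrix.SpecialLinearGroup.coe_mul]

/-- If `F` has no element of order `9`, a non-scalar matrix of determinant `1` with scalar cube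
has cube `1`. -/
theorem cube_scalar_eq_one (X : Matrix (Fin 3) (Fin 3) F) (z : F)
    (h3 : X * X * X = z • (1 : Matrix (Fin 3) (Fin 3) F))
    (hdet : X.det = 1) (hns : ∀ z : F, X ≠ z • (1 : Matrix (Fin 3) (Fin 3) F))
    (hno9 : ∀ θ : F, θ ^ 9 = 1 → θ ^ 3 = 1) : z = 1 := by
  have hz3 : z ^ 3 = 1 := by
    have h := congrArg Matrix.det h3
    rw [Matrix.det_mul, Matrix.det_mul, hdet, Matrix.det_smul, Matrix.det_one,
      Fintype.card_fin] at h
    simpa using h.symm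
  have hch := ch3 X
  rw [h3, hdet, one_smul] at hch
  by_cases he1 : X.trace = 0
  · rw [he1, zero_smul, sub_zero] at hch
    have he2 : e2 X = 0 := by
      by_contra hne
      apply hns ((e2 X)⁻¹ * (1 - z))
      have h1 : e2 X • X = (1 - z) • (1 : Matrix (Fin 3) (Fin 3) F) := by
        rw [sub_smul, one_smul]
        have h0 : e2 X • X = (z • (1 : Matrix (Fin 3) (Fin 3) F) + e2 X • X - 1) +
            (1 - z • (1 : Matrix (Fin 3) (Fin 3) F)) := by abel
        rw [h0, hch, zero_add]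
      have h2 := congrArg (fun M => (e2 X)⁻¹ • M) h1
      simp only [smul_smul, inv_mul_cancel₀ hne, one_smul] at h2
      exact h2
    rw [he2, zero_smul, add_zero] at hch
    have h1 := congrFun (congrFun hch 0) 0
    simp only [Matrix.sub_apply, Matrix.one_apply_eq, Matrix.smul_apply, smul_eq_mul, mul_one,
      Matrix.zero_apply] at h1
    exact sub_eq_zero.mp h1
  · obtain ⟨s, hs⟩ : ∃ s : F, s = (X.trace)⁻¹ * e2 X := ⟨_, rfl⟩
    obtain ⟨t, ht⟩ : ∃ t : F, t = (X.trace)⁻¹ * (z - 1) := ⟨_, rfl⟩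
    have hquad : X * X = s • X + t • (1 : Matrix (Fin 3) (Fin 3) F) := by
      have h1 : X.trace • (X * X) = e2 X • X + (z - 1) • (1 : Matrix (Fin 3) (Fin 3) F) := by
        rw [sub_smul, one_smul]
        have h0 : X.trace • (X * X) =
            (e2 X • X + (z • (1 : Matrix (Fin 3) (Fin 3) F) - 1)) -
            (z • (1 : Matrix (Fin 3) (Fin 3) F) - X.trace • (X * X) + e2 X • X - 1) := by abel
        rw [h0, hch, sub_zero]
      have h2 := congrArg (fun M => (X.trace)⁻¹ • M) h1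
      simp only [smul_smul, inv_mul_cancel₀ he1, one_smul, smul_add] at h2
      rw [hs, ht]
      exact h2
    have hcube : X * X * X = (s ^ 2 + t) • X + (s * t) • (1 : Matrix (Fin 3) (Fin 3) F) := by
      rw [hquad, Matrix.add_mul, Matrix.smul_mul, Matrix.smul_mul, Matrix.one_mul, hquad,
        smul_add, smul_smul, smul_smul, add_smul, sq]
      abel
    rw [h3] at hcube
    have hst : s ^ 2 + t = 0 := by
      by_contra hne
      apply hns ((s ^ 2 + t)⁻¹ * (z - s * t))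
      have h1 : (s ^ 2 + t) • X = (z - s * t) • (1 : Matrix (Fin 3) (Fin 3) F) := by
        rw [sub_smul, hcube]
        abel
      have h2 := congrArg (fun M => (s ^ 2 + t)⁻¹ • M) h1
      simp only [smul_smul, inv_mul_cancel₀ hne, one_smul] at h2
      exact h2
    rw [hst, zero_smul, zero_add] at hcube
    have hz : z = s * t := by
      have h1 := congrFun (congrFun hcube 0) 0
      simpa using h1
    have hθ : (-s) ^ 3 = z := by
      rw [hz]
      have ht' : t = - s ^ 2 := by linear_combination hst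
      rw [ht']
      ring
    have h9 : (-s) ^ 9 = 1 := by
      calc (-s) ^ 9 = ((-s) ^ 3) ^ 3 := by ring
        _ = 1 := by rw [hθ, hz3]
    rw [← hθ]
    exact hno9 _ h9

theorem no_order9 [Fintype F] (h : ¬ 9 ∣ Fintype.card F - 1) (θ : F) (hθ : θ ^ 9 = 1) :
    θ ^ 3 = 1 := by
  classical
  have hθ0 : θ ≠ 0 := by
    intro h0
    rw [h0] at hθ
    simp at hθ
  obtain ⟨u, hu⟩ : ∃ u : Fˣ, (u : F) = θ := ⟨Units.mk0 θ hθ0, rfl⟩
  have hu9 : u ^ 9 = 1 := by
    apply Units.ext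
    rw [Units.val_pow_eq_pow_val, hu, hθ, Units.val_one]
  have hucard : u ^ (Fintype.card F - 1) = 1 := by
    rw [← Fintype.card_units]
    exact pow_card_eq_one
  have hd1 : orderOf u ∣ 9 := orderOf_dvd_of_pow_eq_one hu9
  have hd2 : orderOf u ∣ Fintype.card F - 1 := orderOf_dvd_of_pow_eq_one hucard
  have hd3 : orderOf u ∣ 3 := by
    obtain ⟨m, hm, hm2⟩ := (Nat.dvd_prime_pow Nat.prime_three).1 (show orderOf u ∣ 3 ^ 2 from hd1)
    interval_cases m
    · rw [hm2]; norm_num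
    · rw [hm2]; norm_num
    · exfalso
      apply h
      rw [hm2] at hd2
      exact hd2
  have hu3 : u ^ 3 = 1 := orderOf_dvd_iff_pow_eq_one.mp hd3
  rw [← hu, ← Units.val_pow_eq_pow_val, hu3, Units.val_one]

theorem exists_order9 [Fintype F] (h : 9 ∣ Fintype.card F - 1) :
    ∃ θ : F, θ ^ 9 = 1 ∧ θ ^ 3 ≠ 1 := by
  obtain ⟨m, hm⟩ := h
  obtain ⟨g, hg⟩ := IsCyclic.exists_generator (α := Fˣ)
  have hord : orderOf g = Fintype.card F - 1 := by
    rw [orderOf_eq_card_of_forall_mem_zpowers hg, Nat.card_units, Nat.card_eq_fintype_card]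
  have hq : 2 ≤ Fintype.card F := Fintype.one_lt_card
  have hm0 : 0 < m := by omega
  refine ⟨((g ^ m : Fˣ) : F), ?_, ?_⟩
  · rw [← Units.val_pow_eq_pow_val, ← pow_mul, mul_comm, ← hm, ← hord, pow_orderOf_eq_one,
      Units.val_one]
  · intro h3
    have h4 : (g ^ m) ^ 3 = 1 := by
      apply Units.ext
      rw [Units.val_pow_eq_pow_val, h3, Units.val_one]
    rw [← pow_mul] at h4
    have h5 := orderOf_dvd_of_pow_eq_one h4
    rw [hord, hm] at h5
    have h6 := Nat.le_of_dvd (by omega) h5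
    omega

theorem card_SL3 [Fintype F] :
    (Fintype.card F - 1) * Nat.card (Matrix.SpecialLinearGroup (Fin 3) F) =
      (Fintype.card F ^ 3 - 1) * (Fintype.card F ^ 3 - Fintype.card F) *
        (Fintype.card F ^ 3 - Fintype.card F ^ 2) := by
  classical
  have h1 := Cfsg.Agent.Lib.helper7.card_GL_eq_card_units_mul_card_SL (F := F) 3
  rw [Matrix.card_GL_field, Nat.card_units, Nat.card_eq_fintype_card, Fin.prod_univ_three] at h1
  rw [← h1]
  simp

theorem arith_aux (q : ℕ) (hq2 : 2 ≤ q) (h : q % 9 = 2 ∨ q % 9 = 5) :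
    ¬ 9 ∣ (q ^ 3 - 1) * (q ^ 3 - q) * (q ^ 3 - q ^ 2) := by
  have h1 : q ≤ q ^ 2 := by nlinarith
  have h2 : q ^ 2 ≤ q ^ 3 := Nat.pow_le_pow_right (by omega) (by norm_num)
  have h3 : q ^ 3 % 9 = (q % 9) ^ 3 % 9 := Nat.pow_mod q 3 9
  have h4 : q ^ 2 % 9 = (q % 9) ^ 2 % 9 := Nat.pow_mod q 2 9
  obtain ⟨A, hA⟩ : ∃ A, A = q ^ 3 := ⟨_, rfl⟩
  obtain ⟨B, hB⟩ : ∃ B, B = q ^ 2 := ⟨_, rfl⟩
  rw [← hA] at h2 h3 ⊢
  rw [← hB] at h1 h2 h4 ⊢
  intro hdvd
  have h5 := Nat.mod_eq_zero_of_dvd hdvd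
  rw [Nat.mul_mod, Nat.mul_mod (A - 1)] at h5
  rcases h with h | h
  · rw [h] at h3 h4
    norm_num at h3 h4
    have e1 : (A - 1) % 9 = 7 := by omega
    have e2 : (A - q) % 9 = 6 := by omega
    have e3 : (A - B) % 9 = 4 := by omega
    rw [e1, e2, e3] at h5
    norm_num at h5
  · rw [h] at h3 h4
    norm_num at h3 h4
    have e1 : (A - 1) % 9 = 7 := by omega
    have e2 : (A - q) % 9 = 3 := by omega
    have e3 : (A - B) % 9 = 1 := by omega
    rw [e1, e2, e3] at h5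
    norm_num at h5

theorem field_aux {L : Type*} [Field L] [Fintype L] {q : ℕ} (hq : 2 ≤ q)
    (hcard : Fintype.card L = q ^ 3) :
    (∀ x : L, x ^ (q ^ 3) = x) ∧ ∃ x : L, x ^ q ≠ x := by
  refine ⟨fun x => by rw [← hcard]; exact FiniteField.pow_card x, ?_⟩
  by_contra hcon
  push Not at hcon
  obtain ⟨g, hg⟩ := IsCyclic.exists_generator (α := Lˣ)
  have hord : orderOf g = Nat.card Lˣ := orderOf_eq_card_of_forall_mem_zpowers hg
  have h1 : g ^ (q - 1) = 1 := by
    have h2 := hcon (g : L)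
    apply Units.ext
    rw [Units.val_pow_eq_pow_val, Units.val_one]
    have h3 : (g : L) ^ (q - 1) * (g : L) = (g : L) := by
      rw [← pow_succ, Nat.sub_add_cancel (by omega), h2]
    exact mul_right_cancel₀ g.ne_zero (by rw [h3, one_mul])
  have h4 := orderOf_dvd_of_pow_eq_one h1
  rw [hord, Nat.card_units, Nat.card_eq_fintype_card, hcard] at h4
  have h6 : q < q ^ 3 := by
    calc q = q ^ 1 := (pow_one q).symm
      _ < q ^ 3 := Nat.pow_lt_pow_right (by omega) (by norm_num)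
  have h5 : q ^ 3 - 1 ≤ q - 1 := Nat.le_of_dvd (by omega) h4
  omega

section FieldSub

open Cfsg.Geo

variable (K : Subalgebra F (Matrix (Fin 3) (Fin 3) F)) (hK : IsFieldSubalgebra 3 K)
include hK

theorem ev_inj (k : Matrix (Fin 3) (Fin 3) F) (hk : k ∈ K)
    (h0 : k *ᵥ (Pi.single 0 1 : Fin 3 → F) = 0) : k = 0 := by
  by_contra hne
  obtain ⟨y, hy, hky⟩ := hK.inv k hk hne
  have hyk : y * k = 1 := by rw [hK.comm y hy k hk, hky]
  have h1 : (y * k) *ᵥ (Pi.single 0 1 : Fin 3 → F) = 0 := by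
    rw [← Matrix.mulVec_mulVec, h0, Matrix.mulVec_zero]
  rw [hyk, Matrix.one_mulVec] at h1
  have h2 := congrFun h1 0
  simp at h2

theorem ev_surj (u : Fin 3 → F) :
    ∃ k ∈ K, k *ᵥ (Pi.single 0 1 : Fin 3 → F) = u := by
  obtain ⟨evL, hevL⟩ : ∃ evL : ↥K →ₗ[F] (Fin 3 → F),
      ∀ k : ↥K, evL k = (k : Matrix (Fin 3) (Fin 3) F) *ᵥ (Pi.single 0 1 : Fin 3 → F) :=
    ⟨{ toFun := fun k => (k : Matrix (Fin 3) (Fin 3) F) *ᵥ (Pi.single 0 1 : Fin 3 → F)
       map_add' := fun a b => Matrix.add_mulVec _ _ _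
       map_smul' := fun a b => Matrix.smul_mulVec _ _ _ }, fun k => rfl⟩
  have hinj : Function.Injective evL := by
    rw [injective_iff_map_eq_zero]
    intro k hk0
    rw [hevL] at hk0
    apply Subtype.ext
    exact ev_inj K hK k.1 k.2 hk0
  have hfr : Module.finrank F ↥K = Module.finrank F (Fin 3 → F) := by
    rw [hK.finrank_eq, Module.finrank_fin_fun]
  have hsurj := (LinearMap.injective_iff_surjective_of_finrank_eq_finrank hfr).1 hinj
  obtain ⟨k, hk⟩ := hsurj u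
  exact ⟨k.1, k.2, by rw [← hevL, hk]⟩

/-- The centraliser of `K` is `K`. -/
theorem mem_of_commute (g : Matrix (Fin 3) (Fin 3) F) (hg : ∀ k ∈ K, g * k = k * g) : g ∈ K := by
  obtain ⟨c, hc, hcv⟩ := ev_surj K hK (g *ᵥ (Pi.single 0 1 : Fin 3 → F))
  have : g = c := by
    rw [Matrix.ext_iff_mulVec]
    intro u
    obtain ⟨k, hk, hkv⟩ := ev_surj K hK u
    rw [← hkv, Matrix.mulVec_mulVec, hg k hk, ← Matrix.mulVec_mulVec, ← hcv, Matrix.mulVec_mulVec,
      Matrix.mulVec_mulVec, hK.comm k hk c hc]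
  rw [this]
  exact hc

theorem scalar_of_mem_of_quad (g : Matrix (Fin 3) (Fin 3) F) (hg : g ∈ K) (a b : F)
    (h : (g - a • (1 : Matrix (Fin 3) (Fin 3) F)) * (g - b • (1 : Matrix (Fin 3) (Fin 3) F)) = 0) :
    g = a • (1 : Matrix (Fin 3) (Fin 3) F) ∨ g = b • (1 : Matrix (Fin 3) (Fin 3) F) := by
  by_cases ha : g - a • (1 : Matrix (Fin 3) (Fin 3) F) = 0
  · left
    exact sub_eq_zero.mp ha
  · right
    have hmem : g - a • (1 : Matrix (Fin 3) (Fin 3) F) ∈ K :=
      K.sub_mem hg (K.smul_mem K.one_mem a)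
    obtain ⟨y, hy, hky⟩ := hK.inv _ hmem ha
    have hyk : y * (g - a • (1 : Matrix (Fin 3) (Fin 3) F)) = 1 := by
      rw [hK.comm y hy _ hmem, hky]
    have h1 := congrArg (fun M => y * M) h
    simp only [Matrix.mul_zero] at h1
    rw [← Matrix.mul_assoc, hyk, Matrix.one_mul] at h1
    exact sub_eq_zero.mp h1

/-- An element of the normaliser of `K` satisfying a quadratic relation `g² = s g + t` with
`s ≠ 0` lies in `K`. -/
theorem mem_of_quad (g : GL (Fin 3) F) (hg : g ∈ subalgebraNormalizer K) (s t : F) (hs : s ≠ 0)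
    (hq : (g : Matrix (Fin 3) (Fin 3) F) * (g : Matrix (Fin 3) (Fin 3) F) =
      s • (g : Matrix (Fin 3) (Fin 3) F) + t • (1 : Matrix (Fin 3) (Fin 3) F)) :
    (g : Matrix (Fin 3) (Fin 3) F) ∈ K := by
  obtain ⟨G, hG⟩ : ∃ G : Matrix (Fin 3) (Fin 3) F, G = (g : Matrix (Fin 3) (Fin 3) F) := ⟨_, rfl⟩
  obtain ⟨Gi, hGi⟩ : ∃ Gi : Matrix (Fin 3) (Fin 3) F,
      Gi = ((g⁻¹ : GL (Fin 3) F) : Matrix (Fin 3) (Fin 3) F) := ⟨_, rfl⟩
  have hGGi : G * Gi = 1 := by rw [hG, hGi, ← Units.val_mul, mul_inv_cancel, Units.val_one]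
  have hGiG : Gi * G = 1 := by rw [hG, hGi, ← Units.val_mul, inv_mul_cancel, Units.val_one]
  have hgK : ∀ k : Matrix (Fin 3) (Fin 3) F, k ∈ K ↔ G * k * Gi ∈ K := by
    intro k
    rw [hG, hGi]
    exact hg k
  rw [← hG] at hq ⊢
  by_cases hcomm : ∀ k ∈ K, G * k = k * G
  · exact mem_of_commute K hK G hcomm
  · push Not at hcomm
    obtain ⟨k, hk, hkne⟩ := hcomm
    obtain ⟨k', hk'⟩ : ∃ k' : Matrix (Fin 3) (Fin 3) F, k' = G * k * Gi := ⟨_, rfl⟩
    obtain ⟨k'', hk''⟩ : ∃ k'' : Matrix (Fin 3) (Fin 3) F, k'' = G * k' * Gi := ⟨_, rfl⟩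
    have hk'K : k' ∈ K := by rw [hk']; exact (hgK k).1 hk
    have hk''K : k'' ∈ K := by rw [hk'']; exact (hgK k').1 hk'K
    have e1 : G * k = k' * G := by
      rw [hk', Matrix.mul_assoc, hGiG, Matrix.mul_one]
    have e2' : G * k' = k'' * G := by
      rw [hk'', Matrix.mul_assoc, hGiG, Matrix.mul_one]
    have hune : k'' - k' ≠ 0 := by
      intro h0
      have h1 : k'' = k' := sub_eq_zero.mp h0
      have h2 : k' = k := by
        have h3 : Gi * k'' * G = Gi * k' * G := by rw [h1]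
        rw [hk'', ← Matrix.mul_assoc, ← Matrix.mul_assoc, hGiG, Matrix.one_mul, Matrix.mul_assoc,
          hGiG, Matrix.mul_one] at h3
        conv_rhs at h3 => rw [hk']
        rw [← Matrix.mul_assoc, ← Matrix.mul_assoc, hGiG, Matrix.one_mul, Matrix.mul_assoc,
          hGiG, Matrix.mul_one] at h3
        exact h3
      apply hkne
      rw [e1, h2]
    have hkey : s • ((k'' - k') * G) = t • (k - k'') := by
      have h1 : G * G * k = s • (k' * G) + t • k := by
        rw [hq, Matrix.add_mul, Matrix.smul_mul, Matrix.smul_mul, Matrix.one_mul, e1]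
      have h2 : G * G * k = s • (k'' * G) + t • k'' := by
        rw [Matrix.mul_assoc, e1, ← Matrix.mul_assoc, e2', Matrix.mul_assoc, hq, Matrix.mul_add,
          Matrix.mul_smul, Matrix.mul_smul, Matrix.mul_one]
      rw [h1] at h2
      rw [Matrix.sub_mul, smul_sub, smul_sub]
      rw [sub_eq_sub_iff_add_eq_add]
      rw [← h2]
      abel
    have hu : k'' - k' ∈ K := K.sub_mem hk''K hk'K
    obtain ⟨y, hy, huy⟩ := hK.inv _ hu hune
    have hyu : y * (k'' - k') = 1 := by rw [hK.comm y hy _ hu, huy]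
    have hGeq : G = (s⁻¹ * t) • (y * (k - k'')) := by
      have h1 := congrArg (fun M => s⁻¹ • (y * M)) hkey
      simp only [Matrix.mul_smul, smul_smul, inv_mul_cancel₀ hs, one_smul] at h1
      rw [← Matrix.mul_assoc, hyu, Matrix.one_mul] at h1
      exact h1
    rw [hGeq]
    exact K.smul_mem (K.mul_mem hy (K.sub_mem hk hk''K)) _

/-- The elements of `K` are fixed by the `q³`-power map but not all by the `q`-power map. -/
theorem pow_props [Fintype F] :
    (∀ k ∈ K, k ^ (Fintype.card F ^ 3) = k) ∧ ∃ k ∈ K, k ^ Fintype.card F ≠ k := by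
  classical
  have hfield : IsField ↥K :=
    { exists_pair_ne := ⟨0, 1, fun h => zero_ne_one (congrArg Subtype.val h)⟩
      mul_comm := fun a b => Subtype.ext (hK.comm a.1 a.2 b.1 b.2)
      mul_inv_cancel := fun {a} ha => by
        obtain ⟨y, hy, hay⟩ := hK.inv a.1 a.2 (fun h => ha (Subtype.ext h))
        exact ⟨⟨y, hy⟩, Subtype.ext hay⟩ }
  have : Fintype ↥K := Fintype.ofFinite _
  have hcard : Fintype.card ↥K = Fintype.card F ^ 3 := by
    rw [Module.card_eq_pow_finrank (K := F) (V := ↥K), hK.finrank_eq]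
  let : Field ↥K := hfield.toField
  obtain ⟨h1, x, hx⟩ := field_aux (L := ↥K) Fintype.one_lt_card hcard
  refine ⟨fun k hk => ?_, x.1, x.2, ?_⟩
  · exact congrArg Subtype.val (h1 ⟨k, hk⟩)
  · intro h
    exact hx (Subtype.ext h)

/-- The Frobenius map of `K` over `F`, as a matrix. -/
theorem exists_frob [Fintype F] (p : ℕ) [Fact p.Prime] [CharP F p] :
    ∃ φ : Matrix (Fin 3) (Fin 3) F, ∀ k ∈ K,
      φ *ᵥ (k *ᵥ (Pi.single 0 1 : Fin 3 → F)) =
        (k ^ Fintype.card F) *ᵥ (Pi.single 0 1 : Fin 3 → F) := by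
  classical
  obtain ⟨n, hp, hn⟩ := FiniteField.card F p
  have hadd : ∀ a ∈ K, ∀ b ∈ K,
      (a + b) ^ Fintype.card F = a ^ Fintype.card F + b ^ Fintype.card F := by
    intro a ha b hb
    rw [hn]
    exact add_pow_char_pow_of_commute p n (hK.comm a ha b hb)
  have hsmul : ∀ (c : F) (a : Matrix (Fin 3) (Fin 3) F),
      (c • a) ^ Fintype.card F = c • a ^ Fintype.card F := by
    intro c a
    rw [smul_pow, FiniteField.pow_card]
  choose kk hkkK hkkv using ev_surj K hK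
  have hkk_unique : ∀ (u : Fin 3 → F) (k : Matrix (Fin 3) (Fin 3) F), k ∈ K →
      k *ᵥ (Pi.single 0 1 : Fin 3 → F) = u → kk u = k := by
    intro u k hk hku
    have := ev_inj K hK (kk u - k) (K.sub_mem (hkkK u) hk)
      (by rw [Matrix.sub_mulVec, hkkv, hku, sub_self])
    exact sub_eq_zero.mp this
  have hkk_add : ∀ u w, kk (u + w) = kk u + kk w := fun u w =>
    hkk_unique _ _ (K.add_mem (hkkK u) (hkkK w)) (by rw [Matrix.add_mulVec, hkkv, hkkv])
  have hkk_smul : ∀ (c : F) u, kk (c • u) = c • kk u := fun c u =>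
    hkk_unique _ _ (K.smul_mem (hkkK u) c) (by rw [Matrix.smul_mulVec, hkkv])
  obtain ⟨L, hL⟩ : ∃ L : (Fin 3 → F) →ₗ[F] (Fin 3 → F),
      ∀ u, L u = (kk u ^ Fintype.card F) *ᵥ (Pi.single 0 1 : Fin 3 → F) :=
    ⟨{ toFun := fun u => (kk u ^ Fintype.card F) *ᵥ (Pi.single 0 1 : Fin 3 → F)
       map_add' := fun u w => by
         show (kk (u + w) ^ Fintype.card F) *ᵥ _ = _
         rw [hkk_add, hadd _ (hkkK u) _ (hkkK w), Matrix.add_mulVec]
       map_smul' := fun c u => by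
         show (kk (c • u) ^ Fintype.card F) *ᵥ _ = _
         rw [hkk_smul, hsmul, Matrix.smul_mulVec]
         rfl }, fun u => rfl⟩
  refine ⟨LinearMap.toMatrix' L, fun k hk => ?_⟩
  rw [← Matrix.toLin'_apply, Matrix.toLin'_toMatrix', hL, hkk_unique _ k hk rfl]

/-- The Frobenius element: an element of order 3 of `SL_3(F)` normalising `K`. -/
theorem exists_frob_sl [Fintype F] (p : ℕ) [Fact p.Prime] [CharP F p] :
    ∃ φ : Matrix.SpecialLinearGroup (Fin 3) F,
      (φ : Matrix (Fin 3) (Fin 3) F) * φ * φ = 1 ∧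
      (∀ z : F, (φ : Matrix (Fin 3) (Fin 3) F) ≠ z • (1 : Matrix (Fin 3) (Fin 3) F)) ∧
      Matrix.SpecialLinearGroup.toGL φ ∈ subalgebraNormalizer K := by
  classical
  obtain ⟨φ, hφ⟩ := exists_frob K hK p
  obtain ⟨hpow3, k₀, hk₀, hk₀ne⟩ := pow_props K hK
  obtain ⟨q, hq⟩ : ∃ q : ℕ, q = Fintype.card F := ⟨_, rfl⟩
  rw [← hq] at hφ hpow3 hk₀ne
  have hφk : ∀ k ∈ K, φ * k = k ^ q * φ := by
    intro k hk
    rw [Matrix.ext_iff_mulVec]
    intro u
    obtain ⟨m, hm, hmv⟩ := ev_surj K hK u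
    rw [← hmv]
    calc (φ * k) *ᵥ (m *ᵥ (Pi.single 0 1 : Fin 3 → F))
        = φ *ᵥ ((k * m) *ᵥ (Pi.single 0 1 : Fin 3 → F)) := by
          rw [← Matrix.mulVec_mulVec, Matrix.mulVec_mulVec _ k m]
      _ = (k * m) ^ q *ᵥ (Pi.single 0 1 : Fin 3 → F) := hφ _ (K.mul_mem hk hm)
      _ = (k ^ q * m ^ q) *ᵥ (Pi.single 0 1 : Fin 3 → F) := by
          rw [Commute.mul_pow (hK.comm k hk m hm) q]
      _ = k ^ q *ᵥ (φ *ᵥ (m *ᵥ (Pi.single 0 1 : Fin 3 → F))) := by
          rw [hφ m hm, Matrix.mulVec_mulVec]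
      _ = (k ^ q * φ) *ᵥ (m *ᵥ (Pi.single 0 1 : Fin 3 → F)) := by
          rw [Matrix.mulVec_mulVec]
  have h3 : φ * φ * φ = 1 := by
    rw [Matrix.ext_iff_mulVec]
    intro u
    obtain ⟨m, hm, hmv⟩ := ev_surj K hK u
    rw [← hmv]
    calc (φ * φ * φ) *ᵥ (m *ᵥ (Pi.single 0 1 : Fin 3 → F))
        = φ *ᵥ (φ *ᵥ (φ *ᵥ (m *ᵥ (Pi.single 0 1 : Fin 3 → F)))) := by
          rw [← Matrix.mulVec_mulVec, ← Matrix.mulVec_mulVec]
      _ = ((m ^ q) ^ q) ^ q *ᵥ (Pi.single 0 1 : Fin 3 → F) := by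
          rw [hφ m hm, hφ _ (pow_mem hm q), hφ _ (pow_mem (pow_mem hm q) q)]
      _ = m *ᵥ (Pi.single 0 1 : Fin 3 → F) := by
          rw [← pow_mul, ← pow_mul, show q * (q * q) = q ^ 3 by ring, hpow3 m hm]
      _ = 1 *ᵥ (m *ᵥ (Pi.single 0 1 : Fin 3 → F)) := by rw [Matrix.one_mulVec]
  have h3' : φ * (φ * φ) = 1 := by rw [← Matrix.mul_assoc, h3]
  have hnc : φ * k₀ ≠ k₀ * φ := by
    intro h
    apply hk₀ne
    have h1 : k₀ ^ q * φ = k₀ * φ := by rw [← hφk k₀ hk₀, h]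
    have h2 := congrArg (fun M => M * (φ * φ)) h1
    simp only [Matrix.mul_assoc, h3', Matrix.mul_one] at h2
    exact h2
  have hns : ∀ z : F, φ ≠ z • (1 : Matrix (Fin 3) (Fin 3) F) := by
    intro z hz
    apply hnc
    rw [hz, Matrix.smul_mul, Matrix.mul_smul, Matrix.one_mul, Matrix.mul_one]
  obtain ⟨g, hg1, hg2⟩ : ∃ g : GL (Fin 3) F, (g : Matrix (Fin 3) (Fin 3) F) = φ ∧
      ((g⁻¹ : GL (Fin 3) F) : Matrix (Fin 3) (Fin 3) F) = φ * φ :=
    ⟨⟨φ, φ * φ, h3', h3⟩, rfl, rfl⟩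
  have hgN : g ∈ subalgebraNormalizer K := by
    have hfw : ∀ k ∈ K, φ * k * (φ * φ) ∈ K := by
      intro k hk
      rw [hφk k hk, Matrix.mul_assoc, h3', Matrix.mul_one]
      exact pow_mem hk q
    show ∀ k : Matrix (Fin 3) (Fin 3) F, k ∈ K ↔
      (g : Matrix (Fin 3) (Fin 3) F) * k * ((g⁻¹ : GL (Fin 3) F) : Matrix (Fin 3) (Fin 3) F) ∈ K
    intro k
    rw [hg1, hg2]
    refine ⟨hfw k, fun h => ?_⟩
    have h1 := hfw _ (hfw _ h)
    have h2 : φ * (φ * (φ * k * (φ * φ)) * (φ * φ)) * (φ * φ) =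
        (φ * φ * φ) * k * ((φ * φ * φ) * (φ * φ * φ)) := by
      simp only [Matrix.mul_assoc]
    rw [h3, Matrix.one_mul, Matrix.one_mul, Matrix.mul_one] at h2
    rw [h2] at h1
    exact h1
  have hdet : φ.det = 1 := by
    have hch := ch3 φ
    rw [h3] at hch
    by_cases he1 : φ.trace = 0
    · rw [he1, zero_smul, sub_zero] at hch
      have he2 : e2 φ = 0 := by
        by_contra hne
        apply hns ((e2 φ)⁻¹ * (φ.det - 1))
        have h1 : e2 φ • φ = (φ.det - 1) • (1 : Matrix (Fin 3) (Fin 3) F) := by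
          rw [sub_smul, one_smul]
          have h0 : e2 φ • φ = (1 + e2 φ • φ - φ.det • (1 : Matrix (Fin 3) (Fin 3) F)) +
              (φ.det • (1 : Matrix (Fin 3) (Fin 3) F) - 1) := by abel
          rw [h0, hch, zero_add]
        have h2 := congrArg (fun M => (e2 φ)⁻¹ • M) h1
        simp only [smul_smul, inv_mul_cancel₀ hne, one_smul] at h2
        exact h2
      rw [he2, zero_smul, add_zero] at hch
      have h1 := congrFun (congrFun hch 0) 0
      simp only [Matrix.sub_apply, Matrix.one_apply_eq, Matrix.smul_apply, smul_eq_mul, mul_one,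
        Matrix.zero_apply] at h1
      exact (sub_eq_zero.mp h1).symm
    · exfalso
      obtain ⟨s, hs⟩ : ∃ s : F, s = (φ.trace)⁻¹ * e2 φ := ⟨_, rfl⟩
      obtain ⟨t, ht⟩ : ∃ t : F, t = (φ.trace)⁻¹ * (1 - φ.det) := ⟨_, rfl⟩
      have hquad : φ * φ = s • φ + t • (1 : Matrix (Fin 3) (Fin 3) F) := by
        have h1 : φ.trace • (φ * φ) =
            e2 φ • φ + (1 - φ.det) • (1 : Matrix (Fin 3) (Fin 3) F) := by
          rw [sub_smul, one_smul]
          have h0 : φ.trace • (φ * φ) =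
              (e2 φ • φ + (1 - φ.det • (1 : Matrix (Fin 3) (Fin 3) F))) -
              (1 - φ.trace • (φ * φ) + e2 φ • φ - φ.det • (1 : Matrix (Fin 3) (Fin 3) F)) := by
            abel
          rw [h0, hch, sub_zero]
        have h2 := congrArg (fun M => (φ.trace)⁻¹ • M) h1
        simp only [smul_smul, inv_mul_cancel₀ he1, one_smul, smul_add] at h2
        rw [hs, ht]
        exact h2
      by_cases hs0 : s = 0
      · rw [hs0, zero_smul, zero_add] at hquad
        have h1 : t • φ = 1 := by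
          rw [← h3', hquad, Matrix.mul_smul, Matrix.mul_one]
        have ht0 : t ≠ 0 := by
          intro h
          rw [h, zero_smul] at h1
          exact zero_ne_one h1
        apply hns t⁻¹
        have h2 := congrArg (fun M => t⁻¹ • M) h1
        simp only [smul_smul, inv_mul_cancel₀ ht0, one_smul] at h2
        exact h2
      · have hmem := mem_of_quad K hK g hgN s t hs0 (by rw [hg1]; exact hquad)
        rw [hg1] at hmem
        exact hnc (hK.comm φ hmem k₀ hk₀)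
  refine ⟨⟨φ, hdet⟩, h3, hns, ?_⟩
  have hgeq : Matrix.SpecialLinearGroup.toGL (⟨φ, hdet⟩ : Matrix.SpecialLinearGroup (Fin 3) F) = g :=
    Units.ext hg1.symm
  rw [hgeq]
  exact hgN

/-- A non-scalar element satisfying `(x - a)(x - b) = 0` with `a + b ≠ 0` has no conjugate
normalising `K`. -/
theorem no_conj_of_quad (x P : Matrix.SpecialLinearGroup (Fin 3) F) (a b : F) (hab : a + b ≠ 0)
    (hx : ((x : Matrix (Fin 3) (Fin 3) F) - a • (1 : Matrix (Fin 3) (Fin 3) F)) *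
      ((x : Matrix (Fin 3) (Fin 3) F) - b • (1 : Matrix (Fin 3) (Fin 3) F)) = 0)
    (hns : ∀ z : F, (x : Matrix (Fin 3) (Fin 3) F) ≠ z • (1 : Matrix (Fin 3) (Fin 3) F)) :
    Matrix.SpecialLinearGroup.toGL (P⁻¹ * x * P) ∉ subalgebraNormalizer K := by
  intro hmem
  obtain ⟨X, hX⟩ : ∃ X : Matrix (Fin 3) (Fin 3) F, X = (x : Matrix (Fin 3) (Fin 3) F) := ⟨_, rfl⟩
  obtain ⟨Pm, hPm⟩ : ∃ Pm : Matrix (Fin 3) (Fin 3) F, Pm = (P : Matrix (Fin 3) (Fin 3) F) :=
    ⟨_, rfl⟩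
  obtain ⟨Pi, hPi⟩ : ∃ Pi : Matrix (Fin 3) (Fin 3) F,
      Pi = ((P⁻¹ : Matrix.SpecialLinearGroup (Fin 3) F) : Matrix (Fin 3) (Fin 3) F) := ⟨_, rfl⟩
  have hPiP : Pi * Pm = 1 := by
    rw [hPi, hPm, ← Matrix.SpecialLinearGroup.coe_mul, inv_mul_cancel,
      Matrix.SpecialLinearGroup.coe_one]
  have hPPi : Pm * Pi = 1 := by
    rw [hPi, hPm, ← Matrix.SpecialLinearGroup.coe_mul, mul_inv_cancel,
      Matrix.SpecialLinearGroup.coe_one]
  obtain ⟨G, hG⟩ : ∃ G : Matrix (Fin 3) (Fin 3) F, G = Pi * X * Pm := ⟨_, rfl⟩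
  have hGcoe : ((Matrix.SpecialLinearGroup.toGL (P⁻¹ * x * P) : GL (Fin 3) F) :
      Matrix (Fin 3) (Fin 3) F) = G := by
    rw [Matrix.SpecialLinearGroup.coe_GL_coe_matrix, Matrix.SpecialLinearGroup.coe_mul,
      Matrix.SpecialLinearGroup.coe_mul, hG, hPi, hX, hPm]
  rw [← hX] at hx hns
  have hGab : (G - a • (1 : Matrix (Fin 3) (Fin 3) F)) *
      (G - b • (1 : Matrix (Fin 3) (Fin 3) F)) = 0 := by
    have h1 : G - a • (1 : Matrix (Fin 3) (Fin 3) F) =
        Pi * (X - a • (1 : Matrix (Fin 3) (Fin 3) F)) * Pm := by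
      rw [Matrix.mul_sub, Matrix.sub_mul, Matrix.mul_smul, Matrix.smul_mul, Matrix.mul_one, hPiP,
        hG]
    have h2 : G - b • (1 : Matrix (Fin 3) (Fin 3) F) =
        Pi * (X - b • (1 : Matrix (Fin 3) (Fin 3) F)) * Pm := by
      rw [Matrix.mul_sub, Matrix.sub_mul, Matrix.mul_smul, Matrix.smul_mul, Matrix.mul_one, hPiP,
        hG]
    rw [h1, h2]
    have h3 : Pi * (X - a • (1 : Matrix (Fin 3) (Fin 3) F)) * Pm *
        (Pi * (X - b • (1 : Matrix (Fin 3) (Fin 3) F)) * Pm) =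
        Pi * ((X - a • (1 : Matrix (Fin 3) (Fin 3) F)) * (Pm * Pi) *
          (X - b • (1 : Matrix (Fin 3) (Fin 3) F))) * Pm := by
      simp only [Matrix.mul_assoc]
    rw [h3, hPPi, Matrix.mul_one, hx, Matrix.mul_zero, Matrix.zero_mul]
  have hGG : G * G = (a + b) • G + (-(a * b)) • (1 : Matrix (Fin 3) (Fin 3) F) := by
    have h1 := hGab
    simp only [Matrix.sub_mul, Matrix.mul_sub, Matrix.mul_smul, Matrix.smul_mul, Matrix.mul_one,
      Matrix.one_mul, smul_smul] at h1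
    rw [add_smul, neg_smul]
    calc G * G = (G * G - a • G - b • (G - a • (1 : Matrix (Fin 3) (Fin 3) F))) +
          (a • G + b • G + -((a * b) • (1 : Matrix (Fin 3) (Fin 3) F))) := by
            rw [smul_sub, smul_smul, mul_comm b a]
            abel
      _ = a • G + b • G + -((a * b) • (1 : Matrix (Fin 3) (Fin 3) F)) := by rw [h1, zero_add]
  have hGK : G ∈ K := by
    have h1 := mem_of_quad K hK _ hmem (a + b) (-(a * b)) hab (by rw [hGcoe]; exact hGG)
    rw [hGcoe] at h1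
    exact h1
  have hXG : X = Pm * G * Pi := by
    rw [hG]
    simp only [← Matrix.mul_assoc]
    rw [hPPi, Matrix.one_mul, Matrix.mul_assoc, hPPi, Matrix.mul_one]
  rcases scalar_of_mem_of_quad K hK G hGK a b hGab with h | h
  · exact hns a (by rw [hXG, h, Matrix.mul_smul, Matrix.smul_mul, Matrix.mul_one, hPPi])
  · exact hns b (by rw [hXG, h, Matrix.mul_smul, Matrix.smul_mul, Matrix.mul_one, hPPi])

/-- In characteristic 3 some element of order 3 has no conjugate normalising `K`. -/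
theorem exists_bad_char3 (h3 : (3 : F) = 0) :
    ∃ x : Matrix.SpecialLinearGroup (Fin 3) F,
      (x : Matrix (Fin 3) (Fin 3) F) * x * x = (1 : F) • (1 : Matrix (Fin 3) (Fin 3) F) ∧
      (∀ z : F, (x : Matrix (Fin 3) (Fin 3) F) ≠ z • (1 : Matrix (Fin 3) (Fin 3) F)) ∧
      ∀ P : Matrix.SpecialLinearGroup (Fin 3) F,
        Matrix.SpecialLinearGroup.toGL (P⁻¹ * x * P) ∉ subalgebraNormalizer K := by
  have h2 : (1 : F) + 1 ≠ 0 := by
    intro h
    have h1 : (1 : F) = 0 := by linear_combination h3 - h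
    exact one_ne_zero h1
  obtain ⟨X, hX⟩ : ∃ X : Matrix (Fin 3) (Fin 3) F, X = !![1, 1, 0; 0, 1, 0; 0, 0, 1] := ⟨_, rfl⟩
  have hdet : X.det = 1 := by
    rw [hX, Matrix.det_fin_three]
    simp
  have hcube : X * X * X = (1 : F) • (1 : Matrix (Fin 3) (Fin 3) F) := by
    rw [hX, one_smul]
    ext i j
    fin_cases i <;> fin_cases j <;> simp [Matrix.mul_apply, Fin.sum_univ_three] <;>
      linear_combination h3
  have hns : ∀ z : F, X ≠ z • (1 : Matrix (Fin 3) (Fin 3) F) := by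
    intro z hz
    have h1 := congrFun (congrFun hz 0) 1
    rw [hX] at h1
    simp at h1
  have hquad : (X - (1 : F) • (1 : Matrix (Fin 3) (Fin 3) F)) *
      (X - (1 : F) • (1 : Matrix (Fin 3) (Fin 3) F)) = 0 := by
    rw [hX]
    ext i j
    fin_cases i <;> fin_cases j <;> simp [Matrix.mul_apply, Fin.sum_univ_three]
  exact ⟨⟨X, hdet⟩, hcube, hns, fun P => no_conj_of_quad K hK ⟨X, hdet⟩ P 1 1 h2 hquad hns⟩

/-- If `F` has an element of order 9, some element of order 3 of `PSL_3(F)` has no conjugate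
normalising `K`. -/
theorem exists_bad_order9 (θ : F) (h9 : θ ^ 9 = 1) (h3 : θ ^ 3 ≠ 1) :
    ∃ x : Matrix.SpecialLinearGroup (Fin 3) F,
      (x : Matrix (Fin 3) (Fin 3) F) * x * x = (θ ^ 3) • (1 : Matrix (Fin 3) (Fin 3) F) ∧
      (∀ z : F, (x : Matrix (Fin 3) (Fin 3) F) ≠ z • (1 : Matrix (Fin 3) (Fin 3) F)) ∧
      ∀ P : Matrix.SpecialLinearGroup (Fin 3) F,
        Matrix.SpecialLinearGroup.toGL (P⁻¹ * x * P) ∉ subalgebraNormalizer K := by
  obtain ⟨X, hX⟩ : ∃ X : Matrix (Fin 3) (Fin 3) F, X = !![θ, 0, 0; 0, θ, 0; 0, 0, θ ^ 7] :=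
    ⟨_, rfl⟩
  have hdet : X.det = 1 := by
    rw [hX, Matrix.det_fin_three]
    simp
    rw [← h9]
    ring
  have hcube : X * X * X = (θ ^ 3) • (1 : Matrix (Fin 3) (Fin 3) F) := by
    rw [hX]
    ext i j
    fin_cases i <;> fin_cases j <;> simp [Matrix.mul_apply, Fin.sum_univ_three] <;>
      first | ring1 | linear_combination (θ ^ 12 + θ ^ 3) * h9
  have hns : ∀ z : F, X ≠ z • (1 : Matrix (Fin 3) (Fin 3) F) := by
    intro z hz
    have h1 := congrFun (congrFun hz 0) 0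
    have h2 := congrFun (congrFun hz 2) 2
    rw [hX] at h1 h2
    simp at h1 h2
    have h7 : θ ^ 7 = θ := h2.trans h1.symm
    apply h3
    calc θ ^ 3 = θ ^ 2 * θ := by ring
      _ = θ ^ 2 * θ ^ 7 := by rw [h7]
      _ = θ ^ 9 := by ring
      _ = 1 := h9
  have hab : θ + θ ^ 7 ≠ 0 := by
    intro h
    have e1 : θ ^ 3 = -1 := by linear_combination θ ^ 2 * h - h9
    have e2' : (1 : F) = -1 := by
      calc (1 : F) = θ ^ 9 := h9.symm
        _ = (θ ^ 3) ^ 3 := by ring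
        _ = -1 := by rw [e1]; ring
    apply h3
    rw [e1]
    exact e2'.symm
  have hquad : (X - θ • (1 : Matrix (Fin 3) (Fin 3) F)) *
      (X - (θ ^ 7) • (1 : Matrix (Fin 3) (Fin 3) F)) = 0 := by
    rw [hX]
    ext i j
    fin_cases i <;> fin_cases j <;> simp [Matrix.mul_apply, Fin.sum_univ_three]
  exact ⟨⟨X, hdet⟩, hcube, hns,
    fun P => no_conj_of_quad K hK ⟨X, hdet⟩ P θ (θ ^ 7) hab hquad hns⟩

/-- If `3` divides the index of the normaliser of `K` in `SL_3(F)` then `9` divides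
`|SL_3(F)|`. -/
theorem nine_dvd_card [Fintype F] (p : ℕ) [Fact p.Prime] [CharP F p]
    (hΩ : 3 ∣ ((subalgebraNormalizer K).comap (Matrix.SpecialLinearGroup.toGL :
      Matrix.SpecialLinearGroup (Fin 3) F →* GL (Fin 3) F)).index) :
    9 ∣ Nat.card (Matrix.SpecialLinearGroup (Fin 3) F) := by
  obtain ⟨φ, h3, hns, hmem⟩ := exists_frob_sl K hK p
  obtain ⟨H, hH⟩ : ∃ H : Subgroup (Matrix.SpecialLinearGroup (Fin 3) F),
      H = (subalgebraNormalizer K).comap (Matrix.SpecialLinearGroup.toGL :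
        Matrix.SpecialLinearGroup (Fin 3) F →* GL (Fin 3) F) := ⟨_, rfl⟩
  rw [← hH] at hΩ
  have hφH : φ ∈ H := by
    rw [hH]
    exact hmem
  have hφ3 : φ ^ 3 = 1 := by
    apply Subtype.ext
    rw [coe_pow_three, h3]
    rfl
  have hφ1 : φ ≠ 1 := by
    intro h
    apply hns 1
    rw [h, one_smul]
    rfl
  have h1 : (⟨φ, hφH⟩ : ↥H) ^ 3 = 1 := Subtype.ext hφ3
  have h2 : (⟨φ, hφH⟩ : ↥H) ≠ 1 := fun h => hφ1 (congrArg Subtype.val h)
  have : Fact (Nat.Prime 3) := ⟨Nat.prime_three⟩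
  have hord : orderOf (⟨φ, hφH⟩ : ↥H) = 3 := orderOf_eq_prime h1 h2
  have h3dvd : 3 ∣ Nat.card ↥H := by
    have h4 := orderOf_dvd_natCard (⟨φ, hφH⟩ : ↥H)
    rw [hord] at h4
    exact h4
  have h9 := Nat.mul_dvd_mul hΩ h3dvd
  rw [Subgroup.index_mul_card] at h9
  exact h9

end FieldSub


end Cfsg.Agent.Lib.helper7.Singer3
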