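import Cfsg.Prelude
import Cfsg.Agent.Lib.helper7.SixDefs
import Cfsg.Agent.Lib.helper62.FrobSolvA
import Cfsg.Agent.Lib.helper62.FrobSolvB
import Cfsg.Agent.Lib.helper62.LinRegQ8A
import Cfsg.Agent.Lib.helper16.ZassR
import Cfsg.Agent.Lib.helper39.Z2B
import Cfsg.Agent.Lib.helper82.SixU4
import Cfsg.Agent.Lib.helper82.SixN3
import Cfsg.Agent.Lib.helper16.SixSOLV

/-!
# S4291: final assembly (modulo the statement of S0690 as a hypothesis)

A Frobenius complement `G` has exactly one normal subgroup `N` with cyclic Sylow subgroups such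
that `G / N` is trivial, `V4`, `A4`, `S4`, `A5` or `S5`.
Pieces: helper72 (U1, U3), helper33 (U2a, U2b), helper82 (U4, N3), helper16 (SOLV),
helper48 (N1), helper91 (N2); Zassenhaus bridge by helper39; perfect core by helper16;
Frobenius-complement extraction by helper62.
-/

set_option autoImplicit false

namespace Cfsg.Agent.Lib.helper7.SixMain

open Cfsg.Agent.Lib.helper7.Six
open Cfsg.Agent.Lib.helper62.FrobSolv Cfsg.Agent.Lib.helper62.FrobExtract

theorem six_main
    (hZ : ∀ (K : Type) [Group K] [Finite K] (G : Subgroup (MulAut K)),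
      (∀ φ ∈ G, φ ≠ 1 → ∀ k : K, φ k = k → k = 1) → commutator G = ⊤ → G ≠ ⊥ →
      Nonempty (G ≃* (Matrix.SpecialLinearGroup (Fin 2) (ZMod 5))))
    {G : Type*} [Group G] [Finite G]
    (hFC : (∃ (L : Type) (_ : Group L) (_ : Finite L) (H : Subgroup L),
      Cfsg.IsFrobeniusComplement H ∧ Nonempty (G ≃* H))) :
    ∃! N : Subgroup G, N.Normal ∧ ZS N ∧ SixQ N := by
  classical
  obtain ⟨L, iL, fL, H, hH, ⟨e⟩⟩ := hFC
  have hfpf := (hasFpfMod_of_frob H hH).comap e.toMonoidHom e.injective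
  have hUI : ∀ s t : G, s ≠ 1 → t ≠ 1 → s ^ 2 = 1 → t ^ 2 = 1 → s = t :=
    fun s t hs ht hs2 ht2 => fpf_involution_unique hfpf s t hs ht hs2 ht2
  have hodd : ∀ (p : ℕ) [Fact p.Prime], p ≠ 2 → ∀ P : Subgroup G, IsPGroup p P → IsCyclic P := by
    intro p _ hp P hP
    exact isCyclic_of_frob_odd H hH (e.toMonoidHom.comp P.subtype)
      (e.injective.comp (Subgroup.subtype_injective _)) p hP hp
  have hpg : ∀ P : Subgroup G, IsPGroup 2 P →
      IsCyclic P ∨ ∃ n : ℕ, Nonempty (P ≃* QuaternionGroup (2 ^ n)) := by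
    intro P hP
    have h2 : Fact (Nat.Prime 2) := ⟨Nat.prime_two⟩
    rcases Cfsg.Agent.Lib.helper62.LinRegQ8.fpf_pgroup_cyclic_or_quat
      (hfpf.comap P.subtype (Subgroup.subtype_injective _)) 2 hP with h | ⟨-, h⟩
    · exact Or.inl h
    · exact Or.inr h
  have hex : ∃ N : Subgroup G, N.Normal ∧ ZS N ∧ SixQ N := by
    by_cases hsol : Group.IsSolvable G
    · exact Cfsg.Agent.Lib.helper16.six_exists_solvable hsol hUI hodd
    · obtain ⟨S, hSn, hSne, hSperf⟩ := Cfsg.Agent.Lib.helper16.exists_perfect_normal hsol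
      have hSfpf := hfpf.comap S.subtype (Subgroup.subtype_injective _)
      have hnt : Nontrivial S := (Subgroup.nontrivial_iff_ne_bot S).mpr hSne
      obtain ⟨eS⟩ := Cfsg.Agent.Lib.helper39.zass_bridge hZ hSfpf hSperf hnt
      exact Cfsg.Agent.Lib.helper82.six_of_sl25 hUI hodd S hSn eS
  obtain ⟨N, hN1, hN2, hN3⟩ := hex
  refine ⟨N, ⟨hN1, hN2, hN3⟩, ?_⟩
  rintro N' ⟨h1, h2, h3⟩
  exact Cfsg.Agent.Lib.helper82.six_unique hpg N' N h1 hN1 h2 hN2 h3 hN3

end Cfsg.Agent.Lib.helper7.SixMain
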