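import Mathlib
import Cfsg.Agent.Lib.helper7.NonsingMinus
import Cfsg.Agent.Lib.helper45.SpPrimeOrder
import Cfsg.Agent.Lib.helper95.SpMax
import Cfsg.Agent.Lib.helper95.OmegaTools
import Cfsg.Agent.Lib.helper42.AltRank

/-! Quadratic forms in characteristic two with a prescribed polar form: the forms `Q + ℓ²`,
the Artin–Schreier criterion for the change of type, and the classification of such forms up to
the symplectic group. -/

set_option autoImplicit false
set_option linter.unusedSectionVars false
set_option linter.style.haveILetI false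

namespace Cfsg.Agent.Lib.helper7.SpOrth

open Cfsg Matrix Cfsg.Agent.Lib.helper45

universe u

section wp

variable {F : Type*} [Field F] [Fintype F]

theorem sq_inj (h2 : (2 : F) = 0) {a b : F} (h : a * a = b * b) : a = b := by
  have h1 : (a - b) * (a - b) = 0 := by linear_combination h - (a * b - b * b) * h2
  rcases mul_eq_zero.mp h1 with h | h <;> exact sub_eq_zero.mp h

theorem exists_sqrt (h2 : (2 : F) = 0) (c : F) : ∃ t : F, t * t = c := by
  have hinj : Function.Injective (fun t : F => t * t) := fun a b h => sq_inj h2 h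
  exact (Finite.injective_iff_surjective.mp hinj) c

theorem wp_add (h2 : (2 : F) = 0) (t t' : F) :
    (t + t') * (t + t') + (t + t') = (t * t + t) + (t' * t' + t') := by
  linear_combination (t * t') * h2

theorem wp_exists_not (h2 : (2 : F) = 0) : ∃ γ : F, ∀ t : F, t * t + t ≠ γ := by
  by_contra hcon
  push Not at hcon
  have hsurj : Function.Surjective (fun t : F => t * t + t) := hcon
  have hinj := Finite.injective_iff_surjective.mpr hsurj
  have h01 : (0 : F) = 1 := hinj (by
    show (0 : F) * 0 + 0 = 1 * 1 + 1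
    linear_combination -h2)
  exact zero_ne_one h01

theorem wp_cases (h2 : (2 : F) = 0) (γ : F) (hγ : ∀ t : F, t * t + t ≠ γ) (c : F) :
    (∃ t : F, t * t + t = c) ∨ (∃ t : F, t * t + t = c + γ) := by
  obtain ⟨℘, h℘⟩ : ∃ ℘ : F →+ F, ∀ x, ℘ x = x * x + x :=
    ⟨{ toFun := fun x => x * x + x
       map_zero' := by ring
       map_add' := fun x y => by linear_combination (x * y) * h2 }, fun x => rfl⟩
  have hker : Nat.card ℘.ker = 2 := by
    rw [Nat.card_eq_two_iff]
    refine ⟨⟨0, by rw [AddMonoidHom.mem_ker, map_zero]⟩,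
      ⟨1, by rw [AddMonoidHom.mem_ker, h℘]; linear_combination h2⟩, ?_, ?_⟩
    · intro h
      exact zero_ne_one (congrArg Subtype.val h)
    · ext x
      simp only [Set.mem_insert_iff, Set.mem_singleton_iff, Set.mem_univ, iff_true]
      have hx := x.2
      rw [AddMonoidHom.mem_ker, h℘] at hx
      have h3 : (x : F) * (x + 1) = 0 := by linear_combination hx
      rcases mul_eq_zero.mp h3 with h | h
      · left; exact Subtype.ext h
      · right
        apply Subtype.ext
        show (x : F) = 1
        linear_combination h - h2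
  have hidx : ℘.range.index = 2 := by
    have h1 := AddSubgroup.card_mul_index ℘.ker
    rw [AddSubgroup.index_ker, hker] at h1
    have h3 := AddSubgroup.card_mul_index ℘.range
    have hpos : 0 < Nat.card ℘.range := Nat.card_pos
    have h4 : Nat.card ℘.range * ℘.range.index = Nat.card ℘.range * 2 := by
      rw [h3, ← h1, mul_comm]
    exact Nat.eq_of_mul_eq_mul_left hpos h4
  have hγ' : γ ∉ ℘.range := by
    rintro ⟨t, ht⟩
    exact hγ t (by rw [← h℘]; exact ht)
  by_cases hc : c ∈ ℘.range
  · obtain ⟨t, ht⟩ := hc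
    left
    exact ⟨t, by rw [← h℘]; exact ht⟩
  · right
    have h3 : c + γ ∈ ℘.range :=
      (AddSubgroup.add_mem_iff_of_index_two hidx).mpr
        ⟨fun h => absurd h hc, fun h => absurd h hγ'⟩
    obtain ⟨t, ht⟩ := h3
    exact ⟨t, by rw [← h℘]; exact ht⟩

theorem wp_not_both (h2 : (2 : F) = 0) (γ : F) (hγ : ∀ t : F, t * t + t ≠ γ) (c t t' : F)
    (h : t * t + t = c) (h' : t' * t' + t' = c + γ) : False := by
  apply hγ (t + t')
  rw [wp_add h2, h, h']
  linear_combination c * h2

theorem wp_card_two (h2 : (2 : F) = 0) (t₀ : F) :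
    Nat.card {t : F // t * t + t = t₀ * t₀ + t₀} = 2 := by
  rw [Nat.card_eq_two_iff]
  refine ⟨⟨t₀, rfl⟩, ⟨t₀ + 1, by linear_combination t₀ * h2 + h2⟩, ?_, ?_⟩
  · intro h
    have h1 : t₀ = t₀ + 1 := congrArg Subtype.val h
    have h3 : (1 : F) = 0 := by linear_combination -h1
    exact one_ne_zero h3
  · ext x
    simp only [Set.mem_insert_iff, Set.mem_singleton_iff, Set.mem_univ, iff_true]
    have hx := x.2
    have h3 : ((x : F) - t₀) * ((x : F) - t₀ - 1) = 0 := by
      linear_combination hx + (-(x : F) * t₀ + t₀ * t₀ - (x : F) + t₀) * h2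
    rcases mul_eq_zero.mp h3 with h | h
    · left; exact Subtype.ext (sub_eq_zero.mp h)
    · right
      apply Subtype.ext
      show (x : F) = t₀ + 1
      linear_combination h

/-- the numbers of roots of `γ t² + β t + κ` and of `γ t² + β t + κ + β²` add up to two when
`γ` is not of the form `t² + t` -/
theorem root_count (h2 : (2 : F) = 0) (γ : F) (hγ : ∀ t : F, t * t + t ≠ γ) (β κ : F) :
    Nat.card {t : F // γ * (t * t) + β * t + κ = 0}
      + Nat.card {t : F // γ * (t * t) + β * t + (κ + β * β) = 0} = 2 := by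
  have hγ0 : γ ≠ 0 := by
    rintro rfl
    exact hγ 0 (by ring)
  by_cases hβ : β = 0
  · subst hβ
    have h1 : ∀ κ' : F, Nat.card {t : F // γ * (t * t) + 0 * t + κ' = 0} = 1 := by
      intro κ'
      obtain ⟨t₀, ht₀⟩ := exists_sqrt h2 (-κ' / γ)
      rw [Nat.card_eq_one_iff_unique]
      refine ⟨⟨fun a b => ?_⟩, ⟨⟨t₀, by rw [ht₀]; field_simp; ring⟩⟩⟩
      apply Subtype.ext
      apply sq_inj h2
      have ha := a.2
      have hb := b.2
      apply mul_left_cancel₀ hγ0
      linear_combination ha - hb
    rw [h1, h1]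
  · have hcard : ∀ κ' : F, Nat.card {t : F // γ * (t * t) + β * t + κ' = 0}
        = Nat.card {u : F // u * u + u = κ' * γ / (β * β)} := by
      intro κ'
      apply Nat.card_congr
      refine (Equiv.mulLeft₀ (γ / β) (div_ne_zero hγ0 hβ)).subtypeEquiv ?_
      intro t
      have e : (γ / β * t) * (γ / β * t) + γ / β * t - κ' * γ / (β * β)
          = γ / (β * β) * (γ * (t * t) + β * t + κ') - κ' * γ / (β * β) * 2 := by
        field_simp
        ring
      rw [Equiv.mulLeft₀_apply]
      constructor
      · intro h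
        rw [← sub_eq_zero, e, h, h2]
        ring
      · intro h
        rw [← sub_eq_zero, e, h2, mul_zero, sub_zero] at h
        rcases mul_eq_zero.mp h with h' | h'
        · exact absurd h' (div_ne_zero hγ0 (mul_ne_zero hβ hβ))
        · exact h'
    have e2 : (κ + β * β) * γ / (β * β) = κ * γ / (β * β) + γ := by
      field_simp
    rw [hcard, hcard, e2]
    rcases wp_cases h2 γ hγ (κ * γ / (β * β)) with ⟨t, ht⟩ | ⟨t, ht⟩
    · rw [← ht, wp_card_two h2]
      haveI : IsEmpty {u : F // u * u + u = t * t + t + γ} :=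
        ⟨fun u => wp_not_both h2 γ hγ _ t u.1 rfl u.2⟩
      rw [Nat.card_of_isEmpty]
    · rw [← ht, wp_card_two h2]
      haveI : IsEmpty {u : F // u * u + u = κ * γ / (β * β)} :=
        ⟨fun u => wp_not_both h2 γ hγ _ u.1 t u.2 ht⟩
      rw [Nat.card_of_isEmpty]

end wp

section count

theorem card_pairs {α β : Type*} [Fintype α] [Finite β] (P : α → β → Prop) :
    Nat.card {p : α × β // P p.1 p.2} = ∑ a, Nat.card {b : β // P a b} := by
  rw [← Nat.card_sigma]
  exact Nat.card_congr ⟨fun p => ⟨p.1.1, p.1.2, p.2⟩, fun s => ⟨(s.1, s.2.1), s.2.2⟩,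
    fun _ => rfl, fun _ => rfl⟩

theorem card_pairs' {α β : Type*} [Finite α] [Fintype β] (P : α → β → Prop) :
    Nat.card {p : α × β // P p.1 p.2} = ∑ b, Nat.card {a : α // P a b} := by
  rw [← Nat.card_sigma]
  exact Nat.card_congr ⟨fun p => ⟨p.1.2, p.1.1, p.2⟩, fun s => ⟨(s.2.1, s.1), s.2.2⟩,
    fun _ => rfl, fun _ => rfl⟩

variable {F : Type*} [Field F] [Fintype F] {V : Type*} [AddCommGroup V] [Module F V] [Finite V]

theorem card_shift (f : V → F) (c : V) :
    Nat.card {p : V × F // f (p.1 + p.2 • c) = 0} = Fintype.card F * Nat.card {v : V // f v = 0} := by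
  have e1 : {p : V × F // f (p.1 + p.2 • c) = 0} ≃ {v : V // f v = 0} × F :=
    { toFun := fun p => (⟨p.1.1 + p.1.2 • c, p.2⟩, p.1.2)
      invFun := fun w => ⟨(w.1.1 - w.2 • c, w.2), by
        show f (w.1.1 - w.2 • c + w.2 • c) = 0
        rw [sub_add_cancel]
        exact w.1.2⟩
      left_inv := fun p => Subtype.ext (Prod.ext (add_sub_cancel_right _ _) rfl)
      right_inv := fun w => Prod.ext (Subtype.ext (sub_add_cancel _ _)) rfl }
  rw [Nat.card_congr e1, Nat.card_prod, Nat.card_eq_fintype_card (α := F), mul_comm]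

/-- the quadratic form `Q + ℓ²` -/
noncomputable def addSq (Q : QuadraticForm F V) (ℓ : V →ₗ[F] F) : QuadraticForm F V :=
  Q + QuadraticMap.linMulLin ℓ ℓ

theorem addSq_apply (Q : QuadraticForm F V) (ℓ : V →ₗ[F] F) (v : V) :
    addSq Q ℓ v = Q v + ℓ v * ℓ v := rfl

theorem polar_addSq (h2 : (2 : F) = 0) (Q : QuadraticForm F V) (ℓ : V →ₗ[F] F) (u v : V) :
    QuadraticMap.polar (addSq Q ℓ) u v = QuadraticMap.polar Q u v := by
  simp only [QuadraticMap.polar, addSq_apply, map_add]
  linear_combination (ℓ u * ℓ v) * h2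

/-- adding the square of `B(c, ·)` with `Q c` not of the form `t² + t`: the numbers of singular
vectors of the two forms add up to `2 |V| / q` -/
theorem flip_count (h2 : (2 : F) = 0) (Q : QuadraticForm F V) (c : V)
    (hc : ∀ t : F, t * t + t ≠ Q c) :
    Fintype.card F * Nat.card {v : V // Q v = 0}
      + Fintype.card F * Nat.card {v : V // addSq Q (QuadraticMap.polarBilin Q c) v = 0}
      = 2 * Nat.card V := by
  haveI : Fintype V := Fintype.ofFinite V
  have hpc : QuadraticMap.polar Q c c = 0 := by
    rw [QuadraticMap.polar_self, two_nsmul]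
    linear_combination (Q c) * h2
  have hexp : ∀ (v : V) (t : F),
      Q (v + t • c) = Q c * (t * t) + QuadraticMap.polar Q c v * t + Q v := by
    intro v t
    have h1 : QuadraticMap.polar Q v (t • c) = t * QuadraticMap.polar Q c v := by
      rw [QuadraticMap.polar_smul_right, QuadraticMap.polar_comm, smul_eq_mul]
    have h3 : Q (t • c) = t * t * Q c := by
      rw [QuadraticMap.map_smul, smul_eq_mul]
    have h4 : Q (v + t • c) = Q v + Q (t • c) + QuadraticMap.polar Q v (t • c) := by
      rw [QuadraticMap.polar]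
      ring
    rw [h4, h1, h3]
    ring
  have hexp2 : ∀ (v : V) (t : F), addSq Q (QuadraticMap.polarBilin Q c) (v + t • c)
      = Q c * (t * t) + QuadraticMap.polar Q c v * t
        + (Q v + QuadraticMap.polar Q c v * QuadraticMap.polar Q c v) := by
    intro v t
    rw [addSq_apply, hexp, map_add, map_smul, QuadraticMap.polarBilin_apply_apply,
      QuadraticMap.polarBilin_apply_apply, hpc, smul_zero, add_zero]
    ring
  rw [← card_shift (fun v => Q v) c,
    ← card_shift (fun v => addSq Q (QuadraticMap.polarBilin Q c) v) c,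
    card_pairs (fun (v : V) (t : F) => Q (v + t • c) = 0),
    card_pairs (fun (v : V) (t : F) => addSq Q (QuadraticMap.polarBilin Q c) (v + t • c) = 0),
    ← Finset.sum_add_distrib]
  simp only [hexp, hexp2]
  rw [Finset.sum_congr rfl (fun v _ => root_count h2 (Q c) hc (QuadraticMap.polar Q c v) (Q v)),
    Finset.sum_const, Finset.card_univ, smul_eq_mul, Nat.card_eq_fintype_card, mul_comm]

end count

end Cfsg.Agent.Lib.helper7.SpOrth
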