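import Mathlib
import Cfsg.Agent.Lib.helper7.SpOrthA

/-! Quadratic forms on `F^{2d}` in characteristic two whose polar form is the standard
alternating form: types, the action of the symplectic group, and the index of the orthogonal
group in the symplectic group. -/

set_option autoImplicit false
set_option linter.unusedSectionVars false
set_option linter.style.haveILetI false

namespace Cfsg.Agent.Lib.helper7.SpOrth

open Cfsg Matrix Cfsg.Agent.Lib.helper45 Cfsg.Agent.Lib.helper17 Cfsg.Agent.Lib.helper95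
  Cfsg.Agent.Lib.helper7.NonsingPt

universe u

section basic

variable {F : Type u} [Field F] [Fintype F] {d : ℕ}

theorem nd_of_polar (Q : QuadraticForm F (Fin d ⊕ Fin d → F))
    (hB : ∀ u v, QuadraticMap.polar Q u v = sympForm d F u v) :
    ∀ v, (∀ w, QuadraticMap.polar Q v w = 0) → v = 0 := by
  intro v hv
  by_contra h
  obtain ⟨w, hw⟩ := exists_sympForm_ne_zero d v h
  exact hw (by rw [← hB]; exact hv w)

theorem unif_cases (Q : QuadraticForm F (Fin d ⊕ Fin d → F))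
    (hB : ∀ u v, QuadraticMap.polar Q u v = sympForm d F u v) :
    Unif ((Fintype.card F : ℤ) ^ d) (fun c => Nat.card {v : Fin d ⊕ Fin d → F // Q v = c}) ∨
    Unif (-(Fintype.card F : ℤ) ^ d) (fun c => Nat.card {v : Fin d ⊕ Fin d → F // Q v = c}) := by
  rcases witt_class Q (nd_of_polar Q hB) d (finrank_plus_std d) with ⟨hu, -⟩ | ⟨hu, -⟩
  · exact Or.inl hu
  · exact Or.inr hu

theorem qd_pos : (0 : ℤ) < (Fintype.card F : ℤ) ^ d :=
  pow_pos (by exact_mod_cast Fintype.card_pos) d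

theorem q_gt_one : (1 : ℤ) < (Fintype.card F : ℤ) := by
  exact_mod_cast Fintype.one_lt_card

theorem exists_unif (Q : QuadraticForm F (Fin d ⊕ Fin d → F))
    (hB : ∀ u v, QuadraticMap.polar Q u v = sympForm d F u v) :
    ∃ s : ℤ, Unif s (fun c => Nat.card {v : Fin d ⊕ Fin d → F // Q v = c}) ∧
      (s = (Fintype.card F : ℤ) ^ d ∨ s = -(Fintype.card F : ℤ) ^ d) := by
  rcases unif_cases Q hB with h | h
  · exact ⟨_, h, Or.inl rfl⟩
  · exact ⟨_, h, Or.inr rfl⟩

theorem sp_of_isom (Q₁ Q₂ : QuadraticForm F (Fin d ⊕ Fin d → F))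
    (hB₁ : ∀ u v, QuadraticMap.polar Q₁ u v = sympForm d F u v)
    (hB₂ : ∀ u v, QuadraticMap.polar Q₂ u v = sympForm d F u v)
    (A : Matrix (Fin d ⊕ Fin d) (Fin d ⊕ Fin d) F) (h : ∀ v, Q₁ (A *ᵥ v) = Q₂ v)
    (u v : Fin d ⊕ Fin d → F) : sympForm d F (A *ᵥ u) (A *ᵥ v) = sympForm d F u v := by
  rw [← hB₁, ← hB₂, QuadraticMap.polar, QuadraticMap.polar, ← Matrix.mulVec_add, h, h, h]

/-- two forms with the same polar form and the same value distribution are conjugate under the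
symplectic group -/
theorem iso_of_unif (Q₁ Q₂ : QuadraticForm F (Fin d ⊕ Fin d → F))
    (hB₁ : ∀ u v, QuadraticMap.polar Q₁ u v = sympForm d F u v)
    (hB₂ : ∀ u v, QuadraticMap.polar Q₂ u v = sympForm d F u v) (s : ℤ)
    (h₁ : Unif s (fun c => Nat.card {v : Fin d ⊕ Fin d → F // Q₁ v = c}))
    (h₂ : Unif s (fun c => Nat.card {v : Fin d ⊕ Fin d → F // Q₂ v = c})) :
    ∃ g : GL (Fin d ⊕ Fin d) F, g ∈ spGL d F ∧
      ∀ v, Q₁ ((g : Matrix (Fin d ⊕ Fin d) (Fin d ⊕ Fin d) F) *ᵥ v) = Q₂ v := by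
  have hpos : (0 : ℤ) < (Fintype.card F : ℤ) ^ d := qd_pos
  obtain ⟨T, hT⟩ : ∃ T : (Fin d ⊕ Fin d → F) ≃ₗ[F] (Fin d ⊕ Fin d → F),
      ∀ v, Q₁ (T v) = Q₂ v := by
    rcases witt_class Q₁ (nd_of_polar Q₁ hB₁) d (finrank_plus_std d) with
      ⟨hu₁, T₁, hT₁⟩ | ⟨hu₁, k₁, hk₁, hT₁⟩ <;>
    rcases witt_class Q₂ (nd_of_polar Q₂ hB₂) d (finrank_plus_std d) with
      ⟨hu₂, T₂, hT₂⟩ | ⟨hu₂, k₂, hk₂, hT₂⟩
    · refine ⟨T₂.trans T₁.symm, fun v => ?_⟩
      rw [← hT₁, LinearEquiv.trans_apply, LinearEquiv.apply_symm_apply, hT₂]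
    · exfalso
      have e1 := Unif.unique h₁ hu₁
      have e2 := Unif.unique h₂ hu₂
      linarith
    · exfalso
      have e1 := Unif.unique h₁ hu₁
      have e2 := Unif.unique h₂ hu₂
      linarith
    · obtain rfl : k₁ = k₂ := by omega
      obtain ⟨a, c, hac⟩ := exists_aniso F
      obtain ⟨T₁, hT₁⟩ := hT₁ a c hac
      obtain ⟨T₂, hT₂⟩ := hT₂ a c hac
      refine ⟨T₂.trans T₁.symm, fun v => ?_⟩
      rw [← hT₁, LinearEquiv.trans_apply, LinearEquiv.apply_symm_apply, hT₂]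
  obtain ⟨A, hA⟩ : ∃ A : Matrix (Fin d ⊕ Fin d) (Fin d ⊕ Fin d) F,
      A = LinearMap.toMatrix' T.toLinearMap := ⟨_, rfl⟩
  obtain ⟨A', hA'⟩ : ∃ A' : Matrix (Fin d ⊕ Fin d) (Fin d ⊕ Fin d) F,
      A' = LinearMap.toMatrix' T.symm.toLinearMap := ⟨_, rfl⟩
  have hAA' : A * A' = 1 := by
    rw [hA, hA', ← LinearMap.toMatrix'_comp]
    have e : T.toLinearMap ∘ₗ T.symm.toLinearMap = LinearMap.id :=
      LinearMap.ext fun v => by simp
    rw [e, LinearMap.toMatrix'_id]
  have hA'A : A' * A = 1 := mul_eq_one_comm.mp hAA'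
  have hmul : ∀ v, A *ᵥ v = T v := by
    intro v
    rw [hA, LinearMap.toMatrix'_mulVec]
    rfl
  have hiso : ∀ v, Q₁ (A *ᵥ v) = Q₂ v := by
    intro v
    rw [hmul, hT]
  refine ⟨⟨A, A', hAA', hA'A⟩, ?_, hiso⟩
  intro u v
  exact sp_of_isom Q₁ Q₂ hB₁ hB₂ A hiso u v

theorem card_V : Nat.card (Fin d ⊕ Fin d → F) = Fintype.card F ^ (d + d) := by
  rw [Nat.card_eq_fintype_card, Fintype.card_fun, Fintype.card_sum, Fintype.card_fin]

/-- adding `B(c, ·)²` with `Q c` not of the form `t² + t` changes the type -/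
theorem flip_unif (h2 : (2 : F) = 0) (Q : QuadraticForm F (Fin d ⊕ Fin d → F))
    (hB : ∀ u v, QuadraticMap.polar Q u v = sympForm d F u v) (c : Fin d ⊕ Fin d → F)
    (hc : ∀ t : F, t * t + t ≠ Q c) (s : ℤ)
    (hu : Unif s (fun c' => Nat.card {v : Fin d ⊕ Fin d → F // Q v = c'})) :
    Unif (-s) (fun c' => Nat.card
      {v : Fin d ⊕ Fin d → F // addSq Q (QuadraticMap.polarBilin Q c) v = c'}) := by
  classical
  have hB'' : ∀ u v, QuadraticMap.polar (addSq Q (QuadraticMap.polarBilin Q c)) u v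
      = sympForm d F u v := by
    intro u v
    rw [polar_addSq h2, hB]
  have hq1 : (1 : ℤ) < (Fintype.card F : ℤ) := q_gt_one
  have hpos : (0 : ℤ) < (Fintype.card F : ℤ) ^ d := qd_pos
  have hpp := mul_pos hpos (by linarith : (0 : ℤ) < (Fintype.card F : ℤ) - 1)
  have hcount := flip_count h2 Q c hc
  rw [card_V] at hcount
  have hcount' : (Fintype.card F : ℤ) * (Nat.card {v : Fin d ⊕ Fin d → F // Q v = 0} : ℤ)
      + (Fintype.card F : ℤ) * (Nat.card
        {v : Fin d ⊕ Fin d → F // addSq Q (QuadraticMap.polarBilin Q c) v = 0} : ℤ)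
      = 2 * ((Fintype.card F : ℤ) ^ d * (Fintype.card F : ℤ) ^ d) := by
    rw [← pow_add]
    exact_mod_cast hcount
  have h0 := hu 0
  rw [if_pos rfl] at h0
  rcases unif_cases Q hB with h | h <;>
  rcases unif_cases (addSq Q (QuadraticMap.polarBilin Q c)) hB'' with h'' | h''
  · exfalso
    have e := Unif.unique hu h
    have h0'' := h'' 0
    rw [if_pos rfl] at h0''
    rw [e] at h0
    have : 2 * ((Fintype.card F : ℤ) ^ d * ((Fintype.card F : ℤ) - 1)) = 0 := by
      linear_combination hcount' - h0 - h0''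
    linarith
  · rw [Unif.unique hu h]
    exact h''
  · rw [Unif.unique hu h, neg_neg]
    exact h''
  · exfalso
    have e := Unif.unique hu h
    have h0'' := h'' 0
    rw [if_pos rfl] at h0''
    rw [e] at h0
    have : 2 * ((Fintype.card F : ℤ) ^ d * ((Fintype.card F : ℤ) - 1)) = 0 := by
      linear_combination h0 + h0'' - hcount'
    linarith

/-- a totally singular subspace of half the dimension forces the hyperbolic type -/
theorem unif_of_ts (Q : QuadraticForm F (Fin d ⊕ Fin d → F))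
    (hB : ∀ u v, QuadraticMap.polar Q u v = sympForm d F u v)
    (U : Submodule F (Fin d ⊕ Fin d → F)) (hU : ∀ u ∈ U, Q u = 0)
    (hdim : Module.finrank F U = d) (s : ℤ)
    (hu : Unif s (fun c => Nat.card {v : Fin d ⊕ Fin d → F // Q v = c})) :
    s = (Fintype.card F : ℤ) ^ d := by
  classical
  have hq1 : (1 : ℤ) < (Fintype.card F : ℤ) := q_gt_one
  have hpos : (0 : ℤ) < (Fintype.card F : ℤ) ^ d := qd_pos
  have hpp := mul_pos hpos (by linarith : (0 : ℤ) < (Fintype.card F : ℤ) - 1)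
  have h1 := ts_half_count Q (nondegenerate_of_forall Q (nd_of_polar Q hB)) U hU
    (by rw [hdim, Fintype.card_sum, Fintype.card_fin]; ring)
  have hcU : Nat.card U = Fintype.card F ^ d := by
    rw [Module.natCard_eq_pow_finrank (K := F), hdim, Nat.card_eq_fintype_card]
  rw [hcU, Fintype.card_sum, Fintype.card_fin] at h1
  have h1' : (Fintype.card F : ℤ) * (Nat.card {v : Fin d ⊕ Fin d → F // Q v = 0} : ℤ)
      + (Fintype.card F : ℤ) ^ d
      = (Fintype.card F : ℤ) * (Fintype.card F : ℤ) ^ d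
        + (Fintype.card F : ℤ) ^ d * (Fintype.card F : ℤ) ^ d := by
    rw [← pow_add]
    exact_mod_cast h1
  rcases unif_cases Q hB with h | h
  · exact Unif.unique hu h
  · exfalso
    have h0 := h 0
    rw [if_pos rfl] at h0
    have : 2 * ((Fintype.card F : ℤ) ^ d * ((Fintype.card F : ℤ) - 1)) = 0 := by
      linear_combination h0 - h1'
    linarith

theorem card_fiber_congr {ι : Type} [Fintype ι] [DecidableEq ι] (Q₁ Q₂ : (ι → F) → F)
    (g : GL ι F) (h : ∀ v, Q₁ ((g : Matrix ι ι F) *ᵥ v) = Q₂ v) (c : F) :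
    Nat.card {v : ι → F // Q₂ v = c} = Nat.card {v : ι → F // Q₁ v = c} := by
  apply Nat.card_congr
  exact
    { toFun := fun v => ⟨(g : Matrix ι ι F) *ᵥ v.1, by rw [h]; exact v.2⟩
      invFun := fun w => ⟨((g⁻¹ : GL ι F) : Matrix ι ι F) *ᵥ w.1, by
        rw [← h, gl_mulVec_inv_mulVec]; exact w.2⟩
      left_inv := fun v => Subtype.ext (gl_inv_mulVec_mulVec g v.1)
      right_inv := fun w => Subtype.ext (gl_mulVec_inv_mulVec g w.1) }

theorem exists_riesz (ℓ : (Fin d ⊕ Fin d → F) →ₗ[F] F) :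
    ∃ a : Fin d ⊕ Fin d → F, ∀ v, ℓ v = sympForm d F a v := by
  have hnd := sympBilin_nondegenerate (F := F) d
  refine ⟨(LinearMap.BilinForm.toDual (sympBilin d) hnd).symm ℓ, fun v => ?_⟩
  rw [← sympBilin_apply, LinearMap.BilinForm.apply_toDual_symm_apply]

/-- two quadratic forms with the same polar form differ by the square of a linear form -/
theorem exists_lin_of_polar_eq (h2 : (2 : F) = 0) {V : Type*} [AddCommGroup V] [Module F V]
    (Q₁ Q₂ : QuadraticForm F V)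
    (h : ∀ u v, QuadraticMap.polar Q₂ u v = QuadraticMap.polar Q₁ u v) :
    ∃ ℓ : V →ₗ[F] F, ∀ v, Q₂ v = Q₁ v + ℓ v * ℓ v := by
  choose sq hsq using (exists_sqrt h2 : ∀ c : F, ∃ t : F, t * t = c)
  have hδadd : ∀ u v, Q₂ (u + v) - Q₁ (u + v) = (Q₂ u - Q₁ u) + (Q₂ v - Q₁ v) := by
    intro u v
    have h1 := h u v
    simp only [QuadraticMap.polar] at h1
    linear_combination h1
  refine ⟨{ toFun := fun v => sq (Q₂ v - Q₁ v), map_add' := ?_, map_smul' := ?_ }, ?_⟩
  · intro u v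
    apply sq_inj h2
    rw [hsq]
    linear_combination hδadd u v - hsq (Q₂ u - Q₁ u) - hsq (Q₂ v - Q₁ v)
      - (sq (Q₂ u - Q₁ u) * sq (Q₂ v - Q₁ v)) * h2
  · intro c v
    simp only [RingHom.id_apply, smul_eq_mul]
    apply sq_inj h2
    rw [hsq, QuadraticMap.map_smul, QuadraticMap.map_smul, smul_eq_mul, smul_eq_mul]
    linear_combination -(c * c) * hsq (Q₂ v - Q₁ v)
  · intro v
    show Q₂ v = Q₁ v + sq (Q₂ v - Q₁ v) * sq (Q₂ v - Q₁ v)
    rw [hsq]
    ring

/-- `Q + B(a, ·)²` is a symplectic transform of `Q` when `Q a` is of the form `t² + t` -/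
theorem exists_sp_addSq (h2 : (2 : F) = 0) (Q : QuadraticForm F (Fin d ⊕ Fin d → F))
    (hB : ∀ u v, QuadraticMap.polar Q u v = sympForm d F u v) (a : Fin d ⊕ Fin d → F) (t : F)
    (ht : t * t + t = Q a) :
    ∃ g : GL (Fin d ⊕ Fin d) F, g ∈ spGL d F ∧
      ∀ v, Q ((g : Matrix (Fin d ⊕ Fin d) (Fin d ⊕ Fin d) F) *ᵥ v)
        = Q v + sympForm d F a v * sympForm d F a v := by
  obtain ⟨t, ht, ht0⟩ : ∃ t : F, t * t + t = Q a ∧ t ≠ 0 := by
    by_cases h0 : t = 0
    · refine ⟨1, ?_, one_ne_zero⟩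
      rw [← ht, h0]
      linear_combination h2
    · exact ⟨t, ht, h0⟩
  refine ⟨spT d a t⁻¹, spT_mem d a t⁻¹, fun v => ?_⟩
  have hadd : ∀ x y, Q (x + y) = Q x + Q y + sympForm d F x y := by
    intro x y
    rw [← hB, QuadraticMap.polar]
    ring
  have hs : t⁻¹ * t = 1 := inv_mul_cancel₀ ht0
  have hswap : sympForm d F a v = - sympForm d F v a := sympForm_swap d v a
  rw [spT_mulVec, hadd, QuadraticMap.map_smul, smul_eq_mul, sympForm_smul_right, ← ht, hswap]
  linear_combination (sympForm d F v a * sympForm d F v a * (t⁻¹ * t + 1)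
    + t⁻¹ * sympForm d F v a * sympForm d F v a) * hs
    + (t⁻¹ * sympForm d F v a * sympForm d F v a) * h2

/-- conversely, a symplectic transform of `Q` of the form `Q + B(a, ·)²` has `Q a = t² + t` -/
theorem wp_of_isom (h2 : (2 : F) = 0) (Q : QuadraticForm F (Fin d ⊕ Fin d → F))
    (hB : ∀ u v, QuadraticMap.polar Q u v = sympForm d F u v) (a : Fin d ⊕ Fin d → F)
    (g : GL (Fin d ⊕ Fin d) F)
    (hg : ∀ v, Q ((g : Matrix (Fin d ⊕ Fin d) (Fin d ⊕ Fin d) F) *ᵥ v)
        = Q v + sympForm d F a v * sympForm d F a v) :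
    ∃ t : F, t * t + t = Q a := by
  by_contra hcon
  push Not at hcon
  obtain ⟨s, hu, hs⟩ := exists_unif Q hB
  have hpos : (0 : ℤ) < (Fintype.card F : ℤ) ^ d := qd_pos
  have hfl := flip_unif h2 Q hB a hcon s hu
  have hsame : (fun c' => Nat.card
      {v : Fin d ⊕ Fin d → F // addSq Q (QuadraticMap.polarBilin Q a) v = c'})
      = (fun c' => Nat.card {v : Fin d ⊕ Fin d → F // Q v = c'}) := by
    funext c'
    exact card_fiber_congr (⇑Q) (⇑(addSq Q (QuadraticMap.polarBilin Q a))) g (fun v => by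
      rw [hg, addSq_apply, QuadraticMap.polarBilin_apply_apply, hB]) c'
  rw [hsame] at hfl
  have e := Unif.unique hu hfl
  rcases hs with h | h <;> linarith

end basic

end Cfsg.Agent.Lib.helper7.SpOrth
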