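import Mathlib
import Cfsg.Agent.Lib.helper7.SpOrthB

/-! The index of the orthogonal group `O(Q)` in `Sp_{2d}(q)`, `q` even, and fixed-point-free
elements of odd prime order of the symplectic group. -/

set_option autoImplicit false
set_option linter.unusedSectionVars false
set_option linter.style.haveILetI false

namespace Cfsg.Agent.Lib.helper7.SpOrth

open Cfsg Matrix Cfsg.Agent.Lib.helper45 Cfsg.Agent.Lib.helper17 Cfsg.Agent.Lib.helper95
  Cfsg.Agent.Lib.helper7.NonsingPt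

universe u

section index

variable {F : Type u} [Field F] [Fintype F] {d : ℕ}

theorem exists_pair (hd : 0 < d) : ∃ u w : Fin d ⊕ Fin d → F, sympForm d F u w ≠ 0 := by
  have hu0 : (Pi.single (Sum.inl ⟨0, hd⟩) 1 : Fin d ⊕ Fin d → F) ≠ 0 := by
    intro h
    have h1 := congrFun h (Sum.inl ⟨0, hd⟩)
    simp at h1
  obtain ⟨w, hw⟩ := exists_sympForm_ne_zero d _ hu0
  exact ⟨_, w, hw⟩

/-- in characteristic two the symplectic similarities of `Q` are its isometries -/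
theorem isom_iff (hd : 0 < d) (Q : QuadraticForm F (Fin d ⊕ Fin d → F))
    (hB : ∀ u v, QuadraticMap.polar Q u v = sympForm d F u v) (g : GL (Fin d ⊕ Fin d) F) :
    (g ∈ Cfsg.Geo.quadSimilarityGroup (⇑Q) ∧ g ∈ spGL d F) ↔
      ∀ v, Q ((g : Matrix (Fin d ⊕ Fin d) (Fin d ⊕ Fin d) F) *ᵥ v) = Q v := by
  constructor
  · rintro ⟨⟨c, hc⟩, hg⟩
    obtain ⟨u, w, hw⟩ := exists_pair (F := F) hd
    have h1 := (mem_spGL_iff d g).mp hg u w
    rw [← hB, ← hB, QuadraticMap.polar, QuadraticMap.polar, ← Matrix.mulVec_add, hc, hc, hc] at h1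
    have h3 : ((c : F) - 1) * sympForm d F u w = 0 := by
      rw [← hB, QuadraticMap.polar]
      linear_combination h1
    have hc1 : (c : F) = 1 := by
      rcases mul_eq_zero.mp h3 with h | h
      · exact sub_eq_zero.mp h
      · exact absurd h hw
    intro v
    rw [hc, hc1, one_mul]
  · intro h
    exact ⟨⟨1, fun v => by rw [h, Units.val_one, one_mul]⟩,
      fun u v => sp_of_isom Q Q hB hB _ h u v⟩

theorem sp_scalar_eq_one (h2 : (2 : F) = 0) (hd : 0 < d)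
    (A : Matrix (Fin d ⊕ Fin d) (Fin d ⊕ Fin d) F)
    (hA : ∀ u v, sympForm d F (A *ᵥ u) (A *ᵥ v) = sympForm d F u v) (z : F)
    (hz : A = z • (1 : Matrix (Fin d ⊕ Fin d) (Fin d ⊕ Fin d) F)) : z = 1 := by
  obtain ⟨u, w, hw⟩ := exists_pair (F := F) hd
  have h1 := hA u w
  rw [hz, Matrix.smul_mulVec, Matrix.smul_mulVec, Matrix.one_mulVec, Matrix.one_mulVec,
    sympForm_smul_left, sympForm_smul_right] at h1
  have h3 : (z * z - 1) * sympForm d F u w = 0 := by linear_combination h1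
  have h5 : z * z - 1 = 0 := by
    rcases mul_eq_zero.mp h3 with h | h
    · exact h
    · exact absurd h hw
  have h6 : (z - 1) * (z - 1) = 0 := by linear_combination h5 + (1 - z) * h2
  rcases mul_eq_zero.mp h6 with h | h <;> linear_combination h

theorem exists_lin_of_sp (h2 : (2 : F) = 0) (Q : QuadraticForm F (Fin d ⊕ Fin d → F))
    (hB : ∀ u v, QuadraticMap.polar Q u v = sympForm d F u v)
    (A : Matrix (Fin d ⊕ Fin d) (Fin d ⊕ Fin d) F)
    (hA : ∀ u v, sympForm d F (A *ᵥ u) (A *ᵥ v) = sympForm d F u v) :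
    ∃ ℓ : (Fin d ⊕ Fin d → F) →ₗ[F] F, ∀ v, Q (A *ᵥ v) = Q v + ℓ v * ℓ v := by
  obtain ⟨ℓ, hℓ⟩ := exists_lin_of_polar_eq h2 Q (Q.comp (Matrix.toLin' A)) (by
    intro u v
    have h1 := hA u v
    rw [← hB, ← hB, QuadraticMap.polar, QuadraticMap.polar] at h1
    simp only [QuadraticMap.polar, QuadraticMap.comp_apply, Matrix.toLin'_apply,
      Matrix.mulVec_add]
    exact h1)
  refine ⟨ℓ, fun v => ?_⟩
  have h1 := hℓ v
  rw [QuadraticMap.comp_apply, Matrix.toLin'_apply] at h1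
  exact h1

theorem exists_vec_of_sp (h2 : (2 : F) = 0) (Q : QuadraticForm F (Fin d ⊕ Fin d → F))
    (hB : ∀ u v, QuadraticMap.polar Q u v = sympForm d F u v)
    (A : Matrix (Fin d ⊕ Fin d) (Fin d ⊕ Fin d) F)
    (hA : ∀ u v, sympForm d F (A *ᵥ u) (A *ᵥ v) = sympForm d F u v) :
    ∃ a : Fin d ⊕ Fin d → F,
      ∀ v, Q (A *ᵥ v) = Q v + sympForm d F a v * sympForm d F a v := by
  obtain ⟨ℓ, hℓ⟩ := exists_lin_of_sp h2 Q hB A hA
  obtain ⟨a, ha⟩ := exists_riesz ℓ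
  exact ⟨a, fun v => by rw [hℓ, ha]⟩

theorem vec_unique (h2 : (2 : F) = 0) (a a' : Fin d ⊕ Fin d → F)
    (h : ∀ v, sympForm d F a v * sympForm d F a v = sympForm d F a' v * sympForm d F a' v) :
    a = a' := by
  by_contra hne
  obtain ⟨w, hw⟩ := exists_sympForm_ne_zero d (a - a') (sub_ne_zero.mpr hne)
  apply hw
  rw [sympForm_sub_left, sq_inj h2 (h w), sub_self]

/-- the index of `O(Q)` in `Sp_{2d}(q)` is the number of vectors `a` with `Q a` of the form
`t² + t` -/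
theorem relIndex_eq (h2 : (2 : F) = 0) (hd : 0 < d) (Q : QuadraticForm F (Fin d ⊕ Fin d → F))
    (hB : ∀ u v, QuadraticMap.polar Q u v = sympForm d F u v) :
    (Cfsg.Geo.quadSimilarityGroup (⇑Q)).relIndex (spGL d F)
      = Nat.card {a : Fin d ⊕ Fin d → F // ∃ t : F, t * t + t = Q a} := by
  classical
  obtain ⟨H', hH'⟩ : ∃ H' : Subgroup ↥(spGL d F),
      H' = (Cfsg.Geo.quadSimilarityGroup (⇑Q)).subgroupOf (spGL d F) := ⟨_, rfl⟩
  have hmem : ∀ g : ↥(spGL d F), g ∈ H' ↔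
      ∀ v, Q (((g : GL (Fin d ⊕ Fin d) F) : Matrix (Fin d ⊕ Fin d) (Fin d ⊕ Fin d) F) *ᵥ v)
        = Q v := by
    intro g
    rw [hH', Subgroup.mem_subgroupOf]
    constructor
    · intro h
      exact (isom_iff hd Q hB g.1).mp ⟨h, g.2⟩
    · intro h
      exact ((isom_iff hd Q hB g.1).mpr h).1
  have hex : ∀ g : ↥(spGL d F), ∃ a : Fin d ⊕ Fin d → F,
      ∀ v, Q (((g : GL (Fin d ⊕ Fin d) F) : Matrix (Fin d ⊕ Fin d) (Fin d ⊕ Fin d) F) *ᵥ v)
        = Q v + sympForm d F a v * sympForm d F a v :=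
    fun g => exists_vec_of_sp h2 Q hB _ ((mem_spGL_iff d g.1).mp g.2)
  choose α hα using hex
  have hαA : ∀ g, ∃ t : F, t * t + t = Q (α g) :=
    fun g => wp_of_isom h2 Q hB (α g) g.1 (hα g)
  have hσex : ∀ a : {a : Fin d ⊕ Fin d → F // ∃ t : F, t * t + t = Q a}, ∃ g : ↥(spGL d F),
      ∀ v, Q (((g : GL (Fin d ⊕ Fin d) F) : Matrix (Fin d ⊕ Fin d) (Fin d ⊕ Fin d) F) *ᵥ v)
        = Q v + sympForm d F a.1 v * sympForm d F a.1 v := by
    intro a
    obtain ⟨t, ht⟩ := a.2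
    obtain ⟨g, hg, h⟩ := exists_sp_addSq h2 Q hB a.1 t ht
    exact ⟨⟨g, hg⟩, h⟩
  choose σ hσ using hσex
  have huniq : ∀ (g : ↥(spGL d F)) (a : Fin d ⊕ Fin d → F),
      (∀ v, Q (((g : GL (Fin d ⊕ Fin d) F) : Matrix (Fin d ⊕ Fin d) (Fin d ⊕ Fin d) F) *ᵥ v)
        = Q v + sympForm d F a v * sympForm d F a v) → α g = a := by
    intro g a ha
    apply vec_unique h2
    intro v
    have h1 := hα g v
    rw [ha v] at h1
    exact (add_left_cancel h1).symm
  let φ : {a : Fin d ⊕ Fin d → F // ∃ t : F, t * t + t = Q a} × ↥H' → ↥(spGL d F) :=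
    fun p => (p.2 : ↥(spGL d F)) * σ p.1
  have hφα : ∀ p, α (φ p) = p.1.1 := by
    intro p
    apply huniq
    intro v
    show Q (((((p.2 : ↥(spGL d F)) * σ p.1 : ↥(spGL d F)) : GL (Fin d ⊕ Fin d) F) :
      Matrix (Fin d ⊕ Fin d) (Fin d ⊕ Fin d) F) *ᵥ v) = _
    rw [Subgroup.coe_mul, Units.val_mul, ← Matrix.mulVec_mulVec, (hmem p.2.1).mp p.2.2, hσ]
  have hbij : Function.Bijective φ := by
    constructor
    · intro p p' hpp
      have h1 : p.1 = p'.1 := Subtype.ext (by rw [← hφα p, ← hφα p', hpp])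
      have h3 : (p.2 : ↥(spGL d F)) * σ p.1 = (p'.2 : ↥(spGL d F)) * σ p'.1 := hpp
      rw [h1] at h3
      exact Prod.ext h1 (Subtype.ext (mul_right_cancel h3))
    · intro g
      refine ⟨(⟨α g, hαA g⟩, ⟨g * (σ ⟨α g, hαA g⟩)⁻¹, (hmem _).mpr ?_⟩), ?_⟩
      · intro w
        rw [Subgroup.coe_mul, Subgroup.coe_inv, Units.val_mul, ← Matrix.mulVec_mulVec, hα g]
        have h3 := hσ ⟨α g, hαA g⟩ ((((σ ⟨α g, hαA g⟩ : ↥(spGL d F)) :
          GL (Fin d ⊕ Fin d) F)⁻¹ : GL (Fin d ⊕ Fin d) F) *ᵥ w)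
        rw [gl_mulVec_inv_mulVec] at h3
        exact h3.symm
      · show g * (σ ⟨α g, hαA g⟩)⁻¹ * σ ⟨α g, hαA g⟩ = g
        rw [inv_mul_cancel_right]
  have hcard : Nat.card ↥(spGL d F)
      = Nat.card {a : Fin d ⊕ Fin d → F // ∃ t : F, t * t + t = Q a} * Nat.card ↥H' := by
    rw [← Nat.card_prod]
    exact (Nat.card_congr (Equiv.ofBijective φ hbij)).symm
  have h5 := Subgroup.card_mul_index H'
  rw [hcard] at h5
  have hpos : 0 < Nat.card ↥H' := Nat.card_pos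
  show ((Cfsg.Geo.quadSimilarityGroup (⇑Q)).subgroupOf (spGL d F)).index = _
  rw [← hH']
  apply Nat.eq_of_mul_eq_mul_left hpos
  rw [h5, mul_comm]

/-- the number of vectors `a` with `Q a` of the form `t² + t` -/
theorem card_wpset (h2 : (2 : F) = 0) (Q : QuadraticForm F (Fin d ⊕ Fin d → F)) (s : ℤ)
    (hu : Unif s (fun c => Nat.card {v : Fin d ⊕ Fin d → F // Q v = c})) :
    2 * (Nat.card {a : Fin d ⊕ Fin d → F // ∃ t : F, t * t + t = Q a} : ℤ) = s ^ 2 + s := by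
  classical
  have hP1 : Nat.card {p : (Fin d ⊕ Fin d → F) × F // Q p.1 = p.2 * p.2 + p.2}
      = 2 * Nat.card {a : Fin d ⊕ Fin d → F // ∃ t : F, t * t + t = Q a} := by
    have e : {p : (Fin d ⊕ Fin d → F) × F // Q p.1 = p.2 * p.2 + p.2}
        ≃ Σ a : {a : Fin d ⊕ Fin d → F // ∃ t : F, t * t + t = Q a},
          {t : F // t * t + t = Q a.1} :=
      { toFun := fun p => ⟨⟨p.1.1, p.1.2, p.2.symm⟩, ⟨p.1.2, p.2.symm⟩⟩
        invFun := fun s => ⟨(s.1.1, s.2.1), s.2.2.symm⟩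
        left_inv := fun _ => rfl
        right_inv := fun _ => rfl }
    haveI : Fintype {a : Fin d ⊕ Fin d → F // ∃ t : F, t * t + t = Q a} := Fintype.ofFinite _
    rw [Nat.card_congr e, Nat.card_sigma]
    have h1 : ∀ a : {a : Fin d ⊕ Fin d → F // ∃ t : F, t * t + t = Q a},
        Nat.card {t : F // t * t + t = Q a.1} = 2 := by
      intro a
      obtain ⟨t₀, ht₀⟩ := a.2
      rw [← ht₀]
      exact wp_card_two h2 t₀
    rw [Finset.sum_congr rfl (fun a _ => h1 a), Finset.sum_const, Finset.card_univ, smul_eq_mul,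
      Nat.card_eq_fintype_card, mul_comm]
  have hP2 : Nat.card {p : (Fin d ⊕ Fin d → F) × F // Q p.1 = p.2 * p.2 + p.2}
      = ∑ t : F, Nat.card {v : Fin d ⊕ Fin d → F // Q v = t * t + t} :=
    card_pairs' (fun (v : Fin d ⊕ Fin d → F) (t : F) => Q v = t * t + t)
  have h01 : Nat.card {t : F // t * t + t = 0} = 2 := by
    have h := wp_card_two h2 (0 : F)
    simpa using h
  have hsum : ∑ t : F, (if t * t + t = 0 then (Fintype.card F : ℤ) else 0)
      = 2 * (Fintype.card F : ℤ) := by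
    rw [← Finset.sum_filter, Finset.sum_const, ← Fintype.card_subtype, ← Nat.card_eq_fintype_card,
      h01]
    simp
  have hq0 : (Fintype.card F : ℤ) ≠ 0 := by exact_mod_cast Fintype.card_ne_zero
  have hu' : ∀ t : F, (Fintype.card F : ℤ)
      * (Nat.card {v : Fin d ⊕ Fin d → F // Q v = t * t + t} : ℤ)
      = s ^ 2 + s * ((if t * t + t = 0 then (Fintype.card F : ℤ) else 0) - 1) :=
    fun t => hu (t * t + t)
  have h5 : (Fintype.card F : ℤ)
      * (2 * (Nat.card {a : Fin d ⊕ Fin d → F // ∃ t : F, t * t + t = Q a} : ℤ))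
      = ∑ t : F, (Fintype.card F : ℤ)
        * (Nat.card {v : Fin d ⊕ Fin d → F // Q v = t * t + t} : ℤ) := by
    rw [← Finset.mul_sum]
    congr 1
    have h6 := hP1.symm.trans hP2
    exact_mod_cast h6
  apply mul_left_cancel₀ hq0
  rw [h5, Finset.sum_congr rfl (fun t _ => hu' t), Finset.sum_add_distrib, ← Finset.mul_sum,
    Finset.sum_sub_distrib, hsum]
  simp only [Finset.sum_const, Finset.card_univ, smul_eq_mul, nsmul_eq_mul]
  ring

end index

end Cfsg.Agent.Lib.helper7.SpOrth
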