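import Mathlib
import Cfsg.Agent.Lib.helper7.SpOrthC

/-! Elements of prime order of `Sp_{2d}(q)`, `q` even, and their conjugates in the orthogonal
groups `O(Q)`. -/

set_option autoImplicit false
set_option linter.unusedSectionVars false
set_option linter.style.haveILetI false

namespace Cfsg.Agent.Lib.helper7.SpOrth

open Cfsg Matrix Cfsg.Agent.Lib.helper42 Cfsg.Agent.Lib.helper45 Cfsg.Agent.Lib.helper17
  Cfsg.Agent.Lib.helper95 Cfsg.Agent.Lib.helper49 Cfsg.Agent.Lib.helper7.NonsingPt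

universe u

section elements

variable {F : Type u} [Field F] [Fintype F] {d : ℕ}

theorem gramPlus_eq_J (h2 : (2 : F) = 0) : gramPlus d F = Matrix.J (Fin d) F := by
  have h1 : (-1 : Matrix (Fin d) (Fin d) F) = 1 := by
    rw [neg_eq_iff_add_eq_zero, ← two_smul F (1 : Matrix (Fin d) (Fin d) F), h2, zero_smul]
  unfold gramPlus Matrix.J
  rw [h1]

theorem polar_plus_eq (h2 : (2 : F) = 0) (u v : Fin d ⊕ Fin d → F) :
    QuadraticMap.polar (plusForm d F) u v = sympForm d F u v := by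
  rw [Cfsg.Agent.Lib.helper45.polar_plusForm, gramPlus_eq_J h2]
  rfl

/-- a fixed-point-free block-diagonal element of the symplectic group -/
theorem exists_fpf_blk (h2 : (2 : F) = 0) (A : Matrix (Fin d) (Fin d) F) (r : ℕ)
    (hr : 0 < r) (hA : A ^ r = 1) (hA1 : IsUnit (A - 1)) :
    ∃ x : GL (Fin d ⊕ Fin d) F, x ∈ spGL d F ∧ x ^ r = 1 ∧
      (∀ v, (x : Matrix (Fin d ⊕ Fin d) (Fin d ⊕ Fin d) F) *ᵥ v = v → v = 0) := by
  classical
  obtain ⟨k, rfl⟩ : ∃ k, r = k + 1 := ⟨r - 1, by omega⟩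
  have hAA : A * A ^ k = 1 := by rw [← pow_succ', hA]
  have hAA' : A ^ k * A = 1 := by rw [← pow_succ, hA]
  have hT1 : Aᵀ * (A ^ k)ᵀ = 1 := by rw [← Matrix.transpose_mul, hAA', Matrix.transpose_one]
  have hT2 : (A ^ k)ᵀ * Aᵀ = 1 := by rw [← Matrix.transpose_mul, hAA, Matrix.transpose_one]
  let M : Matrix (Fin d ⊕ Fin d) (Fin d ⊕ Fin d) F := fromBlocks A 0 0 (A ^ k)ᵀ
  let M' : Matrix (Fin d ⊕ Fin d) (Fin d ⊕ Fin d) F := fromBlocks (A ^ k) 0 0 Aᵀ
  have hMM' : M * M' = 1 := by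
    change fromBlocks A 0 0 (A ^ k)ᵀ * fromBlocks (A ^ k) 0 0 Aᵀ = 1
    rw [Matrix.fromBlocks_multiply, hAA, hT2]
    simp [Matrix.fromBlocks_one]
  have hM'M : M' * M = 1 := by
    change fromBlocks (A ^ k) 0 0 Aᵀ * fromBlocks A 0 0 (A ^ k)ᵀ = 1
    rw [Matrix.fromBlocks_multiply, hAA', hT1]
    simp [Matrix.fromBlocks_one]
  let x : GL (Fin d ⊕ Fin d) F := ⟨M, M', hMM', hM'M⟩
  have hxM : (x : Matrix (Fin d ⊕ Fin d) (Fin d ⊕ Fin d) F) = M := rfl
  have hMv : ∀ v : Fin d ⊕ Fin d → F,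
      M *ᵥ v = Sum.elim (A *ᵥ (v ∘ Sum.inl)) ((A ^ k)ᵀ *ᵥ (v ∘ Sum.inr)) := by
    intro v
    change fromBlocks A 0 0 (A ^ k)ᵀ *ᵥ v = _
    rw [Matrix.fromBlocks_mulVec]
    simp
  have hiso : ∀ v, Cfsg.quadFormPlus d F (M *ᵥ v) = Cfsg.quadFormPlus d F v := by
    intro v
    rw [quadFormPlus_eq, quadFormPlus_eq, hMv]
    have e1 : (Sum.elim (A *ᵥ (v ∘ Sum.inl)) ((A ^ k)ᵀ *ᵥ (v ∘ Sum.inr))) ∘ Sum.inl
        = A *ᵥ (v ∘ Sum.inl) := rfl
    have e2 : (Sum.elim (A *ᵥ (v ∘ Sum.inl)) ((A ^ k)ᵀ *ᵥ (v ∘ Sum.inr))) ∘ Sum.inr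
        = (A ^ k)ᵀ *ᵥ (v ∘ Sum.inr) := rfl
    rw [e1, e2, ← Matrix.vecMul_transpose, ← Matrix.dotProduct_mulVec, Matrix.mulVec_mulVec, hT1,
      Matrix.one_mulVec]
  have hfix : ∀ v, M *ᵥ v = v → v = 0 := by
    intro v hv
    rw [hMv] at hv
    have ha : A *ᵥ (v ∘ Sum.inl) = v ∘ Sum.inl := by
      funext i
      exact congrFun hv (Sum.inl i)
    have hb : (A ^ k)ᵀ *ᵥ (v ∘ Sum.inr) = v ∘ Sum.inr := by
      funext i
      exact congrFun hv (Sum.inr i)
    obtain ⟨C, hC⟩ := hA1.exists_left_inv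
    have ha0 : v ∘ Sum.inl = 0 := by
      have : (A - 1) *ᵥ (v ∘ Sum.inl) = 0 := by
        rw [Matrix.sub_mulVec, ha, Matrix.one_mulVec, sub_self]
      have h5 := congrArg (fun w => C *ᵥ w) this
      simp only [Matrix.mulVec_mulVec, hC, Matrix.one_mulVec, Matrix.mulVec_zero] at h5
      exact h5
    have hb0 : v ∘ Sum.inr = 0 := by
      have h6 : Aᵀ *ᵥ (v ∘ Sum.inr) = v ∘ Sum.inr := by
        have := congrArg (fun w => Aᵀ *ᵥ w) hb
        simp only [Matrix.mulVec_mulVec, hT1, Matrix.one_mulVec] at this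
        exact this.symm
      have : (A - 1)ᵀ *ᵥ (v ∘ Sum.inr) = 0 := by
        rw [Matrix.transpose_sub, Matrix.transpose_one, Matrix.sub_mulVec, h6, Matrix.one_mulVec,
          sub_self]
      have hC' : (A - 1)ᵀ * Cᵀ = 1 := by
        rw [← Matrix.transpose_mul, hC, Matrix.transpose_one]
      have hC'' : Cᵀ * (A - 1)ᵀ = 1 := by
        rw [mul_eq_one_comm]
        exact hC'
      have h5 := congrArg (fun w => Cᵀ *ᵥ w) this
      simp only [Matrix.mulVec_mulVec, hC'', Matrix.one_mulVec, Matrix.mulVec_zero] at h5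
      exact h5
    funext j
    rcases j with i | i
    · exact congrFun ha0 i
    · exact congrFun hb0 i
  refine ⟨x, ?_, ?_, hfix⟩
  · rw [mem_spGL_iff]
    intro u v
    exact sp_of_isom (plusForm d F) (plusForm d F) (polar_plus_eq h2) (polar_plus_eq h2) M hiso
      u v
  · apply Units.ext
    rw [Units.val_pow_eq_pow_val, Units.val_one, hxM]
    change (fromBlocks A 0 0 (A ^ k)ᵀ) ^ (k + 1) = 1
    rw [fb_pow, hA, ← Matrix.transpose_pow, ← pow_mul, mul_comm, pow_mul, hA, one_pow,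
      Matrix.transpose_one, Matrix.fromBlocks_one]

/-- an involution of `Sp_{2d}`, `d` even, with `B(x w, w) = 0` and `rank (x - 1) = d` -/
theorem exists_invol (h2 : (2 : F) = 0) (hd : 0 < d) (hde : Even d) :
    ∃ x : GL (Fin d ⊕ Fin d) F, x ∈ spGL d F ∧
      (x : Matrix (Fin d ⊕ Fin d) (Fin d ⊕ Fin d) F) * (x : Matrix (Fin d ⊕ Fin d) (Fin d ⊕ Fin d) F)
        = 1 ∧
      (∀ z : F, (x : Matrix (Fin d ⊕ Fin d) (Fin d ⊕ Fin d) F) ≠ z • 1) ∧
      ((x : Matrix (Fin d ⊕ Fin d) (Fin d ⊕ Fin d) F) - 1).rank = d ∧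
      (∀ w, sympForm d F ((x : Matrix (Fin d ⊕ Fin d) (Fin d ⊕ Fin d) F) *ᵥ w) w = 0) := by
  classical
  obtain ⟨e, he⟩ := hde
  let ε : Fin d ≃ Fin e ⊕ Fin e := (finCongr he).trans finSumFinEquiv.symm
  let σ : Fin d ≃ Fin d := ε.trans ((Equiv.sumComm _ _).trans ε.symm)
  let S : Matrix (Fin d) (Fin d) F := (1 : Matrix (Fin d) (Fin d) F).submatrix σ id
  have hS : ∀ w : Fin d → F, S *ᵥ w = w ∘ σ := by
    intro w
    funext i
    simp [S, Matrix.mulVec, dotProduct, Matrix.one_apply]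
  let M : Matrix (Fin d ⊕ Fin d) (Fin d ⊕ Fin d) F := fromBlocks 1 S 0 1
  have hMM : M * M = 1 := by
    change fromBlocks 1 S 0 1 * fromBlocks 1 S 0 1 = 1
    rw [Matrix.fromBlocks_multiply]
    have : S + S = 0 := by rw [← two_smul F S, h2, zero_smul]
    simp [this, Matrix.fromBlocks_one]
  let x : GL (Fin d ⊕ Fin d) F := ⟨M, M, hMM, hMM⟩
  have hxM : (x : Matrix (Fin d ⊕ Fin d) (Fin d ⊕ Fin d) F) = M := rfl
  have hMv : ∀ v : Fin d ⊕ Fin d → F,
      M *ᵥ v = Sum.elim (v ∘ Sum.inl + (v ∘ Sum.inr) ∘ σ) (v ∘ Sum.inr) := by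
    intro v
    change fromBlocks 1 S 0 1 *ᵥ v = _
    rw [Matrix.fromBlocks_mulVec, hS]
    simp
  have hsum : ∀ g : Fin d → F, ∑ i, g (σ i) * g i = 0 := by
    intro g
    rw [← Equiv.sum_comp ε.symm, Fintype.sum_sum_type]
    have e1 : ∀ j : Fin e, σ (ε.symm (Sum.inl j)) = ε.symm (Sum.inr j) := by
      intro j; simp [σ]
    have e2 : ∀ j : Fin e, σ (ε.symm (Sum.inr j)) = ε.symm (Sum.inl j) := by
      intro j; simp [σ]
    simp only [e1, e2]
    rw [← Finset.sum_add_distrib]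
    apply Finset.sum_eq_zero
    intro j _
    have : g (ε.symm (Sum.inr j)) * g (ε.symm (Sum.inl j))
        + g (ε.symm (Sum.inl j)) * g (ε.symm (Sum.inr j))
        = 2 * (g (ε.symm (Sum.inr j)) * g (ε.symm (Sum.inl j))) := by ring
    rw [this, h2, zero_mul]
  have hiso : ∀ v, Cfsg.quadFormPlus d F (M *ᵥ v) = Cfsg.quadFormPlus d F v := by
    intro v
    rw [quadFormPlus_eq, quadFormPlus_eq, hMv]
    have e1 : (Sum.elim (v ∘ Sum.inl + (v ∘ Sum.inr) ∘ σ) (v ∘ Sum.inr)) ∘ Sum.inl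
        = v ∘ Sum.inl + (v ∘ Sum.inr) ∘ σ := rfl
    have e2 : (Sum.elim (v ∘ Sum.inl + (v ∘ Sum.inr) ∘ σ) (v ∘ Sum.inr)) ∘ Sum.inr
        = v ∘ Sum.inr := rfl
    rw [e1, e2, add_dotProduct]
    have := hsum (v ∘ Sum.inr)
    simp only [dotProduct, Function.comp_apply] at this ⊢
    rw [this, add_zero]
  have hfix : ∀ v, M *ᵥ v = v → Cfsg.quadFormPlus d F v = 0 := by
    intro v hv
    rw [hMv] at hv
    have h1 : ∀ i, v (Sum.inr i) = 0 := by
      intro i
      have := congrFun hv (Sum.inl (σ.symm i))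
      simp only [Sum.elim_inl, Pi.add_apply, Function.comp_apply, Equiv.apply_symm_apply] at this
      linear_combination this
    rw [quadFormPlus_eq]
    simp only [dotProduct, Function.comp_apply, h1, mul_zero, Finset.sum_const_zero]
  refine ⟨x, ?_, hMM, ?_, ?_, ?_⟩
  · rw [mem_spGL_iff]
    intro u v
    exact sp_of_isom (plusForm d F) (plusForm d F) (polar_plus_eq h2) (polar_plus_eq h2) M hiso
      u v
  · intro z hz
    rw [hxM] at hz
    have i0 : Fin d := ⟨0, hd⟩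
    have h1 := congrFun (congrFun hz (Sum.inl i0)) (Sum.inr (σ i0))
    simp [M, S, Matrix.one_apply] at h1
  · have h1 := (invol_no_fixed h2 (plusForm d F) (plusForm_nondegenerate d) M hMM hfix).1
    rw [Fintype.card_sum, Fintype.card_fin] at h1
    rw [hxM]
    omega
  · intro w
    rw [hxM, ← polar_plus_eq h2, QuadraticMap.polar]
    have e1 : plusForm d F (M *ᵥ w + w) = 0 :=
      hfix _ (by rw [Matrix.mulVec_add, Matrix.mulVec_mulVec, hMM, Matrix.one_mulVec, add_comm])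
    have e2 : plusForm d F (M *ᵥ w) = plusForm d F w := hiso w
    rw [e1, e2]
    linear_combination (-(plusForm d F w)) * h2

/-- a fixed-point-free element of order `r` dividing `q^d + 1` in the symplectic group -/
theorem exists_fpf_minus {p : ℕ} [Fact p.Prime] [CharP F p] (h2 : (2 : F) = 0) (hd : 0 < d)
    (r : ℕ) [Fact r.Prime] (hr : r ∣ Fintype.card F ^ d + 1) :
    ∃ x : GL (Fin d ⊕ Fin d) F, x ∈ spGL d F ∧ x ^ r = 1 ∧
      (∀ v, (x : Matrix (Fin d ⊕ Fin d) (Fin d ⊕ Fin d) F) *ᵥ v = v → v = 0) := by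
  classical
  obtain ⟨Q₁, a, b, hnd, hiso, hab, har, hfix⟩ := exists_minus_model (p := p) h2 d hd r hr
  have halt : ∀ v, QuadraticMap.polarBilin Q₁ v v = 0 := by
    intro v
    rw [QuadraticMap.polarBilin_apply_apply, QuadraticMap.polar_self, two_nsmul]
    linear_combination (Q₁ v) * h2
  have hnd' : ∀ v, (∀ w, QuadraticMap.polarBilin Q₁ v w = 0) → v = 0 :=
    fun v hv => hnd v (fun w => by rw [← QuadraticMap.polarBilin_apply_apply]; exact hv w)
  have hiso' : ∀ v w, QuadraticMap.polarBilin Q₁ (a v) (a w) = QuadraticMap.polarBilin Q₁ v w := by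
    intro v w
    simp only [QuadraticMap.polarBilin_apply_apply, QuadraticMap.polar, ← map_add, hiso]
  obtain ⟨g, hgpow, hgchar⟩ := exists_sp_matrix_charpoly d (QuadraticMap.polarBilin Q₁) a b halt
    hnd' hiso' hab (by rw [Module.finrank_fintype_fun_eq_card, Fintype.card_fin])
  obtain ⟨x, hx⟩ := exists_spGL d g.2
  refine ⟨x.1, x.2, ?_, ?_⟩
  · apply Units.ext
    rw [Units.val_pow_eq_pow_val, hx, Units.val_one]
    have h1 := congrArg Subtype.val (hgpow r har)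
    simpa using h1
  · intro v hv
    by_contra hv0
    rw [hx] at hv
    have heig : Module.End.HasEigenvalue
        (Matrix.toLin' (g : Matrix (Fin d ⊕ Fin d) (Fin d ⊕ Fin d) F)) 1 :=
      Module.End.hasEigenvalue_of_hasEigenvector
        ⟨Module.End.mem_eigenspace_iff.mpr (by rw [Matrix.toLin'_apply, hv, one_smul]), hv0⟩
    have hroot := (Module.End.hasEigenvalue_iff_isRoot_charpoly _ 1).mp heig
    rw [Matrix.charpoly_toLin', hgchar] at hroot
    have heig2 := (Module.End.hasEigenvalue_iff_isRoot_charpoly a 1).mpr hroot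
    obtain ⟨w, hw⟩ := heig2.exists_hasEigenvector
    apply hw.2
    apply hfix
    have h5 := Module.End.mem_eigenspace_iff.mp hw.1
    rwa [one_smul] at h5

end elements

end Cfsg.Agent.Lib.helper7.SpOrth
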