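import Mathlib
import Cfsg.Agent.Lib.helper7.SpOrthD

/-! Elements of prime order of `Sp_{2d}(q)`, `q` even, fixing a point of `Sp_{2d}(q) / O(Q)`. -/

set_option autoImplicit false
set_option linter.unusedSectionVars false
set_option linter.style.haveILetI false

namespace Cfsg.Agent.Lib.helper7.SpOrth

open Cfsg Matrix Cfsg.Agent.Lib.helper42 Cfsg.Agent.Lib.helper45 Cfsg.Agent.Lib.helper17
  Cfsg.Agent.Lib.helper95 Cfsg.Agent.Lib.helper49 Cfsg.Agent.Lib.helper7.NonsingPt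

universe u

section main

variable {F : Type u} [Field F] [Fintype F] {d : ℕ}

/-- an odd prime dividing the index divides `s + 1` -/
theorem dvd_succ_of_index {p : ℕ} [Fact p.Prime] [CharP F p] (hp : p = 2) (h2 : (2 : F) = 0)
    (hd : 0 < d) (Q : QuadraticForm F (Fin d ⊕ Fin d → F))
    (hB : ∀ u v, QuadraticMap.polar Q u v = sympForm d F u v) (r : ℕ) [Fact r.Prime]
    (hr2 : r ≠ 2) (hΩ : r ∣ (Cfsg.Geo.quadSimilarityGroup (⇑Q)).relIndex (spGL d F)) (s : ℤ)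
    (hu : Unif s (fun c => Nat.card {v : Fin d ⊕ Fin d → F // Q v = c}))
    (hs : s = (Fintype.card F : ℤ) ^ d ∨ s = -(Fintype.card F : ℤ) ^ d) :
    ¬ (r : ℤ) ∣ s ∧ (r : ℤ) ∣ s + 1 := by
  have hc := card_wpset h2 Q s hu
  rw [relIndex_eq h2 hd Q hB] at hΩ
  have hdvd : (r : ℤ) ∣ s * (s + 1) := by
    have h1 : (r : ℤ) ∣ 2 * (Nat.card {a : Fin d ⊕ Fin d → F // ∃ t : F, t * t + t = Q a} : ℤ) :=
      Dvd.dvd.mul_left (Int.natCast_dvd_natCast.mpr hΩ) 2
    rw [hc] at h1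
    have e : s * (s + 1) = s ^ 2 + s := by ring
    rw [e]
    exact h1
  have hrp : r ≠ p := by rw [hp]; exact hr2
  have hns : ¬ (r : ℤ) ∣ s := by
    rcases hs with h | h
    · rw [h]
      have h3 := not_dvd_card_pow (F := F) p hrp d 1 (Or.inl rfl)
      rwa [one_mul] at h3
    · rw [h]
      have h3 := not_dvd_card_pow (F := F) p hrp d (-1) (Or.inr rfl)
      rwa [neg_one_mul] at h3
  have hprime : Prime (r : ℤ) := Nat.prime_iff_prime_int.mp Fact.out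
  exact ⟨hns, (hprime.dvd_or_dvd hdvd).resolve_left hns⟩

/-- no fixed-point-free isometry of `Q` of odd prime order dividing the index -/
theorem no_fpf_isom {p : ℕ} [Fact p.Prime] [CharP F p] (hp : p = 2) (h2 : (2 : F) = 0)
    (hd : 0 < d) (Q : QuadraticForm F (Fin d ⊕ Fin d → F))
    (hB : ∀ u v, QuadraticMap.polar Q u v = sympForm d F u v) (r : ℕ) [Fact r.Prime]
    (hr2 : r ≠ 2) (hΩ : r ∣ (Cfsg.Geo.quadSimilarityGroup (⇑Q)).relIndex (spGL d F))
    (y : GL (Fin d ⊕ Fin d) F)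
    (hy : ∀ v, Q ((y : Matrix (Fin d ⊕ Fin d) (Fin d ⊕ Fin d) F) *ᵥ v) = Q v) (hyr : y ^ r = 1)
    (hfix : ∀ v, (y : Matrix (Fin d ⊕ Fin d) (Fin d ⊕ Fin d) F) *ᵥ v = v → v = 0) : False := by
  obtain ⟨s, hu, hs⟩ := exists_unif Q hB
  obtain ⟨hns, h1⟩ := dvd_succ_of_index hp h2 hd Q hB r hr2 hΩ s hu hs
  have hq : QRealP r (Matrix.toLin' (y : Matrix (Fin d ⊕ Fin d) (Fin d ⊕ Fin d) F)).charpoly
      (fun c => Nat.card {v : Fin d ⊕ Fin d → F // Q v = c}) := by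
    refine ⟨Fin d ⊕ Fin d → F, inferInstance, inferInstance, inferInstance, Q,
      Matrix.toLin' (y : Matrix (Fin d ⊕ Fin d) (Fin d ⊕ Fin d) F),
      Matrix.toLin' ((y⁻¹ : GL (Fin d ⊕ Fin d) F) : Matrix (Fin d ⊕ Fin d) (Fin d ⊕ Fin d) F),
      nd_of_polar Q hB, ?_, ?_, ?_, rfl, fun c => rfl⟩
    · intro v
      rw [Matrix.toLin'_apply]
      exact hy v
    · rw [Module.End.mul_eq_comp, ← Matrix.toLin'_mul, Units.mul_inv, Matrix.toLin'_one]
      rfl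
    · rw [← toLin'_pow', ← Units.val_pow_eq_pow_val, hyr, Units.val_one, Matrix.toLin'_one]
      rfl
  have he : (Matrix.toLin' (y : Matrix (Fin d ⊕ Fin d) (Fin d ⊕ Fin d) F)).charpoly.eval 1
      ≠ 0 := by
    intro h0
    have hroot : (Matrix.toLin'
        (y : Matrix (Fin d ⊕ Fin d) (Fin d ⊕ Fin d) F)).charpoly.IsRoot 1 := h0
    have heig := (Module.End.hasEigenvalue_iff_isRoot_charpoly _ 1).mpr hroot
    obtain ⟨w, hw⟩ := heig.exists_hasEigenvector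
    apply hw.2
    apply hfix
    have h5 := Module.End.mem_eigenspace_iff.mp hw.1
    rwa [one_smul, Matrix.toLin'_apply] at h5
  have h3 := unif_fixfree hq hu he hns
  have h4 : (r : ℤ) ∣ 2 := by
    have h5 := dvd_sub h1 h3
    have e : s + 1 - (s - 1) = 2 := by ring
    rwa [e] at h5
  have h5 : r ∣ 2 := by exact_mod_cast h4
  exact hr2 ((Nat.prime_dvd_prime_iff_eq Fact.out Nat.prime_two).mp h5)

/-- for an odd prime `r` dividing the index some element of order `r` has no conjugate in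
`O(Q)` -/
theorem odd_not_all {p : ℕ} [Fact p.Prime] [CharP F p] (hp : p = 2) (h2 : (2 : F) = 0)
    (hd : 0 < d) (Q : QuadraticForm F (Fin d ⊕ Fin d → F))
    (hB : ∀ u v, QuadraticMap.polar Q u v = sympForm d F u v) (r : ℕ) [Fact r.Prime]
    (hr2 : r ≠ 2) (hΩ : r ∣ (Cfsg.Geo.quadSimilarityGroup (⇑Q)).relIndex (spGL d F)) :
    ∃ x : GL (Fin d ⊕ Fin d) F, x ∈ spGL d F ∧ x ^ r = 1 ∧
      (∀ z : F, (x : Matrix (Fin d ⊕ Fin d) (Fin d ⊕ Fin d) F) ≠ z • 1) ∧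
      ∀ g ∈ spGL d F, g⁻¹ * x * g ∉ Cfsg.Geo.quadSimilarityGroup (⇑Q) := by
  obtain ⟨s, hu, hs⟩ := exists_unif Q hB
  obtain ⟨hns, h1⟩ := dvd_succ_of_index hp h2 hd Q hB r hr2 hΩ s hu hs
  obtain ⟨x, hx, hxr, hxfix⟩ : ∃ x : GL (Fin d ⊕ Fin d) F, x ∈ spGL d F ∧ x ^ r = 1 ∧
      (∀ v, (x : Matrix (Fin d ⊕ Fin d) (Fin d ⊕ Fin d) F) *ᵥ v = v → v = 0) := by
    rcases hs with h | h
    · have h3 : r ∣ Fintype.card F ^ d + 1 := by
        rw [h] at h1
        exact_mod_cast h1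
      exact exists_fpf_minus (p := p) h2 hd r h3
    · have hge : 1 ≤ Fintype.card F ^ d := Nat.one_le_pow _ _ Fintype.card_pos
      have h3 : r ∣ Fintype.card F ^ d - 1 := by
        rw [h] at h1
        have h1' : (r : ℤ) ∣ ((Fintype.card F ^ d - 1 : ℕ) : ℤ) := by
          rw [Nat.cast_sub hge]
          push_cast
          have h5 := dvd_neg.mpr h1
          have e : -(-(Fintype.card F : ℤ) ^ d + 1) = (Fintype.card F : ℤ) ^ d - 1 := by ring
          rwa [e] at h5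
        exact_mod_cast h1'
      obtain ⟨A, hA, hA1⟩ := exists_fpf_matrix (p := p) d hd r h3
      exact exists_fpf_blk h2 A r (Fact.out : r.Prime).pos hA hA1
  refine ⟨x, hx, hxr, ?_, ?_⟩
  · intro z hz
    have hz1 := sp_scalar_eq_one h2 hd _ ((mem_spGL_iff d x).mp hx) z hz
    rw [hz1, one_smul] at hz
    obtain ⟨u, w, hw⟩ := exists_pair (F := F) hd
    have hu0 : u ≠ 0 := by
      rintro rfl
      exact hw (sympForm_zero_left d w)
    exact hu0 (hxfix u (by rw [hz, Matrix.one_mulVec]))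
  · intro g hg hmem
    have hy := (isom_iff hd Q hB (g⁻¹ * x * g)).mp
      ⟨hmem, mul_mem (mul_mem (inv_mem hg) hx) hg⟩
    apply no_fpf_isom hp h2 hd Q hB r hr2 hΩ (g⁻¹ * x * g) hy
    · have h5 := conj_pow (a := g⁻¹) (b := x) (i := r)
      rw [inv_inv] at h5
      rw [h5, hxr, mul_one, inv_mul_cancel]
    · intro v hv
      rw [Units.val_mul, Units.val_mul, ← Matrix.mulVec_mulVec, ← Matrix.mulVec_mulVec] at hv
      have h5 := congrArg (fun w => (g : Matrix (Fin d ⊕ Fin d) (Fin d ⊕ Fin d) F) *ᵥ w) hv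
      simp only [gl_mulVec_inv_mulVec] at h5
      have h6 := hxfix _ h5
      have h7 := gl_inv_mulVec_mulVec g v
      rw [h6, Matrix.mulVec_zero] at h7
      exact h7.symm

/-- for `d` even and `Q` of minus type some involution has no conjugate in `O(Q)` -/
theorem two_not_all (h2 : (2 : F) = 0) (hd : 0 < d) (hde : Even d)
    (Q : QuadraticForm F (Fin d ⊕ Fin d → F))
    (hB : ∀ u v, QuadraticMap.polar Q u v = sympForm d F u v)
    (hnp : ¬ Cfsg.Geo.IsPlusTypeOn (⇑Q) ⊤) :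
    ∃ x : GL (Fin d ⊕ Fin d) F, x ∈ spGL d F ∧ x ^ 2 = 1 ∧
      (∀ z : F, (x : Matrix (Fin d ⊕ Fin d) (Fin d ⊕ Fin d) F) ≠ z • 1) ∧
      ∀ g ∈ spGL d F, g⁻¹ * x * g ∉ Cfsg.Geo.quadSimilarityGroup (⇑Q) := by
  obtain ⟨x, hx, hxx, hns, hrank, halt⟩ := exists_invol (F := F) h2 hd hde
  refine ⟨x, hx, Units.ext (by rw [Units.val_pow_eq_pow_val, pow_two, hxx]; rfl), hns, ?_⟩
  intro g hg hmem
  apply hnp
  have hy := (isom_iff hd Q hB (g⁻¹ * x * g)).mp ⟨hmem, mul_mem (mul_mem (inv_mem hg) hx) hg⟩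
  have hadd : ∀ a b, Q (a + b) = Q a + Q b + sympForm d F a b := by
    intro a b
    rw [← hB, QuadraticMap.polar]
    ring
  have hyalt : ∀ v, sympForm d F
      (((g⁻¹ * x * g : GL (Fin d ⊕ Fin d) F) : Matrix (Fin d ⊕ Fin d) (Fin d ⊕ Fin d) F) *ᵥ v) v
      = 0 := by
    intro v
    rw [Units.val_mul, Units.val_mul, ← Matrix.mulVec_mulVec, ← Matrix.mulVec_mulVec,
      sympForm_inv_left d g hg]
    exact halt _
  have hmat : ((g⁻¹ * x * g : GL (Fin d ⊕ Fin d) F) : Matrix (Fin d ⊕ Fin d) (Fin d ⊕ Fin d) F) - 1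
      = ((g⁻¹ : GL (Fin d ⊕ Fin d) F) : Matrix (Fin d ⊕ Fin d) (Fin d ⊕ Fin d) F)
        * ((x : Matrix (Fin d ⊕ Fin d) (Fin d ⊕ Fin d) F) - 1)
        * (g : Matrix (Fin d ⊕ Fin d) (Fin d ⊕ Fin d) F) := by
    have e1 : ((g⁻¹ : GL (Fin d ⊕ Fin d) F) : Matrix (Fin d ⊕ Fin d) (Fin d ⊕ Fin d) F)
        * (g : Matrix (Fin d ⊕ Fin d) (Fin d ⊕ Fin d) F) = 1 := by
      rw [← Units.val_mul, inv_mul_cancel, Units.val_one]
    rw [Units.val_mul, Units.val_mul, Matrix.mul_sub, Matrix.sub_mul, Matrix.mul_one, e1]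
  refine ⟨LinearMap.range
    (((g⁻¹ * x * g : GL (Fin d ⊕ Fin d) F) : Matrix (Fin d ⊕ Fin d) (Fin d ⊕ Fin d) F)
      - 1).mulVecLin, le_top, ?_, ?_⟩
  · rintro w ⟨v, rfl⟩
    rw [Matrix.mulVecLin_apply, Matrix.sub_mulVec, Matrix.one_mulVec, sub_eq_add_neg, hadd,
      sympForm_neg_right, hyalt, hy]
    have e : Q (-v) = Q v := by
      have h5 := QuadraticMap.map_smul Q (-1 : F) v
      rw [neg_one_smul] at h5
      rw [h5]
      simp
    rw [e]
    linear_combination (Q v) * h2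
  · have h5 : Module.finrank F (LinearMap.range
        (((g⁻¹ * x * g : GL (Fin d ⊕ Fin d) F) : Matrix (Fin d ⊕ Fin d) (Fin d ⊕ Fin d) F)
          - 1).mulVecLin) = d := by
      rw [← Matrix.rank, hmat,
        Matrix.rank_mul_eq_left_of_isUnit_det _ _ (Matrix.isUnits_det_units g),
        Matrix.rank_mul_eq_right_of_isUnit_det _ _ (Matrix.isUnits_det_units g⁻¹), hrank]
    rw [h5, finrank_top, finrank_plus_std]

end main

end Cfsg.Agent.Lib.helper7.SpOrth
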