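import Mathlib
import Cfsg.Agent.Lib.helper7.SpOrthE

/-! Involutions of `Sp_{2d}(q)`, `q` even: every involution has a conjugate in `O(Q)` when `Q` is
of plus type or `d` is odd. -/

set_option autoImplicit false
set_option linter.unusedSectionVars false
set_option linter.style.haveILetI false

namespace Cfsg.Agent.Lib.helper7.SpOrth

open Cfsg Matrix Cfsg.Agent.Lib.helper42 Cfsg.Agent.Lib.helper45 Cfsg.Agent.Lib.helper17
  Cfsg.Agent.Lib.helper95 Cfsg.Agent.Lib.helper49 Cfsg.Agent.Lib.helper7.NonsingPt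

universe u

section invol

variable {F : Type u} [Field F] [Fintype F] {d : ℕ}

/-- every involution of `Sp_{2d}(q)` has a conjugate in `O(Q)` when `Q` is of plus type or `d`
is odd -/
theorem invol_conj (h2 : (2 : F) = 0) (hd : 0 < d) (Q : QuadraticForm F (Fin d ⊕ Fin d → F))
    (hB : ∀ u v, QuadraticMap.polar Q u v = sympForm d F u v)
    (hplus : Cfsg.Geo.IsPlusTypeOn (⇑Q) ⊤ ∨ Odd d)
    (x : GL (Fin d ⊕ Fin d) F) (hx : x ∈ spGL d F)
    (hxx : (x : Matrix (Fin d ⊕ Fin d) (Fin d ⊕ Fin d) F)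
      * (x : Matrix (Fin d ⊕ Fin d) (Fin d ⊕ Fin d) F) = 1) :
    ∃ g ∈ spGL d F, g⁻¹ * x * g ∈ Cfsg.Geo.quadSimilarityGroup (⇑Q) := by
  classical
  have hxs := (mem_spGL_iff d x).mp hx
  obtain ⟨ℓ, hℓ⟩ := exists_lin_of_sp h2 Q hB _ hxs
  have hk : ℓ ∈ (LinearMap.ker (Matrix.toLin'
      ((x : Matrix (Fin d ⊕ Fin d) (Fin d ⊕ Fin d) F) - 1))).dualAnnihilator := by
    rw [Submodule.mem_dualAnnihilator]
    intro c hc
    rw [LinearMap.mem_ker, Matrix.toLin'_apply, Matrix.sub_mulVec, Matrix.one_mulVec,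
      sub_eq_zero] at hc
    have h1 := hℓ c
    rw [hc] at h1
    have h0 : ℓ c * ℓ c = 0 := by linear_combination -h1
    exact mul_self_eq_zero.mp h0
  rw [← LinearMap.range_dualMap_eq_dualAnnihilator_ker] at hk
  obtain ⟨h, hh⟩ := hk
  have hh' : ∀ v, ℓ v = h ((x : Matrix (Fin d ⊕ Fin d) (Fin d ⊕ Fin d) F) *ᵥ v) - h v := by
    intro v
    rw [← hh, LinearMap.dualMap_apply, Matrix.toLin'_apply, Matrix.sub_mulVec, Matrix.one_mulVec,
      map_sub]
  obtain ⟨Q', hQ'⟩ : ∃ Q' : QuadraticForm F (Fin d ⊕ Fin d → F), Q' = addSq Q h := ⟨_, rfl⟩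
  have hB' : ∀ u v, QuadraticMap.polar Q' u v = sympForm d F u v := by
    intro u v
    rw [hQ', polar_addSq h2, hB]
  have hinv' : ∀ v, Q' ((x : Matrix (Fin d ⊕ Fin d) (Fin d ⊕ Fin d) F) *ᵥ v) = Q' v := by
    intro v
    rw [hQ', addSq_apply, addSq_apply, hℓ, hh']
    linear_combination (h ((x : Matrix (Fin d ⊕ Fin d) (Fin d ⊕ Fin d) F) *ᵥ v)
      * h ((x : Matrix (Fin d ⊕ Fin d) (Fin d ⊕ Fin d) F) *ᵥ v)
      - h ((x : Matrix (Fin d ⊕ Fin d) (Fin d ⊕ Fin d) F) *ᵥ v) * h v) * h2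
  obtain ⟨s, hu, hs⟩ := exists_unif Q hB
  obtain ⟨s', hu', hs'⟩ := exists_unif Q' hB'
  obtain ⟨Qs, hBs, hinvs, hus⟩ : ∃ Qs : QuadraticForm F (Fin d ⊕ Fin d → F),
      (∀ u v, QuadraticMap.polar Qs u v = sympForm d F u v) ∧
      (∀ v, Qs ((x : Matrix (Fin d ⊕ Fin d) (Fin d ⊕ Fin d) F) *ᵥ v) = Qs v) ∧
      Unif s (fun c => Nat.card {v : Fin d ⊕ Fin d → F // Qs v = c}) := by
    by_cases hss : s' = s
    · refine ⟨Q', hB', hinv', ?_⟩
      rw [← hss]
      exact hu'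
    have hneg : s = -s' := by
      rcases hs with h | h <;> rcases hs' with h' | h'
      · exact absurd (h'.trans h.symm) hss
      · rw [h, h', neg_neg]
      · rw [h, h']
      · exact absurd (h'.trans h.symm) hss
    by_cases hc : ∃ c, (x : Matrix (Fin d ⊕ Fin d) (Fin d ⊕ Fin d) F) *ᵥ c = c ∧ Q' c ≠ 0
    · obtain ⟨c, hxc, hQc⟩ := hc
      obtain ⟨γ₀, hγ₀⟩ := wp_exists_not (F := F) h2
      obtain ⟨t, ht⟩ := exists_sqrt h2 (γ₀ / Q' c)
      have hQc' : Q' (t • c) = γ₀ := by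
        rw [QuadraticMap.map_smul, ht, smul_eq_mul, div_mul_cancel₀ _ hQc]
      have hxc' : (x : Matrix (Fin d ⊕ Fin d) (Fin d ⊕ Fin d) F) *ᵥ (t • c) = t • c := by
        rw [Matrix.mulVec_smul, hxc]
      refine ⟨addSq Q' (QuadraticMap.polarBilin Q' (t • c)), ?_, ?_, ?_⟩
      · intro u v
        rw [polar_addSq h2, hB']
      · intro v
        have e : sympForm d F (t • c) ((x : Matrix (Fin d ⊕ Fin d) (Fin d ⊕ Fin d) F) *ᵥ v)
            = sympForm d F (t • c) v := by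
          conv_lhs => rw [← hxc']
          exact hxs _ _
        rw [addSq_apply, addSq_apply, hinv', QuadraticMap.polarBilin_apply_apply,
          QuadraticMap.polarBilin_apply_apply, hB', hB', e]
      · have hfl := flip_unif h2 Q' hB' (t • c) (by rw [hQc']; exact hγ₀) s' hu'
        rw [hneg]
        exact hfl
    · exfalso
      push Not at hc
      have h3 := invol_no_fixed h2 Q' (nondegenerate_of_forall Q' (nd_of_polar Q' hB'))
        (x : Matrix (Fin d ⊕ Fin d) (Fin d ⊕ Fin d) F) hxx hc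
      rw [Fintype.card_sum, Fintype.card_fin] at h3
      have hs'q : s' = (Fintype.card F : ℤ) ^ d :=
        unif_of_ts Q' hB' (fixSub (x : Matrix (Fin d ⊕ Fin d) (Fin d ⊕ Fin d) F))
          (fun u hu => hc u (mem_fixSub.mp hu)) (by omega) s' hu'
      rcases hplus with hpl | hodd
      · obtain ⟨U, -, hUts, hUdim⟩ := hpl
        rw [finrank_top, finrank_plus_std] at hUdim
        have hsq := unif_of_ts Q hB U hUts (by omega) s hu
        exact hss (hs'q.trans hsq.symm)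
      · have hrank : ((x : Matrix (Fin d ⊕ Fin d) (Fin d ⊕ Fin d) F) - 1).rank = d := by omega
        have halt : ∀ v : Fin d ⊕ Fin d → F, v ⬝ᵥ (Matrix.J (Fin d) F
            * ((x : Matrix (Fin d ⊕ Fin d) (Fin d ⊕ Fin d) F) - 1)).mulVec v = 0 := by
          intro v
          rw [← Matrix.mulVec_mulVec, Matrix.sub_mulVec, Matrix.one_mulVec]
          show sympForm d F v ((x : Matrix (Fin d ⊕ Fin d) (Fin d ⊕ Fin d) F) *ᵥ v - v) = 0
          rw [sympForm_sub_right, sympForm_self, sub_zero, ← hB', QuadraticMap.polar]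
          have e1 : Q' (v + (x : Matrix (Fin d ⊕ Fin d) (Fin d ⊕ Fin d) F) *ᵥ v) = 0 :=
            hc _ (by rw [Matrix.mulVec_add, Matrix.mulVec_mulVec, hxx, Matrix.one_mulVec, add_comm])
          rw [e1, hinv']
          linear_combination (-(Q' v)) * h2
        have hev := even_rank_of_alt _ halt
        rw [Matrix.rank_mul_eq_right_of_isUnit_det _ _ (Matrix.isUnit_det_J (Fin d) F), hrank] at hev
        exact (Nat.not_even_iff_odd.mpr hodd) hev
  obtain ⟨g₀, hg₀, hiso⟩ := iso_of_unif Q Qs hB hBs s hu hus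
  refine ⟨g₀⁻¹, inv_mem hg₀, ?_⟩
  have hfin : ∀ v, Q (((g₀⁻¹⁻¹ * x * g₀⁻¹ : GL (Fin d ⊕ Fin d) F) :
      Matrix (Fin d ⊕ Fin d) (Fin d ⊕ Fin d) F) *ᵥ v) = Q v := by
    intro v
    rw [inv_inv, Units.val_mul, Units.val_mul, ← Matrix.mulVec_mulVec, ← Matrix.mulVec_mulVec,
      hiso, hinvs, ← hiso, gl_mulVec_inv_mulVec]
  exact ((isom_iff hd Q hB _).mpr hfin).1

end invol

end Cfsg.Agent.Lib.helper7.SpOrth
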