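/-
helper7: further calculus of root elements and Siegel transformations in the isometry group of a
quadratic form: the set `InA M u` of vectors whose Siegel transformation with centre `u` lies in a
subgroup `M`, and a "planar" lemma producing an element interchanging two opposite root lines.
-/
import Mathlib
import Cfsg.Agent.Lib.helper7.Sieg
import Cfsg.Agent.Lib.helper7.OmegaSimple

set_option autoImplicit false

namespace Cfsg.Agent.Lib.helper7.RootElt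

open Matrix Cfsg Cfsg.Agent.Lib.helper17 Cfsg.Agent.Lib.helper49 Module
open scoped commutatorElement

section

variable {ι : Type} [Fintype ι] [DecidableEq ι] {F : Type*} [Field F]
  (Q : QuadraticForm F (ι → F)) (hQ : (QuadraticMap.polarBilin Q).Nondegenerate)

local notation "⟪" x ", " y "⟫" => QuadraticMap.polar (DFunLike.coe Q) x y

theorem rootElt_swap {u v : ι → F} (hu : Q u = 0) (hv : Q v = 0) (huv : ⟪u, v⟫ = 0) (c : F) :
    rootElt Q hQ u v c = rootElt Q hQ v u (-c) := by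
  have hvu : ⟪v, u⟫ = 0 := by rw [QuadraticMap.polar_comm]; exact huv
  apply act_ext
  intro x
  rw [rootElt_act Q hQ hu hv huv, rootElt_act Q hQ hv hu hvu]
  module

theorem rootElt_add {u v : ι → F} (hu : Q u = 0) (hv : Q v = 0) (huv : ⟪u, v⟫ = 0) (c c' : F) :
    rootElt Q hQ u v (c + c') = rootElt Q hQ u v c * rootElt Q hQ u v c' := by
  have hvu : ⟪v, u⟫ = 0 := by rw [QuadraticMap.polar_comm]; exact huv
  apply act_ext
  intro x
  rw [act_mul, rootElt_act Q hQ hu hv huv, rootElt_act Q hQ hu hv huv, rootElt_act Q hQ hu hv huv]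
  simp only [QuadraticMap.polar_add_right, QuadraticMap.polar_smul_right, smul_eq_mul, huv, hvu,
    QGeom.polar_self_sing Q hu, QGeom.polar_self_sing Q hv]
  module

theorem rootElt_zero_coeff (u v : ι → F) : rootElt Q hQ u v 0 = 1 := by
  by_cases h : Q u = 0 ∧ Q v = 0 ∧ ⟪u, v⟫ = 0
  · apply act_ext
    intro x
    rw [rootElt_act Q hQ h.1 h.2.1 h.2.2, act_one]
    simp
  · unfold rootElt
    rw [dif_neg h]

theorem rootElt_smul_right {u v : ι → F} (hu : Q u = 0) (hv : Q v = 0) (huv : ⟪u, v⟫ = 0) (a c : F) :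
    rootElt Q hQ u (a • v) c = rootElt Q hQ u v (a * c) := by
  have hv' : Q (a • v) = 0 := by rw [QuadraticMap.map_smul, hv, smul_zero]
  have huv' : ⟪u, a • v⟫ = 0 := by rw [QuadraticMap.polar_smul_right, huv, smul_zero]
  apply act_ext
  intro x
  rw [rootElt_act Q hQ hu hv' huv', rootElt_act Q hQ hu hv huv, QuadraticMap.polar_smul_left,
    smul_eq_mul]
  module

theorem rootElt_add_smul_right {u v : ι → F} (hu : Q u = 0) (hv : Q v = 0) (huv : ⟪u, v⟫ = 0)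
    (a c : F) : rootElt Q hQ u (v + a • u) c = rootElt Q hQ u v c := by
  have hvu : ⟪v, u⟫ = 0 := by rw [QuadraticMap.polar_comm]; exact huv
  have hv' : Q (v + a • u) = 0 := by
    rw [QuadraticMap.map_add (⇑Q), QuadraticMap.map_smul, QuadraticMap.polar_smul_right, hu, hv, hvu]
    simp
  have huv' : ⟪u, v + a • u⟫ = 0 := by
    rw [QuadraticMap.polar_add_right, QuadraticMap.polar_smul_right, huv, QGeom.polar_self_sing Q hu]
    simp
  apply act_ext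
  intro x
  rw [rootElt_act Q hQ hu hv' huv', rootElt_act Q hQ hu hv huv, QuadraticMap.polar_add_left,
    QuadraticMap.polar_smul_left, smul_eq_mul]
  module

theorem rootElt_add_smul_left {u v : ι → F} (hu : Q u = 0) (hv : Q v = 0) (huv : ⟪u, v⟫ = 0)
    (a c : F) : rootElt Q hQ (u + a • v) v c = rootElt Q hQ u v c := by
  have hvu : ⟪v, u⟫ = 0 := by rw [QuadraticMap.polar_comm]; exact huv
  have hu' : Q (u + a • v) = 0 := by
    rw [QuadraticMap.map_add (⇑Q), QuadraticMap.map_smul, QuadraticMap.polar_smul_right, hu, hv, huv]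
    simp
  have huv' : ⟪u + a • v, v⟫ = 0 := by
    rw [QuadraticMap.polar_add_left, QuadraticMap.polar_smul_left, huv, QGeom.polar_self_sing Q hv]
    simp
  apply act_ext
  intro x
  rw [rootElt_act Q hQ hu' hv huv', rootElt_act Q hQ hu hv huv, QuadraticMap.polar_add_left,
    QuadraticMap.polar_smul_left, smul_eq_mul]
  module

theorem rootElt_pow {u v : ι → F} (hu : Q u = 0) (hv : Q v = 0) (huv : ⟪u, v⟫ = 0) (c : F) (k : ℕ) :
    (rootElt Q hQ u v c) ^ k = rootElt Q hQ u v (k * c) := by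
  induction k with
  | zero => rw [pow_zero, Nat.cast_zero, zero_mul, rootElt_zero_coeff]
  | succ k ih =>
    rw [pow_succ, ih, ← rootElt_add Q hQ hu hv huv]
    congr 1
    push_cast
    ring

theorem rootElt_inv {u v : ι → F} (hu : Q u = 0) (hv : Q v = 0) (huv : ⟪u, v⟫ = 0) (c : F) :
    (rootElt Q hQ u v c)⁻¹ = rootElt Q hQ u v (-c) := by
  rw [inv_eq_iff_mul_eq_one, ← rootElt_add Q hQ hu hv huv, add_neg_cancel, rootElt_zero_coeff]

/-- the commutator relation with two parameters -/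
theorem commutator_rootElt' {u a w b : ι → F} (hu : Q u = 0) (ha : Q a = 0) (hw : Q w = 0)
    (hb : Q b = 0) (hua : ⟪u, a⟫ = 0) (hwb : ⟪w, b⟫ = 0) (huw : ⟪u, w⟫ = 0) (hub : ⟪u, b⟫ = 0)
    (hwa : ⟪w, a⟫ = 0) (hab : ⟪a, b⟫ = 1) (c d : F) :
    ⁅rootElt Q hQ u a c, rootElt Q hQ w b d⁆ = rootElt Q hQ u w (c * d) := by
  by_cases hd : d = 0
  · rw [hd, rootElt_zero_coeff, mul_zero, rootElt_zero_coeff, commutatorElement_def]
    group
  · have h1 : rootElt Q hQ w b d = rootElt Q hQ w (d • b) 1 := by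
      rw [rootElt_smul_right Q hQ hw hb hwb, mul_one]
    have h2 : rootElt Q hQ u a c = rootElt Q hQ u (d⁻¹ • a) (c * d) := by
      rw [rootElt_smul_right Q hQ hu ha hua]
      congr 1
      field_simp
    rw [h1, h2]
    apply commutator_rootElt Q hQ hu (by rw [QuadraticMap.map_smul, ha, smul_zero]) hw
      (by rw [QuadraticMap.map_smul, hb, smul_zero])
      (by rw [QuadraticMap.polar_smul_right, hua, smul_zero])
      (by rw [QuadraticMap.polar_smul_right, hwb, smul_zero]) huw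
      (by rw [QuadraticMap.polar_smul_right, hub, smul_zero])
      (by rw [QuadraticMap.polar_smul_right, hwa, smul_zero])
    rw [QuadraticMap.polar_smul_left, QuadraticMap.polar_smul_right, hab, smul_eq_mul, smul_eq_mul,
      mul_one, inv_mul_cancel₀ hd]

variable (M : Subgroup ↥(isometryGroup F ⇑Q))

/-- `y ⊥ u` and the Siegel transformation with centre `u` and vector `y` lies in `M` -/
def InA (u y : ι → F) : Prop :=
  ⟪u, y⟫ = 0 ∧ ∀ g : ↥(isometryGroup F ⇑Q), IsSieg Q g u y → g ∈ M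

theorem inA_zero (u : ι → F) : InA Q M u 0 := by
  refine ⟨by simp, fun g hg => ?_⟩
  rw [isSieg_unique Q hg (isSieg_one_zero Q u)]
  exact M.one_mem

theorem inA_self_smul {u : ι → F} (hu : Q u = 0) (c : F) : InA Q M u (c • u) := by
  refine ⟨by rw [QuadraticMap.polar_smul_right, QGeom.polar_self_sing Q hu, smul_zero],
    fun g hg => ?_⟩
  rw [isSieg_unique Q hg (isSieg_one_smul_self Q hu c)]
  exact M.one_mem

theorem inA_conj {h : ↥(isometryGroup F ⇑Q)} (hh : h ∈ M) {u y : ι → F} (hs : InA Q M u y) :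
    InA Q M (act Q h u) (act Q h y) := by
  refine ⟨by rw [polar_act]; exact hs.1, fun g hg => ?_⟩
  have h1 := isSieg_conj Q h⁻¹ hg
  rw [act_inv_act, act_inv_act, inv_inv] at h1
  have h2 := hs.2 _ h1
  have h3 : g = h * (h⁻¹ * g * h) * h⁻¹ := by group
  rw [h3]
  exact M.mul_mem (M.mul_mem hh h2) (M.inv_mem hh)

theorem inA_smul_iff (u y : ι → F) (s : F) : InA Q M (s • u) y ↔ InA Q M u (s • y) := by
  unfold InA
  have e : ⟪s • u, y⟫ = 0 ↔ ⟪u, s • y⟫ = 0 := by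
    rw [QuadraticMap.polar_smul_left, QuadraticMap.polar_smul_right]
  rw [e]
  refine and_congr Iff.rfl (forall_congr' (fun g => ?_))
  rw [isSieg_smul_iff]

theorem inA_iff_rootElt {u v : ι → F} (hu : Q u = 0) (hv : Q v = 0) (huv : ⟪u, v⟫ = 0) (c : F) :
    InA Q M u (c • v) ↔ rootElt Q hQ u v (-c) ∈ M := by
  have h1 := isSieg_rootElt Q hQ hu hv huv (-c)
  rw [neg_neg] at h1
  constructor
  · intro h
    exact h.2 _ h1
  · intro h
    refine ⟨by rw [QuadraticMap.polar_smul_right, huv, smul_zero], fun g hg => ?_⟩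
    rw [isSieg_unique Q hg h1]
    exact h

include hQ in
theorem inA_swap {u d : ι → F} (hu : Q u = 0) (hd : Q d = 0) (hud : ⟪u, d⟫ = 0) (t : F) :
    InA Q M u (t • d) ↔ InA Q M d ((-t) • u) := by
  have hdu : ⟪d, u⟫ = 0 := by rw [QuadraticMap.polar_comm]; exact hud
  rw [inA_iff_rootElt Q hQ M hu hd hud, inA_iff_rootElt Q hQ M hd hu hdu, neg_neg,
    rootElt_swap Q hQ hu hd hud, neg_neg]

variable [Finite F]

include hQ in
theorem inA_add (hd : 5 ≤ Fintype.card ι) {u y y' : ι → F} (hu0 : u ≠ 0) (hu : Q u = 0)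
    (h : InA Q M u y) (h' : InA Q M u y') : InA Q M u (y + y') := by
  refine ⟨by rw [QuadraticMap.polar_add_right, h.1, h'.1, add_zero], fun g hg => ?_⟩
  obtain ⟨g₁, -, hg₁⟩ := exists_isSieg Q hQ hd hu0 hu h.1
  obtain ⟨g₂, -, hg₂⟩ := exists_isSieg Q hQ hd hu0 hu h'.1
  have h3 := isSieg_mul Q hu h.1 h'.1 hg₁ hg₂
  rw [isSieg_unique Q hg h3]
  exact M.mul_mem (h.2 g₁ hg₁) (h'.2 g₂ hg₂)

include hQ in
theorem inA_neg (hd : 5 ≤ Fintype.card ι) {u y : ι → F} (hu0 : u ≠ 0) (hu : Q u = 0)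
    (h : InA Q M u y) : InA Q M u (-y) := by
  have h0 : ⟪u, -y⟫ = 0 := by rw [QuadraticMap.polar_neg_right, h.1, neg_zero]
  refine ⟨h0, fun g hg => ?_⟩
  obtain ⟨g₁, -, hg₁⟩ := exists_isSieg Q hQ hd hu0 hu h.1
  have h3 := isSieg_mul Q hu h0 h.1 hg hg₁
  rw [neg_add_cancel] at h3
  have h4 : g * g₁ = 1 := isSieg_unique Q h3 (isSieg_one_zero Q u)
  have h5 : g = g₁⁻¹ := eq_inv_of_mul_eq_one_left h4
  rw [h5]
  exact M.inv_mem (h.2 g₁ hg₁)

include hQ in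
theorem inA_sub (hd : 5 ≤ Fintype.card ι) {u y y' : ι → F} (hu0 : u ≠ 0) (hu : Q u = 0)
    (h : InA Q M u y) (h' : InA Q M u y') : InA Q M u (y - y') := by
  rw [sub_eq_add_neg]
  exact inA_add Q hQ M hd hu0 hu h (inA_neg Q hQ M hd hu0 hu h')

/-- conjugating by a root element in `M` fixing the centre -/
theorem inA_rule (hd5 : 5 ≤ Fintype.card ι) {u y d c' : ι → F} (hu0 : u ≠ 0) (hu : Q u = 0)
    (hd : Q d = 0) (hc' : Q c' = 0) (hdc : ⟪d, c'⟫ = 0) (hud : ⟪u, d⟫ = 0) (huc : ⟪u, c'⟫ = 0)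
    (hρ : rootElt Q hQ d c' 1 ∈ M) (h : InA Q M u y) :
    InA Q M u (⟪d, y⟫ • c' + (-⟪c', y⟫) • d) := by
  have hdu : ⟪d, u⟫ = 0 := by rw [QuadraticMap.polar_comm]; exact hud
  have hcu : ⟪c', u⟫ = 0 := by rw [QuadraticMap.polar_comm]; exact huc
  have h1 := inA_conj Q M hρ h
  have e1 : act Q (rootElt Q hQ d c' 1) u = u := by
    rw [rootElt_act Q hQ hd hc' hdc, hdu, hcu]
    simp
  rw [e1] at h1
  have h2 := inA_sub Q hQ M hd5 hu0 hu h1 h
  have e2 : act Q (rootElt Q hQ d c' 1) y - y = ⟪d, y⟫ • c' + (-⟪c', y⟫) • d := by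
    rw [rootElt_act Q hQ hd hc' hdc]
    module
  rwa [e2] at h2

end

section Planar

variable {ι : Type} [Fintype ι] [DecidableEq ι] {F : Type*} [Field F]
  (Q : QuadraticForm F (ι → F)) (hQ : (QuadraticMap.polarBilin Q).Nondegenerate)

local notation "⟪" x ", " y "⟫" => QuadraticMap.polar (DFunLike.coe Q) x y

/-- `g` acts on the planes `⟨x₁, b⟩` and `⟨y₁, v⟩` through the matrix `A` -/
def Pl (x₁ y₁ v b : ι → F) (g : ↥(isometryGroup F ⇑Q)) (A : Matrix (Fin 2) (Fin 2) F) : Prop :=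
  act Q g x₁ = A 0 0 • x₁ + A 1 0 • b ∧ act Q g b = A 0 1 • x₁ + A 1 1 • b ∧
  act Q g y₁ = A 0 0 • y₁ + (-A 1 0) • v ∧ act Q g v = (-A 0 1) • y₁ + A 1 1 • v

variable {x₁ y₁ v b : ι → F}

theorem pl_one : Pl Q x₁ y₁ v b 1 1 := by
  unfold Pl
  simp [act_one, Matrix.one_apply]

theorem pl_mul {g h : ↥(isometryGroup F ⇑Q)} {A B : Matrix (Fin 2) (Fin 2) F}
    (hg : Pl Q x₁ y₁ v b g A) (hh : Pl Q x₁ y₁ v b h B) : Pl Q x₁ y₁ v b (g * h) (A * B) := by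
  obtain ⟨g1, g2, g3, g4⟩ := hg
  obtain ⟨h1, h2, h3, h4⟩ := hh
  refine ⟨?_, ?_, ?_, ?_⟩
  · rw [act_mul, h1, map_add, map_smul, map_smul, g1, g2]
    simp only [Matrix.mul_apply, Fin.sum_univ_two]
    module
  · rw [act_mul, h2, map_add, map_smul, map_smul, g1, g2]
    simp only [Matrix.mul_apply, Fin.sum_univ_two]
    module
  · rw [act_mul, h3, map_add, map_smul, map_smul, g3, g4]
    simp only [Matrix.mul_apply, Fin.sum_univ_two]
    module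
  · rw [act_mul, h4, map_add, map_smul, map_smul, g3, g4]
    simp only [Matrix.mul_apply, Fin.sum_univ_two]
    module

theorem pl_entries (hxy : ⟪x₁, y₁⟫ = 0) (hvb : ⟪v, b⟫ = 0) (hxv : ⟪x₁, v⟫ = 1) (hyb : ⟪y₁, b⟫ = 1)
    {g : ↥(isometryGroup F ⇑Q)} {A : Matrix (Fin 2) (Fin 2) F} (hg : Pl Q x₁ y₁ v b g A) :
    A 0 0 = ⟪act Q g x₁, v⟫ ∧ A 1 0 = ⟪act Q g x₁, y₁⟫ ∧ A 0 1 = ⟪act Q g b, v⟫ ∧
      A 1 1 = ⟪act Q g b, y₁⟫ := by
  have hbv : ⟪b, v⟫ = 0 := by rw [QuadraticMap.polar_comm]; exact hvb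
  have hby : ⟪b, y₁⟫ = 1 := by rw [QuadraticMap.polar_comm]; exact hyb
  rw [hg.1, hg.2.1]
  simp only [QuadraticMap.polar_add_left, QuadraticMap.polar_smul_left, smul_eq_mul, hxv, hxy, hbv,
    hby]
  refine ⟨by ring, by ring, by ring, by ring⟩

theorem pl_unique (hxy : ⟪x₁, y₁⟫ = 0) (hvb : ⟪v, b⟫ = 0) (hxv : ⟪x₁, v⟫ = 1) (hyb : ⟪y₁, b⟫ = 1)
    {g : ↥(isometryGroup F ⇑Q)} {A B : Matrix (Fin 2) (Fin 2) F} (hA : Pl Q x₁ y₁ v b g A)
    (hB : Pl Q x₁ y₁ v b g B) : A = B := by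
  obtain ⟨a00, a10, a01, a11⟩ := pl_entries Q hxy hvb hxv hyb hA
  obtain ⟨b00, b10, b01, b11⟩ := pl_entries Q hxy hvb hxv hyb hB
  apply Matrix.ext
  rw [Fin.forall_fin_two]
  constructor <;> rw [Fin.forall_fin_two]
  · exact ⟨a00.trans b00.symm, a01.trans b01.symm⟩
  · exact ⟨a10.trans b10.symm, a11.trans b11.symm⟩

theorem pl_det (hxy : ⟪x₁, y₁⟫ = 0) (hvb : ⟪v, b⟫ = 0) (hxv : ⟪x₁, v⟫ = 1) (hyb : ⟪y₁, b⟫ = 1)
    {g : ↥(isometryGroup F ⇑Q)} {A : Matrix (Fin 2) (Fin 2) F} (hg : Pl Q x₁ y₁ v b g A) :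
    A 0 0 * A 1 1 - A 0 1 * A 1 0 = 1 := by
  have hbv : ⟪b, v⟫ = 0 := by rw [QuadraticMap.polar_comm]; exact hvb
  have hby : ⟪b, y₁⟫ = 1 := by rw [QuadraticMap.polar_comm]; exact hyb
  have h := polar_act Q g x₁ v
  rw [hg.1, hg.2.2.2, hxv] at h
  simp only [QuadraticMap.polar_add_left, QuadraticMap.polar_add_right, QuadraticMap.polar_smul_left,
    QuadraticMap.polar_smul_right, smul_eq_mul, hxy, hxv, hby, hbv] at h
  linear_combination h

theorem pl_inv (hxy : ⟪x₁, y₁⟫ = 0) (hvb : ⟪v, b⟫ = 0) (hxv : ⟪x₁, v⟫ = 1) (hyb : ⟪y₁, b⟫ = 1)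
    {g : ↥(isometryGroup F ⇑Q)} {A : Matrix (Fin 2) (Fin 2) F} (hg : Pl Q x₁ y₁ v b g A) :
    ∃ B : Matrix (Fin 2) (Fin 2) F, Pl Q x₁ y₁ v b g⁻¹ B ∧ B 0 0 = A 1 1 ∧ B 0 1 = -A 0 1 ∧
      B 1 0 = -A 1 0 ∧ B 1 1 = A 0 0 := by
  have hdet := pl_det Q hxy hvb hxv hyb hg
  obtain ⟨g1, g2, g3, g4⟩ := hg
  have key : ∀ z z' : ι → F, act Q g z' = z → act Q g⁻¹ z = z' := by
    intro z z' h
    rw [← h, act_inv_act]
  refine ⟨!![A 1 1, -A 0 1; -A 1 0, A 0 0], ⟨?_, ?_, ?_, ?_⟩, rfl, rfl, rfl, rfl⟩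
  · show act Q g⁻¹ x₁ = A 1 1 • x₁ + (-A 1 0) • b
    apply key
    rw [map_add, map_smul, map_smul, g1, g2]
    calc _ = (A 0 0 * A 1 1 - A 0 1 * A 1 0) • x₁ := by module
      _ = x₁ := by rw [hdet, one_smul]
  · show act Q g⁻¹ b = (-A 0 1) • x₁ + A 0 0 • b
    apply key
    rw [map_add, map_smul, map_smul, g1, g2]
    calc _ = (A 0 0 * A 1 1 - A 0 1 * A 1 0) • b := by module
      _ = b := by rw [hdet, one_smul]
  · show act Q g⁻¹ y₁ = A 1 1 • y₁ + (-(-A 1 0)) • v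
    apply key
    rw [map_add, map_smul, map_smul, g3, g4]
    calc _ = (A 0 0 * A 1 1 - A 0 1 * A 1 0) • y₁ := by module
      _ = y₁ := by rw [hdet, one_smul]
  · show act Q g⁻¹ v = (-(-A 0 1)) • y₁ + A 0 0 • v
    apply key
    rw [map_add, map_smul, map_smul, g3, g4]
    calc _ = (A 0 0 * A 1 1 - A 0 1 * A 1 0) • v := by module
      _ = v := by rw [hdet, one_smul]

variable [Finite F]

/-- From two root elements on "opposite" totally singular lines `⟨x₁, y₁⟩` and `⟨v, b⟩` one gets an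
element of the group they generate which maps the second line onto the first. -/
theorem planar (M : Subgroup ↥(isometryGroup F ⇑Q)) {x₁ y₁ v b : ι → F} (hx : Q x₁ = 0)
    (hy : Q y₁ = 0) (hv : Q v = 0) (hb : Q b = 0) (hxy : ⟪x₁, y₁⟫ = 0) (hvb : ⟪v, b⟫ = 0)
    (hxb : ⟪x₁, b⟫ = 0) (hyv : ⟪y₁, v⟫ = 0) (hxv : ⟪x₁, v⟫ = 1) (hyb : ⟪y₁, b⟫ = 1) (c₁ : F)
    (hc₁ : c₁ ≠ 0) (hρ : rootElt Q hQ x₁ y₁ c₁ ∈ M) (hσ : rootElt Q hQ v b 1 ∈ M) :
    ∃ w ∈ M, ∃ ν : F, ν ≠ 0 ∧ act Q w b = ν • x₁ ∧ act Q w v = (-ν) • y₁ := by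
  classical
  have hbx : ⟪b, x₁⟫ = 0 := by rw [QuadraticMap.polar_comm]; exact hxb
  have hvy : ⟪v, y₁⟫ = 0 := by rw [QuadraticMap.polar_comm]; exact hyv
  have hvx : ⟪v, x₁⟫ = 1 := by rw [QuadraticMap.polar_comm]; exact hxv
  have hby : ⟪b, y₁⟫ = 1 := by rw [QuadraticMap.polar_comm]; exact hyb
  have hyx : ⟪y₁, x₁⟫ = 0 := by rw [QuadraticMap.polar_comm]; exact hxy
  have hbv : ⟪b, v⟫ = 0 := by rw [QuadraticMap.polar_comm]; exact hvb
  obtain ⟨ρ, hρdef⟩ : ∃ ρ, ρ = rootElt Q hQ x₁ y₁ c₁ := ⟨_, rfl⟩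
  obtain ⟨σ, hσdef⟩ : ∃ σ, σ = rootElt Q hQ v b 1 := ⟨_, rfl⟩
  rw [← hρdef] at hρ
  rw [← hσdef] at hσ
  have hPρ : ∃ A : Matrix (Fin 2) (Fin 2) F, Pl Q x₁ y₁ v b ρ A ∧ A 0 0 = 1 ∧ A 0 1 = -c₁ ∧
      A 1 0 = 0 ∧ A 1 1 = 1 := by
    refine ⟨!![1, -c₁; 0, 1], ⟨?_, ?_, ?_, ?_⟩, rfl, rfl, rfl, rfl⟩
    · show act Q ρ x₁ = (1 : F) • x₁ + (0 : F) • b
      rw [hρdef, rootElt_act Q hQ hx hy hxy, QGeom.polar_self_sing Q hx, hyx]
      module
    · show act Q ρ b = (-c₁) • x₁ + (1 : F) • b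
      rw [hρdef, rootElt_act Q hQ hx hy hxy, hxb, hyb]
      module
    · show act Q ρ y₁ = (1 : F) • y₁ + (-(0 : F)) • v
      rw [hρdef, rootElt_act Q hQ hx hy hxy, QGeom.polar_self_sing Q hy, hxy]
      module
    · show act Q ρ v = (-(-c₁)) • y₁ + (1 : F) • v
      rw [hρdef, rootElt_act Q hQ hx hy hxy, hxv, hyv]
      module
  have hPσ : ∃ A : Matrix (Fin 2) (Fin 2) F, Pl Q x₁ y₁ v b σ A ∧ A 0 0 = 1 ∧ A 0 1 = 0 ∧
      A 1 0 = 1 ∧ A 1 1 = 1 := by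
    refine ⟨!![1, 0; 1, 1], ⟨?_, ?_, ?_, ?_⟩, rfl, rfl, rfl, rfl⟩
    · show act Q σ x₁ = (1 : F) • x₁ + (1 : F) • b
      rw [hσdef, rootElt_act Q hQ hv hb hvb, hvx, hbx]
      module
    · show act Q σ b = (0 : F) • x₁ + (1 : F) • b
      rw [hσdef, rootElt_act Q hQ hv hb hvb, QGeom.polar_self_sing Q hb, hvb]
      module
    · show act Q σ y₁ = (1 : F) • y₁ + (-(1 : F)) • v
      rw [hσdef, rootElt_act Q hQ hv hb hvb, hvy, hby]
      module
    · show act Q σ v = (-(0 : F)) • y₁ + (1 : F) • v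
      rw [hσdef, rootElt_act Q hQ hv hb hvb, QGeom.polar_self_sing Q hv, hbv]
      module
  obtain ⟨D, hD⟩ : ∃ D : Subgroup ↥(isometryGroup F ⇑Q), D = Subgroup.closure {ρ, σ} := ⟨_, rfl⟩
  have hDM : D ≤ M := by
    rw [hD, Subgroup.closure_le]
    rintro g (rfl | rfl)
    · exact hρ
    · exact hσ
  have hPl : ∀ g ∈ D, ∃ A : Matrix (Fin 2) (Fin 2) F, Pl Q x₁ y₁ v b g A := by
    intro g hg
    rw [hD] at hg
    induction hg using Subgroup.closure_induction with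
    | mem x hx =>
      rcases hx with rfl | rfl
      · exact ⟨_, hPρ.choose_spec.1⟩
      · exact ⟨_, hPσ.choose_spec.1⟩
    | one => exact ⟨1, pl_one Q⟩
    | mul x y _ _ hx hy =>
      obtain ⟨A, hA⟩ := hx
      obtain ⟨B, hB⟩ := hy
      exact ⟨A * B, pl_mul Q hA hB⟩
    | inv x _ hx =>
      obtain ⟨A, hA⟩ := hx
      obtain ⟨B, hB, -⟩ := pl_inv Q hxy hvb hxv hyb hA
      exact ⟨B, hB⟩
  obtain ⟨p, hp⟩ := CharP.exists F
  have := hp
  have hpp : p.Prime := CharP.char_is_prime F p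
  have : Fact p.Prime := ⟨hpp⟩
  obtain ⟨ρ', hρ'⟩ : ∃ t' : D, (t' : ↥(isometryGroup F ⇑Q)) = ρ :=
    ⟨⟨ρ, by rw [hD]; exact Subgroup.subset_closure (by simp)⟩, rfl⟩
  obtain ⟨σ', hσ'⟩ : ∃ t' : D, (t' : ↥(isometryGroup F ⇑Q)) = σ :=
    ⟨⟨σ, by rw [hD]; exact Subgroup.subset_closure (by simp)⟩, rfl⟩
  have hρp : ρ' ^ p = 1 := by
    apply Subtype.ext
    rw [Subgroup.coe_pow, hρ', hρdef, rootElt_pow Q hQ hx hy hxy, CharP.cast_eq_zero F p, zero_mul,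
      rootElt_zero_coeff]
    rfl
  have hσp : σ' ^ p = 1 := by
    apply Subtype.ext
    rw [Subgroup.coe_pow, hσ', hσdef, rootElt_pow Q hQ hv hb hvb, CharP.cast_eq_zero F p, zero_mul,
      rootElt_zero_coeff]
    rfl
  have hpg : ∀ z : D, z ^ p = 1 → IsPGroup p (Subgroup.zpowers z) := by
    intro z hz
    rintro ⟨x, hx⟩
    obtain ⟨m, rfl⟩ := Subgroup.mem_zpowers_iff.mp hx
    refine ⟨1, Subtype.ext ?_⟩
    rw [pow_one, Subgroup.coe_pow, Subgroup.coe_one, ← zpow_natCast, ← _root_.zpow_mul, mul_comm,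
      _root_.zpow_mul, zpow_natCast, hz, _root_.one_zpow]
  obtain ⟨S, hS⟩ := (hpg ρ' hρp).exists_le_sylow
  obtain ⟨S', hS'⟩ := (hpg σ' hσp).exists_le_sylow
  obtain ⟨g, hg⟩ := MulAction.exists_smul_eq D S' S
  have hx' : g * σ' * g⁻¹ ∈ (S : Subgroup D) := by
    rw [← hg, Sylow.coe_subgroup_smul]
    exact ⟨σ', hS' (Subgroup.mem_zpowers σ'), rfl⟩
  have hρS : ρ' ∈ (S : Subgroup D) := hS (Subgroup.mem_zpowers ρ')
  obtain ⟨i, hi⟩ := S.isPGroup' ⟨ρ' * (g * σ' * g⁻¹), S.mul_mem hρS hx'⟩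
  have hi' : (ρ * ((g : ↥(isometryGroup F ⇑Q)) * σ * (g : ↥(isometryGroup F ⇑Q))⁻¹)) ^ (p ^ i) = 1 := by
    have h1 := congrArg (fun z : (S : Subgroup D) => ((z : D) : ↥(isometryGroup F ⇑Q))) hi
    simpa [hρ', hσ'] using h1
  obtain ⟨Aρ, hAρ, r00, r01, r10, r11⟩ := hPρ
  obtain ⟨Aσ, hAσ, s00, s01, s10, s11⟩ := hPσ
  obtain ⟨A, hA⟩ := hPl (g : ↥(isometryGroup F ⇑Q)) g.2
  obtain ⟨B, hB, b00, b01, b10, b11⟩ := pl_inv Q hxy hvb hxv hyb hA
  have hdet := pl_det Q hxy hvb hxv hyb hA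
  have hK : Pl Q x₁ y₁ v b (ρ * ((g : ↥(isometryGroup F ⇑Q)) * σ * (g : ↥(isometryGroup F ⇑Q))⁻¹))
      (Aρ * (A * Aσ * B)) := pl_mul Q hAρ (pl_mul Q (pl_mul Q hA hAσ) hB)
  have hKpow : ∀ n : ℕ, Pl Q x₁ y₁ v b
      ((ρ * ((g : ↥(isometryGroup F ⇑Q)) * σ * (g : ↥(isometryGroup F ⇑Q))⁻¹)) ^ n)
      ((Aρ * (A * Aσ * B)) ^ n) := by
    intro n
    induction n with
    | zero =>
      rw [pow_zero, pow_zero]
      exact pl_one Q
    | succ n ih =>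
      rw [pow_succ, pow_succ]
      exact pl_mul Q ih hK
  have h1 := hKpow (p ^ i)
  rw [hi'] at h1
  have hpow : (Aρ * (A * Aσ * B)) ^ (p ^ i) = 1 := pl_unique Q hxy hvb hxv hyb h1 (pl_one Q)
  have hnil : IsNilpotent ((Aρ * (A * Aσ * B)) - 1) := by
    refine ⟨p ^ i, ?_⟩
    rw [sub_pow_char_pow_of_commute p i (Commute.one_right _), one_pow, hpow, sub_self]
  have htr := (Matrix.isNilpotent_trace_of_isNilpotent hnil).eq_zero
  rw [Matrix.trace_sub, Matrix.trace_fin_two, Matrix.trace_fin_two] at htr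
  simp only [Matrix.mul_apply, Fin.sum_univ_two, Matrix.one_apply_eq, r00, r01, r10, r11, s00, s01,
    s10, s11, b00, b01, b10, b11] at htr
  have hδ : c₁ * (A 1 1 * A 1 1) = 0 := by linear_combination (-1 : F) * htr + 2 * hdet
  have hδ0 : A 1 1 = 0 := by
    rcases mul_eq_zero.mp hδ with h | h
    · exact absurd h hc₁
    · exact mul_self_eq_zero.mp h
  have hν : A 0 1 ≠ 0 := by
    intro h0
    rw [hδ0, h0] at hdet
    simp at hdet
  refine ⟨(g : ↥(isometryGroup F ⇑Q)), hDM g.2, A 0 1, hν, ?_, ?_⟩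
  · rw [hA.2.1, hδ0, zero_smul, add_zero]
  · rw [hA.2.2.2, hδ0, zero_smul, add_zero]

end Planar

end Cfsg.Agent.Lib.helper7.RootElt
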