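/-
helper7: rational structures on a quadratic space `F^ι` with respect to a subfield `F₀`:
the restricted form `Q₀` on `F₀^ι`, existence lemmas for rational singular vectors, lifting of the
root subgroup of `Q₀`, and rationality criteria.
-/
import Mathlib
import Cfsg.Agent.Lib.helper7.SubfO1
import Cfsg.Agent.Lib.helper7.RootPrim
import Cfsg.Agent.Lib.helper49.Eichler
import Cfsg.Agent.Lib.helper95.SubfieldSL

set_option autoImplicit false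

namespace Cfsg.Agent.Lib.helper7.SubfO

open Matrix Cfsg Module
open Cfsg.Agent.Lib.helper7.RootElt Cfsg.Agent.Lib.helper95

section

variable {ι : Type} [Fintype ι] [DecidableEq ι] {F : Type*} [Field F] (F₀ : Subfield F)

/-- the inclusion of rational vectors -/
def jV (u : ι → F₀) : ι → F := fun i => (u i : F)

theorem jV_add (u v : ι → F₀) : jV F₀ (u + v) = jV F₀ u + jV F₀ v := rfl

theorem jV_sub (u v : ι → F₀) : jV F₀ (u - v) = jV F₀ u - jV F₀ v := rfl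

theorem jV_smul (c : F₀) (u : ι → F₀) : jV F₀ (c • u) = (c : F) • jV F₀ u := rfl

theorem jV_zero : jV F₀ (0 : ι → F₀) = 0 := rfl

theorem jV_injective : Function.Injective (jV F₀ : (ι → F₀) → ι → F) := by
  intro u v h
  funext i
  exact Subtype.ext (congrFun h i)

theorem ratV_jV (u : ι → F₀) : ratV F₀ (jV F₀ u) := fun i => (u i).2

theorem exists_jV {v : ι → F} (hv : ratV F₀ v) : ∃ u : ι → F₀, jV F₀ u = v :=
  ⟨fun i => ⟨v i, hv i⟩, rfl⟩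

theorem jV_single (i : ι) : jV F₀ (Pi.single i 1) = Pi.single i 1 := by
  funext k
  by_cases hk : k = i
  · subst hk
    simp [jV]
  · simp [jV, Pi.single_eq_of_ne hk]

theorem ratV_zero' : ratV F₀ (0 : ι → F) := fun _ => F₀.zero_mem

theorem rat_coeff {s b : ι → F} {c : F} (hs : ratV F₀ s) (hb : ratV F₀ b) (hb0 : b ≠ 0)
    (h : s = c • b) : c ∈ F₀ := by
  obtain ⟨i, hi⟩ := Function.ne_iff.mp hb0
  have h1 : s i = c * b i := by rw [h]; rfl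
  have hi' : b i ≠ 0 := hi
  have h2 : c = s i * (b i)⁻¹ := by
    rw [h1, mul_assoc, mul_inv_cancel₀ hi', mul_one]
  rw [h2]
  exact F₀.mul_mem (hs i) (F₀.inv_mem (hb i))

variable (Q : QuadraticForm F (ι → F))

local notation "⟪" x ", " y "⟫" => QuadraticMap.polar (DFunLike.coe Q) x y

/-- the standing hypotheses: `Q` is non-degenerate and rational, in at least 13 variables -/
structure RatForm : Prop where
  nondeg : (QuadraticMap.polarBilin Q).Nondegenerate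
  rat : ∀ u : ι → F, ratV F₀ u → Q u ∈ F₀
  card : 13 ≤ Fintype.card ι

variable {F₀ Q}

theorem polar_rat (hrat : ∀ u : ι → F, ratV F₀ u → Q u ∈ F₀) {u v : ι → F} (hu : ratV F₀ u)
    (hv : ratV F₀ v) : ⟪u, v⟫ ∈ F₀ := by
  unfold QuadraticMap.polar
  exact F₀.sub_mem (F₀.sub_mem (hrat _ (ratV_add hu hv)) (hrat _ hu)) (hrat _ hv)

/-- the restriction of a rational quadratic form to rational vectors -/
def Q₀ (hrat : ∀ u : ι → F, ratV F₀ u → Q u ∈ F₀) : QuadraticForm F₀ (ι → F₀) :=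
  QuadraticMap.ofPolar (fun u => (⟨Q (jV F₀ u), hrat _ (ratV_jV F₀ u)⟩ : F₀))
    (by
      intro a x
      apply Subtype.ext
      show Q (jV F₀ (a • x)) = ((a : F) * (a : F)) * Q (jV F₀ x)
      rw [jV_smul, QuadraticMap.map_smul, smul_eq_mul])
    (by
      intro x x' y
      apply Subtype.ext
      show ⟪jV F₀ (x + x'), jV F₀ y⟫ = ⟪jV F₀ x, jV F₀ y⟫ + ⟪jV F₀ x', jV F₀ y⟫
      rw [jV_add, QuadraticMap.polar_add_left])
    (by
      intro a x y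
      apply Subtype.ext
      show ⟪jV F₀ (a • x), jV F₀ y⟫ = (a : F) * ⟪jV F₀ x, jV F₀ y⟫
      rw [jV_smul, QuadraticMap.polar_smul_left, smul_eq_mul])

theorem Q₀_apply (hrat : ∀ u : ι → F, ratV F₀ u → Q u ∈ F₀) (u : ι → F₀) :
    ((Q₀ hrat u : F₀) : F) = Q (jV F₀ u) := rfl

theorem polar_jV (hrat : ∀ u : ι → F, ratV F₀ u → Q u ∈ F₀) (u v : ι → F₀) :
    ⟪jV F₀ u, jV F₀ v⟫ = ((QuadraticMap.polar (⇑(Q₀ hrat)) u v : F₀) : F) := rfl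

theorem Q_jV_eq_zero (hrat : ∀ u : ι → F, ratV F₀ u → Q u ∈ F₀) {u : ι → F₀}
    (h : Q₀ hrat u = 0) : Q (jV F₀ u) = 0 := by
  rw [← Q₀_apply hrat, h]
  rfl

theorem Q₀_eq_zero (hrat : ∀ u : ι → F, ratV F₀ u → Q u ∈ F₀) {u : ι → F₀}
    (h : Q (jV F₀ u) = 0) : Q₀ hrat u = 0 := by
  apply Subtype.ext
  rw [Q₀_apply hrat, h]
  rfl

theorem polar₀_eq_zero (hrat : ∀ u : ι → F, ratV F₀ u → Q u ∈ F₀) {u v : ι → F₀}
    (h : ⟪jV F₀ u, jV F₀ v⟫ = 0) : QuadraticMap.polar (⇑(Q₀ hrat)) u v = 0 := by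
  apply Subtype.ext
  rw [← polar_jV hrat, h]
  rfl

/-- a vector orthogonal to the standard basis vanishes -/
theorem eq_zero_of_polar_single (hQ : (QuadraticMap.polarBilin Q).Nondegenerate) {x : ι → F}
    (h : ∀ i, ⟪x, Pi.single i 1⟫ = 0) : x = 0 := by
  apply hQ.1 x
  have h1 : QuadraticMap.polarBilin Q x = 0 := by
    apply LinearMap.pi_ext
    intro i c
    have e : (Pi.single i c : ι → F) = c • Pi.single i 1 := by
      rw [← Pi.single_smul, smul_eq_mul, mul_one]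
    rw [e, map_smul, QuadraticMap.polarBilin_apply_apply, h i]
    simp
  intro y
  rw [h1]
  rfl

theorem Q₀_nondeg (hR : RatForm F₀ Q) : (QuadraticMap.polarBilin (Q₀ hR.rat)).Nondegenerate := by
  constructor
  · intro u hu
    apply jV_injective F₀
    rw [jV_zero]
    apply eq_zero_of_polar_single hR.nondeg
    intro i
    rw [← jV_single F₀ i, polar_jV hR.rat]
    have := hu (Pi.single i 1)
    rw [QuadraticMap.polarBilin_apply_apply] at this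
    rw [this]
    rfl
  · intro u hu
    apply jV_injective F₀
    rw [jV_zero]
    apply eq_zero_of_polar_single hR.nondeg
    intro i
    rw [← jV_single F₀ i, polar_jV hR.rat, QuadraticMap.polar_comm]
    have := hu (Pi.single i 1)
    rw [QuadraticMap.polarBilin_apply_apply] at this
    rw [this]
    rfl

end

section Exist

variable {ι : Type} [Fintype ι] [DecidableEq ι] {F : Type*} [Field F] [Finite F] {F₀ : Subfield F}
  {Q : QuadraticForm F (ι → F)}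

local notation "⟪" x ", " y "⟫" => QuadraticMap.polar (DFunLike.coe Q) x y

/-- a rational hyperbolic pair orthogonal to a small family of rational vectors -/
theorem rat_hyp_family (hR : RatForm F₀ Q) {k : ℕ} (v : Fin k → ι → F) (hv : ∀ i, ratV F₀ (v i))
    (hk : 2 * k + 3 ≤ Fintype.card ι) :
    ∃ p q, ratV F₀ p ∧ ratV F₀ q ∧ Q p = 0 ∧ Q q = 0 ∧ ⟪p, q⟫ = 1 ∧ (∀ i, ⟪v i, p⟫ = 0) ∧
      (∀ i, ⟪v i, q⟫ = 0) := by
  classical
  have : Fintype F₀ := Fintype.ofFinite _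
  choose v₀ hv₀ using fun i => exists_jV F₀ (hv i)
  obtain ⟨p, q, hp, hq, hpq, h1, h2⟩ :=
    Cfsg.Agent.Lib.helper49.exists_hyp_pair_orth_family (Q₀ hR.rat) (Q₀_nondeg hR) v₀ hk
  refine ⟨jV F₀ p, jV F₀ q, ratV_jV F₀ p, ratV_jV F₀ q, Q_jV_eq_zero hR.rat hp,
    Q_jV_eq_zero hR.rat hq, ?_, ?_, ?_⟩
  · rw [polar_jV hR.rat, hpq]; rfl
  · intro i; rw [← hv₀ i, polar_jV hR.rat, h1 i]; rfl
  · intro i; rw [← hv₀ i, polar_jV hR.rat, h2 i]; rfl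

theorem rat_hyp0 (hR : RatForm F₀ Q) :
    ∃ p q, ratV F₀ p ∧ ratV F₀ q ∧ Q p = 0 ∧ Q q = 0 ∧ ⟪p, q⟫ = 1 := by
  have hc := hR.card
  obtain ⟨p, q, hp, hq, hpQ, hqQ, hpq, -, -⟩ := rat_hyp_family hR (k := 0) (fun i => i.elim0)
    (fun i => i.elim0) (by omega)
  exact ⟨p, q, hp, hq, hpQ, hqQ, hpq⟩

theorem rat_hyp1 (hR : RatForm F₀ Q) {a : ι → F} (ha : ratV F₀ a) :
    ∃ p q, ratV F₀ p ∧ ratV F₀ q ∧ Q p = 0 ∧ Q q = 0 ∧ ⟪p, q⟫ = 1 ∧ ⟪a, p⟫ = 0 ∧ ⟪a, q⟫ = 0 := by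
  have hc := hR.card
  obtain ⟨p, q, hp, hq, hpQ, hqQ, hpq, h1, h2⟩ := rat_hyp_family hR (k := 1) (fun _ => a)
    (fun _ => ha) (by omega)
  exact ⟨p, q, hp, hq, hpQ, hqQ, hpq, h1 0, h2 0⟩

theorem rat_hyp2 (hR : RatForm F₀ Q) {a b : ι → F} (ha : ratV F₀ a) (hb : ratV F₀ b) :
    ∃ p q, ratV F₀ p ∧ ratV F₀ q ∧ Q p = 0 ∧ Q q = 0 ∧ ⟪p, q⟫ = 1 ∧ ⟪a, p⟫ = 0 ∧ ⟪a, q⟫ = 0 ∧
      ⟪b, p⟫ = 0 ∧ ⟪b, q⟫ = 0 := by
  have hc := hR.card
  obtain ⟨p, q, hp, hq, hpQ, hqQ, hpq, h1, h2⟩ := rat_hyp_family hR (k := 2) ![a, b]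
    (by intro i; fin_cases i <;> first | exact ha | exact hb) (by omega)
  exact ⟨p, q, hp, hq, hpQ, hqQ, hpq, h1 0, h2 0, h1 1, h2 1⟩

theorem rat_hyp3 (hR : RatForm F₀ Q) {a b c : ι → F} (ha : ratV F₀ a) (hb : ratV F₀ b)
    (hc : ratV F₀ c) :
    ∃ p q, ratV F₀ p ∧ ratV F₀ q ∧ Q p = 0 ∧ Q q = 0 ∧ ⟪p, q⟫ = 1 ∧ ⟪a, p⟫ = 0 ∧ ⟪a, q⟫ = 0 ∧
      ⟪b, p⟫ = 0 ∧ ⟪b, q⟫ = 0 ∧ ⟪c, p⟫ = 0 ∧ ⟪c, q⟫ = 0 := by
  have hcard := hR.card
  obtain ⟨p, q, hp, hq, hpQ, hqQ, hpq, h1, h2⟩ := rat_hyp_family hR (k := 3) ![a, b, c]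
    (by intro i; fin_cases i <;> first | exact ha | exact hb | exact hc) (by omega)
  exact ⟨p, q, hp, hq, hpQ, hqQ, hpq, h1 0, h2 0, h1 1, h2 1, h1 2, h2 2⟩

theorem rat_hyp4 (hR : RatForm F₀ Q) {a b c d : ι → F} (ha : ratV F₀ a) (hb : ratV F₀ b)
    (hc : ratV F₀ c) (hd : ratV F₀ d) :
    ∃ p q, ratV F₀ p ∧ ratV F₀ q ∧ Q p = 0 ∧ Q q = 0 ∧ ⟪p, q⟫ = 1 ∧ ⟪a, p⟫ = 0 ∧ ⟪a, q⟫ = 0 ∧
      ⟪b, p⟫ = 0 ∧ ⟪b, q⟫ = 0 ∧ ⟪c, p⟫ = 0 ∧ ⟪c, q⟫ = 0 ∧ ⟪d, p⟫ = 0 ∧ ⟪d, q⟫ = 0 := by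
  have hcard := hR.card
  obtain ⟨p, q, hp, hq, hpQ, hqQ, hpq, h1, h2⟩ := rat_hyp_family hR (k := 4) ![a, b, c, d]
    (by intro i; fin_cases i <;> first | exact ha | exact hb | exact hc | exact hd) (by omega)
  exact ⟨p, q, hp, hq, hpQ, hqQ, hpq, h1 0, h2 0, h1 1, h2 1, h1 2, h2 2, h1 3, h2 3⟩

/-- a rational hyperbolic partner -/
theorem rat_partner (hR : RatForm F₀ Q) {a : ι → F} (ha : ratV F₀ a) (ha0 : a ≠ 0) (haQ : Q a = 0) :
    ∃ a', ratV F₀ a' ∧ Q a' = 0 ∧ ⟪a, a'⟫ = 1 := by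
  obtain ⟨a₀, rfl⟩ := exists_jV F₀ ha
  have ha₀0 : a₀ ≠ 0 := by rintro rfl; exact ha0 (jV_zero F₀)
  obtain ⟨f, hf, hef⟩ := Cfsg.Agent.Lib.helper49.exists_hyp_partner (Q₀ hR.rat) (Q₀_nondeg hR) a₀
    ha₀0 (Q₀_eq_zero hR.rat haQ)
  exact ⟨jV F₀ f, ratV_jV F₀ f, Q_jV_eq_zero hR.rat hf, by rw [polar_jV hR.rat, hef]; rfl⟩

/-- a rational vector orthogonal to `b` and pairing to `1` with `v` -/
theorem rat_dual (hR : RatForm F₀ Q) {v b : ι → F} (hv : ratV F₀ v) (hb : ratV F₀ b)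
    (hind : ∀ s : F, v ≠ s • b) : ∃ p, ratV F₀ p ∧ ⟪p, b⟫ = 0 ∧ ⟪p, v⟫ = 1 := by
  classical
  obtain ⟨v₀, rfl⟩ := exists_jV F₀ hv
  obtain ⟨b₀, rfl⟩ := exists_jV F₀ hb
  have hnot : v₀ ∉ Submodule.span F₀ {b₀} := by
    intro h
    obtain ⟨c, hc⟩ := Submodule.mem_span_singleton.mp h
    exact hind (c : F) (by rw [← hc, jV_smul])
  obtain ⟨t, ht1, ht2⟩ := Cfsg.Agent.Lib.helper49.exists_orth_polar_ne (Q₀ hR.rat) (Q₀_nondeg hR) _
    v₀ hnot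
  have hb0 := ht1 b₀ (Submodule.mem_span_singleton_self b₀)
  refine ⟨jV F₀ ((QuadraticMap.polar (⇑(Q₀ hR.rat)) t v₀)⁻¹ • t), ratV_jV F₀ _, ?_, ?_⟩
  · rw [polar_jV hR.rat, QuadraticMap.polar_smul_left, QuadraticMap.polar_comm _ t b₀, hb0, smul_zero]; rfl
  · rw [polar_jV hR.rat, QuadraticMap.polar_smul_left, smul_eq_mul, inv_mul_cancel₀ ht2]; rfl

/-- a vector whose products with all rational vectors are rational is rational -/
theorem ratV_of_polar (hR : RatForm F₀ Q) {x : ι → F} (h : ∀ z, ratV F₀ z → ⟪z, x⟫ ∈ F₀) :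
    ratV F₀ x := by
  let φ : (ι → F₀) →ₗ[F₀] F₀ :=
    { toFun := fun u => ⟨⟪jV F₀ u, x⟫, h _ (ratV_jV F₀ u)⟩
      map_add' := fun u w => by
        apply Subtype.ext
        show ⟪jV F₀ (u + w), x⟫ = ⟪jV F₀ u, x⟫ + ⟪jV F₀ w, x⟫
        rw [jV_add, QuadraticMap.polar_add_left]
      map_smul' := fun c u => by
        apply Subtype.ext
        show ⟪jV F₀ (c • u), x⟫ = (c : F) * ⟪jV F₀ u, x⟫
        rw [jV_smul, QuadraticMap.polar_smul_left, smul_eq_mul] }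
  have hB := Q₀_nondeg hR
  obtain ⟨u₀, hu₀⟩ : ∃ u₀, ∀ w, QuadraticMap.polar (⇑(Q₀ hR.rat)) u₀ w = φ w := by
    refine ⟨(LinearMap.BilinForm.toDual _ hB).symm φ, fun w => ?_⟩
    rw [← QuadraticMap.polarBilin_apply_apply, ← LinearMap.BilinForm.toDual_def hB,
      LinearEquiv.apply_symm_apply]
  have hx : x - jV F₀ u₀ = 0 := by
    apply eq_zero_of_polar_single hR.nondeg
    intro i
    rw [QuadraticMap.polar_sub_left, ← jV_single F₀ i, polar_jV hR.rat, hu₀, QuadraticMap.polar_comm]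
    exact sub_self _
  rw [sub_eq_zero.mp hx]
  exact ratV_jV F₀ u₀

/-- a vector whose products with the rational vectors of `a^⊥` are rational is rational modulo `a` -/
theorem rat_mod_of_polar (hR : RatForm F₀ Q) {a x : ι → F} (ha : ratV F₀ a) (ha0 : a ≠ 0)
    (haQ : Q a = 0) (h : ∀ z, ratV F₀ z → ⟪a, z⟫ = 0 → ⟪z, x⟫ ∈ F₀) :
    ∃ t : F, ratV F₀ (x + t • a) := by
  obtain ⟨a', ha', ha'Q, haa'⟩ := rat_partner hR ha ha0 haQ
  refine ⟨-⟪a', x⟫, ratV_of_polar hR (fun z hz => ?_)⟩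
  have hz' : ratV F₀ (z - ⟪a, z⟫ • a') := ratV_sub hz (ratV_smul (polar_rat hR.rat ha hz) ha')
  have h1 := h _ hz' (by
    rw [QuadraticMap.polar_sub_right, QuadraticMap.polar_smul_right, haa']; simp)
  have e : ⟪z, x + (-⟪a', x⟫) • a⟫ = ⟪z - ⟪a, z⟫ • a', x⟫ := by
    simp only [QuadraticMap.polar_add_right, QuadraticMap.polar_sub_left,
      QuadraticMap.polar_smul_left, QuadraticMap.polar_smul_right, smul_eq_mul]
    rw [QuadraticMap.polar_comm (⇑Q) z a]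
    ring
  rw [e]
  exact h1

/-- a vector orthogonal to the rational vectors of `a^⊥` is a multiple of `a` -/
theorem perp_rat_perp (hR : RatForm F₀ Q) {a x : ι → F} (ha : ratV F₀ a) (ha0 : a ≠ 0)
    (haQ : Q a = 0) (h : ∀ z, ratV F₀ z → ⟪a, z⟫ = 0 → ⟪z, x⟫ = 0) : ∃ t : F, x = t • a := by
  obtain ⟨a', ha', ha'Q, haa'⟩ := rat_partner hR ha ha0 haQ
  refine ⟨⟪a', x⟫, ?_⟩
  have hx : x - ⟪a', x⟫ • a = 0 := by
    apply eq_zero_of_polar_single hR.nondeg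
    intro i
    obtain ⟨z, hzdef⟩ : ∃ z : ι → F, z = Pi.single i 1 := ⟨_, rfl⟩
    rw [← hzdef]
    have hz : ratV F₀ z := by rw [hzdef]; exact ratV_single i F₀.one_mem
    have hz' : ratV F₀ (z - ⟪a, z⟫ • a') := ratV_sub hz (ratV_smul (polar_rat hR.rat ha hz) ha')
    have h1 := h _ hz' (by
      rw [QuadraticMap.polar_sub_right, QuadraticMap.polar_smul_right, haa']; simp)
    have e : ⟪x - ⟪a', x⟫ • a, z⟫ = ⟪z - ⟪a, z⟫ • a', x⟫ := by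
      simp only [QuadraticMap.polar_sub_left, QuadraticMap.polar_smul_left, smul_eq_mul]
      rw [QuadraticMap.polar_comm (⇑Q) x z]
      ring
    rw [e]
    exact h1
  exact sub_eq_zero.mp hx

/-- every rational vector of `a^⊥` is a sum of rational singular vectors of `a^⊥` -/
theorem rat_perp_induction (hR : RatForm F₀ Q) {a : ι → F} (ha : ratV F₀ a) (ha0 : a ≠ 0)
    (haQ : Q a = 0) (P : (ι → F) → Prop) (h0 : P 0)
    (hstep : ∀ v s, P v → ratV F₀ s → Q s = 0 → ⟪a, s⟫ = 0 → P (v + s)) :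
    ∀ z, ratV F₀ z → ⟪a, z⟫ = 0 → P z := by
  classical
  have : Fintype F₀ := Fintype.ofFinite _
  obtain ⟨a₀, rfl⟩ := exists_jV F₀ ha
  have ha₀0 : a₀ ≠ 0 := by rintro rfl; exact ha0 (jV_zero F₀)
  have ha₀Q := Q₀_eq_zero hR.rat haQ
  have hnd₀ := Q₀_nondeg hR
  obtain ⟨f, hf, hef⟩ := Cfsg.Agent.Lib.helper49.exists_hyp_partner (Q₀ hR.rat) hnd₀ a₀ ha₀0 ha₀Q
  have hnd := QGeom.perp2_nondeg (Q₀ hR.rat) hnd₀ ha₀Q hf hef
  have hdim : 5 ≤ finrank F₀ (ι → F₀) := by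
    rw [Module.finrank_fintype_fun_eq_card]
    have := hR.card
    omega
  obtain ⟨z₁, hz₁0, hz₁Q, hz₁a, hz₁f⟩ :=
    QGeom.exists_singular_perp2 (Q₀ hR.rat) hnd₀ ha₀Q hf hef hdim
  have key : ∀ w : QGeom.perp2 (Q₀ hR.rat) a₀ f, P (jV F₀ (w : ι → F₀)) := by
    intro w
    refine QGeom.sum_singular_induction
      (Cfsg.Agent.Lib.helper49.restrictQ (Q₀ hR.rat) (QGeom.perp2 (Q₀ hR.rat) a₀ f)) hnd
      (e := ⟨z₁, (QGeom.mem_perp2 _).mpr ⟨hz₁a, hz₁f⟩⟩) ?_ ?_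
      (fun w : QGeom.perp2 (Q₀ hR.rat) a₀ f => P (jV F₀ (w : ι → F₀))) ?_ ?_ w
    · intro h
      exact hz₁0 (congrArg Subtype.val h)
    · exact hz₁Q
    · exact h0
    · intro v s hv hs
      show P (jV F₀ (v : ι → F₀) + jV F₀ (s : ι → F₀))
      refine hstep _ _ hv (ratV_jV F₀ _) (Q_jV_eq_zero hR.rat hs) ?_
      rw [polar_jV hR.rat, ((QGeom.mem_perp2 _).mp s.2).1]
      rfl
  intro z hz haz
  obtain ⟨z₀, rfl⟩ := exists_jV F₀ hz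
  have haz₀ := polar₀_eq_zero hR.rat haz
  have hmem := QGeom.projE_mem_perp2 (Q₀ hR.rat) ha₀Q hef haz₀
  have h1 := key ⟨_, hmem⟩
  have h2 := hstep _ (jV F₀ ((QuadraticMap.polar (⇑(Q₀ hR.rat)) f z₀) • a₀)) h1 (ratV_jV F₀ _)
    (Q_jV_eq_zero hR.rat (by rw [QuadraticMap.map_smul, ha₀Q, smul_zero]))
    (by
      rw [polar_jV hR.rat, QuadraticMap.polar_smul_right, QGeom.polar_self_sing _ ha₀Q, smul_zero]
      rfl)
  have e : jV F₀ (z₀ + (-(QuadraticMap.polar (⇑(Q₀ hR.rat)) f z₀)) • a₀) +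
      jV F₀ ((QuadraticMap.polar (⇑(Q₀ hR.rat)) f z₀) • a₀) = jV F₀ z₀ := by
    rw [← jV_add]
    congr 1
    module
  rwa [e] at h2

/-- `M` contains the rational root elements -/
def RootIn (F₀ : Subfield F) (Q : QuadraticForm F (ι → F))
    (hQ : (QuadraticMap.polarBilin Q).Nondegenerate) (M : Subgroup ↥(isometryGroup F ⇑Q)) : Prop :=
  ∀ (u v : ι → F) (c : F), ratV F₀ u → ratV F₀ v → c ∈ F₀ → Q u = 0 → Q v = 0 →
    QuadraticMap.polar (⇑Q) u v = 0 → rootElt Q hQ u v c ∈ M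

/-- lifting the root subgroup of the rational form -/
theorem rat_lift (hR : RatForm F₀ Q) {M : Subgroup ↥(isometryGroup F ⇑Q)}
    (hM : RootIn F₀ Q hR.nondeg M) :
    ∀ s ∈ rootSubgroup (Q₀ hR.rat), ∃ m ∈ M, ∀ u,
      act Q m (jV F₀ u) = jV F₀ (act (Q₀ hR.rat) s u) := by
  intro s hs
  unfold rootSubgroup at hs
  induction hs using Subgroup.closure_induction with
  | mem x hx =>
    obtain ⟨u, v, c, hu, hv, huv, rfl⟩ :=
      eq_rootElt_of_mem_rootSet (Q₀ hR.rat) (Q₀_nondeg hR) hx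
    have hu' := Q_jV_eq_zero hR.rat hu
    have hv' := Q_jV_eq_zero hR.rat hv
    have huv' : ⟪jV F₀ u, jV F₀ v⟫ = 0 := by rw [polar_jV hR.rat, huv]; rfl
    refine ⟨rootElt Q hR.nondeg (jV F₀ u) (jV F₀ v) (c : F),
      hM _ _ _ (ratV_jV F₀ u) (ratV_jV F₀ v) c.2 hu' hv' huv', fun x => ?_⟩
    rw [rootElt_act Q hR.nondeg hu' hv' huv', rootElt_act (Q₀ hR.rat) (Q₀_nondeg hR) hu hv huv,
      jV_add, jV_add, jV_smul, jV_smul, polar_jV hR.rat, polar_jV hR.rat]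
    rfl
  | one => exact ⟨1, M.one_mem, fun u => by rw [act_one, act_one]⟩
  | mul x y _ _ hx hy =>
    obtain ⟨m, hm, h1⟩ := hx
    obtain ⟨m', hm', h2⟩ := hy
    exact ⟨m * m', M.mul_mem hm hm', fun u => by rw [act_mul, act_mul, h2, h1]⟩
  | inv x _ hx =>
    obtain ⟨m, hm, h1⟩ := hx
    refine ⟨m⁻¹, M.inv_mem hm, fun u => ?_⟩
    have := h1 (act (Q₀ hR.rat) x⁻¹ u)
    rw [act_act_inv] at this
    rw [← this, act_inv_act]

/-- the rational root elements act transitively on pairs of independent orthogonal rational singular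
vectors, up to a rational scalar -/
theorem rat_trans (hR : RatForm F₀ Q) {M : Subgroup ↥(isometryGroup F ⇑Q)}
    (hM : RootIn F₀ Q hR.nondeg M) {a w a₁ w₁ : ι → F} (ha : ratV F₀ a) (hw : ratV F₀ w)
    (ha₁ : ratV F₀ a₁) (hw₁ : ratV F₀ w₁) (haQ : Q a = 0) (hwQ : Q w = 0) (ha₁Q : Q a₁ = 0)
    (hw₁Q : Q w₁ = 0) (haw : ⟪a, w⟫ = 0) (haw₁ : ⟪a₁, w₁⟫ = 0) (ha0 : a ≠ 0) (ha₁0 : a₁ ≠ 0)
    (hind : ∀ s : F, w ≠ s • a) (hind₁ : ∀ s : F, w₁ ≠ s • a₁) :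
    ∃ m ∈ M, ∃ c : F, c ∈ F₀ ∧ c ≠ 0 ∧ act Q m a = a₁ ∧ act Q m w = c • w₁ := by
  obtain ⟨a₀, rfl⟩ := exists_jV F₀ ha
  obtain ⟨w₀, rfl⟩ := exists_jV F₀ hw
  obtain ⟨b₀, rfl⟩ := exists_jV F₀ ha₁
  obtain ⟨y₀, rfl⟩ := exists_jV F₀ hw₁
  have hnd₀ := Q₀_nondeg hR
  have hc := hR.card
  have ha₀0 : a₀ ≠ 0 := by rintro rfl; exact ha0 (jV_zero F₀)
  have hb₀0 : b₀ ≠ 0 := by rintro rfl; exact ha₁0 (jV_zero F₀)
  obtain ⟨s₁, hs₁, h1⟩ := exists_move_singular (Q₀ hR.rat) hnd₀ (by omega) ha₀0 hb₀0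
    (Q₀_eq_zero hR.rat haQ) (Q₀_eq_zero hR.rat ha₁Q)
  obtain ⟨s₂, hs₂, h2, c, hc0, h3⟩ := exists_fix_move_perp (Q₀ hR.rat) hnd₀ (by omega) (e := b₀)
    (w₁ := act (Q₀ hR.rat) s₁ w₀) (w₂ := y₀) hb₀0 (Q₀_eq_zero hR.rat ha₁Q)
    (by rw [Q_act]; exact Q₀_eq_zero hR.rat hwQ) (Q₀_eq_zero hR.rat hw₁Q)
    (by rw [← h1, polar_act]; exact polar₀_eq_zero hR.rat haw) (polar₀_eq_zero hR.rat haw₁)
    (by
      intro t ht
      rw [← h1, ← map_smul] at ht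
      have := congrArg (act (Q₀ hR.rat) s₁⁻¹) ht
      rw [act_inv_act, act_inv_act] at this
      exact hind (t : F) (by rw [this, jV_smul]))
    (by
      intro t ht
      exact hind₁ (t : F) (by rw [ht, jV_smul]))
  obtain ⟨m, hm, h4⟩ := rat_lift hR hM (s₂ * s₁) (Subgroup.mul_mem _ hs₂ hs₁)
  refine ⟨m, hm, (c : F), c.2, ?_, ?_, ?_⟩
  · intro h
    exact hc0 (Subtype.ext h)
  · rw [h4, act_mul, h1, h2]
  · rw [h4, act_mul, h3, jV_smul]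

/-- Siegel transformations with rational centre and rational vector lie in `M` -/
theorem inA_rat (hR : RatForm F₀ Q) {M : Subgroup ↥(isometryGroup F ⇑Q)}
    (hM : RootIn F₀ Q hR.nondeg M) {b y : ι → F} (hb : ratV F₀ b) (hb0 : b ≠ 0) (hbQ : Q b = 0)
    (hy : ratV F₀ y) (hby : ⟪b, y⟫ = 0) : InA Q M b y := by
  have hc := hR.card
  refine rat_perp_induction hR hb hb0 hbQ (fun z => InA Q M b z) (inA_zero Q M b) ?_ y hy hby
  intro v s hv hs hsQ hbs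
  refine inA_add Q hR.nondeg M (by omega) hb0 hbQ hv ?_
  have h1 := (inA_iff_rootElt Q hR.nondeg M hbQ hsQ hbs 1).mpr
    (hM _ _ _ hb hs (F₀.neg_mem F₀.one_mem) hbQ hsQ hbs)
  rwa [one_smul] at h1

end Exist

end Cfsg.Agent.Lib.helper7.SubfO
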