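/-
helper7: subfield subgroups of orthogonal groups, first half of the dichotomy: an overgroup `M` of
the rational root elements containing a Siegel transformation with rational centre and non-rational
vector contains the whole root subgroup.
-/
import Mathlib
import Cfsg.Agent.Lib.helper7.SubfO2

set_option autoImplicit false

namespace Cfsg.Agent.Lib.helper7.SubfO

open Matrix Cfsg Module
open Cfsg.Agent.Lib.helper7.RootElt Cfsg.Agent.Lib.helper95
open scoped commutatorElement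

section

variable {ι : Type} [Fintype ι] [DecidableEq ι] {F : Type*} [Field F] [Finite F] {F₀ : Subfield F}
  {Q : QuadraticForm F (ι → F)}

local notation "⟪" x ", " y "⟫" => QuadraticMap.polar (DFunLike.coe Q) x y

/-- a non-rational Siegel vector at a rational centre yields a non-rational root element on a
rational totally singular line -/
theorem exists_nonrat_rootElt (hR : RatForm F₀ Q) {M : Subgroup ↥(isometryGroup F ⇑Q)}
    (hM : RootIn F₀ Q hR.nondeg M) {b y : ι → F} (hb : ratV F₀ b) (hb0 : b ≠ 0) (hbQ : Q b = 0)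
    (hy : InA Q M b y) (hnot : ∀ t : F, ¬ ratV F₀ (y + t • b)) :
    ∃ (w : ι → F) (κ : F), ratV F₀ w ∧ Q w = 0 ∧ ⟪b, w⟫ = 0 ∧ (∀ s : F, w ≠ s • b) ∧ κ ∉ F₀ ∧
      rootElt Q hR.nondeg b w κ ∈ M := by
  have hc := hR.card
  have hQ := hR.nondeg
  obtain ⟨w, hw, hwQ, hbw, hκ⟩ : ∃ w, ratV F₀ w ∧ Q w = 0 ∧ ⟪b, w⟫ = 0 ∧ ⟪w, y⟫ ∉ F₀ := by
    by_contra hcon
    push Not at hcon
    have hall : ∀ z, ratV F₀ z → ⟪b, z⟫ = 0 → ⟪z, y⟫ ∈ F₀ := by
      refine rat_perp_induction hR hb hb0 hbQ (fun z => ⟪z, y⟫ ∈ F₀) ?_ ?_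
      · rw [QuadraticMap.polar_zero_left]
        exact F₀.zero_mem
      · intro v s hv hs hsQ hbs
        rw [QuadraticMap.polar_add_left]
        exact F₀.add_mem hv (hcon s hs hsQ hbs)
    obtain ⟨t, ht⟩ := rat_mod_of_polar hR hb hb0 hbQ hall
    exact hnot t ht
  obtain ⟨z, z', hz, hz', hzQ, hz'Q, hzz', hbz, hbz', hwz, hwz'⟩ := rat_hyp2 hR hb hw
  have hz'w : ⟪z', w⟫ = 0 := by rw [QuadraticMap.polar_comm]; exact hwz'
  have hz'z : ⟪z', z⟫ = 1 := by rw [QuadraticMap.polar_comm]; exact hzz'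
  have h1 := inA_rule Q hQ M (by omega) hb0 hbQ hwQ hzQ hwz hbw hbz
    (hM _ _ _ hw hz F₀.one_mem hwQ hzQ hwz) hy
  have h2 := inA_rule Q hQ M (by omega) hb0 hbQ hz'Q hwQ hz'w hbz' hbw
    (hM _ _ _ hz' hw F₀.one_mem hz'Q hwQ hz'w) h1
  have e : ⟪z', ⟪w, y⟫ • z + (-⟪z, y⟫) • w⟫ • w + (-⟪w, ⟪w, y⟫ • z + (-⟪z, y⟫) • w⟫) • z' =
      ⟪w, y⟫ • w := by
    simp only [QuadraticMap.polar_add_right, QuadraticMap.polar_smul_right, smul_eq_mul, hz'z, hz'w,
      hwz, QGeom.polar_self_sing Q hwQ]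
    module
  rw [e] at h2
  refine ⟨w, -⟪w, y⟫, hw, hwQ, hbw, ?_, fun h => hκ (by simpa using F₀.neg_mem h),
    (inA_iff_rootElt Q hQ M hbQ hwQ hbw _).mp h2⟩
  intro s hs
  apply hκ
  rw [hs, QuadraticMap.polar_smul_left, hy.1, smul_zero]
  exact F₀.zero_mem

/-- a non-rational root element on a rational totally singular line forces all root elements on
rational lines into `M` -/
theorem all_rat_rootElt (hR : RatForm F₀ Q) (hso : IsSimpleOrder (Subalgebra F₀ F))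
    {M : Subgroup ↥(isometryGroup F ⇑Q)} (hM : RootIn F₀ Q hR.nondeg M) {b w : ι → F} {κ : F}
    (hb : ratV F₀ b) (hb0 : b ≠ 0) (hbQ : Q b = 0) (hw : ratV F₀ w) (hwQ : Q w = 0)
    (hbw : ⟪b, w⟫ = 0) (hind : ∀ s : F, w ≠ s • b) (hκ : κ ∉ F₀)
    (hκM : rootElt Q hR.nondeg b w κ ∈ M) :
    ∀ a₁ w₁ : ι → F, ratV F₀ a₁ → ratV F₀ w₁ → Q a₁ = 0 → Q w₁ = 0 → ⟪a₁, w₁⟫ = 0 → ∀ c : F,
      rootElt Q hR.nondeg a₁ w₁ c ∈ M := by
  have hc := hR.card
  have hQ := hR.nondeg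
  have hw0 : w ≠ 0 := by
    intro h
    exact hind 0 (by rw [h, zero_smul])
  obtain ⟨p, p', hp, hp', hpQ, hp'Q, hpp', hbp, hbp', hwp, hwp'⟩ := rat_hyp2 hR hb hw
  have hp'p : ⟪p', p⟫ = 1 := by rw [QuadraticMap.polar_comm]; exact hpp'
  have hcomm : ∀ g h : ↥(isometryGroup F ⇑Q), g ∈ M → h ∈ M → ⁅g, h⁆ ∈ M := by
    intro g h hg hh
    rw [commutatorElement_def]
    exact M.mul_mem (M.mul_mem (M.mul_mem hg hh) (M.inv_mem hg)) (M.inv_mem hh)
  -- transport from `(b, w)` to `(b, p')`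
  obtain ⟨m₁, hm₁, c₁, hc₁, hc₁0, hm₁b, hm₁w⟩ := rat_trans hR hM hb hw hb hp' hbQ hwQ hbQ hp'Q hbw
    hbp' hb0 hb0 hind (by
      intro s hs
      rw [hs, QuadraticMap.polar_smul_right, QuadraticMap.polar_comm, hbp, smul_zero] at hpp'
      exact zero_ne_one hpp')
  have hT1 : ∀ t : F, rootElt Q hQ b w t ∈ M → rootElt Q hQ b p' (c₁ * t) ∈ M := by
    intro t ht
    have h1 := M.mul_mem (M.mul_mem hm₁ ht) (M.inv_mem hm₁)
    rwa [conj_rootElt Q hQ m₁ hbQ hwQ hbw, hm₁b, hm₁w, rootElt_smul_right Q hQ hbQ hp'Q hbp'] at h1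
  -- transport from `(b, w)` to `(w, p)`
  obtain ⟨m₂, hm₂, c₂, hc₂, hc₂0, hm₂b, hm₂w⟩ := rat_trans hR hM hb hw hw hp hbQ hwQ hwQ hpQ hbw
    hwp hb0 hw0 hind (by
      intro s hs
      rw [hs, QuadraticMap.polar_smul_left, hwp', smul_zero] at hpp'
      exact zero_ne_one hpp')
  have hT2 : ∀ t : F, rootElt Q hQ b w t ∈ M → rootElt Q hQ w p (c₂ * t) ∈ M := by
    intro t ht
    have h1 := M.mul_mem (M.mul_mem hm₂ ht) (M.inv_mem hm₂)
    rwa [conj_rootElt Q hQ m₂ hbQ hwQ hbw, hm₂b, hm₂w, rootElt_smul_right Q hQ hwQ hpQ hwp] at h1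
  have hcm : ∀ s t : F, ⁅rootElt Q hQ b p' s, rootElt Q hQ w p t⁆ = rootElt Q hQ b w (s * t) :=
    fun s t => commutator_rootElt' Q hQ hbQ hp'Q hwQ hpQ hbp' hwp hbw hbp hwp' hp'p s t
  have hsmul : ∀ t : F, rootElt Q hQ b w t ∈ M → ∀ c₀ ∈ F₀, rootElt Q hQ b w (c₀ * t) ∈ M := by
    intro t ht c₀ hc₀
    have h1 := hcomm _ _ (hT1 t ht)
      (hM w p (c₁⁻¹ * c₀) hw hp (F₀.mul_mem (F₀.inv_mem hc₁) hc₀) hwQ hpQ hwp)
    rw [hcm] at h1
    have e : c₁ * t * (c₁⁻¹ * c₀) = c₀ * t := by field_simp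
    rwa [e] at h1
  have hmul : ∀ s t : F, rootElt Q hQ b w s ∈ M → rootElt Q hQ b w t ∈ M →
      rootElt Q hQ b w (s * t) ∈ M := by
    intro s t hs ht
    have h1 := hcomm _ _ (hT1 s hs) (hT2 t ht)
    rw [hcm] at h1
    have h2 := hsmul _ h1 (c₁ * c₂)⁻¹ (F₀.inv_mem (F₀.mul_mem hc₁ hc₂))
    have e : (c₁ * c₂)⁻¹ * (c₁ * s * (c₂ * t)) = s * t := by field_simp
    rwa [e] at h2
  let D : Subalgebra F₀ F :=
    { carrier := {c | rootElt Q hQ b w c ∈ M}
      mul_mem' := fun {s t} hs ht => hmul s t hs ht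
      add_mem' := fun {s t} hs ht => by
        show rootElt Q hQ b w (s + t) ∈ M
        rw [rootElt_add Q hQ hbQ hwQ hbw]
        exact M.mul_mem hs ht
      algebraMap_mem' := fun c => hM b w (c : F) hb hw c.2 hbQ hwQ hbw }
  have hDmem : ∀ c : F, c ∈ D ↔ rootElt Q hQ b w c ∈ M := fun c => Iff.rfl
  have hall : ∀ c : F, rootElt Q hQ b w c ∈ M := by
    intro c
    rw [← hDmem]
    haveI := hso
    rcases eq_bot_or_eq_top D with hD | hD
    · exfalso
      have h1 : κ ∈ D := (hDmem κ).mpr hκM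
      rw [hD, Algebra.mem_bot] at h1
      obtain ⟨y, hy⟩ := h1
      apply hκ
      rw [← hy]
      exact y.2
    · rw [hD]
      exact Algebra.mem_top
  intro a₁ w₁ ha₁ hw₁ ha₁Q hw₁Q haw₁ c
  by_cases ha₁0 : a₁ = 0
  · rw [ha₁0, rootElt_eq_one_of_zero]
    exact M.one_mem
  by_cases hdep : ∃ s : F, w₁ = s • a₁
  · obtain ⟨s, rfl⟩ := hdep
    rw [rootElt_eq_one_of_smul]
    exact M.one_mem
  push Not at hdep
  obtain ⟨m, hm, c₃, hc₃, hc₃0, hmb, hmw⟩ := rat_trans hR hM hb hw ha₁ hw₁ hbQ hwQ ha₁Q hw₁Q hbw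
    haw₁ hb0 ha₁0 hind hdep
  have h1 := M.mul_mem (M.mul_mem hm (hall (c₃⁻¹ * c))) (M.inv_mem hm)
  rw [conj_rootElt Q hQ m hbQ hwQ hbw, hmb, hmw, rootElt_smul_right Q hQ ha₁Q hw₁Q haw₁] at h1
  have e : c₃ * (c₃⁻¹ * c) = c := by field_simp
  rwa [e] at h1

/-- First half of the dichotomy: a Siegel transformation in `M` with rational centre and a vector
which is not rational modulo the centre forces `M` to contain the root subgroup. -/
theorem rootSubgroup_le_of_not_rat (hR : RatForm F₀ Q) (hso : IsSimpleOrder (Subalgebra F₀ F))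
    {M : Subgroup ↥(isometryGroup F ⇑Q)} (hM : RootIn F₀ Q hR.nondeg M) {b y : ι → F}
    (hb : ratV F₀ b) (hb0 : b ≠ 0) (hbQ : Q b = 0) (hy : InA Q M b y)
    (hnot : ∀ t : F, ¬ ratV F₀ (y + t • b)) : rootSubgroup Q ≤ M := by
  have hc := hR.card
  have hQ := hR.nondeg
  obtain ⟨w, κ, hw, hwQ, hbw, hind, hκ, hκM⟩ := exists_nonrat_rootElt hR hM hb hb0 hbQ hy hnot
  have hall := all_rat_rootElt hR hso hM hb hb0 hbQ hw hwQ hbw hind hκ hκM
  have hfull : ∀ a₁ : ι → F, ratV F₀ a₁ → a₁ ≠ 0 → Q a₁ = 0 → FullAt Q M a₁ := by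
    intro a₁ ha₁ ha₁0 ha₁Q
    have h1 : ∀ z, ratV F₀ z → ⟪a₁, z⟫ = 0 → ∀ c : F, InA Q M a₁ (c • z) := by
      refine rat_perp_induction hR ha₁ ha₁0 ha₁Q (fun z => ∀ c : F, InA Q M a₁ (c • z)) ?_ ?_
      · intro c
        rw [smul_zero]
        exact inA_zero Q M a₁
      · intro v s hv hs hsQ has c
        rw [smul_add]
        exact inA_add Q hQ M (by omega) ha₁0 ha₁Q (hv c)
          ((inA_iff_rootElt Q hQ M ha₁Q hsQ has c).mpr (hall a₁ s ha₁ hs ha₁Q hsQ has _))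
    obtain ⟨a', ha', ha'Q, haa'⟩ := rat_partner hR ha₁ ha₁0 ha₁Q
    have h2 : ∀ (x : ι → F) (S : Finset ι),
        InA Q M a₁ ((∑ i ∈ S, Pi.single i (x i)) - ⟪a₁, ∑ i ∈ S, Pi.single i (x i)⟫ • a') := by
      intro x S
      induction S using Finset.induction_on with
      | empty =>
        rw [Finset.sum_empty, QuadraticMap.polar_zero_right, zero_smul, sub_zero]
        exact inA_zero Q M a₁
      | insert i S hi ih =>
        rw [Finset.sum_insert hi]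
        have e : Pi.single i (x i) + ∑ j ∈ S, Pi.single j (x j) -
            ⟪a₁, Pi.single i (x i) + ∑ j ∈ S, Pi.single j (x j)⟫ • a' =
            x i • (Pi.single i 1 - ⟪a₁, Pi.single i 1⟫ • a') +
            ((∑ j ∈ S, Pi.single j (x j)) - ⟪a₁, ∑ j ∈ S, Pi.single j (x j)⟫ • a') := by
          have e1 : (Pi.single i (x i) : ι → F) = x i • Pi.single i 1 := by
            rw [← Pi.single_smul, smul_eq_mul, mul_one]
          rw [e1, QuadraticMap.polar_add_right, QuadraticMap.polar_smul_right, smul_eq_mul]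
          module
        rw [e]
        refine inA_add Q hQ M (by omega) ha₁0 ha₁Q (h1 _ ?_ ?_ _) ih
        · exact ratV_sub (ratV_single i F₀.one_mem)
            (ratV_smul (polar_rat hR.rat ha₁ (ratV_single i F₀.one_mem)) ha')
        · rw [QuadraticMap.polar_sub_right, QuadraticMap.polar_smul_right, haa']
          simp
    refine ⟨ha₁0, ha₁Q, fun y hy => ⟨hy, fun c g hg => ?_⟩⟩
    have h3 := h2 (c • y) Finset.univ
    rw [Finset.univ_sum_single, QuadraticMap.polar_smul_right, hy, smul_zero, zero_smul,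
      sub_zero] at h3
    exact h3.2 g hg
  obtain ⟨p, q, hp, hq, hpQ, hqQ, hpq⟩ := rat_hyp0 hR
  have hp0 : p ≠ 0 := by
    rintro rfl
    rw [QuadraticMap.polar_zero_left] at hpq
    exact zero_ne_one hpq
  have hq0 : q ≠ 0 := by
    rintro rfl
    rw [QuadraticMap.polar_zero_right] at hpq
    exact zero_ne_one hpq
  exact rootSubgroup_le_of_fullAt_pair Q hQ M (by omega) (hfull p hp hp0 hpQ) (hfull q hq hq0 hqQ)
    (by rw [hpq]; exact one_ne_zero)

end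

end Cfsg.Agent.Lib.helper7.SubfO
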