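/-
helper7: subfield subgroups of orthogonal groups, second half of the dichotomy: if all Siegel
transformations of `M` with rational centre are rational modulo the centre, then every element of `M`
is a scalar multiple of a rational matrix.
-/
import Mathlib
import Cfsg.Agent.Lib.helper7.SubfO2

set_option autoImplicit false

namespace Cfsg.Agent.Lib.helper7.SubfO

open Matrix Cfsg Module
open Cfsg.Agent.Lib.helper7.RootElt Cfsg.Agent.Lib.helper95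
open scoped commutatorElement

section

variable {ι : Type} [Fintype ι] [DecidableEq ι] {F : Type*} [Field F] [Finite F]

/-- Siegel transformations of `M` with rational centre have a vector which is rational modulo the
centre -/
def RatRad (F₀ : Subfield F) (Q : QuadraticForm F (ι → F)) (M : Subgroup ↥(isometryGroup F ⇑Q)) :
    Prop :=
  ∀ b y : ι → F, ratV F₀ b → b ≠ 0 → Q b = 0 → InA Q M b y → ∃ t : F, ratV F₀ (y + t • b)

variable {F₀ : Subfield F} {Q : QuadraticForm F (ι → F)}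

local notation "⟪" x ", " y "⟫" => QuadraticMap.polar (DFunLike.coe Q) x y

omit [Finite F] in
theorem act_smul_facts {g : ↥(isometryGroup F ⇑Q)} {b b' : ι → F} {l : F} (hb0 : b ≠ 0)
    (hbQ : Q b = 0) (hgb : act Q g b = l • b') :
    l ≠ 0 ∧ b' ≠ 0 ∧ Q b' = 0 ∧ ∀ y, ⟪b, y⟫ = 0 → ⟪act Q g y, b'⟫ = 0 := by
  have hl0 : l ≠ 0 := by
    rintro rfl
    rw [zero_smul] at hgb
    exact hb0 ((act_eq_zero_iff Q g b).mp hgb)
  have hb'eq : b' = l⁻¹ • act Q g b := by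
    rw [hgb, smul_smul, inv_mul_cancel₀ hl0, one_smul]
  refine ⟨hl0, ?_, ?_, ?_⟩
  · rintro rfl
    rw [smul_zero] at hgb
    exact hb0 ((act_eq_zero_iff Q g b).mp hgb)
  · rw [hb'eq, QuadraticMap.map_smul, Q_act, hbQ, smul_zero]
  · intro y hy
    rw [hb'eq, QuadraticMap.polar_smul_right, polar_act, QuadraticMap.polar_comm, hy, smul_zero]

theorem rat_mod_act (hR : RatForm F₀ Q) {M : Subgroup ↥(isometryGroup F ⇑Q)}
    (hM : RootIn F₀ Q hR.nondeg M) (hH : RatRad F₀ Q M) {g : ↥(isometryGroup F ⇑Q)} (hg : g ∈ M)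
    {b b' : ι → F} {l : F} (hb : ratV F₀ b) (hb0 : b ≠ 0) (hbQ : Q b = 0) (hb' : ratV F₀ b')
    (hgb : act Q g b = l • b') {y : ι → F} (hy : ratV F₀ y) (hby : ⟪b, y⟫ = 0) :
    ∃ t : F, ratV F₀ (l • act Q g y + t • b') := by
  obtain ⟨hl0, hb'0, hb'Q, -⟩ := act_smul_facts hb0 hbQ hgb
  have h1 := inA_conj Q M hg (inA_rat hR hM hb hb0 hbQ hy hby)
  rw [hgb] at h1
  exact hH b' _ hb' hb'0 hb'Q ((inA_smul_iff Q M b' (act Q g y) l).mp h1)

theorem sq_mem_of_act (hR : RatForm F₀ Q) {M : Subgroup ↥(isometryGroup F ⇑Q)}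
    (hM : RootIn F₀ Q hR.nondeg M) (hH : RatRad F₀ Q M) {g : ↥(isometryGroup F ⇑Q)} (hg : g ∈ M)
    {b b' : ι → F} {l : F} (hb : ratV F₀ b) (hb0 : b ≠ 0) (hbQ : Q b = 0) (hb' : ratV F₀ b')
    (hgb : act Q g b = l • b') : l * l ∈ F₀ := by
  obtain ⟨hl0, hb'0, hb'Q, hperp⟩ := act_smul_facts hb0 hbQ hgb
  obtain ⟨y, y', hy, hy', hyQ, hy'Q, hyy', hby, hby'⟩ := rat_hyp1 hR hb
  obtain ⟨t₁, h1⟩ := rat_mod_act hR hM hH hg hb hb0 hbQ hb' hgb hy hby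
  obtain ⟨t₂, h2⟩ := rat_mod_act hR hM hH hg hb hb0 hbQ hb' hgb hy' hby'
  have h3 := polar_rat hR.rat h1 h2
  have e1 := hperp y hby
  have e2 : ⟪b', act Q g y'⟫ = 0 := by rw [QuadraticMap.polar_comm]; exact hperp y' hby'
  have e : ⟪l • act Q g y + t₁ • b', l • act Q g y' + t₂ • b'⟫ = l * l := by
    simp only [QuadraticMap.polar_add_left, QuadraticMap.polar_add_right,
      QuadraticMap.polar_smul_left, QuadraticMap.polar_smul_right, smul_eq_mul, polar_act, hyy', e1,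
      e2, QGeom.polar_self_sing Q hb'Q]
    ring
  rwa [e] at h3

/-- if `g ∈ M` maps a rational singular vector into a rational totally singular line, the image is a
rational point of that line -/
theorem rat_coeff_of_line (hR : RatForm F₀ Q) {M : Subgroup ↥(isometryGroup F ⇑Q)}
    (hM : RootIn F₀ Q hR.nondeg M) (hH : RatRad F₀ Q M) {g : ↥(isometryGroup F ⇑Q)} (hg : g ∈ M)
    {a a₂ c₂ : ι → F} {l τ : F} (ha : ratV F₀ a) (ha0 : a ≠ 0) (haQ : Q a = 0) (ha₂ : ratV F₀ a₂)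
    (hc₂ : ratV F₀ c₂) (ha₂Q : Q a₂ = 0) (hc₂Q : Q c₂ = 0) (hac : ⟪a₂, c₂⟫ = 0) (hc₂0 : c₂ ≠ 0)
    (hind : ∀ s : F, a₂ ≠ s • c₂) (hga : act Q g a = l • (a₂ + τ • c₂)) : τ ∈ F₀ := by
  by_contra hτ
  have hc := hR.card
  have hQ := hR.nondeg
  obtain ⟨z, hzdef⟩ : ∃ z : ι → F, z = a₂ + τ • c₂ := ⟨_, rfl⟩
  rw [← hzdef] at hga
  have hzQ : Q z = 0 := by
    rw [hzdef, QuadraticMap.map_add (⇑Q), QuadraticMap.map_smul, QuadraticMap.polar_smul_right,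
      ha₂Q, hc₂Q, hac]
    simp
  have hz0 : z ≠ 0 := by
    intro h
    apply hind (-τ)
    rw [hzdef] at h
    rw [neg_smul]
    exact eq_neg_of_add_eq_zero_left h
  have hl0 : l ≠ 0 := by
    rintro rfl
    rw [zero_smul] at hga
    exact ha0 ((act_eq_zero_iff Q g a).mp hga)
  obtain ⟨p₁, hp₁, hp₁c, hp₁a⟩ := rat_dual hR ha₂ hc₂ hind
  obtain ⟨p₂, hp₂, hp₂a, hp₂c⟩ := rat_dual hR hc₂ ha₂ (by
    intro s hs
    by_cases hs0 : s = 0
    · rw [hs0, zero_smul] at hs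
      exact hc₂0 hs
    · exact hind s⁻¹ (by rw [hs, smul_smul, inv_mul_cancel₀ hs0, one_smul]))
  obtain ⟨f, f', hf, hf', hfQ, hf'Q, hff', ha₂f, ha₂f', hc₂f, hc₂f', hp₁f, hp₁f', hp₂f, hp₂f'⟩ :=
    rat_hyp4 hR ha₂ hc₂ hp₁ hp₂
  obtain ⟨e, e', he, he', heQ, he'Q, hee', ha₂e, ha₂e', hc₂e, hc₂e', hfe, hfe'⟩ :=
    rat_hyp3 hR ha₂ hc₂ hf
  have hf0 : f ≠ 0 := by
    rintro rfl
    rw [QuadraticMap.polar_zero_left] at hff'
    exact zero_ne_one hff'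
  have hze : ⟪z, e⟫ = 0 := by
    rw [hzdef, QuadraticMap.polar_add_left, QuadraticMap.polar_smul_left, ha₂e, hc₂e]
    simp
  have hzf : ⟪z, f⟫ = 0 := by
    rw [hzdef, QuadraticMap.polar_add_left, QuadraticMap.polar_smul_left, ha₂f, hc₂f]
    simp
  have hze' : ⟪z, e'⟫ = 0 := by
    rw [hzdef, QuadraticMap.polar_add_left, QuadraticMap.polar_smul_left, ha₂e', hc₂e']
    simp
  have hef : ⟪e, f⟫ = 0 := by rw [QuadraticMap.polar_comm]; exact hfe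
  have he'e : ⟪e', e⟫ = 1 := by rw [QuadraticMap.polar_comm]; exact hee'
  have he'f : ⟪e', f⟫ = 0 := by rw [QuadraticMap.polar_comm]; exact hfe'
  have claim : ∀ v, InA Q M z v → ⟪f, v⟫ = 0 := by
    intro v hv
    have h1 := inA_rule Q hQ M (by omega) hz0 hzQ heQ hfQ hef hze hzf
      (hM _ _ _ he hf F₀.one_mem heQ hfQ hef) hv
    have h2 := inA_rule Q hQ M (by omega) hz0 hzQ hfQ he'Q hfe' hzf hze'
      (hM _ _ _ hf he' F₀.one_mem hfQ he'Q hfe') h1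
    have e1 : ⟪f, ⟪e, v⟫ • f + (-⟪f, v⟫) • e⟫ • e' + (-⟪e', ⟪e, v⟫ • f + (-⟪f, v⟫) • e⟫) • f =
        ⟪f, v⟫ • f := by
      simp only [QuadraticMap.polar_add_right, QuadraticMap.polar_smul_right, smul_eq_mul,
        QGeom.polar_self_sing Q hfQ, hfe, he'f, he'e]
      module
    rw [e1] at h2
    have h3 := (inA_swap Q hQ M hzQ hfQ hzf _).mp h2
    obtain ⟨t, ht⟩ := hH f _ hf hf0 hfQ h3
    have h4 := polar_rat hR.rat hp₁ ht
    have h5 := polar_rat hR.rat hp₂ ht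
    have e4 : ⟪p₁, (-⟪f, v⟫) • z + t • f⟫ = -⟪f, v⟫ := by
      rw [hzdef]
      simp only [QuadraticMap.polar_add_right, QuadraticMap.polar_smul_right, smul_eq_mul, hp₁a,
        hp₁c, hp₁f]
      ring
    have e5 : ⟪p₂, (-⟪f, v⟫) • z + t • f⟫ = -⟪f, v⟫ * τ := by
      rw [hzdef]
      simp only [QuadraticMap.polar_add_right, QuadraticMap.polar_smul_right, smul_eq_mul, hp₂a,
        hp₂c, hp₂f]
      ring
    rw [e4] at h4
    rw [e5] at h5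
    by_contra hβ
    apply hτ
    have e6 : τ = (-⟪f, v⟫)⁻¹ * (-⟪f, v⟫ * τ) := by
      field_simp
    rw [e6]
    exact F₀.mul_mem (F₀.inv_mem h4) h5
  have h6 : ∀ y, ratV F₀ y → ⟪a, y⟫ = 0 → ⟪y, act Q g⁻¹ f⟫ = 0 := by
    intro y hy hay
    have h1 := inA_conj Q M hg (inA_rat hR hM ha ha0 haQ hy hay)
    rw [hga] at h1
    have h2 := (inA_smul_iff Q M z (act Q g y) l).mp h1
    have h3 := claim _ h2
    rw [QuadraticMap.polar_smul_right, smul_eq_mul] at h3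
    have h4 : ⟪f, act Q g y⟫ = 0 := (mul_eq_zero.mp h3).resolve_left hl0
    rw [polar_act_right] at h4
    rw [QuadraticMap.polar_comm]
    exact h4
  obtain ⟨t, ht⟩ := perp_rat_perp hR ha ha0 haQ h6
  have h7 : f = (t * l) • z := by
    have := congrArg (act Q g) ht
    rw [act_act_inv, map_smul, hga, smul_smul] at this
    exact this
  have h8 := hp₁f
  rw [h7, hzdef, QuadraticMap.polar_smul_right, QuadraticMap.polar_add_right,
    QuadraticMap.polar_smul_right, hp₁a, hp₁c] at h8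
  simp only [smul_eq_mul, mul_zero, add_zero, mul_one] at h8
  apply hf0
  rw [h7, h8, zero_smul]

/-- if `g ∈ M` maps a rational singular vector `b` to `l • b'` with `b'` rational, then `l • g` is
rational on the rational vectors of `b^⊥` -/
theorem rat_act_perp (hR : RatForm F₀ Q) {M : Subgroup ↥(isometryGroup F ⇑Q)}
    (hM : RootIn F₀ Q hR.nondeg M) (hH : RatRad F₀ Q M) {g : ↥(isometryGroup F ⇑Q)} (hg : g ∈ M)
    {b b' : ι → F} {l : F} (hb : ratV F₀ b) (hb0 : b ≠ 0) (hbQ : Q b = 0) (hb' : ratV F₀ b')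
    (hgb : act Q g b = l • b') : ∀ y, ratV F₀ y → ⟪b, y⟫ = 0 → ratV F₀ (l • act Q g y) := by
  obtain ⟨hl0, hb'0, hb'Q, hperp⟩ := act_smul_facts hb0 hbQ hgb
  have hsq := sq_mem_of_act hR hM hH hg hb hb0 hbQ hb' hgb
  refine rat_perp_induction hR hb hb0 hbQ (fun y => ratV F₀ (l • act Q g y)) ?_ ?_
  · rw [map_zero, smul_zero]
    exact ratV_zero' F₀
  · intro v s hv hs hsQ hbs
    rw [map_add, smul_add]
    refine ratV_add hv ?_
    by_cases hdep : ∃ c : F, s = c • b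
    · obtain ⟨c, hc⟩ := hdep
      have hcF := rat_coeff F₀ hs hb hb0 hc
      rw [hc, map_smul, hgb, smul_smul, smul_smul]
      have e : l * c * l = c * (l * l) := by ring
      rw [e]
      exact ratV_smul (F₀.mul_mem hcF hsq) hb'
    · push Not at hdep
      obtain ⟨t, ht⟩ := rat_mod_act hR hM hH hg hb hb0 hbQ hb' hgb hs hbs
      obtain ⟨r, hr⟩ : ∃ r : ι → F, r = l • act Q g s + t • b' := ⟨_, rfl⟩
      rw [← hr] at ht
      have hgsb' := hperp s hbs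
      have hrQ : Q r = 0 := by
        rw [hr, QuadraticMap.map_add (⇑Q), QuadraticMap.map_smul, QuadraticMap.map_smul, Q_act, hsQ,
          hb'Q, QuadraticMap.polar_smul_left, QuadraticMap.polar_smul_right, hgsb']
        simp
      have hrb' : ⟪r, b'⟫ = 0 := by
        rw [hr, QuadraticMap.polar_add_left, QuadraticMap.polar_smul_left,
          QuadraticMap.polar_smul_left, hgsb', QGeom.polar_self_sing Q hb'Q]
        simp
      have hindr : ∀ c : F, r ≠ c • b' := by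
        intro c hc
        apply hdep (l⁻¹ * ((c - t) * l⁻¹))
        have h1 : l • act Q g s = (c - t) • b' := by
          rw [sub_smul, ← hc, hr]
          abel
        have h2 : act Q g s = act Q g ((l⁻¹ * ((c - t) * l⁻¹)) • b) := by
          rw [map_smul, hgb, smul_smul]
          have e : l⁻¹ * ((c - t) * l⁻¹) * l = l⁻¹ * (c - t) := by field_simp
          rw [e, ← smul_smul, ← h1, smul_smul, inv_mul_cancel₀ hl0, one_smul]
        have h3 := congrArg (act Q g⁻¹) h2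
        rwa [act_inv_act, act_inv_act] at h3
      have hs0 : s ≠ 0 := fun h => hdep 0 (by rw [h, zero_smul])
      have hga : act Q g s = l⁻¹ • (r + (-t) • b') := by
        rw [hr, neg_smul, add_neg_cancel_right, smul_smul, inv_mul_cancel₀ hl0, one_smul]
      have htF := rat_coeff_of_line hR hM hH hg hs hs0 hsQ ht hb' hrQ hb'Q hrb' hb'0 hindr hga
      have e : l • act Q g s = r - t • b' := by
        rw [hr]
        abel
      rw [e]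
      exact ratV_sub ht (ratV_smul (by simpa using F₀.neg_mem htF) hb')

/-- an element of `M` mapping a rational singular point to a rational point is a scalar multiple of
a rational transformation -/
theorem rat_act_of_point (hR : RatForm F₀ Q) {M : Subgroup ↥(isometryGroup F ⇑Q)}
    (hM : RootIn F₀ Q hR.nondeg M) (hH : RatRad F₀ Q M) {g : ↥(isometryGroup F ⇑Q)} (hg : g ∈ M)
    {b b' : ι → F} {l : F} (hb : ratV F₀ b) (hb0 : b ≠ 0) (hbQ : Q b = 0) (hb' : ratV F₀ b')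
    (hgb : act Q g b = l • b') : l ≠ 0 ∧ ∀ z, ratV F₀ z → ratV F₀ (l • act Q g z) := by
  obtain ⟨hl0, hb'0, hb'Q, hperp⟩ := act_smul_facts hb0 hbQ hgb
  obtain ⟨y, y', hy, hy', hyQ, hy'Q, hyy', hby, hby'⟩ := rat_hyp1 hR hb
  have hy0 : y ≠ 0 := by
    rintro rfl
    rw [QuadraticMap.polar_zero_left] at hyy'
    exact zero_ne_one hyy'
  have hindy : ∀ s : F, b ≠ s • y := by
    intro s hs
    rw [hs, QuadraticMap.polar_smul_left, hyy', smul_eq_mul, mul_one] at hby'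
    rw [hby', zero_smul] at hs
    exact hb0 hs
  have h1 := rat_act_perp hR hM hH hg hb hb0 hbQ hb' hgb
  have hr := h1 y hy hby
  have hgy : act Q g y = l⁻¹ • (l • act Q g y) := by
    rw [smul_smul, inv_mul_cancel₀ hl0, one_smul]
  have h2 := rat_act_perp hR hM hH hg hy hy0 hyQ hr hgy
  have hsq := sq_mem_of_act hR hM hH hg hb hb0 hbQ hb' hgb
  obtain ⟨p, hp, hpy, hpb⟩ := rat_dual hR hb hy hindy
  refine ⟨hl0, fun z hz => ?_⟩
  have e : l • act Q g z = l • act Q g (z - ⟪b, z⟫ • p) + l • act Q g (⟪b, z⟫ • p) := by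
    rw [← smul_add, ← map_add, sub_add_cancel]
  rw [e]
  have hbz := polar_rat hR.rat hb hz
  refine ratV_add (h1 _ (ratV_sub hz (ratV_smul hbz hp)) ?_) ?_
  · rw [QuadraticMap.polar_sub_right, QuadraticMap.polar_smul_right, QuadraticMap.polar_comm (⇑Q) b p,
      hpb]
    simp
  · have h3 := h2 (⟪b, z⟫ • p) (ratV_smul hbz hp) (by
      rw [QuadraticMap.polar_smul_right, QuadraticMap.polar_comm (⇑Q) y p, hpy, smul_zero])
    have e2 : l • act Q g (⟪b, z⟫ • p) = (l * l) • (l⁻¹ • act Q g (⟪b, z⟫ • p)) := by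
      rw [smul_smul, mul_assoc, mul_inv_cancel₀ hl0, mul_one]
    rw [e2]
    exact ratV_smul hsq h3

omit [Finite F] in
/-- normalising a root element against a singular vector `v` -/
theorem normalise_rootElt (hQ : (QuadraticMap.polarBilin Q).Nondegenerate) {x y v b : ι → F} (c : F)
    (hxQ : Q x = 0) (hyQ : Q y = 0) (hxy : ⟪x, y⟫ = 0) (hxb : ⟪x, b⟫ = 0) (hyb : ⟪y, b⟫ = 1)
    (hxv : ⟪x, v⟫ ≠ 0) :
    ∃ y₁ : ι → F, Q ((⟪x, v⟫)⁻¹ • x) = 0 ∧ Q y₁ = 0 ∧ ⟪(⟪x, v⟫)⁻¹ • x, y₁⟫ = 0 ∧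
      ⟪(⟪x, v⟫)⁻¹ • x, b⟫ = 0 ∧ ⟪y₁, v⟫ = 0 ∧ ⟪(⟪x, v⟫)⁻¹ • x, v⟫ = 1 ∧ ⟪y₁, b⟫ = 1 ∧
      rootElt Q hQ x y c = rootElt Q hQ ((⟪x, v⟫)⁻¹ • x) y₁ (⟪x, v⟫ * c) := by
  have hx₁v : ⟪(⟪x, v⟫)⁻¹ • x, v⟫ = 1 := by
    rw [QuadraticMap.polar_smul_left, smul_eq_mul, inv_mul_cancel₀ hxv]
  have hxeq : x = ⟪x, v⟫ • ((⟪x, v⟫)⁻¹ • x) := by
    rw [smul_smul, mul_inv_cancel₀ hxv, one_smul]
  obtain ⟨x₁, hx₁⟩ : ∃ x₁ : ι → F, x₁ = (⟪x, v⟫)⁻¹ • x := ⟨_, rfl⟩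
  rw [← hx₁] at hx₁v hxeq ⊢
  have hx₁Q : Q x₁ = 0 := by rw [hx₁, QuadraticMap.map_smul, hxQ, smul_zero]
  have hx₁y : ⟪x₁, y⟫ = 0 := by rw [hx₁, QuadraticMap.polar_smul_left, hxy, smul_zero]
  have hx₁b : ⟪x₁, b⟫ = 0 := by rw [hx₁, QuadraticMap.polar_smul_left, hxb, smul_zero]
  refine ⟨y + (-⟪y, v⟫) • x₁, hx₁Q, ?_, ?_, hx₁b, ?_, hx₁v, ?_, ?_⟩
  · rw [QuadraticMap.map_add (⇑Q), QuadraticMap.map_smul, QuadraticMap.polar_smul_right, hyQ, hx₁Q,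
      QuadraticMap.polar_comm (⇑Q) y x₁, hx₁y]
    simp
  · rw [QuadraticMap.polar_add_right, QuadraticMap.polar_smul_right, hx₁y,
      QGeom.polar_self_sing Q hx₁Q]
    simp
  · rw [QuadraticMap.polar_add_left, QuadraticMap.polar_smul_left, hx₁v]
    simp
  · rw [QuadraticMap.polar_add_left, QuadraticMap.polar_smul_left, hx₁b, hyb]
    simp
  · rw [rootElt_add_smul_right Q hQ hx₁Q hyQ hx₁y, ← rootElt_smul_left Q hQ hx₁Q hyQ hx₁y, ← hxeq]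

/-- a root element of `M` and a rational root element on an opposite line give an element of `M`
mapping the rational line onto the other one, with a rationality constraint -/
theorem exists_swap (hR : RatForm F₀ Q) {M : Subgroup ↥(isometryGroup F ⇑Q)}
    (hM : RootIn F₀ Q hR.nondeg M) (hH : RatRad F₀ Q M) {x y v b : ι → F} {c : F} (hxQ : Q x = 0)
    (hyQ : Q y = 0) (hxy : ⟪x, y⟫ = 0) (hc : c ≠ 0) (hρ : rootElt Q hR.nondeg x y c ∈ M)
    (hb : ratV F₀ b) (hbQ : Q b = 0) (hxb : ⟪x, b⟫ = 0) (hyb : ⟪y, b⟫ = 1) (hv : ratV F₀ v)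
    (hvQ : Q v = 0) (hbv : ⟪b, v⟫ = 0) (hxv : ⟪x, v⟫ ≠ 0) :
    ∃ w ∈ M, ∃ ν : F, ν ≠ 0 ∧ act Q w b = ν • ((⟪x, v⟫)⁻¹ • x) ∧
      (⟪x, v⟫ * c) * (ν⁻¹ * ν⁻¹) ∈ F₀ := by
  have hQ := hR.nondeg
  have hvb : ⟪v, b⟫ = 0 := by rw [QuadraticMap.polar_comm]; exact hbv
  have hb0 : b ≠ 0 := by
    rintro rfl
    rw [QuadraticMap.polar_zero_right] at hyb
    exact zero_ne_one hyb
  obtain ⟨y₁, hx₁Q, hy₁Q, hx₁y₁, hx₁b, hy₁v, hx₁v, hy₁b, hρeq⟩ :=
    normalise_rootElt hQ c hxQ hyQ hxy hxb hyb hxv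
  obtain ⟨x₁, hx₁⟩ : ∃ x₁ : ι → F, x₁ = (⟪x, v⟫)⁻¹ • x := ⟨_, rfl⟩
  rw [← hx₁] at hx₁Q hx₁y₁ hx₁b hx₁v hρeq ⊢
  rw [hρeq] at hρ
  obtain ⟨w, hwM, ν, hν, hwb, hwv⟩ := planar Q hQ M hx₁Q hy₁Q hvQ hbQ hx₁y₁ hvb hx₁b hy₁v hx₁v hy₁b _
    (mul_ne_zero hxv hc) hρ (hM _ _ _ hv hb F₀.one_mem hvQ hbQ hvb)
  refine ⟨w, hwM, ν, hν, hwb, ?_⟩
  have h1 : act Q w⁻¹ x₁ = ν⁻¹ • b := by
    have := congrArg (act Q w⁻¹) hwb
    rw [act_inv_act, map_smul] at this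
    rw [this, smul_smul, inv_mul_cancel₀ hν, one_smul]
  have h2 : act Q w⁻¹ y₁ = (-ν)⁻¹ • v := by
    have := congrArg (act Q w⁻¹) hwv
    rw [act_inv_act, map_smul] at this
    rw [this, smul_smul, inv_mul_cancel₀ (neg_ne_zero.mpr hν), one_smul]
  have h3 := M.mul_mem (M.mul_mem (M.inv_mem hwM) hρ) hwM
  have h4 : w⁻¹ * rootElt Q hQ x₁ y₁ (⟪x, v⟫ * c) * w =
      rootElt Q hQ b v ((-ν)⁻¹ * (ν⁻¹ * (⟪x, v⟫ * c))) := by
    have := conj_rootElt Q hQ w⁻¹ hx₁Q hy₁Q hx₁y₁ (⟪x, v⟫ * c)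
    rw [inv_inv] at this
    rw [this, h1, h2, rootElt_smul_left Q hQ hbQ (by rw [QuadraticMap.map_smul, hvQ, smul_zero])
      (by rw [QuadraticMap.polar_smul_right, hbv, smul_zero]), rootElt_smul_right Q hQ hbQ hvQ hbv]
  rw [h4] at h3
  have h5 := (inA_iff_rootElt Q hQ M hbQ hvQ hbv (-((-ν)⁻¹ * (ν⁻¹ * (⟪x, v⟫ * c))))).mpr
    (by rw [neg_neg]; exact h3)
  obtain ⟨t, ht⟩ := hH b _ hb hb0 hbQ h5
  have hindv : ∀ s : F, v ≠ s • b := by
    intro s hs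
    rw [hs, QuadraticMap.polar_smul_right, hx₁b, smul_zero] at hx₁v
    exact zero_ne_one hx₁v
  obtain ⟨p, hp, hpb, hpv⟩ := rat_dual hR hv hb hindv
  have h6 := polar_rat hR.rat hp ht
  rw [QuadraticMap.polar_add_right, QuadraticMap.polar_smul_right, QuadraticMap.polar_smul_right,
    hpb, hpv] at h6
  have e : ⟪x, v⟫ * c * (ν⁻¹ * ν⁻¹) =
      -((-ν)⁻¹ * (ν⁻¹ * (⟪x, v⟫ * c))) • (1 : F) + t • (0 : F) := by
    rw [inv_neg]
    simp only [smul_eq_mul, mul_zero, add_zero, mul_one]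
    ring
  rw [e]
  exact h6

/-- a root element `x ↦ x + c f(u, x) v - c f(v, x) u` of `M` whose line meets `b^⊥` (`b` rational
singular) in the point `⟨x⟩`: that point is rational -/
theorem rat_point_of_rootElt (hR : RatForm F₀ Q) {M : Subgroup ↥(isometryGroup F ⇑Q)}
    (hM : RootIn F₀ Q hR.nondeg M) (hH : RatRad F₀ Q M) {x y b : ι → F} {c : F} (hxQ : Q x = 0)
    (hyQ : Q y = 0) (hxy : ⟪x, y⟫ = 0) (hc : c ≠ 0) (hρ : rootElt Q hR.nondeg x y c ∈ M)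
    (hb : ratV F₀ b) (hbQ : Q b = 0) (hxb : ⟪x, b⟫ = 0) (hyb : ⟪y, b⟫ = 1) :
    ∃ μ : F, μ ≠ 0 ∧ ratV F₀ (μ • x) := by
  have hQ := hR.nondeg
  have hb0 : b ≠ 0 := by
    rintro rfl
    rw [QuadraticMap.polar_zero_right] at hyb
    exact zero_ne_one hyb
  by_cases hex : ∃ v, ratV F₀ v ∧ Q v = 0 ∧ ⟪b, v⟫ = 0 ∧ ⟪x, v⟫ ≠ 0
  swap
  · push Not at hex
    have h1 : ∀ z, ratV F₀ z → ⟪b, z⟫ = 0 → ⟪z, x⟫ = 0 := by
      refine rat_perp_induction hR hb hb0 hbQ (fun z => ⟪z, x⟫ = 0) (by simp) ?_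
      intro v s hv hs hsQ hbs
      rw [QuadraticMap.polar_add_left, hv, zero_add, QuadraticMap.polar_comm]
      exact hex s hs hsQ hbs
    obtain ⟨t, ht⟩ := perp_rat_perp hR hb hb0 hbQ h1
    by_cases ht0 : t = 0
    · exact ⟨1, one_ne_zero, by rw [ht, ht0, zero_smul, smul_zero]; exact ratV_zero' F₀⟩
    · exact ⟨t⁻¹, inv_ne_zero ht0, by rw [ht, smul_smul, inv_mul_cancel₀ ht0, one_smul]; exact hb⟩
  obtain ⟨v, hv, hvQ, hbv, hxv⟩ := hex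
  obtain ⟨w, hwM, ν, hν, hwb, hK⟩ :=
    exists_swap hR hM hH hxQ hyQ hxy hc hρ hb hbQ hxb hyb hv hvQ hbv hxv
  obtain ⟨α, hα⟩ : ∃ α : F, α = ⟪x, v⟫ := ⟨_, rfl⟩
  rw [← hα] at hwb hK hxv
  obtain ⟨x₁, hx₁⟩ : ∃ x₁ : ι → F, x₁ = α⁻¹ • x := ⟨_, rfl⟩
  rw [← hx₁] at hwb
  have hx₁Q : Q x₁ = 0 := by rw [hx₁, QuadraticMap.map_smul, hxQ, smul_zero]
  have hx₁b : ⟪x₁, b⟫ = 0 := by rw [hx₁, QuadraticMap.polar_smul_left, hxb, smul_zero]
  have hx₁v : ⟪x₁, v⟫ = 1 := by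
    rw [hx₁, QuadraticMap.polar_smul_left, smul_eq_mul, ← hα, inv_mul_cancel₀ hxv]
  have hs : ∀ v₂, ratV F₀ v₂ → Q v₂ = 0 → ⟪b, v₂⟫ = 0 → ⟪x₁, v₂⟫ ∈ F₀ := by
    intro v₂ hv₂ hv₂Q hbv₂
    by_cases hβ0 : ⟪x, v₂⟫ = 0
    · rw [hx₁, QuadraticMap.polar_smul_left, hβ0, smul_zero]
      exact F₀.zero_mem
    obtain ⟨w₂, hw₂M, ν₂, hν₂, hw₂b, hK₂⟩ :=
      exists_swap hR hM hH hxQ hyQ hxy hc hρ hb hbQ hxb hyb hv₂ hv₂Q hbv₂ hβ0
    obtain ⟨β, hβ⟩ : ∃ β : F, β = ⟪x, v₂⟫ := ⟨_, rfl⟩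
    rw [← hβ] at hw₂b hK₂ hβ0
    have h1 : act Q w₂⁻¹ x = (β * ν₂⁻¹) • b := by
      have := congrArg (act Q w₂⁻¹) hw₂b
      rw [act_inv_act, map_smul, map_smul] at this
      rw [this, smul_smul, smul_smul]
      have e : β * ν₂⁻¹ * ν₂ * β⁻¹ = 1 := by field_simp
      rw [e, one_smul]
    have h2 : act Q (w₂⁻¹ * w) b = (ν * α⁻¹ * (β * ν₂⁻¹)) • b := by
      rw [act_mul, hwb, hx₁, map_smul, map_smul, h1, smul_smul, smul_smul]
    have hsq := sq_mem_of_act hR hM hH (M.mul_mem (M.inv_mem hw₂M) hwM) hb hb0 hbQ hb h2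
    have e : ⟪x₁, v₂⟫ = (ν * α⁻¹ * (β * ν₂⁻¹)) * (ν * α⁻¹ * (β * ν₂⁻¹)) * (α * c * (ν⁻¹ * ν⁻¹)) *
        (β * c * (ν₂⁻¹ * ν₂⁻¹))⁻¹ := by
      rw [hx₁, QuadraticMap.polar_smul_left, smul_eq_mul, ← hβ]
      field_simp
    rw [e]
    exact F₀.mul_mem (F₀.mul_mem hsq hK) (F₀.inv_mem hK₂)
  have h3 : ∀ z, ratV F₀ z → ⟪b, z⟫ = 0 → ⟪z, x₁⟫ ∈ F₀ := by
    refine rat_perp_induction hR hb hb0 hbQ (fun z => ⟪z, x₁⟫ ∈ F₀) ?_ ?_
    · rw [QuadraticMap.polar_zero_left]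
      exact F₀.zero_mem
    · intro u s hu hs' hsQ hbs
      rw [QuadraticMap.polar_add_left]
      refine F₀.add_mem hu ?_
      rw [QuadraticMap.polar_comm]
      exact hs s hs' hsQ hbs
  obtain ⟨t, ht⟩ := rat_mod_of_polar hR hb hb0 hbQ h3
  obtain ⟨x₀, hx₀⟩ : ∃ x₀ : ι → F, x₀ = x₁ + t • b := ⟨_, rfl⟩
  rw [← hx₀] at ht
  have hx₀Q : Q x₀ = 0 := by
    rw [hx₀, QuadraticMap.map_add (⇑Q), QuadraticMap.map_smul, QuadraticMap.polar_smul_right, hx₁Q,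
      hbQ, hx₁b]
    simp
  have hx₀b : ⟪x₀, b⟫ = 0 := by
    rw [hx₀, QuadraticMap.polar_add_left, QuadraticMap.polar_smul_left, hx₁b,
      QGeom.polar_self_sing Q hbQ]
    simp
  have hind : ∀ s : F, x₀ ≠ s • b := by
    intro s hs'
    have h4 : x₁ = (s - t) • b := by
      rw [sub_smul, ← hs', hx₀]
      abel
    rw [h4, QuadraticMap.polar_smul_left, hbv, smul_zero] at hx₁v
    exact zero_ne_one hx₁v
  have e1 : x₁ = x₀ + (-t) • b := by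
    rw [hx₀]
    module
  have hwb' : act Q w b = ν • (x₀ + (-t) • b) := by
    rw [hwb, ← e1]
  have htF := rat_coeff_of_line hR hM hH hwM hb hb0 hbQ ht hb hx₀Q hbQ hx₀b hb0 hind hwb'
  refine ⟨α⁻¹, inv_ne_zero hxv, ?_⟩
  rw [← hx₁, e1]
  exact ratV_add ht (ratV_smul htF hb)

/-- Second half of the dichotomy: every element of `M` is a scalar multiple of a rational
transformation. -/
theorem rat_of_mem (hR : RatForm F₀ Q) {M : Subgroup ↥(isometryGroup F ⇑Q)}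
    (hM : RootIn F₀ Q hR.nondeg M) (hH : RatRad F₀ Q M) {g : ↥(isometryGroup F ⇑Q)} (hg : g ∈ M) :
    ∃ ζ : F, ζ ≠ 0 ∧ ∀ z, ratV F₀ z → ratV F₀ (ζ • act Q g z) := by
  have hQ := hR.nondeg
  obtain ⟨a, a', ha, ha', haQ, ha'Q, haa'⟩ := rat_hyp0 hR
  obtain ⟨c, c', hc, hc', hcQ, hc'Q, hcc', hac, hac', ha'c, ha'c'⟩ := rat_hyp2 hR ha ha'
  have ha0 : a ≠ 0 := by
    rintro rfl
    rw [QuadraticMap.polar_zero_left] at haa'
    exact zero_ne_one haa'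
  have hca : ⟪c, a⟫ = 0 := by rw [QuadraticMap.polar_comm]; exact hac
  have hindc : ∀ s : F, c ≠ s • a := by
    intro s hs
    rw [hs, QuadraticMap.polar_smul_left, hac', smul_zero] at hcc'
    exact zero_ne_one hcc'
  obtain ⟨A, hA⟩ : ∃ A : ι → F, A = act Q g a := ⟨_, rfl⟩
  obtain ⟨C, hC⟩ : ∃ C : ι → F, C = act Q g c := ⟨_, rfl⟩
  have hAQ : Q A = 0 := by rw [hA, Q_act, haQ]
  have hCQ : Q C = 0 := by rw [hC, Q_act, hcQ]
  have hCA : ⟪C, A⟫ = 0 := by rw [hC, hA, polar_act, hca]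
  have hA0 : A ≠ 0 := by
    rw [hA]
    exact fun h => ha0 ((act_eq_zero_iff Q g a).mp h)
  obtain ⟨b, hb, hbQ, hAb⟩ : ∃ b, ratV F₀ b ∧ Q b = 0 ∧ ⟪A, b⟫ ≠ 0 := by
    by_contra hcon
    push Not at hcon
    have h1 : ∀ z, ratV F₀ z → ⟪a, z⟫ = 0 → ⟪z, A⟫ = 0 := by
      refine rat_perp_induction hR ha ha0 haQ (fun z => ⟪z, A⟫ = 0) (by simp) ?_
      intro v s hv hs hsQ has
      rw [QuadraticMap.polar_add_left, hv, zero_add, QuadraticMap.polar_comm]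
      exact hcon s hs hsQ
    obtain ⟨t, ht⟩ := perp_rat_perp hR ha ha0 haQ h1
    have h2 := hcon a' ha' ha'Q
    rw [ht, QuadraticMap.polar_smul_left, haa', smul_eq_mul, mul_one] at h2
    rw [h2, zero_smul] at ht
    exact hA0 ht
  obtain ⟨θ, hθ⟩ : ∃ θ : F, θ = ⟪A, b⟫ := ⟨_, rfl⟩
  rw [← hθ] at hAb
  obtain ⟨κ, hκ⟩ : ∃ κ : F, κ = ⟪C, b⟫ * θ⁻¹ := ⟨_, rfl⟩
  obtain ⟨x, hx⟩ : ∃ x : ι → F, x = C + (-κ) • A := ⟨_, rfl⟩
  have hxQ : Q x = 0 := by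
    rw [hx, QuadraticMap.map_add (⇑Q), QuadraticMap.map_smul, QuadraticMap.polar_smul_right, hCQ,
      hAQ, hCA]
    simp
  have hxA : ⟪x, A⟫ = 0 := by
    rw [hx, QuadraticMap.polar_add_left, QuadraticMap.polar_smul_left, hCA,
      QGeom.polar_self_sing Q hAQ]
    simp
  have hxb : ⟪x, b⟫ = 0 := by
    rw [hx, QuadraticMap.polar_add_left, QuadraticMap.polar_smul_left, ← hθ, hκ, smul_eq_mul]
    field_simp
    ring
  have hyQ : Q (θ⁻¹ • A) = 0 := by rw [QuadraticMap.map_smul, hAQ, smul_zero]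
  have hxy : ⟪x, θ⁻¹ • A⟫ = 0 := by rw [QuadraticMap.polar_smul_right, hxA, smul_zero]
  have hyb : ⟪θ⁻¹ • A, b⟫ = 1 := by
    rw [QuadraticMap.polar_smul_left, ← hθ, smul_eq_mul, inv_mul_cancel₀ hAb]
  have hρ : rootElt Q hQ x (θ⁻¹ • A) θ ∈ M := by
    have h1 : rootElt Q hQ x (θ⁻¹ • A) θ = g * rootElt Q hQ c a 1 * g⁻¹ := by
      rw [conj_rootElt Q hQ g hcQ haQ hca, ← hC, ← hA, rootElt_smul_right Q hQ hxQ hAQ hxA,
        inv_mul_cancel₀ hAb, hx, rootElt_add_smul_left Q hQ hCQ hAQ hCA]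
    rw [h1]
    exact M.mul_mem (M.mul_mem hg (hM _ _ _ hc ha F₀.one_mem hcQ haQ hca)) (M.inv_mem hg)
  obtain ⟨μ, hμ, hμx⟩ := rat_point_of_rootElt hR hM hH hxQ hyQ hxy hAb hρ hb hbQ hxb hyb
  have hx0 : x ≠ 0 := by
    intro h
    rw [hx] at h
    have h1 := eq_neg_of_add_eq_zero_left h
    rw [neg_smul, neg_neg] at h1
    have h2 : act Q g c = act Q g (κ • a) := by
      rw [map_smul, ← hA, ← hC]
      exact h1
    have h3 := congrArg (act Q g⁻¹) h2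
    rw [act_inv_act, act_inv_act] at h3
    exact hindc κ h3
  have hginv : act Q g⁻¹ (μ • x) = μ • (c + (-κ) • a) := by
    rw [map_smul, hx, map_add, map_smul, hC, hA, act_inv_act, act_inv_act]
  have hκF := rat_coeff_of_line hR hM hH (M.inv_mem hg) hμx (smul_ne_zero hμ hx0)
    (by rw [QuadraticMap.map_smul, hxQ, smul_zero]) hc ha hcQ haQ hca ha0 hindc hginv
  have hu : ratV F₀ (c + (-κ) • a) := ratV_add hc (ratV_smul hκF ha)
  have hu0 : c + (-κ) • a ≠ 0 := by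
    intro h
    have h1 := eq_neg_of_add_eq_zero_left h
    rw [neg_smul, neg_neg] at h1
    exact hindc κ h1
  have huQ : Q (c + (-κ) • a) = 0 := by
    rw [QuadraticMap.map_add (⇑Q), QuadraticMap.map_smul, QuadraticMap.polar_smul_right, hcQ, haQ,
      hca]
    simp
  have hgu : act Q g (c + (-κ) • a) = μ⁻¹ • (μ • x) := by
    rw [smul_smul, inv_mul_cancel₀ hμ, one_smul, map_add, map_smul, ← hC, ← hA, hx]
  exact ⟨μ⁻¹, (rat_act_of_point hR hM hH hg hu hu0 huQ hμx hgu).1,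
    (rat_act_of_point hR hM hH hg hu hu0 huQ hμx hgu).2⟩

end

end Cfsg.Agent.Lib.helper7.SubfO
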