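/-
helper7: subfield subgroups of prime index are maximal in `Ω(Q)` (dimension at least 13).
-/
import Mathlib
import Cfsg.Prelude.Def_GeometricClasses
import Cfsg.Agent.S0786
import Cfsg.Agent.Lib.helper95.OmegaTensor
import Cfsg.Agent.Lib.helper7.SubfO3
import Cfsg.Agent.Lib.helper7.SubfO4

set_option autoImplicit false

namespace Cfsg.Agent.Lib.helper7.SubfO

open Matrix Cfsg Cfsg.Geo Module
open Cfsg.Agent.Lib.helper7.RootElt Cfsg.Agent.Lib.helper95

section

variable {ι : Type} [Fintype ι] [DecidableEq ι] {F : Type*} [Field F] [Fintype F]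

/-- The core case: the standard rational structure. -/
theorem subfield_omega_core (Q : QuadraticForm F (ι → F)) (F₀ : Subfield F) (hR : RatForm F₀ Q)
    (r : ℕ) (hr : r.Prime) (hcard : Fintype.card F = Nat.card F₀ ^ r) :
    IsMaximalIn (omegaGL ⇑Q)
      (((Matrix.GeneralLinearGroup.map (F₀.subtype : F₀ →+* F)).range ⊔ scalars ι F) ⊓
        omegaGL ⇑Q) := by
  classical
  have hQ := hR.nondeg
  have hc := hR.card
  obtain ⟨X, hX⟩ : ∃ X : Subgroup (GL ι F),
      X = (Matrix.GeneralLinearGroup.map (F₀.subtype : F₀ →+* F)).range ⊔ scalars ι F :=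
    ⟨_, rfl⟩
  rw [← hX]
  have hfin : Module.finrank F₀ F = r := by
    have : Fintype F₀ := Fintype.ofFinite F₀
    have h1 := Module.card_eq_pow_finrank (K := F₀) (V := F)
    rw [hcard, Nat.card_eq_fintype_card] at h1
    exact (Nat.pow_right_injective (Fintype.one_lt_card) h1).symm
  have hso : IsSimpleOrder (Subalgebra F₀ F) :=
    Subalgebra.isSimpleOrder_of_finrank_prime F₀ F (by rw [hfin]; exact hr)
  have hgen := Cfsg.Agent.S0786.reflSubgroup_eq_top' Q hQ (Or.inr (by omega))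
  have hΩ := rootSubgroup_eq_Omega Q hQ (by omega) hgen
  have hmemΩ : ∀ g : ↥(isometryGroup F ⇑Q), g ∈ rootSubgroup Q →
      (g : Matrix.GeneralLinearGroup ι F) ∈ omegaGL ⇑Q := by
    intro g hg
    rw [hΩ] at hg
    exact ⟨g, hg, rfl⟩
  have hX2 : ∀ (g : ↥(isometryGroup F ⇑Q)) (ζ : F), ζ ≠ 0 →
      (∀ z, ratV F₀ z → ratV F₀ (ζ • act Q g z)) → (g : GL ι F) ∈ X := by
    intro g ζ hζ h
    rw [hX]
    refine sf_mem_X F₀ _ ζ hζ (fun k l => ?_)
    have h1 := h (Pi.single l 1) (ratV_single l F₀.one_mem) k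
    rw [Pi.smul_apply, act_apply, sf_mulVec_single, smul_eq_mul] at h1
    exact h1
  have hX3 : ∀ g : ↥(isometryGroup F ⇑Q), (g : GL ι F) ∈ X →
      ∃ ζ : F, ζ ≠ 0 ∧ ∀ z, ratV F₀ z → ratV F₀ (ζ • act Q g z) := by
    intro g hg
    rw [hX] at hg
    obtain ⟨ζ, hζ, h⟩ := sf_of_mem_X F₀ _ hg
    refine ⟨ζ, hζ, fun z hz k => ?_⟩
    simp only [Pi.smul_apply, act_apply, Matrix.mulVec, dotProduct, smul_eq_mul, Finset.mul_sum]
    refine sum_mem (fun l _ => ?_)
    rw [← mul_assoc]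
    exact F₀.mul_mem (h k l) (hz l)
  have hroot : ∀ (u v : ι → F) (c : F), ratV F₀ u → ratV F₀ v → c ∈ F₀ → Q u = 0 → Q v = 0 →
      QuadraticMap.polar (⇑Q) u v = 0 →
      ((rootElt Q hQ u v c : ↥(isometryGroup F ⇑Q)) : GL ι F) ∈ X ⊓ omegaGL ⇑Q := by
    intro u v c hu hv hcF huQ hvQ huv
    refine ⟨hX2 _ 1 one_ne_zero (fun z hz => ?_), hmemΩ _ (rootElt_mem Q hQ huQ hvQ huv c)⟩
    rw [one_smul, rootElt_act Q hQ huQ hvQ huv]
    exact ratV_add (ratV_add hz (ratV_smul (F₀.mul_mem hcF (polar_rat hR.rat hu hz)) hv))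
      (ratV_smul (F₀.neg_mem (F₀.mul_mem hcF (polar_rat hR.rat hv hz))) hu)
  refine ⟨?_, ?_⟩
  · refine lt_of_le_of_ne inf_le_right ?_
    intro heq
    obtain ⟨κ, -, hκ⟩ := SetLike.exists_of_lt (bot_lt_top : (⊥ : Subalgebra F₀ F) < ⊤)
    have hκF : κ ∉ F₀ := fun h => hκ ((⊥ : Subalgebra F₀ F).algebraMap_mem ⟨κ, h⟩)
    obtain ⟨a, a', ha, ha', haQ, ha'Q, haa'⟩ := rat_hyp0 hR
    obtain ⟨w, w', hw, hw', hwQ, hw'Q, hww', haw, haw', ha'w, ha'w'⟩ := rat_hyp2 hR ha ha'
    have ha0 : a ≠ 0 := by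
      rintro rfl
      rw [QuadraticMap.polar_zero_left] at haa'
      exact zero_ne_one haa'
    have hw0 : w ≠ 0 := by
      rintro rfl
      rw [QuadraticMap.polar_zero_left] at hww'
      exact zero_ne_one hww'
    have hwa : QuadraticMap.polar (⇑Q) w a = 0 := by rw [QuadraticMap.polar_comm]; exact haw
    have hwa' : QuadraticMap.polar (⇑Q) w a' = 0 := by rw [QuadraticMap.polar_comm]; exact ha'w
    have hg : ((rootElt Q hQ a w κ : ↥(isometryGroup F ⇑Q)) : GL ι F) ∈ X := by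
      have h1 : ((rootElt Q hQ a w κ : ↥(isometryGroup F ⇑Q)) : GL ι F) ∈ X ⊓ omegaGL ⇑Q := by
        rw [heq]
        exact hmemΩ _ (rootElt_mem Q hQ haQ hwQ haw κ)
      exact h1.1
    obtain ⟨ζ, hζ0, hζ⟩ := hX3 _ hg
    have h1 := hζ a ha
    rw [rootElt_act Q hQ haQ hwQ haw, QGeom.polar_self_sing Q haQ, hwa] at h1
    simp only [mul_zero, zero_smul, neg_zero, add_zero] at h1
    have hζF : ζ ∈ F₀ := rat_coeff F₀ h1 ha ha0 rfl
    have h2 := hζ a' ha'
    rw [rootElt_act Q hQ haQ hwQ haw, haa', hwa'] at h2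
    simp only [mul_zero, zero_smul, neg_zero, add_zero, mul_one] at h2
    have h3 : ratV F₀ (a' + κ • w) := ratV_of_smul hζF hζ0 h2
    have h4 : ratV F₀ (κ • w) := by
      have := ratV_sub h3 ha'
      rwa [add_sub_cancel_left] at this
    exact hκF (rat_coeff F₀ h4 hw hw0 rfl)
  · intro M hHM hMΩ
    have hM'root : RootIn F₀ Q hQ (M.comap (isometryGroup F ⇑Q).subtype) :=
      fun u v c hu hv hcF huQ hvQ huv => hHM (hroot u v c hu hv hcF huQ hvQ huv)
    by_cases hH : RatRad F₀ Q (M.comap (isometryGroup F ⇑Q).subtype)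
    · left
      refine le_antisymm (le_inf ?_ hMΩ) hHM
      intro k hk
      obtain ⟨k', hk'Ω, rfl⟩ := hMΩ hk
      obtain ⟨ζ, hζ, h⟩ := rat_of_mem hR hM'root hH (g := k') hk
      exact hX2 k' ζ hζ h
    · right
      refine le_antisymm hMΩ ?_
      unfold RatRad at hH
      push Not at hH
      obtain ⟨b, y, hb, hb0, hbQ, hy, hnot⟩ := hH
      have key := rootSubgroup_le_of_not_rat hR hso hM'root hb hb0 hbQ hy hnot
      rintro _ ⟨g, hg, rfl⟩
      exact key (by rw [hΩ]; exact hg)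

/-- Subfield subgroups of prime index are maximal in `Ω(Q)`, for a quadratic form `Q` with
non-degenerate polar form in at least 13 variables, and a rational structure for a multiple of `Q`. -/
theorem subfield_omega_maximal (Q : QuadraticForm F (ι → F))
    (hQ : (QuadraticMap.polarBilin Q).Nondegenerate) (hd : 13 ≤ Fintype.card ι) (F₀ : Subfield F)
    (r : ℕ) (hr : r.Prime) (hcard : Fintype.card F = Nat.card F₀ ^ r) (P : GL ι F) (ζ : F)
    (hζ : ζ ≠ 0) (hP : IsQuadFormRationalStructure (fun v : ι → F => ζ * Q v) F₀ P) :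
    IsMaximalIn (omegaGL ⇑Q) (subfieldSubgroup F₀ P ⊓ omegaGL ⇑Q) := by
  classical
  obtain ⟨Q', hQ'⟩ : ∃ Q' : QuadraticForm F (ι → F), Q' = ζ • qT Q (Equiv.refl ι) P := ⟨_, rfl⟩
  have hQ'app : ∀ x : ι → F, Q' x = ζ * Q ((P : Matrix ι ι F) *ᵥ x) := by
    intro x
    rw [hQ']
    rfl
  have hpolar : ∀ x y : ι → F, QuadraticMap.polar (⇑Q') x y =
      ζ * QuadraticMap.polar (⇑Q) ((P : Matrix ι ι F) *ᵥ x) ((P : Matrix ι ι F) *ᵥ y) := by
    intro x y
    unfold QuadraticMap.polar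
    rw [hQ'app, hQ'app, hQ'app, Matrix.mulVec_add]
    ring
  have hR : RatForm F₀ Q' := by
    refine ⟨⟨?_, ?_⟩, ?_, hd⟩
    · intro x hx
      have h1 : (P : Matrix ι ι F) *ᵥ x = 0 := by
        apply hQ.1
        intro y
        have h2 := hx (((P⁻¹ : GL ι F) : Matrix ι ι F) *ᵥ y)
        rw [QuadraticMap.polarBilin_apply_apply, hpolar, gl_mulVec_inv_mulVec] at h2
        rw [QuadraticMap.polarBilin_apply_apply]
        exact (mul_eq_zero.mp h2).resolve_left hζ
      have h3 := gl_inv_mulVec_mulVec P x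
      rw [h1, Matrix.mulVec_zero] at h3
      exact h3.symm
    · intro x hx
      have h1 : (P : Matrix ι ι F) *ᵥ x = 0 := by
        apply hQ.2
        intro y
        have h2 := hx (((P⁻¹ : GL ι F) : Matrix ι ι F) *ᵥ y)
        rw [QuadraticMap.polarBilin_apply_apply, hpolar, gl_mulVec_inv_mulVec] at h2
        rw [QuadraticMap.polarBilin_apply_apply]
        exact (mul_eq_zero.mp h2).resolve_left hζ
      have h3 := gl_inv_mulVec_mulVec P x
      rw [h1, Matrix.mulVec_zero] at h3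
      exact h3.symm
    · intro u hu
      rw [hQ'app]
      exact hP u hu
  have hcore := subfield_omega_core Q' F₀ hR r hr hcard
  have h1 := isMaximalIn_map_mulEquiv (MulAut.conj P) _ _ hcore
  have hI : (isometryGroup F ⇑Q').map (MulAut.conj P).toMonoidHom = isometryGroup F ⇑Q := by
    ext g
    constructor
    · rintro ⟨h, hh, rfl⟩
      have hh' := (Cfsg.Agent.Lib.helper95.mem_isometryGroup_iff _ _).mp hh
      refine (Cfsg.Agent.Lib.helper95.mem_isometryGroup_iff _ _).mpr ?_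
      intro u
      show Q (((P * h * P⁻¹ : GL ι F) : Matrix ι ι F) *ᵥ u) = Q u
      have h2 := hh' (((P⁻¹ : GL ι F) : Matrix ι ι F) *ᵥ u)
      rw [hQ'app, hQ'app, gl_mulVec_inv_mulVec] at h2
      rw [Units.val_mul, Units.val_mul, ← Matrix.mulVec_mulVec, ← Matrix.mulVec_mulVec]
      exact mul_left_cancel₀ hζ h2
    · intro hg
      have hg' := (Cfsg.Agent.Lib.helper95.mem_isometryGroup_iff _ _).mp hg
      refine ⟨P⁻¹ * g * P, ?_, ?_⟩
      · refine (Cfsg.Agent.Lib.helper95.mem_isometryGroup_iff _ _).mpr ?_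
        intro u
        rw [hQ'app, hQ'app, Units.val_mul, Units.val_mul, ← Matrix.mulVec_mulVec,
          ← Matrix.mulVec_mulVec, gl_mulVec_inv_mulVec, hg']
      · show P * (P⁻¹ * g * P) * P⁻¹ = g
        group
  have hΩ : (omegaGL ⇑Q').map (MulAut.conj P).toMonoidHom = omegaGL ⇑Q := by
    rw [omegaGL_eq_commutator, omegaGL_eq_commutator, Subgroup.map_commutator, hI]
  rw [Subgroup.map_inf_eq _ _ _ (MulAut.conj P).injective, hΩ] at h1
  exact h1

end

end Cfsg.Agent.Lib.helper7.SubfO
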