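import Mathlib

/-!
`|det (x - 1)| = p ^ b` with `(p - 1) b = rank M` for an endomorphism `x` of a lattice `M` with
`1 + x + ... + x^(p-1) = 0` (given the cyclotomic identity as a hypothesis), and the index of the
range of an injective endomorphism of a lattice.
-/

set_option autoImplicit false

namespace Cfsg.Agent.Lib.helper7.TBH

open Polynomial

/-- the determinants of `1 - x ^ i` and `1 - x` have the same absolute value (`x ^ p = 1`,
`0 < i < p`) -/
theorem tbhd_natAbs_det_eq (p : ℕ) [Fact p.Prime] {M : Type*} [AddCommGroup M]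
    (x : M →ₗ[ℤ] M) (hxp : x ^ p = 1) (i : ℕ) (hi1 : 1 ≤ i) (hip : i < p) :
    (LinearMap.det (1 - x ^ i)).natAbs = (LinearMap.det (1 - x)).natAbs := by
  have hp : p.Prime := Fact.out
  have hcop : Nat.Coprime i p := by
    rw [Nat.coprime_comm, Nat.Prime.coprime_iff_not_dvd hp]
    intro hd
    have := Nat.le_of_dvd (by omega) hd
    omega
  -- `i * j = 1 + p * t`
  obtain ⟨j, -, hj⟩ := Nat.exists_mul_mod_eq_one_of_coprime hcop hp.one_lt
  have h1 : (1 - x) * ∑ l ∈ Finset.range i, x ^ l = 1 - x ^ i := mul_neg_geom_sum x i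
  have hxij : (x ^ i) ^ j = x := by
    rw [← pow_mul]
    have h2 : i * j = p * (i * j / p) + 1 := by
      have := Nat.div_add_mod (i * j) p
      omega
    rw [h2, pow_succ, pow_mul, hxp, one_pow, one_mul]
  have h3 : (1 - x ^ i) * ∑ l ∈ Finset.range j, (x ^ i) ^ l = 1 - x := by
    rw [mul_neg_geom_sum, hxij]
  have d1 : LinearMap.det (1 - x ^ i) =
      LinearMap.det (1 - x) * LinearMap.det (∑ l ∈ Finset.range i, x ^ l) := by
    rw [← h1, map_mul]
  have d3 : LinearMap.det (1 - x) =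
      LinearMap.det (1 - x ^ i) * LinearMap.det (∑ l ∈ Finset.range j, (x ^ i) ^ l) := by
    rw [← map_mul, h3]
  apply Nat.dvd_antisymm
  · rw [d3, Int.natAbs_mul]
    exact Dvd.intro _ rfl
  · rw [d1, Int.natAbs_mul]
    exact Dvd.intro _ rfl

/-- PIECE HD with the cyclotomic identity as a hypothesis -/
theorem tbhd_det_sub_one_of (p : ℕ) [Fact p.Prime]
    (hHC : ∃ r : Polynomial ℤ, ∏ i ∈ Finset.Ico 1 p, (1 - (Polynomial.X : Polynomial ℤ) ^ i)
      = Polynomial.C (p : ℤ) + r * ∑ i ∈ Finset.range p, (Polynomial.X : Polynomial ℤ) ^ i)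
    {M : Type*} [AddCommGroup M] [Module.Free ℤ M]
    [Module.Finite ℤ M] (x : M →ₗ[ℤ] M) (hx : ∑ i ∈ Finset.range p, x ^ i = 0) :
    ∃ b : ℕ, (p - 1) * b = Module.finrank ℤ M ∧ (LinearMap.det (x - 1)).natAbs = p ^ b := by
  have hp : p.Prime := Fact.out
  have hxp : x ^ p = 1 := by
    have h := mul_geom_sum x p
    rw [hx, mul_zero] at h
    exact (sub_eq_zero.mp h.symm)
  obtain ⟨r, hr⟩ := hHC
  let φ : Polynomial ℤ →* ℤ := (LinearMap.det : (M →ₗ[ℤ] M) →* ℤ).comp
    ((Polynomial.aeval x : Polynomial ℤ →ₐ[ℤ] Module.End ℤ M) : Polynomial ℤ →* Module.End ℤ M)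
  have hφ : ∀ q : Polynomial ℤ, φ q = LinearMap.det (Polynomial.aeval x q) := fun q => rfl
  have h1 := congrArg φ hr
  rw [map_prod] at h1
  have hl : ∀ i ∈ Finset.Ico 1 p, φ (1 - (Polynomial.X : Polynomial ℤ) ^ i) =
      LinearMap.det (1 - x ^ i) := by
    intro i _
    rw [hφ, map_sub, map_one, map_pow, Polynomial.aeval_X]
  rw [Finset.prod_congr rfl hl] at h1
  have hr2 : φ (Polynomial.C (p : ℤ) + r * ∑ i ∈ Finset.range p, (Polynomial.X : Polynomial ℤ) ^ i)
      = (p : ℤ) ^ Module.finrank ℤ M := by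
    rw [hφ, map_add, map_mul, map_sum]
    simp only [map_pow, Polynomial.aeval_X, Polynomial.aeval_C]
    rw [hx, mul_zero, add_zero, Algebra.algebraMap_eq_smul_one, LinearMap.det_smul, map_one,
      mul_one]
  rw [hr2] at h1
  have h2 := congrArg Int.natAbs h1
  rw [Int.natAbs_pow, Int.natAbs_natCast] at h2
  have h4 : (∏ i ∈ Finset.Ico 1 p, LinearMap.det (1 - x ^ i)).natAbs =
      (LinearMap.det (1 - x)).natAbs ^ (p - 1) := by
    have h5 : (∏ i ∈ Finset.Ico 1 p, LinearMap.det (1 - x ^ i)).natAbs =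
        ∏ i ∈ Finset.Ico 1 p, (LinearMap.det (1 - x ^ i)).natAbs :=
      map_prod Int.natAbsHom _ _
    rw [h5, Finset.prod_congr rfl (fun i hi => tbhd_natAbs_det_eq p x hxp i
      (Finset.mem_Ico.mp hi).1 (Finset.mem_Ico.mp hi).2), Finset.prod_const, Nat.card_Ico]
  rw [h4] at h2
  have h6 : (LinearMap.det (x - 1)).natAbs = (LinearMap.det (1 - x)).natAbs := by
    have h7 : x - 1 = (-1 : ℤ) • (1 - x) := by
      rw [neg_one_smul, neg_sub]
    rw [h7, LinearMap.det_smul, Int.natAbs_mul, Int.natAbs_pow]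
    simp
  rw [h6]
  have hp1 : p - 1 ≠ 0 := by
    have := hp.two_le
    omega
  have hdvd : (LinearMap.det (1 - x)).natAbs ∣ p ^ Module.finrank ℤ M := by
    rw [← h2]
    exact dvd_pow_self _ hp1
  obtain ⟨b, -, hb⟩ := (Nat.dvd_prime_pow hp).mp hdvd
  refine ⟨b, ?_, hb⟩
  rw [hb, ← pow_mul] at h2
  have := Nat.pow_right_injective hp.two_le h2
  rw [mul_comm]
  exact this

end Cfsg.Agent.Lib.helper7.TBH
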