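import Mathlib
import Cfsg.Agent.Lib.helper7.TB_HDa

/-!
The Herbrand quotient of a lattice for a cyclic group of prime order, by index counting
(cyclotomic identity as a hypothesis).
-/

set_option autoImplicit false

namespace Cfsg.Agent.Lib.helper7.TBH

/-- index of the range of an injective endomorphism of a lattice -/
theorem tbhb_index_range {N : Type*} [AddCommGroup N] [Module.Free ℤ N] [Module.Finite ℤ N]
    (f : N →ₗ[ℤ] N) (hf : Function.Injective f) :
    (LinearMap.range f).toAddSubgroup.index = (LinearMap.det f).natAbs := by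
  have h := Submodule.natAbs_det_equiv (LinearMap.range f) (LinearEquiv.ofInjective f hf)
  have h2 : (LinearMap.range f).subtype ∘ₗ
      AddMonoidHom.toIntLinearMap ((LinearEquiv.ofInjective f hf : N ≃ₗ[ℤ] LinearMap.range f) :
        N →+ LinearMap.range f) = f := by
    ext v
    rfl
  rw [h2] at h
  rw [h]
  rfl

/-- relative index of the image of a subgroup of a submodule -/
theorem tbhb_relIndex_map_subtype {A : Type*} [AddCommGroup A] [Module ℤ A] (N : Submodule ℤ A)
    (K : AddSubgroup N) :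
    (K.map N.subtype.toAddMonoidHom).relIndex N.toAddSubgroup = K.index := by
  have h1 : N.toAddSubgroup = (⊤ : AddSubgroup N).map N.subtype.toAddMonoidHom := by
    ext v
    simp
  rw [h1, AddSubgroup.relIndex_map_map_of_injective _ _ (by exact N.subtype_injective),
    AddSubgroup.relIndex_top_right]

section herbrand

variable (p : ℕ) [Fact p.Prime] {A : Type*} [AddCommGroup A] [Module.Free ℤ A]
  [Module.Finite ℤ A] (x : A →ₗ[ℤ] A)

/-- the trace `1 + x + ... + x^(p-1)` -/
noncomputable def tbhbSig : A →ₗ[ℤ] A := ∑ i ∈ Finset.range p, x ^ i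

omit [Fact p.Prime] [Module.Free ℤ A] [Module.Finite ℤ A] in
theorem tbhb_sig_mul (hx : x ^ p = 1) : tbhbSig p x * (x - 1) = 0 := by
  unfold tbhbSig
  rw [geom_sum_mul, hx, sub_self]

omit [Fact p.Prime] [Module.Free ℤ A] [Module.Finite ℤ A] in
theorem tbhb_mul_sig (hx : x ^ p = 1) : (x - 1) * tbhbSig p x = 0 := by
  unfold tbhbSig
  rw [mul_geom_sum, hx, sub_self]

omit [Fact p.Prime] [Module.Free ℤ A] [Module.Finite ℤ A] in
theorem tbhb_range_sig_le (hx : x ^ p = 1) :
    LinearMap.range (tbhbSig p x) ≤ LinearMap.ker (x - 1) := by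
  rintro _ ⟨u, rfl⟩
  rw [LinearMap.mem_ker]
  have h := congrArg (fun f : A →ₗ[ℤ] A => f u) (tbhb_mul_sig p x hx)
  exact h

omit [Fact p.Prime] [Module.Free ℤ A] [Module.Finite ℤ A] in
theorem tbhb_range_sub_le (hx : x ^ p = 1) :
    LinearMap.range (x - 1) ≤ LinearMap.ker (tbhbSig p x) := by
  rintro _ ⟨u, rfl⟩
  rw [LinearMap.mem_ker]
  have h := congrArg (fun f : A →ₗ[ℤ] A => f u) (tbhb_sig_mul p x hx)
  exact h

omit [Fact p.Prime] [Module.Free ℤ A] [Module.Finite ℤ A] in
theorem tbhb_fix {v : A} (hv : v ∈ LinearMap.ker (x - 1)) : x v = v := by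
  rw [LinearMap.mem_ker, LinearMap.sub_apply, Module.End.one_apply] at hv
  exact sub_eq_zero.mp hv

omit [Fact p.Prime] [Module.Free ℤ A] [Module.Finite ℤ A] in
theorem tbhb_sig_fix {v : A} (hv : v ∈ LinearMap.ker (x - 1)) : tbhbSig p x v = (p : ℤ) • v := by
  have h1 : ∀ i : ℕ, (x ^ i) v = v := by
    intro i
    induction i with
    | zero => rfl
    | succ i ih => rw [pow_succ, Module.End.mul_apply, tbhb_fix x hv, ih]
  unfold tbhbSig
  rw [LinearMap.sum_apply, Finset.sum_congr rfl (fun i _ => h1 i), Finset.sum_const,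
    Finset.card_range, natCast_zsmul]

omit [Module.Finite ℤ A] in
theorem tbhb_disj {v : A} (hv : v ∈ LinearMap.ker (x - 1))
    (hv' : v ∈ LinearMap.ker (tbhbSig p x)) : v = 0 := by
  have hp : p.Prime := Fact.out
  have h := tbhb_sig_fix p x hv
  rw [LinearMap.mem_ker] at hv'
  rw [hv'] at h
  rcases smul_eq_zero.mp h.symm with h0 | h0
  · exact absurd h0 (by exact_mod_cast hp.ne_zero)
  · exact h0

omit [Fact p.Prime] [Module.Free ℤ A] [Module.Finite ℤ A] in
theorem tbhb_compl_mem (hx : x ^ p = 1) (v : A) :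
    ((p : ℤ) • (1 : A →ₗ[ℤ] A) - tbhbSig p x) v ∈ LinearMap.ker (tbhbSig p x) := by
  rw [LinearMap.mem_ker, LinearMap.sub_apply, LinearMap.smul_apply, Module.End.one_apply, map_sub,
    map_zsmul, tbhb_sig_fix p x (tbhb_range_sig_le p x hx ⟨v, rfl⟩), sub_self]

theorem tbhb_finrank (hx : x ^ p = 1) :
    Module.finrank ℤ A = Module.finrank ℤ (LinearMap.ker (x - 1)) +
      Module.finrank ℤ (LinearMap.ker (tbhbSig p x)) := by
  have hp : p.Prime := Fact.out
  rw [← Module.finrank_prod]
  apply le_antisymm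
  · let f2 : A →ₗ[ℤ] (LinearMap.ker (x - 1)) × (LinearMap.ker (tbhbSig p x)) :=
      ((tbhbSig p x).codRestrict (LinearMap.ker (x - 1))
        (fun v => tbhb_range_sig_le p x hx ⟨v, rfl⟩)).prod
      (((p : ℤ) • (1 : A →ₗ[ℤ] A) - tbhbSig p x).codRestrict (LinearMap.ker (tbhbSig p x))
        (tbhb_compl_mem p x hx))
    apply LinearMap.finrank_le_finrank_of_injective (f := f2)
    rw [injective_iff_map_eq_zero]
    intro v hv
    have h1 : tbhbSig p x v = 0 := by
      have := congrArg (fun z => ((z.1 : LinearMap.ker (x - 1)) : A)) hv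
      exact this
    have h2 : ((p : ℤ) • (1 : A →ₗ[ℤ] A) - tbhbSig p x) v = 0 := by
      have := congrArg (fun z => ((z.2 : LinearMap.ker (tbhbSig p x)) : A)) hv
      exact this
    rw [LinearMap.sub_apply, LinearMap.smul_apply, Module.End.one_apply, h1, sub_zero] at h2
    rcases smul_eq_zero.mp h2 with h0 | h0
    · exact absurd h0 (by exact_mod_cast hp.ne_zero)
    · exact h0
  · let f1 : (LinearMap.ker (x - 1)) × (LinearMap.ker (tbhbSig p x)) →ₗ[ℤ] A :=
      (LinearMap.ker (x - 1)).subtype.coprod (LinearMap.ker (tbhbSig p x)).subtype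
    apply LinearMap.finrank_le_finrank_of_injective (f := f1)
    rw [injective_iff_map_eq_zero]
    rintro ⟨u, w⟩ h
    have h' : (u : A) + (w : A) = 0 := h
    have hu : (u : A) ∈ LinearMap.ker (tbhbSig p x) := by
      have : (u : A) = -(w : A) := eq_neg_of_add_eq_zero_left h'
      rw [this]
      exact Submodule.neg_mem _ w.2
    have hu0 : (u : A) = 0 := tbhb_disj p x u.2 hu
    have hw0 : (w : A) = 0 := by
      rw [hu0, zero_add] at h'
      exact h'
    ext
    · exact hu0
    · exact hw0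

end herbrand

end Cfsg.Agent.Lib.helper7.TBH
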