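import Mathlib

/-!
# S1903 piece M (racer copy by helper7): the word computation `s = a * b`
-/

set_option autoImplicit false
set_option linter.unusedSimpArgs false

namespace Cfsg.Agent.Lib.helper16.U34C

/-- PIECE M (pure word computation; used by A4b) -- helper7 racer copy. -/
theorem helper7_sq_eq_of_prod {H : Type*} [Group H] (u0 u1 u2 u3 u4 a b s : H)
    (ha : ∀ g : H, Commute a g) (hb : ∀ g : H, Commute b g) (hs : ∀ g : H, Commute s g)
    (ha2 : a ^ 2 = 1) (hb2 : b ^ 2 = 1) (hs2 : s ^ 2 = 1)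
    (h0 : u0 ^ 2 = s) (h1 : u1 ^ 2 = s) (h2 : u2 ^ 2 = s) (h3 : u3 ^ 2 = s) (h4 : u4 ^ 2 = s)
    (c01 : u1 * u0 = u0 * u1 * a) (c02 : u2 * u0 = u0 * u2 * b) (c03 : u3 * u0 = u0 * u3 * b)
    (c12 : u2 * u1 = u1 * u2 * a) (c13 : u3 * u1 = u1 * u3 * b) (c23 : u3 * u2 = u2 * u3 * a)
    (hprod : u0 * u1 * u2 * u3 * u4 = 1) : s = a * b := by
  -- central elements move to the left
  have a0 : ∀ t, u0 * (a * t) = a * (u0 * t) := fun t => by
    rw [← mul_assoc, ← (ha u0).eq, mul_assoc]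
  have a1 : ∀ t, u1 * (a * t) = a * (u1 * t) := fun t => by
    rw [← mul_assoc, ← (ha u1).eq, mul_assoc]
  have a2 : ∀ t, u2 * (a * t) = a * (u2 * t) := fun t => by
    rw [← mul_assoc, ← (ha u2).eq, mul_assoc]
  have a3 : ∀ t, u3 * (a * t) = a * (u3 * t) := fun t => by
    rw [← mul_assoc, ← (ha u3).eq, mul_assoc]
  have b0 : ∀ t, u0 * (b * t) = b * (u0 * t) := fun t => by
    rw [← mul_assoc, ← (hb u0).eq, mul_assoc]
  have b1 : ∀ t, u1 * (b * t) = b * (u1 * t) := fun t => by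
    rw [← mul_assoc, ← (hb u1).eq, mul_assoc]
  have b2 : ∀ t, u2 * (b * t) = b * (u2 * t) := fun t => by
    rw [← mul_assoc, ← (hb u2).eq, mul_assoc]
  have b3 : ∀ t, u3 * (b * t) = b * (u3 * t) := fun t => by
    rw [← mul_assoc, ← (hb u3).eq, mul_assoc]
  have s0 : ∀ t, u0 * (s * t) = s * (u0 * t) := fun t => by
    rw [← mul_assoc, ← (hs u0).eq, mul_assoc]
  have s1 : ∀ t, u1 * (s * t) = s * (u1 * t) := fun t => by
    rw [← mul_assoc, ← (hs u1).eq, mul_assoc]
  have s2 : ∀ t, u2 * (s * t) = s * (u2 * t) := fun t => by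
    rw [← mul_assoc, ← (hs u2).eq, mul_assoc]
  have s3 : ∀ t, u3 * (s * t) = s * (u3 * t) := fun t => by
    rw [← mul_assoc, ← (hs u3).eq, mul_assoc]
  have a0' : u0 * a = a * u0 := ((ha u0).eq).symm
  have a1' : u1 * a = a * u1 := ((ha u1).eq).symm
  have a2' : u2 * a = a * u2 := ((ha u2).eq).symm
  have a3' : u3 * a = a * u3 := ((ha u3).eq).symm
  have b0' : u0 * b = b * u0 := ((hb u0).eq).symm
  have b1' : u1 * b = b * u1 := ((hb u1).eq).symm
  have b2' : u2 * b = b * u2 := ((hb u2).eq).symm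
  have b3' : u3 * b = b * u3 := ((hb u3).eq).symm
  have s0' : u0 * s = s * u0 := ((hs u0).eq).symm
  have s1' : u1 * s = s * u1 := ((hs u1).eq).symm
  have s2' : u2 * s = s * u2 := ((hs u2).eq).symm
  have s3' : u3 * s = s * u3 := ((hs u3).eq).symm
  -- order of central elements: a < b < s
  have ba : ∀ t, b * (a * t) = a * (b * t) := fun t => by
    rw [← mul_assoc, ← (ha b).eq, mul_assoc]
  have sa : ∀ t, s * (a * t) = a * (s * t) := fun t => by
    rw [← mul_assoc, ← (ha s).eq, mul_assoc]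
  have sb : ∀ t, s * (b * t) = b * (s * t) := fun t => by
    rw [← mul_assoc, ← (hb s).eq, mul_assoc]
  have ba' : b * a = a * b := ((ha b).eq).symm
  have sa' : s * a = a * s := ((ha s).eq).symm
  have sb' : s * b = b * s := ((hb s).eq).symm
  -- squares
  have aa' : a * a = 1 := by rw [← pow_two, ha2]
  have bb' : b * b = 1 := by rw [← pow_two, hb2]
  have ss' : s * s = 1 := by rw [← pow_two, hs2]
  have aa : ∀ t, a * (a * t) = t := fun t => by rw [← mul_assoc, aa', one_mul]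
  have bb : ∀ t, b * (b * t) = t := fun t => by rw [← mul_assoc, bb', one_mul]
  have ss : ∀ t, s * (s * t) = t := fun t => by rw [← mul_assoc, ss', one_mul]
  have q0' : u0 * u0 = s := by rw [← pow_two, h0]
  have q1' : u1 * u1 = s := by rw [← pow_two, h1]
  have q2' : u2 * u2 = s := by rw [← pow_two, h2]
  have q3' : u3 * u3 = s := by rw [← pow_two, h3]
  have q0 : ∀ t, u0 * (u0 * t) = s * t := fun t => by rw [← mul_assoc, q0']
  have q1 : ∀ t, u1 * (u1 * t) = s * t := fun t => by rw [← mul_assoc, q1']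
  have q2 : ∀ t, u2 * (u2 * t) = s * t := fun t => by rw [← mul_assoc, q2']
  have q3 : ∀ t, u3 * (u3 * t) = s * t := fun t => by rw [← mul_assoc, q3']
  -- collection rules
  have d01 : ∀ t, u1 * (u0 * t) = a * (u0 * (u1 * t)) := fun t => by
    rw [← mul_assoc, c01, mul_assoc, mul_assoc, a1, a0]
  have d02 : ∀ t, u2 * (u0 * t) = b * (u0 * (u2 * t)) := fun t => by
    rw [← mul_assoc, c02, mul_assoc, mul_assoc, b2, b0]
  have d03 : ∀ t, u3 * (u0 * t) = b * (u0 * (u3 * t)) := fun t => by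
    rw [← mul_assoc, c03, mul_assoc, mul_assoc, b3, b0]
  have d12 : ∀ t, u2 * (u1 * t) = a * (u1 * (u2 * t)) := fun t => by
    rw [← mul_assoc, c12, mul_assoc, mul_assoc, a2, a1]
  have d13 : ∀ t, u3 * (u1 * t) = b * (u1 * (u3 * t)) := fun t => by
    rw [← mul_assoc, c13, mul_assoc, mul_assoc, b3, b1]
  have d23 : ∀ t, u3 * (u2 * t) = a * (u2 * (u3 * t)) := fun t => by
    rw [← mul_assoc, c23, mul_assoc, mul_assoc, a3, a2]
  have hw : (u0 * u1 * u2 * u3) * (u0 * u1 * u2 * u3) = a * b := by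
    simp only [mul_assoc, d01, d02, d03, d12, d13, d23, a0, a1, a2, a3, b0, b1, b2, b3,
      s0, s1, s2, s3, a0', a1', a2', a3', b0', b1', b2', b3', s0', s1', s2', s3',
      ba, sa, sb, ba', sa', sb', aa, bb, ss, aa', bb', ss', q0, q1, q2, q3, q0', q1', q2', q3',
      mul_one, one_mul]
  have h4' : u4 = (u0 * u1 * u2 * u3)⁻¹ := eq_inv_of_mul_eq_one_right hprod
  have hab : (a * b)⁻¹ = a * b := by
    rw [inv_eq_iff_mul_eq_one]
    simp only [mul_assoc, ba, aa, bb']
  rw [← h4, h4', inv_pow, pow_two, hw, hab]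

end Cfsg.Agent.Lib.helper16.U34C
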