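import Cfsg.Agent.Lib.helper81.WTDefs
import Cfsg.Agent.Lib.helper32.WTPC
import Cfsg.Agent.Lib.helper46.WTSUPPT

/-!
# S4414 piece B1 (`supp_eq_orb`): racer copy by helper7
-/

set_option autoImplicit false

namespace Cfsg.Agent.Lib.helper81.WT

open scoped TensorProduct

universe u v w

/-- [B1] racer copy (helper7): a nonzero T-fixed vector supported in one T-orbit has the whole
orbit as support; uses PC, SUPPT -/
theorem helper7_supp_eq_orb {S : Type u} [Group S] [Finite S] {F : Type w} [Field F] [Finite F] [CharP F 2]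
    {V : Type v} [AddCommGroup V] [Module F V]
    (R : Representation F S V) (Y : Subgroup S) [Y.Normal] [Fintype ↥Y]
    (hYc : ∀ a b : ↥Y, a * b = b * a) [HasEnoughRootsOfUnity F (Monoid.exponent ↥Y)]
    (hodd : Odd (Fintype.card ↥Y))
    (T : Subgroup S) (μ₀ : ↥Y →* Fˣ) (v : V) (hv0 : v ≠ 0) (hv : v ∈ fixT R T)
    (hs : supp R Y v ⊆ orb Y T μ₀) : supp R Y v = orb Y T μ₀ := by
  apply Set.Subset.antisymm hs
  -- the support is nonempty
  have hne : ∃ ν : ↥Y →* Fˣ, ν ∈ supp R Y v := by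
    by_contra hcon
    apply hv0
    apply helper32_proj_complete R Y hYc hodd v
    intro μ
    by_contra hμ
    exact hcon ⟨μ, hμ⟩
  obtain ⟨ν, hν⟩ := hne
  obtain ⟨t, ht, rfl⟩ := hs hν
  rintro ν' ⟨t', ht', rfl⟩
  have h1 := supp_fix R Y T v hv (t' * t⁻¹) (T.mul_mem ht' (T.inv_mem ht)) (cj Y t μ₀) hν
  rw [← cj_mul, inv_mul_cancel_right] at h1
  exact h1

end Cfsg.Agent.Lib.helper81.WT
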