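import Cfsg.Agent.Lib.helper81.WTDefs

/-!
# S4414 piece CNT1 (`card_orb`): racer copy by helper7
-/

set_option autoImplicit false
set_option linter.style.haveILetI false

namespace Cfsg.Agent.Lib.helper81.WT

open scoped TensorProduct

universe u v w

/-- [CNT1] racer copy (helper7): an orbit of a 2-group has 2-power size -/
theorem helper7_card_orb {S : Type u} [Group S] [Finite S] {F : Type w} [Field F] [Finite F]
    (Y : Subgroup S) [Y.Normal]
    (T : Subgroup S) (hT : IsPGroup 2 ↥T) (μ : ↥Y →* Fˣ) :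
    ∃ c : ℕ, Nat.card ↥(orb Y T μ) = 2 ^ c := by
  have : Finite (↥Y →* Fˣ) :=
    Finite.of_injective (fun f : ↥Y →* Fˣ => (f : ↥Y → Fˣ)) DFunLike.coe_injective
  letI act : MulAction ↥T (↥Y →* Fˣ) :=
    { smul := fun t ν => cj Y (t : S) ν
      one_smul := fun ν => by
        show cj Y ((1 : ↥T) : S) ν = ν
        rw [Subgroup.coe_one, cj_one]
      mul_smul := fun x y ν => by
        show cj Y ((x * y : ↥T) : S) ν = cj Y (x : S) (cj Y (y : S) ν)
        rw [Subgroup.coe_mul, cj_mul] }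
  have hset : orb Y T μ = MulAction.orbit ↥T μ := by
    ext ν
    constructor
    · rintro ⟨t, ht, rfl⟩
      exact ⟨⟨t, ht⟩, rfl⟩
    · rintro ⟨t, rfl⟩
      exact ⟨t, t.2, rfl⟩
  rw [hset]
  exact hT.card_orbit μ

end Cfsg.Agent.Lib.helper81.WT
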