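import Cfsg.Agent.Lib.helper81.WTDefs

/-!
# S4414 pieces PW (`proj_weight`) and PO (`proj_idem`): racer copies by helper7
-/

set_option autoImplicit false

namespace Cfsg.Agent.Lib.helper81.WT

open scoped TensorProduct

universe u v w

/-- [PW] racer copy (helper7): `proj μ v` is a `μ`-weight vector -/
theorem helper7_proj_weight {S : Type u} [Group S] [Finite S] {F : Type w} [Field F] [Finite F] [CharP F 2]
    {V : Type v} [AddCommGroup V] [Module F V]
    (R : Representation F S V) (Y : Subgroup S) [Y.Normal] [Fintype ↥Y]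
    (μ : ↥Y →* Fˣ) (y : ↥Y) (v : V) :
    R (y : S) (proj R Y μ v) = ((μ y : Fˣ) : F) • proj R Y μ v := by
  rw [proj_apply, map_sum, Finset.smul_sum]
  refine Fintype.sum_equiv (Equiv.mulLeft y) _ _ (fun z => ?_)
  rw [map_smul, smul_smul]
  have h1 : R ((Equiv.mulLeft y z : ↥Y) : S) v = R (y : S) (R (z : S) v) := by
    rw [Equiv.coe_mulLeft, Subgroup.coe_mul, map_mul]
    rfl
  have h2 : ((μ y : Fˣ) : F) * ((μ (Equiv.mulLeft y z)⁻¹ : Fˣ) : F) = ((μ z⁻¹ : Fˣ) : F) := by
    rw [← Units.val_mul, Equiv.coe_mulLeft, mul_inv_rev, map_mul, map_inv μ y,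
      mul_comm (μ z⁻¹), mul_inv_cancel_left]
  rw [h1, h2]

/-- [PO] racer copy (helper7): idempotency (char 2, |Y| odd) -/
theorem helper7_proj_idem {S : Type u} [Group S] [Finite S] {F : Type w} [Field F] [Finite F] [CharP F 2]
    {V : Type v} [AddCommGroup V] [Module F V]
    (R : Representation F S V) (Y : Subgroup S) [Y.Normal] [Fintype ↥Y]
    (hodd : Odd (Fintype.card ↥Y)) (μ : ↥Y →* Fˣ) (v : V) :
    proj R Y μ (proj R Y μ v) = proj R Y μ v := by
  have key : ∀ y : ↥Y, ((μ y⁻¹ : Fˣ) : F) • R (y : S) (proj R Y μ v) = proj R Y μ v := by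
    intro y
    rw [helper7_proj_weight R Y μ y v, smul_smul, ← Units.val_mul, ← map_mul, inv_mul_cancel,
      map_one, Units.val_one, one_smul]
  conv_lhs => rw [proj_apply]
  rw [Finset.sum_congr rfl (fun y _ => key y), Finset.sum_const, Finset.card_univ]
  obtain ⟨k, hk⟩ := hodd
  rw [hk, ← Nat.cast_smul_eq_nsmul F]
  have h2 : (2 : F) = 0 := by
    have := CharP.cast_eq_zero F 2
    exact_mod_cast this
  have : ((2 * k + 1 : ℕ) : F) = 1 := by
    push_cast
    rw [h2, zero_mul, zero_add]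
  rw [this, one_smul]

end Cfsg.Agent.Lib.helper81.WT
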